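import Mathlib
import Groth.Agent.S9560

/-!
# Stalkwise criteria for unramified / étale in a neighbourhood (helper18)

* `H18Stalk.stalk_unram_iff`: for `f` locally of finite type, the stalk map at `x` is formally
  unramified iff `m_y O_x = m_x` and `κ(x)/κ(y)` is finite separable.
* `H18Stalk.formallyUnramified_stalkMap_iff`, `flat_stalkMap_iff`: translation to rings.
* `H18Stalk.comp_ι_of_appLE`: a property of `f.appLE U V` gives the property of `V.ι ≫ f`.
* `H18Stalk.exists_unramified_nhd_iff`, `H18Stalk.exists_etale_nhd_iff`.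
-/

set_option autoImplicit false
universe u

open AlgebraicGeometry CategoryTheory IsLocalRing

namespace H18Stalk

variable {X Y : Scheme.{u}}

theorem stalk_unram_iff (f : X ⟶ Y) [LocallyOfFiniteType f] (x : X) :
    (f.stalkMap x).hom.FormallyUnramified ↔
      ((IsLocalRing.maximalIdeal (Y.presheaf.stalk (f.base x))).map (f.stalkMap x).hom =
          IsLocalRing.maximalIdeal (X.presheaf.stalk x) ∧
        letI := (f.residueFieldMap x).hom.toAlgebra
        Module.Finite (Y.residueField (f.base x)) (X.residueField x) ∧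
          Algebra.IsSeparable (Y.residueField (f.base x)) (X.residueField x)) := by
  algebraize [(f.stalkMap x).hom]
  have : IsLocalHom (algebraMap (Y.presheaf.stalk (f x)) (X.presheaf.stalk x)) :=
    inferInstanceAs <| IsLocalHom (f.stalkMap x).hom
  have : Algebra.EssFiniteType (Y.presheaf.stalk (f x)) (X.presheaf.stalk x) := by
    rw [← RingHom.essFiniteType_algebraMap, RingHom.algebraMap_toAlgebra]
    exact LocallyOfFiniteType.stalkMap f x
  have hres : (f.residueFieldMap x).hom.toAlgebra =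
      (inferInstance : Algebra (IsLocalRing.ResidueField (Y.presheaf.stalk (f x)))
        (IsLocalRing.ResidueField (X.presheaf.stalk x))) := by
    refine Algebra.algebra_ext _ _ fun x ↦ ?_
    obtain ⟨x, rfl⟩ := IsLocalRing.residue_surjective x
    rfl
  rw [hres]
  have h0 : (f.stalkMap x).hom.FormallyUnramified ↔
      Algebra.FormallyUnramified (Y.presheaf.stalk (f x)) (X.presheaf.stalk x) := by
    rw [← RingHom.formallyUnramified_algebraMap, RingHom.algebraMap_toAlgebra]
  rw [h0]
  constructor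
  · intro h
    refine ⟨Algebra.FormallyUnramified.map_maximalIdeal, ?_, ?_⟩
    · exact inferInstanceAs (Module.Finite (IsLocalRing.ResidueField (Y.presheaf.stalk (f x)))
        (IsLocalRing.ResidueField (X.presheaf.stalk x)))
    · exact inferInstanceAs (Algebra.IsSeparable (IsLocalRing.ResidueField (Y.presheaf.stalk (f x)))
        (IsLocalRing.ResidueField (X.presheaf.stalk x)))
  · rintro ⟨h1, -, h3⟩
    have : Algebra.IsSeparable (IsLocalRing.ResidueField (Y.presheaf.stalk (f x)))
        (IsLocalRing.ResidueField (X.presheaf.stalk x)) := h3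
    exact Algebra.FormallyUnramified.of_map_maximalIdeal h1

/-- Translation of formal unramifiedness of the stalk map to rings. -/
lemma formallyUnramified_stalkMap_iff {f : X ⟶ Y} {x : X} (U : Y.Opens)
    (hU : IsAffineOpen U) (V : X.Opens) (hV : IsAffineOpen V) (hVU : V ≤ f ⁻¹ᵁ U)
    (hx : x ∈ V) :
    letI := (f.appLE U V hVU).hom.toAlgebra
    (f.stalkMap x).hom.FormallyUnramified ↔
      Algebra.IsUnramifiedAt Γ(Y, U) (hV.primeIdealOf ⟨x, hx⟩).asIdeal := by
  let := (f.appLE U V hVU).hom.toAlgebra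
  let p := (hU.primeIdealOf ⟨f x, hVU hx⟩).asIdeal
  let q := (hV.primeIdealOf ⟨x, hx⟩).asIdeal
  have : q.LiesOver p :=
    ⟨congr($(IsAffineOpen.comap_primeIdealOf_appLE U hU V hV hVU hx).1).symm⟩
  let := Localization.AtPrime.algebraOfLiesOver p q
  trans Algebra.FormallyUnramified (Localization.AtPrime p) (Localization.AtPrime q)
  · rw [← RingHom.formallyUnramified_algebraMap]
    exact RingHom.FormallyUnramified.respectsIso.arrow_mk_iso_iff
      (IsAffineOpen.arrowStalkMapIso f U hU V hV hVU hx)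
  · exact ⟨fun _ ↦ Algebra.FormallyUnramified.comp _ (Localization.AtPrime p) _,
      fun _ ↦ .of_restrictScalars Γ(Y, U) _ _⟩

/-- Translation of flatness of the stalk map to rings. -/
lemma flat_stalkMap_iff {f : X ⟶ Y} {x : X} (U : Y.Opens)
    (hU : IsAffineOpen U) (V : X.Opens) (hV : IsAffineOpen V) (hVU : V ≤ f ⁻¹ᵁ U)
    (hx : x ∈ V) :
    letI := (f.appLE U V hVU).hom.toAlgebra
    haveI : (hV.primeIdealOf ⟨x, hx⟩).asIdeal.LiesOver (hU.primeIdealOf ⟨f x, hVU hx⟩).asIdeal :=
      ⟨congr($(IsAffineOpen.comap_primeIdealOf_appLE U hU V hV hVU hx).1).symm⟩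
    letI := Localization.AtPrime.algebraOfLiesOver (hU.primeIdealOf ⟨f x, hVU hx⟩).asIdeal
      (hV.primeIdealOf ⟨x, hx⟩).asIdeal
    (f.stalkMap x).hom.Flat ↔
      Module.Flat (Localization.AtPrime (hU.primeIdealOf ⟨f x, hVU hx⟩).asIdeal)
        (Localization.AtPrime (hV.primeIdealOf ⟨x, hx⟩).asIdeal) := by
  let := (f.appLE U V hVU).hom.toAlgebra
  let p := (hU.primeIdealOf ⟨f x, hVU hx⟩).asIdeal
  let q := (hV.primeIdealOf ⟨x, hx⟩).asIdeal
  have : q.LiesOver p :=
    ⟨congr($(IsAffineOpen.comap_primeIdealOf_appLE U hU V hV hVU hx).1).symm⟩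
  let := Localization.AtPrime.algebraOfLiesOver p q
  show _ ↔ Module.Flat (Localization.AtPrime p) (Localization.AtPrime q)
  rw [← RingHom.flat_algebraMap_iff]
  exact RingHom.Flat.respectsIso.arrow_mk_iso_iff
    (IsAffineOpen.arrowStalkMapIso f U hU V hV hVU hx)

/-- If `Q` holds for `f.appLE U V` with `U`, `V` affine, then `P` holds for `V.ι ≫ f`. -/
lemma comp_ι_of_appLE {P : MorphismProperty Scheme.{u}}
    {Q : ∀ {R S : Type u} [CommRing R] [CommRing S], (R →+* S) → Prop}
    [HasRingHomProperty P Q] [P.IsStableUnderComposition]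
    (hP : ∀ {X Y : Scheme.{u}} (g : X ⟶ Y) [IsOpenImmersion g], P g)
    (f : X ⟶ Y) (U : Y.Opens) (hU : IsAffineOpen U) (V : X.Opens) (hV : IsAffineOpen V)
    (e : V ≤ f ⁻¹ᵁ U) (H : Q (f.appLE U V e).hom) : P (V.ι ≫ f) := by
  rw [← Scheme.Hom.resLE_comp_ι f e]
  refine P.comp_mem _ _ ?_ (hP _)
  have : IsAffine _ := hU
  have : IsAffine _ := hV
  rw [HasRingHomProperty.iff_of_isAffine (P := P)]
  exact ((HasRingHomProperty.isLocal_ringHomProperty P).respectsIso.arrow_mk_iso_iff
    (arrowResLEAppIso f U V e)).mpr H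

/-- The stalk map of `U.ι ≫ f` at a point of `U` has `Q` iff the stalk map of `f` has. -/
lemma stalkMap_ι_comp_iff {Q : ∀ {R S : Type u} [CommRing R] [CommRing S], (R →+* S) → Prop}
    (hQ : RingHom.RespectsIso Q) (f : X ⟶ Y) (U : X.Opens) (x : U.toScheme) :
    Q ((U.ι ≫ f).stalkMap x).hom ↔ Q (f.stalkMap (U.ι x)).hom := by
  refine Iff.trans ?_ (hQ.cancel_right_isIso (f.stalkMap (U.ι x)) (U.ι.stalkMap x))
  rw [← CommRingCat.hom_comp, ← Scheme.Hom.stalkMap_comp]
  rfl

/-- `Q` for `R → S_r` gives `Q` for `f.appLE U (X.basicOpen r)`. -/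
lemma appLE_basicOpen_of_away {Q : ∀ {R S : Type u} [CommRing R] [CommRing S], (R →+* S) → Prop}
    (hQ : RingHom.RespectsIso Q) (f : X ⟶ Y) (U : Y.Opens) (V : X.Opens) (hV : IsAffineOpen V)
    (hVU : V ≤ f ⁻¹ᵁ U) (r : Γ(X, V))
    (hr : Q ((algebraMap Γ(X, V) (Localization.Away r)).comp (f.appLE U V hVU).hom)) :
    Q (f.appLE U (X.basicOpen r) ((X.basicOpen_le r).trans hVU)).hom := by
  have := hV.isLocalization_basicOpen r
  convert hQ.1 _
    (IsLocalization.algEquiv (.powers r) (Localization.Away r) Γ(X, X.basicOpen r)).toRingEquiv hr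
  ext a
  dsimp
  rw [AlgEquiv.commutes]
  simp only [RingHom.algebraMap_toAlgebra, ← ConcreteCategory.comp_apply,
    Scheme.Hom.appLE_map]

set_option backward.defeqAttrib.useBackward true in
set_option backward.isDefEq.respectTransparency false in
theorem exists_unramified_nhd_iff (f : X ⟶ Y) [LocallyOfFiniteType f] (x : X) :
    (∃ U : X.Opens, x ∈ U ∧ FormallyUnramified (U.ι ≫ f)) ↔
      (f.stalkMap x).hom.FormallyUnramified := by
  constructor
  · rintro ⟨U, hxU, hU⟩
    have := FormallyUnramified.stalkMap (U.ι ≫ f) (⟨x, hxU⟩ : U.toScheme)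
    exact (stalkMap_ι_comp_iff RingHom.FormallyUnramified.respectsIso f U ⟨x, hxU⟩).mp this
  · intro H
    obtain ⟨_, ⟨U, hU, rfl⟩, hxU, -⟩ :=
      Y.isBasis_affineOpens.exists_subset_of_mem_open (Set.mem_univ (f x)) isOpen_univ
    obtain ⟨_, ⟨V, hV, rfl⟩, hxV, hVU⟩ :=
      X.isBasis_affineOpens.exists_subset_of_mem_open hxU (U.2.preimage f.continuous)
    have := f.finiteType_appLE hU hV hVU
    algebraize [(f.appLE U V hVU).hom]
    have : Algebra.IsUnramifiedAt _ _ :=
      (formallyUnramified_stalkMap_iff U hU V hV hVU hxV).mp H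
    obtain ⟨r, hrx, hr⟩ := Algebra.exists_formallyUnramified_of_isUnramifiedAt (R := Γ(Y, U))
      (hV.primeIdealOf ⟨x, hxV⟩).asIdeal
    refine ⟨X.basicOpen r, ?_, ?_⟩
    · rwa [← PrimeSpectrum.mem_basicOpen, IsAffineOpen.primeIdealOf,
        ← hV.fromSpec_preimage_basicOpen, Scheme.Hom.mem_preimage, ← Scheme.Hom.comp_apply,
        IsAffineOpen.isoSpec_hom, IsAffineOpen.toSpecΓ_fromSpec] at hrx
    · refine comp_ι_of_appLE (P := @FormallyUnramified) (fun g _ ↦ inferInstance) f U hU _
        (hV.basicOpen r) ((X.basicOpen_le r).trans hVU) ?_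
      refine appLE_basicOpen_of_away RingHom.FormallyUnramified.respectsIso f U V hV hVU r ?_
      rw [← RingHom.formallyUnramified_algebraMap] at hr
      convert hr using 1
      rw [IsScalarTower.algebraMap_eq Γ(Y, U) Γ(X, V) (Localization.Away r)]
      rfl

end H18Stalk
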