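import Mathlib
import Groth.Agent.Lib.Helper18.StalkEtale

/-!
# Helper18: stalk maps of a fibre product via an affine chart

* `exists_chart`: around a point `x'` of `X ×_S S'` there are affine opens whose rings of
  sections form a pushout square (tensor product).
* `isUnramifiedAt_iff_of_isPushout`: ring-level: the unramified locus commutes with base change.
* `unram_stalk_iff_pullback`: stalk-level consequence.
-/

universe u

namespace Groth.Agent.Lib.Helper18.PullbackStalk

open TensorProduct Algebra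

/-- For a field extension `K/k` and a `k`-module `V`, `K ⊗ V` is trivial iff `V` is. -/
theorem subsingleton_field_tensor_iff (k K V : Type*) [Field k] [Field K] [Algebra k K]
    [AddCommGroup V] [Module k V] : Subsingleton (K ⊗[k] V) ↔ Subsingleton V :=
  Module.FaithfullyFlat.subsingleton_tensorProduct_iff_right k K

/-- Support of a base change of a finite module. -/
theorem mem_support_baseChange_iff (A B M : Type*) [CommRing A] [CommRing B] [Algebra A B]
    [AddCommGroup M] [Module A M] [Module.Finite A M] (p' : PrimeSpectrum B) :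
    p' ∈ Module.support B (B ⊗[A] M) ↔
      PrimeSpectrum.comap (algebraMap A B) p' ∈ Module.support A M := by
  rw [Module.mem_support_iff_nontrivial_residueField_tensorProduct,
    Module.mem_support_iff_nontrivial_residueField_tensorProduct]
  let p : Ideal A := p'.asIdeal.comap (algebraMap A B)
  let K := p'.asIdeal.ResidueField
  let k := p.ResidueField
  let φ : k →ₐ[A] K := Ideal.ResidueField.mapₐ p p'.asIdeal (Algebra.ofId A B) rfl
  let _ : Algebra k K := φ.toRingHom.toAlgebra
  have : IsScalarTower A k K := IsScalarTower.of_algebraMap_eq fun a => (φ.commutes a).symm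
  let e₁ : K ⊗[B] (B ⊗[A] M) ≃ₗ[K] K ⊗[A] M := AlgebraTensorModule.cancelBaseChange A B K K M
  let e₂ : K ⊗[k] (k ⊗[A] M) ≃ₗ[K] K ⊗[A] M := AlgebraTensorModule.cancelBaseChange A k K K M
  rw [← not_iff_not, not_nontrivial_iff_subsingleton, not_nontrivial_iff_subsingleton]
  show Subsingleton (K ⊗[B] (B ⊗[A] M)) ↔ Subsingleton (k ⊗[A] M)
  rw [e₁.subsingleton_congr, ← e₂.subsingleton_congr, subsingleton_field_tensor_iff]

/-- The unramified locus commutes with base change (ring level, at a prime). -/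
theorem isUnramifiedAt_iff_of_isPushout (R T A B : Type*) [CommRing R] [CommRing T] [CommRing A]
    [CommRing B] [Algebra R T] [Algebra R A] [Algebra T B] [Algebra A B] [Algebra R B]
    [IsScalarTower R A B] [IsScalarTower R T B] [Algebra.IsPushout R T A B]
    [Algebra.FiniteType R A] (p' : Ideal B) [p'.IsPrime] :
    Algebra.IsUnramifiedAt T p' ↔ Algebra.IsUnramifiedAt R (p'.comap (algebraMap A B)) := by
  have h1 : Algebra.IsUnramifiedAt T p' ↔
      (⟨p', inferInstance⟩ : PrimeSpectrum B) ∈ Algebra.unramifiedLocus T B := Iff.rfl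
  have h2 : Algebra.IsUnramifiedAt R (p'.comap (algebraMap A B)) ↔
      PrimeSpectrum.comap (algebraMap A B) ⟨p', inferInstance⟩ ∈ Algebra.unramifiedLocus R A :=
    Iff.rfl
  rw [h1, h2, Algebra.unramifiedLocus_eq_compl_support, Algebra.unramifiedLocus_eq_compl_support,
    Set.mem_compl_iff, Set.mem_compl_iff, not_iff_not,
    ← (KaehlerDifferential.tensorKaehlerEquiv R T A B).support_eq]
  exact mem_support_baseChange_iff A B Ω[A⁄R] _

theorem isUnramifiedAt_congr {R A : Type*} [CommRing R] [CommRing A] [Algebra R A]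
    {q q' : Ideal A} (h : q = q') [hq : q.IsPrime] [hq' : q'.IsPrime] :
    Algebra.IsUnramifiedAt R q ↔ Algebra.IsUnramifiedAt R q' := by
  subst h
  exact Iff.rfl

open AlgebraicGeometry CategoryTheory Limits H18Stalk

variable {X S S' : Scheme.{u}} (f : X ⟶ S) (g : S' ⟶ S)

/-- Affine chart around a point of a fibre product. -/
theorem exists_chart (x' : ↑(pullback f g)) :
    ∃ (US : S.Opens) (UX : X.Opens) (UT : S'.Opens) (UY : (pullback f g).Opens)
      (_ : IsAffineOpen US) (_ : IsAffineOpen UX) (_ : IsAffineOpen UT)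
      (_ : IsAffineOpen UY)
      (hXS : UX ≤ f ⁻¹ᵁ US) (hTS : UT ≤ g ⁻¹ᵁ US) (hYX : UY ≤ pullback.fst f g ⁻¹ᵁ UX)
      (hYT : UY ≤ pullback.snd f g ⁻¹ᵁ UT),
      x' ∈ UY ∧ IsPushout (f.appLE US UX hXS) (g.appLE US UT hTS)
        ((pullback.fst f g).appLE UX UY hYX) ((pullback.snd f g).appLE UT UY hYT) := by
  have hc : f (pullback.fst f g x') = g (pullback.snd f g x') := by
    rw [← Scheme.Hom.comp_apply, ← Scheme.Hom.comp_apply, pullback.condition]
  obtain ⟨_, ⟨US, hUS, rfl⟩, hxS, -⟩ :=
    S.isBasis_affineOpens.exists_subset_of_mem_open (Set.mem_univ (f (pullback.fst f g x')))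
      isOpen_univ
  obtain ⟨_, ⟨UX, hUX, rfl⟩, hxX, hXS⟩ :=
    X.isBasis_affineOpens.exists_subset_of_mem_open
      (show pullback.fst f g x' ∈ (f ⁻¹ᵁ US : Set X) from hxS) (f ⁻¹ᵁ US).2
  obtain ⟨_, ⟨UT, hUT, rfl⟩, hxT, hTS⟩ :=
    S'.isBasis_affineOpens.exists_subset_of_mem_open
      (show pullback.snd f g x' ∈ (g ⁻¹ᵁ US : Set S') from by
        show g (pullback.snd f g x') ∈ US
        rw [← hc]; exact hxS) (g ⁻¹ᵁ US).2
  let UY : (pullback f g).Opens := pullback.fst f g ⁻¹ᵁ UX ⊓ pullback.snd f g ⁻¹ᵁ UT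
  have H : IsPullback (pullback.fst f g) (pullback.snd f g) f g := IsPullback.of_hasPullback f g
  have hXS' : UX ≤ f ⁻¹ᵁ US := hXS
  have hTS' : UT ≤ g ⁻¹ᵁ US := hTS
  have hUY : IsAffineOpen UY := by
    have : IsAffine (US : Scheme) := hUS
    have : IsAffine (UT : Scheme) := hUT
    have : IsAffine (UX : Scheme) := hUX
    exact .of_isIso (Scheme.Hom.isPullback_resLE H hTS' hXS' rfl).isoPullback.hom
  have : IsIso (pushoutSection H hTS' hXS' (UY := UY) rfl) :=
    isIso_pushoutSection_of_isAffineOpen H hTS' hXS' rfl hUS hUT hUX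
  refine ⟨US, UX, UT, UY, hUS, hUX, hUT, hUY, hXS', hTS', inf_le_left, inf_le_right,
    ⟨hxX, hxT⟩, ?_⟩
  exact (isIso_pushoutSection_iff H hTS' hXS' rfl).mp this

/-- The stalk map of the base change `snd` at `x'` is formally unramified iff the stalk map of `f`
at the image of `x'` is. -/
theorem unram_stalk_iff_pullback [LocallyOfFiniteType f] (x' : ↑(pullback f g)) :
    ((pullback.snd f g).stalkMap x').hom.FormallyUnramified ↔
      (f.stalkMap (pullback.fst f g x')).hom.FormallyUnramified := by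
  obtain ⟨US, UX, UT, UY, hUS, hUX, hUT, hUY, hXS, hTS, hYX, hYT, hx', hPO⟩ := exists_chart f g x'
  have hxX : pullback.fst f g x' ∈ UX := hYX hx'
  have hft := f.finiteType_appLE hUS hUX hXS
  let _ : Algebra Γ(S, US) Γ(X, UX) := (f.appLE US UX hXS).hom.toAlgebra
  let _ : Algebra Γ(S, US) Γ(S', UT) := (g.appLE US UT hTS).hom.toAlgebra
  let _ : Algebra Γ(X, UX) Γ(pullback f g, UY) := ((pullback.fst f g).appLE UX UY hYX).hom.toAlgebra
  let _ : Algebra Γ(S', UT) Γ(pullback f g, UY) := ((pullback.snd f g).appLE UT UY hYT).hom.toAlgebra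
  let _ : Algebra Γ(S, US) Γ(pullback f g, UY) :=
    (((pullback.fst f g).appLE UX UY hYX).hom.comp (f.appLE US UX hXS).hom).toAlgebra
  have : IsScalarTower Γ(S, US) Γ(X, UX) Γ(pullback f g, UY) :=
    IsScalarTower.of_algebraMap_eq fun _ => rfl
  have : IsScalarTower Γ(S, US) Γ(S', UT) Γ(pullback f g, UY) :=
    IsScalarTower.of_algebraMap_eq fun a => congr($(hPO.w).hom a)
  have : Algebra.FiniteType Γ(S, US) Γ(X, UX) := hft
  have : Algebra.IsPushout Γ(S, US) Γ(S', UT) Γ(X, UX) Γ(pullback f g, UY) :=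
    CommRingCat.isPushout_iff_isPushout.mp hPO.flip
  rw [formallyUnramified_stalkMap_iff UT hUT UY hUY hYT hx',
    formallyUnramified_stalkMap_iff US hUS UX hUX hXS hxX,
    isUnramifiedAt_iff_of_isPushout Γ(S, US) Γ(S', UT) Γ(X, UX) Γ(pullback f g, UY)]
  have := IsAffineOpen.comap_primeIdealOf_appLE UX hUX UY hUY hYX hx'
  exact isUnramifiedAt_congr congr($(this).asIdeal)

end Groth.Agent.Lib.Helper18.PullbackStalk
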