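import Mathlib
import Groth.Prelude.Def_FSch3

universe u

namespace H18U

theorem isUnit_of_evalOne {R : Type*} [CommRing R] (I : Ideal R) (x : AdicCompletion I R)
    (h : IsUnit (AdicCompletion.evalₐ I 1 x)) : IsUnit x := by
  obtain ⟨a, rfl⟩ := AdicCompletion.mk_surjective I R x
  rw [AdicCompletion.evalₐ_mk] at h
  have hcong : ∀ {m n : ℕ}, m ≤ n → Ideal.Quotient.mk (I ^ m) (a m) = Ideal.Quotient.mk (I ^ m) (a n) := by
    intro m n hmn
    have := a.2 hmn
    rw [SModEq.sub_mem, smul_eq_mul, Ideal.mul_top] at this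
    exact (Ideal.Quotient.eq).mpr this
  have hu : ∀ n : ℕ, IsUnit (Ideal.Quotient.mk (I ^ n) (a n)) := by
    intro n
    rcases Nat.eq_zero_or_pos n with rfl | hn
    · have : Subsingleton (R ⧸ I ^ 0) := by
        rw [pow_zero, Ideal.one_eq_top]; exact Ideal.Quotient.subsingleton_iff.mpr rfl
      exact isUnit_of_subsingleton _
    · rw [Ideal.Quotient.isUnit_mk_pow_iff_isUnit_mk I (Nat.pos_iff_ne_zero.mp hn)]
      have h1 : Ideal.Quotient.mk (I ^ 1) (a 1) = Ideal.Quotient.mk (I ^ 1) (a n) := hcong hn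
      rw [h1, Ideal.Quotient.isUnit_mk_pow_iff_isUnit_mk I one_ne_zero] at h
      exact h
  have hb : ∀ n : ℕ, ∃ b : R, Ideal.Quotient.mk (I ^ n) (a n) * Ideal.Quotient.mk (I ^ n) b = 1 := by
    intro n
    obtain ⟨c, hc⟩ := (hu n).exists_right_inv
    obtain ⟨b, rfl⟩ := Ideal.Quotient.mk_surjective c
    exact ⟨b, hc⟩
  choose b hb using hb
  have hbc : ∀ {m n : ℕ}, m ≤ n → Ideal.Quotient.mk (I ^ m) (b m) = Ideal.Quotient.mk (I ^ m) (b n) := by
    intro m n hmn
    have h1 := hb m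
    have h2 : Ideal.Quotient.mk (I ^ m) (a n) * Ideal.Quotient.mk (I ^ m) (b n) = 1 := by
      have := congrArg (Ideal.Quotient.factor (Ideal.pow_le_pow_right hmn)) (hb n)
      simpa using this
    rw [← hcong hmn] at h2
    calc Ideal.Quotient.mk (I ^ m) (b m)
        = Ideal.Quotient.mk (I ^ m) (b m) * (Ideal.Quotient.mk (I ^ m) (a m) * Ideal.Quotient.mk (I ^ m) (b n)) := by
          rw [h2, mul_one]
      _ = (Ideal.Quotient.mk (I ^ m) (a m) * Ideal.Quotient.mk (I ^ m) (b m)) * Ideal.Quotient.mk (I ^ m) (b n) := by ring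
      _ = _ := by rw [h1, one_mul]
  have hcauchy : AdicCompletion.IsAdicCauchy I R b := by
    intro m n hmn
    rw [SModEq.sub_mem, smul_eq_mul, Ideal.mul_top]
    exact (Ideal.Quotient.eq).mp (hbc hmn)
  refine IsUnit.of_mul_eq_one (AdicCompletion.mk I R ⟨b, hcauchy⟩) ?_
  apply AdicCompletion.ext_evalₐ
  intro n
  rw [map_mul, AdicCompletion.evalₐ_mk, AdicCompletion.evalₐ_mk, map_one]
  exact hb n

theorem isUnit_iff_evalOne {R : Type*} [CommRing R] (I : Ideal R) (x : AdicCompletion I R) :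
    IsUnit x ↔ IsUnit (AdicCompletion.evalₐ I 1 x) :=
  ⟨fun h => h.map _, isUnit_of_evalOne I x⟩

theorem evalₐ_complMap {S T : Type u} [CommRing S] [CommRing T] (I : Ideal S) (K : Ideal T)
    (g : S →+* T) (h : I.map g ≤ K) (n : ℕ) (x : AdicCompletion I S) :
    AdicCompletion.evalₐ K n (FSch.complMap I K g h x) =
      Ideal.quotientMap (K ^ n) g (FSch.pow_le_comap_pow_of_map_le I K g h n)
        (AdicCompletion.evalₐ I n x) := by
  unfold FSch.complMap
  generalize_proofs
  exact AdicCompletion.evalₐ_liftRingHom K _ (by assumption) n x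

theorem complMap_comp {S T U : Type u} [CommRing S] [CommRing T] [CommRing U]
    (I : Ideal S) (K : Ideal T) (L : Ideal U)
    (g : S →+* T) (g' : T →+* U) (h : I.map g ≤ K) (h' : K.map g' ≤ L) (h'' : I.map (g'.comp g) ≤ L)
    (x : AdicCompletion I S) :
    FSch.complMap K L g' h' (FSch.complMap I K g h x) = FSch.complMap I L (g'.comp g) h'' x := by
  apply AdicCompletion.ext_evalₐ
  intro n
  rw [evalₐ_complMap, evalₐ_complMap, evalₐ_complMap]
  obtain ⟨s, hs⟩ := Ideal.Quotient.mk_surjective (AdicCompletion.evalₐ I n x)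
  rw [← hs]
  simp [Ideal.quotientMap_mk]

theorem complMap_comp' {S T U : Type u} [CommRing S] [CommRing T] [CommRing U]
    (I : Ideal S) (K : Ideal T) (L : Ideal U)
    (g : S →+* T) (g' : T →+* U) (g'' : S →+* U) (hg : g'.comp g = g'')
    (h : I.map g ≤ K) (h' : K.map g' ≤ L) (h'' : I.map g'' ≤ L)
    (x : AdicCompletion I S) :
    FSch.complMap K L g' h' (FSch.complMap I K g h x) = FSch.complMap I L g'' h'' x := by
  subst hg
  exact complMap_comp I K L g g' h h' h'' x

end H18U
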