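import Mathlib

namespace H18Flat

open TensorProduct

section Compat
variable {R B : Type*} [CommRing R] [CommRing B] [Algebra R B] (K : Ideal R)
  (hsurj : ∀ b : B, ∃ r : R, b - algebraMap R B r ∈ K.map (algebraMap R B))
  (M Q : Type*) [AddCommGroup M] [Module R M] [Module B M] [IsScalarTower R B M]
  [AddCommGroup Q] [Module R Q] [Module B Q] [IsScalarTower R B Q]
  (hQ : ∀ a ∈ K, ∀ q : Q, a • q = 0)

include hsurj hQ in
theorem compatibleSMul : TensorProduct.CompatibleSMul R B M Q := by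
  constructor
  intro b m q
  have key : ∀ i ∈ K.map (algebraMap R B), ∀ (m : M) (q : Q),
      (i • m) ⊗ₜ[R] q = 0 ∧ m ⊗ₜ[R] (i • q) = 0 := by
    intro i hi
    refine Submodule.span_induction ?_ ?_ ?_ ?_ hi
    · rintro _ ⟨a, ha, rfl⟩ m q
      have h0 : a • q = 0 := hQ a ha q
      constructor
      · rw [algebraMap_smul, TensorProduct.smul_tmul, h0, tmul_zero]
      · rw [algebraMap_smul, h0, tmul_zero]
    · intro m q; simp
    · intro x y _ _ hx hy m q
      simp [add_smul, add_tmul, tmul_add, (hx m q).1, (hx m q).2, (hy m q).1, (hy m q).2]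
    · intro c x _ hx m q
      constructor
      · rw [smul_eq_mul, mul_comm, mul_smul]; exact (hx (c • m) q).1
      · rw [smul_eq_mul, mul_comm, mul_smul]; exact (hx m (c • q)).2
  obtain ⟨r, hr⟩ := hsurj b
  have hb : b = algebraMap R B r + (b - algebraMap R B r) := by ring
  rw [hb, add_smul, add_smul, add_tmul, tmul_add, (key _ hr m q).1, (key _ hr m q).2,
    algebraMap_smul, algebraMap_smul, TensorProduct.smul_tmul]

end Compat

section Inj
variable {R B : Type*} [CommRing R] [CommRing B] [Algebra R B] (K : Ideal R)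
  (hsurj : ∀ b : B, ∃ r : R, b - algebraMap R B r ∈ K.map (algebraMap R B))
  (M : Type*) [AddCommGroup M] [Module R M] [Module B M] [IsScalarTower R B M]
  {Q₁ Q₂ : Type*}
  [AddCommGroup Q₁] [Module R Q₁] [Module B Q₁] [IsScalarTower R B Q₁]
  [AddCommGroup Q₂] [Module R Q₂] [Module B Q₂] [IsScalarTower R B Q₂]
  (hQ₁ : ∀ a ∈ K, ∀ q : Q₁, a • q = 0) (hQ₂ : ∀ a ∈ K, ∀ q : Q₂, a • q = 0)

include hsurj hQ₁ hQ₂ in
theorem lTensor_injective_of_killed [Module.Flat R M] (j : Q₁ →ₗ[B] Q₂)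
    (hj : Function.Injective j) : Function.Injective (j.lTensor M) := by
  have := compatibleSMul K hsurj M Q₁ hQ₁
  have := compatibleSMul K hsurj M Q₂ hQ₂
  let e₁ := TensorProduct.equivOfCompatibleSMul R B R M Q₁
  let e₂ := TensorProduct.equivOfCompatibleSMul R B R M Q₂
  have hsq : ∀ x, e₂ (j.lTensor M x) = (j.restrictScalars R).lTensor M (e₁ x) := by
    intro x
    induction x with
    | zero => simp
    | add x y hx hy => simp only [map_add, hx, hy]
    | tmul m q => rfl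
  have hinj : Function.Injective ((j.restrictScalars R).lTensor M) :=
    Module.Flat.lTensor_preserves_injective_linearMap _ hj
  intro x y hxy
  apply e₁.injective
  apply hinj
  rw [← hsq, ← hsq, hxy]

end Inj


section Main

variable {R B M : Type*} [CommRing R] [CommRing B] [CommRing M]
    [Algebra R B] [Algebra B M] [Algebra R M] [IsScalarTower R B M]

theorem tmul_mem_of_mem_smul (I : Ideal R) (𝔞 : Ideal B) (n : ℕ) (β : B)
    (hβ : β ∈ (I.map (algebraMap R B)) ^ n • (𝔞 : Submodule B B)) :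
    ∃ h : β ∈ 𝔞, ∀ m : M, m ⊗ₜ[B] (⟨β, h⟩ : 𝔞) ∈
      (I.map (algebraMap R M)) ^ n • (⊤ : Submodule M (M ⊗[B] 𝔞)) := by
  have hmap : ∀ i ∈ (I.map (algebraMap R B)) ^ n, algebraMap B M i ∈ (I.map (algebraMap R M)) ^ n := by
    intro i hi
    have : (I.map (algebraMap R M)) ^ n = ((I.map (algebraMap R B)) ^ n).map (algebraMap B M) := by
      rw [Ideal.map_pow, Ideal.map_map, ← IsScalarTower.algebraMap_eq]
    rw [this]
    exact Ideal.mem_map_of_mem _ hi
  refine Submodule.smul_induction_on hβ ?_ ?_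
  · intro i hi a ha
    refine ⟨𝔞.smul_mem i ha, fun m => ?_⟩
    have h1 : (⟨i • a, 𝔞.smul_mem i ha⟩ : 𝔞) = i • (⟨a, ha⟩ : 𝔞) := rfl
    rw [h1, ← TensorProduct.smul_tmul]
    have h2 : (i • m) ⊗ₜ[B] (⟨a, ha⟩ : 𝔞) = (algebraMap B M i) • (m ⊗ₜ[B] (⟨a, ha⟩ : 𝔞)) := by
      rw [TensorProduct.smul_tmul', smul_eq_mul, Algebra.smul_def]
    rw [h2]
    exact Submodule.smul_mem_smul (hmap i hi) Submodule.mem_top
  · rintro x y ⟨hx, hx'⟩ ⟨hy, hy'⟩
    refine ⟨𝔞.add_mem hx hy, fun m => ?_⟩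
    have h1 : (⟨x + y, 𝔞.add_mem hx hy⟩ : 𝔞) = ⟨x, hx⟩ + ⟨y, hy⟩ := rfl
    rw [h1, TensorProduct.tmul_add]
    exact Submodule.add_mem _ (hx' m) (hy' m)

theorem flat_of_flat_of_adic [IsNoetherianRing B] [IsNoetherianRing M] (I : Ideal R)
    (hjac : I.map (algebraMap R M) ≤ Ideal.jacobson ⊥)
    (hsurj : ∀ (k : ℕ) (b : B), ∃ r : R, b - algebraMap R B r ∈ (I ^ k).map (algebraMap R B))
    [Module.Flat R M] : Module.Flat B M := by
  rw [Module.Flat.iff_lTensor_injective']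
  intro 𝔞
  rw [injective_iff_map_eq_zero]
  intro x hx
  set IM := I.map (algebraMap R M) with hIM
  set IB := I.map (algebraMap R B) with hIB
  have hH : IsHausdorff IM (M ⊗[B] 𝔞) := IsHausdorff.of_le_jacobson _ _ hjac
  refine IsHausdorff.haus hH x (fun n => ?_)
  rw [SModEq.zero]
  obtain ⟨c, hc⟩ := Ideal.exists_pow_inf_eq_pow_smul IB (𝔞 : Submodule B B)
  have hAR : IB ^ (n + c) • (⊤ : Submodule B B) ⊓ 𝔞 ≤ IB ^ n • (𝔞 : Submodule B B) := by
    rw [hc (n + c) (by omega)]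
    have : n + c - c = n := by omega
    rw [this]
    exact Submodule.smul_mono le_rfl inf_le_right
  set k := n + c with hk
  let N : Submodule B B := IB ^ k
  let 𝔟 : Submodule B 𝔞 := Submodule.comap 𝔞.subtype N
  let j : (𝔞 ⧸ 𝔟) →ₗ[B] (B ⧸ N) := 𝔟.liftQ (N.mkQ ∘ₗ 𝔞.subtype) (by
    intro a ha
    rw [LinearMap.mem_ker, LinearMap.comp_apply, Submodule.mkQ_apply, Submodule.Quotient.mk_eq_zero]
    exact ha)
  have hj : Function.Injective j := by
    rw [← LinearMap.ker_eq_bot, Submodule.ker_liftQ_eq_bot]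
    intro a ha
    rw [LinearMap.mem_ker, LinearMap.comp_apply, Submodule.mkQ_apply, Submodule.Quotient.mk_eq_zero] at ha
    exact ha
  have hmapK : ∀ a ∈ I ^ k, algebraMap R B a ∈ N := by
    intro a ha
    have : N = (I ^ k).map (algebraMap R B) := by
      change IB ^ k = _
      rw [hIB, Ideal.map_pow]
    rw [this]
    exact Ideal.mem_map_of_mem _ ha
  have hQ₁ : ∀ a ∈ I ^ k, ∀ q : 𝔞 ⧸ 𝔟, a • q = 0 := by
    intro a ha q
    obtain ⟨α, rfl⟩ := Submodule.Quotient.mk_surjective _ q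
    rw [← Submodule.Quotient.mk_smul, Submodule.Quotient.mk_eq_zero]
    change ((a • α : 𝔞) : B) ∈ N
    have h1 : ((a • α : 𝔞) : B) = algebraMap R B a * (α : B) := by
      rw [Submodule.coe_smul_of_tower, Algebra.smul_def]
    rw [h1]
    simpa [mul_comm] using N.smul_mem (α : B) (hmapK a ha)
  have hQ₂ : ∀ a ∈ I ^ k, ∀ q : B ⧸ N, a • q = 0 := by
    intro a ha q
    obtain ⟨b, rfl⟩ := Submodule.Quotient.mk_surjective _ q
    rw [← Submodule.Quotient.mk_smul, Submodule.Quotient.mk_eq_zero, Algebra.smul_def]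
    simpa [mul_comm] using N.smul_mem b (hmapK a ha)
  have hinjB : Function.Injective (j.lTensor M) :=
    lTensor_injective_of_killed (I ^ k) (hsurj k) M hQ₁ hQ₂ j hj
  have hxbar : (𝔟.mkQ.lTensor M) x = 0 := by
    apply hinjB
    rw [map_zero, ← LinearMap.lTensor_comp_apply]
    have : j ∘ₗ 𝔟.mkQ = N.mkQ ∘ₗ 𝔞.subtype := Submodule.liftQ_mkQ _ _ _
    rw [this, LinearMap.lTensor_comp_apply, hx, map_zero]
  have hxr : x ∈ LinearMap.range (𝔟.subtype.lTensor M) := by
    rw [← lTensor_mkQ]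
    exact hxbar
  obtain ⟨z, rfl⟩ := hxr
  clear hxbar hx
  induction z with
  | zero => simp
  | add z w hz hw =>
    rw [map_add]
    exact Submodule.add_mem _ hz hw
  | tmul m β =>
    rw [LinearMap.lTensor_tmul]
    have hβ1 : ((β : 𝔞) : B) ∈ IB ^ k • (⊤ : Submodule B B) ⊓ 𝔞 := by
      refine ⟨?_, (β : 𝔞).2⟩
      rw [smul_eq_mul, Ideal.mul_top]
      exact β.2
    obtain ⟨h, hm⟩ := tmul_mem_of_mem_smul (M := M) I 𝔞 n _ (hAR hβ1)
    exact hm m

end Main

end H18Flat
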