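import Mathlib
import Groth.Agent.Lib.Helper18.PullbackStalk
import Groth.Agent.S4358

/-!
# Helper18: descent of flatness at a point along a base change flat at the point
-/

universe u

namespace Groth.Agent.Lib.Helper18.PullbackStalk

open TensorProduct Algebra

/-- Step 2: in a pushout square `B = A ⊗[R] T`, the localization of `B` at a prime `p'` is flat
over `A` as soon as the localization of `T` at the contraction of `p'` is flat over `R`. -/
theorem flat_atPrime_of_isPushout (R T A B : Type u) [CommRing R] [CommRing T] [CommRing A]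
    [CommRing B] [Algebra R T] [Algebra R A] [Algebra T B] [Algebra A B] [Algebra R B]
    [IsScalarTower R A B] [IsScalarTower R T B] [Algebra.IsPushout R T A B]
    (p' : Ideal B) [p'.IsPrime]
    [Module.Flat R (Localization.AtPrime (p'.comap (algebraMap T B)))] :
    Module.Flat A (Localization.AtPrime p') := by
  let q' : Ideal T := p'.comap (algebraMap T B)
  let M : Submonoid T := q'.primeCompl
  let T' := Localization.AtPrime q'
  let B' := Localization (algebraMapSubmonoid B M)
  let Bp := Localization.AtPrime p'
  have : IsScalarTower R T B' := .to₁₂₄ R T B B'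
  have : IsScalarTower R T' B' := .to₁₃₄ R T T' B'
  have : IsScalarTower R A B' := .to₁₂₄ R A B B'
  have h1 : Algebra.IsPushout T T' B B' := by
    have := Algebra.isPushout_of_isLocalization M T' B B'
    exact this.symm
  have h2 : Algebra.IsPushout R T' A B' :=
    (Algebra.IsPushout.comp_iff R T A B).mpr h1
  have h3 : Algebra.IsPushout R A T' B' := h2.symm
  have : Module.Flat A B' := Module.Flat.isBaseChange R A T' B' h3.out
  have hle : algebraMapSubmonoid B M ≤ p'.primeCompl := by
    rintro _ ⟨t, ht, rfl⟩
    exact ht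
  let φ : B' →ₐ[B] Bp := IsLocalization.liftAlgHom (M := algebraMapSubmonoid B M)
    (f := Algebra.ofId B Bp) (by
      rintro ⟨y, hy⟩
      exact IsLocalization.map_units Bp (⟨y, hle hy⟩ : p'.primeCompl))
  let _ : Algebra B' Bp := φ.toRingHom.toAlgebra
  have : IsScalarTower B B' Bp := IsScalarTower.of_algebraMap_eq fun b => (φ.commutes b).symm
  have : IsLocalization (p'.primeCompl.map (algebraMap B B')) Bp :=
    IsLocalization.isLocalization_of_submonoid_le B' Bp (algebraMapSubmonoid B M) p'.primeCompl hle
  have : Module.Flat B' Bp := IsLocalization.flat Bp (p'.primeCompl.map (algebraMap B B'))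
  have : IsScalarTower A B' Bp := .to₁₃₄ A B B' Bp
  exact Module.Flat.trans A B' Bp

/-- Flatness at a point descends along a base change which is flat at the point. -/
theorem flat_descent_of_isPushout (R T A B : Type u) [CommRing R] [CommRing T] [CommRing A]
    [CommRing B] [Algebra R T] [Algebra R A] [Algebra T B] [Algebra A B] [Algebra R B]
    [IsScalarTower R A B] [IsScalarTower R T B] [Algebra.IsPushout R T A B]
    (p' : Ideal B) [p'.IsPrime]
    (h1 : Module.Flat R (Localization.AtPrime (p'.comap (algebraMap T B))))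
    (h2 : Module.Flat T (Localization.AtPrime p')) :
    Module.Flat R (Localization.AtPrime (p'.comap (algebraMap A B))) := by
  let q' : Ideal T := p'.comap (algebraMap T B)
  let p : Ideal A := p'.comap (algebraMap A B)
  have : p'.LiesOver q' := ⟨rfl⟩
  have : p'.LiesOver p := ⟨rfl⟩
  let _ : Algebra (Localization.AtPrime q') (Localization.AtPrime p') :=
    Localization.AtPrime.algebraOfLiesOver q' p'
  let _ : Algebra (Localization.AtPrime p) (Localization.AtPrime p') :=
    Localization.AtPrime.algebraOfLiesOver p p'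
  have hA : Module.Flat A (Localization.AtPrime p') := flat_atPrime_of_isPushout R T A B p'
  have : Module.Flat (Localization.AtPrime q') (Localization.AtPrime p') :=
    (Module.flat_iff_of_isLocalization (Localization.AtPrime q') q'.primeCompl _).mpr h2
  have hR : Module.Flat R (Localization.AtPrime p') :=
    Module.Flat.trans R (Localization.AtPrime q') (Localization.AtPrime p')
  have : Module.Flat (Localization.AtPrime p) (Localization.AtPrime p') :=
    (Module.flat_iff_of_isLocalization (Localization.AtPrime p) p.primeCompl _).mpr hA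
  have : Module.FaithfullyFlat (Localization.AtPrime p) (Localization.AtPrime p') :=
    Module.FaithfullyFlat.of_flat_of_isLocalHom
  exact Groth.Agent.S4358.flat_of_faithfullyFlat_of_flat (A := R) (C := Localization.AtPrime p)
    (M := Localization.AtPrime p')

open AlgebraicGeometry CategoryTheory Limits H18Stalk

/-- Flatness of the stalk map in terms of flatness over the base ring of sections. -/
lemma flat_stalkMap_iff' {X Y : Scheme.{u}} {f : X ⟶ Y} {x : X} (U : Y.Opens)
    (hU : IsAffineOpen U) (V : X.Opens) (hV : IsAffineOpen V) (hVU : V ≤ f ⁻¹ᵁ U)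
    (hx : x ∈ V) :
    letI := (f.appLE U V hVU).hom.toAlgebra
    (f.stalkMap x).hom.Flat ↔
      Module.Flat Γ(Y, U) (Localization.AtPrime (hV.primeIdealOf ⟨x, hx⟩).asIdeal) := by
  let := (f.appLE U V hVU).hom.toAlgebra
  let p := (hU.primeIdealOf ⟨f x, hVU hx⟩).asIdeal
  let q := (hV.primeIdealOf ⟨x, hx⟩).asIdeal
  have : q.LiesOver p :=
    ⟨congr($(IsAffineOpen.comap_primeIdealOf_appLE U hU V hV hVU hx).1).symm⟩
  let := Localization.AtPrime.algebraOfLiesOver p q
  rw [flat_stalkMap_iff U hU V hV hVU hx]
  exact Module.flat_iff_of_isLocalization (Localization.AtPrime p) p.primeCompl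
    (Localization.AtPrime q)

theorem flat_congr {R A : Type*} [CommRing R] [CommRing A] [Algebra R A]
    {q q' : Ideal A} (h : q = q') [hq : q.IsPrime] [hq' : q'.IsPrime] :
    Module.Flat R (Localization.AtPrime q) ↔ Module.Flat R (Localization.AtPrime q') := by
  subst h
  exact Iff.rfl

variable {X S S' : Scheme.{u}} (f : X ⟶ S) (g : S' ⟶ S)

/-- If `g` is flat at the image of `x'` and the base change `snd` is flat at `x'`, then `f` is flat
at the image of `x'`. -/
theorem flat_stalk_descent_pullback (x' : ↑(pullback f g))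
    (hg : (g.stalkMap (pullback.snd f g x')).hom.Flat)
    (hs : ((pullback.snd f g).stalkMap x').hom.Flat) :
    (f.stalkMap (pullback.fst f g x')).hom.Flat := by
  obtain ⟨US, UX, UT, UY, hUS, hUX, hUT, hUY, hXS, hTS, hYX, hYT, hx', hPO⟩ := exists_chart f g x'
  have hxX : pullback.fst f g x' ∈ UX := hYX hx'
  have hxT : pullback.snd f g x' ∈ UT := hYT hx'
  let _ : Algebra Γ(S, US) Γ(X, UX) := (f.appLE US UX hXS).hom.toAlgebra
  let _ : Algebra Γ(S, US) Γ(S', UT) := (g.appLE US UT hTS).hom.toAlgebra
  let _ : Algebra Γ(X, UX) Γ(pullback f g, UY) := ((pullback.fst f g).appLE UX UY hYX).hom.toAlgebra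
  let _ : Algebra Γ(S', UT) Γ(pullback f g, UY) := ((pullback.snd f g).appLE UT UY hYT).hom.toAlgebra
  let _ : Algebra Γ(S, US) Γ(pullback f g, UY) :=
    (((pullback.fst f g).appLE UX UY hYX).hom.comp (f.appLE US UX hXS).hom).toAlgebra
  have : IsScalarTower Γ(S, US) Γ(X, UX) Γ(pullback f g, UY) :=
    IsScalarTower.of_algebraMap_eq fun _ => rfl
  have : IsScalarTower Γ(S, US) Γ(S', UT) Γ(pullback f g, UY) :=
    IsScalarTower.of_algebraMap_eq fun a => congr($(hPO.w).hom a)
  have : Algebra.IsPushout Γ(S, US) Γ(S', UT) Γ(X, UX) Γ(pullback f g, UY) :=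
    CommRingCat.isPushout_iff_isPushout.mp hPO.flip
  have hg' := (flat_stalkMap_iff' US hUS UT hUT hTS hxT).mp hg
  have hs' := (flat_stalkMap_iff' UT hUT UY hUY hYT hx').mp hs
  rw [flat_stalkMap_iff' US hUS UX hUX hXS hxX]
  have e1 := IsAffineOpen.comap_primeIdealOf_appLE UX hUX UY hUY hYX hx'
  have e2 := IsAffineOpen.comap_primeIdealOf_appLE UT hUT UY hUY hYT hx'
  have hg'' := (flat_congr (R := Γ(S, US)) congr($(e2).asIdeal)).mpr hg'
  have := flat_descent_of_isPushout Γ(S, US) Γ(S', UT) Γ(X, UX) Γ(pullback f g, UY)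
    (hUY.primeIdealOf ⟨x', hx'⟩).asIdeal hg'' hs'
  exact (flat_congr (R := Γ(S, US)) congr($(e1).asIdeal)).mp this

end Groth.Agent.Lib.Helper18.PullbackStalk
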