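import Mathlib
import Groth.Agent.Lib.Helper18.PullbackFlat

/-!
# Helper18: stalk maps in an arbitrary cartesian square of schemes

General-square versions of the results of `PullbackStalk` / `PullbackFlat`:
for `H : IsPullback a b f g` (`a : P ⟶ X`, `b : P ⟶ S'`, `f : X ⟶ S`, `g : S' ⟶ S`).
-/

universe u

namespace Groth.Agent.Lib.Helper18.PullbackStalk

open AlgebraicGeometry CategoryTheory Limits H18Stalk

variable {P X S S' : Scheme.{u}} {a : P ⟶ X} {b : P ⟶ S'} {f : X ⟶ S} {g : S' ⟶ S}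

/-- Affine chart around a point of a cartesian square. -/
theorem exists_chart_of_isPullback (H : IsPullback a b f g) (x' : P) :
    ∃ (US : S.Opens) (UX : X.Opens) (UT : S'.Opens) (UY : P.Opens)
      (_ : IsAffineOpen US) (_ : IsAffineOpen UX) (_ : IsAffineOpen UT)
      (_ : IsAffineOpen UY)
      (hXS : UX ≤ f ⁻¹ᵁ US) (hTS : UT ≤ g ⁻¹ᵁ US) (hYX : UY ≤ a ⁻¹ᵁ UX)
      (hYT : UY ≤ b ⁻¹ᵁ UT),
      x' ∈ UY ∧ IsPushout (f.appLE US UX hXS) (g.appLE US UT hTS)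
        (a.appLE UX UY hYX) (b.appLE UT UY hYT) := by
  have hc : f (a x') = g (b x') := by
    rw [← Scheme.Hom.comp_apply, ← Scheme.Hom.comp_apply, H.w]
  obtain ⟨_, ⟨US, hUS, rfl⟩, hxS, -⟩ :=
    S.isBasis_affineOpens.exists_subset_of_mem_open (Set.mem_univ (f (a x')))
      isOpen_univ
  obtain ⟨_, ⟨UX, hUX, rfl⟩, hxX, hXS⟩ :=
    X.isBasis_affineOpens.exists_subset_of_mem_open
      (show a x' ∈ (f ⁻¹ᵁ US : Set X) from hxS) (f ⁻¹ᵁ US).2
  obtain ⟨_, ⟨UT, hUT, rfl⟩, hxT, hTS⟩ :=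
    S'.isBasis_affineOpens.exists_subset_of_mem_open
      (show b x' ∈ (g ⁻¹ᵁ US : Set S') from by
        show g (b x') ∈ US
        rw [← hc]; exact hxS) (g ⁻¹ᵁ US).2
  let UY : P.Opens := a ⁻¹ᵁ UX ⊓ b ⁻¹ᵁ UT
  have hXS' : UX ≤ f ⁻¹ᵁ US := hXS
  have hTS' : UT ≤ g ⁻¹ᵁ US := hTS
  have hUY : IsAffineOpen UY := by
    have : IsAffine (US : Scheme) := hUS
    have : IsAffine (UT : Scheme) := hUT
    have : IsAffine (UX : Scheme) := hUX
    exact .of_isIso (Scheme.Hom.isPullback_resLE H hTS' hXS' rfl).isoPullback.hom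
  have : IsIso (pushoutSection H hTS' hXS' (UY := UY) rfl) :=
    isIso_pushoutSection_of_isAffineOpen H hTS' hXS' rfl hUS hUT hUX
  refine ⟨US, UX, UT, UY, hUS, hUX, hUT, hUY, hXS', hTS', inf_le_left, inf_le_right,
    ⟨hxX, hxT⟩, ?_⟩
  exact (isIso_pushoutSection_iff H hTS' hXS' rfl).mp this

/-- In a cartesian square, `b` is formally unramified at `x'` iff `f` is at `a x'`. -/
theorem unram_stalk_iff_of_isPullback [LocallyOfFiniteType f] (H : IsPullback a b f g) (x' : P) :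
    (b.stalkMap x').hom.FormallyUnramified ↔ (f.stalkMap (a x')).hom.FormallyUnramified := by
  obtain ⟨US, UX, UT, UY, hUS, hUX, hUT, hUY, hXS, hTS, hYX, hYT, hx', hPO⟩ :=
    exists_chart_of_isPullback H x'
  have hxX : a x' ∈ UX := hYX hx'
  have hft := f.finiteType_appLE hUS hUX hXS
  let _ : Algebra Γ(S, US) Γ(X, UX) := (f.appLE US UX hXS).hom.toAlgebra
  let _ : Algebra Γ(S, US) Γ(S', UT) := (g.appLE US UT hTS).hom.toAlgebra
  let _ : Algebra Γ(X, UX) Γ(P, UY) := (a.appLE UX UY hYX).hom.toAlgebra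
  let _ : Algebra Γ(S', UT) Γ(P, UY) := (b.appLE UT UY hYT).hom.toAlgebra
  let _ : Algebra Γ(S, US) Γ(P, UY) :=
    ((a.appLE UX UY hYX).hom.comp (f.appLE US UX hXS).hom).toAlgebra
  have : IsScalarTower Γ(S, US) Γ(X, UX) Γ(P, UY) :=
    IsScalarTower.of_algebraMap_eq fun _ => rfl
  have : IsScalarTower Γ(S, US) Γ(S', UT) Γ(P, UY) :=
    IsScalarTower.of_algebraMap_eq fun r => congr($(hPO.w).hom r)
  have : Algebra.FiniteType Γ(S, US) Γ(X, UX) := hft
  have : Algebra.IsPushout Γ(S, US) Γ(S', UT) Γ(X, UX) Γ(P, UY) :=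
    CommRingCat.isPushout_iff_isPushout.mp hPO.flip
  rw [formallyUnramified_stalkMap_iff UT hUT UY hUY hYT hx',
    formallyUnramified_stalkMap_iff US hUS UX hUX hXS hxX,
    isUnramifiedAt_iff_of_isPushout Γ(S, US) Γ(S', UT) Γ(X, UX) Γ(P, UY)]
  have := IsAffineOpen.comap_primeIdealOf_appLE UX hUX UY hUY hYX hx'
  exact isUnramifiedAt_congr congr($(this).asIdeal)

/-- In a cartesian square, if `g` is flat at `b x'` and `b` is flat at `x'`, then `f` is flat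
at `a x'`. -/
theorem flat_stalk_descent_of_isPullback (H : IsPullback a b f g) (x' : P)
    (hg : (g.stalkMap (b x')).hom.Flat) (hs : (b.stalkMap x').hom.Flat) :
    (f.stalkMap (a x')).hom.Flat := by
  obtain ⟨US, UX, UT, UY, hUS, hUX, hUT, hUY, hXS, hTS, hYX, hYT, hx', hPO⟩ :=
    exists_chart_of_isPullback H x'
  have hxX : a x' ∈ UX := hYX hx'
  have hxT : b x' ∈ UT := hYT hx'
  let _ : Algebra Γ(S, US) Γ(X, UX) := (f.appLE US UX hXS).hom.toAlgebra
  let _ : Algebra Γ(S, US) Γ(S', UT) := (g.appLE US UT hTS).hom.toAlgebra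
  let _ : Algebra Γ(X, UX) Γ(P, UY) := (a.appLE UX UY hYX).hom.toAlgebra
  let _ : Algebra Γ(S', UT) Γ(P, UY) := (b.appLE UT UY hYT).hom.toAlgebra
  let _ : Algebra Γ(S, US) Γ(P, UY) :=
    ((a.appLE UX UY hYX).hom.comp (f.appLE US UX hXS).hom).toAlgebra
  have : IsScalarTower Γ(S, US) Γ(X, UX) Γ(P, UY) :=
    IsScalarTower.of_algebraMap_eq fun _ => rfl
  have : IsScalarTower Γ(S, US) Γ(S', UT) Γ(P, UY) :=
    IsScalarTower.of_algebraMap_eq fun r => congr($(hPO.w).hom r)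
  have : Algebra.IsPushout Γ(S, US) Γ(S', UT) Γ(X, UX) Γ(P, UY) :=
    CommRingCat.isPushout_iff_isPushout.mp hPO.flip
  have hg' := (flat_stalkMap_iff' US hUS UT hUT hTS hxT).mp hg
  have hs' := (flat_stalkMap_iff' UT hUT UY hUY hYT hx').mp hs
  rw [flat_stalkMap_iff' US hUS UX hUX hXS hxX]
  have e1 := IsAffineOpen.comap_primeIdealOf_appLE UX hUX UY hUY hYX hx'
  have e2 := IsAffineOpen.comap_primeIdealOf_appLE UT hUT UY hUY hYT hx'
  have hg'' := (flat_congr (R := Γ(S, US)) congr($(e2).asIdeal)).mpr hg'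
  have := flat_descent_of_isPushout Γ(S, US) Γ(S', UT) Γ(X, UX) Γ(P, UY)
    (hUY.primeIdealOf ⟨x', hx'⟩).asIdeal hg'' hs'
  exact (flat_congr (R := Γ(S, US)) congr($(e1).asIdeal)).mp this

/-- In a cartesian square, if `f` is flat at `a x'` then `b` is flat at `x'`
(flatness at a point is stable under base change). -/
theorem flat_stalk_baseChange_of_isPullback (H : IsPullback a b f g) (x' : P)
    (hf : (f.stalkMap (a x')).hom.Flat) : (b.stalkMap x').hom.Flat := by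
  obtain ⟨US, UX, UT, UY, hUS, hUX, hUT, hUY, hXS, hTS, hYX, hYT, hx', hPO⟩ :=
    exists_chart_of_isPullback H x'
  have hxX : a x' ∈ UX := hYX hx'
  have hxT : b x' ∈ UT := hYT hx'
  let _ : Algebra Γ(S, US) Γ(X, UX) := (f.appLE US UX hXS).hom.toAlgebra
  let _ : Algebra Γ(S, US) Γ(S', UT) := (g.appLE US UT hTS).hom.toAlgebra
  let _ : Algebra Γ(X, UX) Γ(P, UY) := (a.appLE UX UY hYX).hom.toAlgebra
  let _ : Algebra Γ(S', UT) Γ(P, UY) := (b.appLE UT UY hYT).hom.toAlgebra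
  let _ : Algebra Γ(S, US) Γ(P, UY) :=
    ((a.appLE UX UY hYX).hom.comp (f.appLE US UX hXS).hom).toAlgebra
  have : IsScalarTower Γ(S, US) Γ(X, UX) Γ(P, UY) :=
    IsScalarTower.of_algebraMap_eq fun _ => rfl
  have : IsScalarTower Γ(S, US) Γ(S', UT) Γ(P, UY) :=
    IsScalarTower.of_algebraMap_eq fun r => congr($(hPO.w).hom r)
  have : Algebra.IsPushout Γ(S, US) Γ(X, UX) Γ(S', UT) Γ(P, UY) :=
    CommRingCat.isPushout_iff_isPushout.mp hPO
  have hf' := (flat_stalkMap_iff' US hUS UX hUX hXS hxX).mp hf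
  rw [flat_stalkMap_iff' UT hUT UY hUY hYT hx']
  have e1 := IsAffineOpen.comap_primeIdealOf_appLE UX hUX UY hUY hYX hx'
  have hf'' := (flat_congr (R := Γ(S, US)) congr($(e1).asIdeal)).mpr hf'
  have : Module.Flat Γ(S, US) (Localization.AtPrime
      ((hUY.primeIdealOf ⟨x', hx'⟩).asIdeal.comap (algebraMap Γ(X, UX) Γ(P, UY)))) := hf''
  exact flat_atPrime_of_isPushout Γ(S, US) Γ(X, UX) Γ(S', UT) Γ(P, UY)
    (hUY.primeIdealOf ⟨x', hx'⟩).asIdeal

end Groth.Agent.Lib.Helper18.PullbackStalk
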