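import Mathlib
import Groth.Agent.S4358

/-!
# Descent of unramified / flat along a flat local homomorphism (helper18)
-/

set_option autoImplicit false
set_option linter.unusedSectionVars false
universe u

open IsLocalRing

namespace H18Loc

variable (A B C : Type u) [CommRing A] [CommRing B] [CommRing C]
  [IsLocalRing A] [IsLocalRing B] [IsLocalRing C]
  [Algebra A B] [Algebra B C] [Algebra A C] [IsScalarTower A B C]
  [IsLocalHom (algebraMap A B)] [IsLocalHom (algebraMap B C)] [IsLocalHom (algebraMap A C)]

instance residueField_tower : IsScalarTower (ResidueField A) (ResidueField B) (ResidueField C) := by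
  refine IsScalarTower.of_algebraMap_eq' ?_
  refine Ideal.Quotient.ringHom_ext (RingHom.ext fun a => ?_)
  show algebraMap (ResidueField A) (ResidueField C) (residue A a) =
    algebraMap (ResidueField B) (ResidueField C) (algebraMap (ResidueField A) (ResidueField B)
      (residue A a))
  rw [ResidueField.algebraMap_residue, ResidueField.algebraMap_residue,
    ResidueField.algebraMap_residue, ← IsScalarTower.algebraMap_apply]

/-- If `A → B → C` are local homomorphisms, `C` is flat over `B` and formally unramified over
`A` (all essentially of finite type), then `B` is formally unramified over `A`. -/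
theorem formallyUnramified_of_flat_of_comp [Algebra.EssFiniteType A B] [Algebra.EssFiniteType A C]
    [Module.Flat B C] [Algebra.FormallyUnramified A C] : Algebra.FormallyUnramified A B := by
  have hmC : (maximalIdeal A).map (algebraMap A C) = maximalIdeal C :=
    Algebra.FormallyUnramified.map_maximalIdeal
  have : Module.FaithfullyFlat B C := Module.FaithfullyFlat.of_flat_of_isLocalHom
  have hm : (maximalIdeal A).map (algebraMap A B) = maximalIdeal B := by
    refine le_antisymm (map_maximalIdeal_le (algebraMap A B)) fun b hb => ?_
    have h1 : algebraMap B C b ∈ maximalIdeal C := map_nonunit (algebraMap B C) b hb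
    rw [← hmC, IsScalarTower.algebraMap_eq A B C, ← Ideal.map_map] at h1
    have h2 : b ∈ (((maximalIdeal A).map (algebraMap A B)).map (algebraMap B C)).comap
        (algebraMap B C) := h1
    rwa [Ideal.comap_map_eq_self_of_faithfullyFlat] at h2
  have hsepC : Algebra.IsSeparable (ResidueField A) (ResidueField C) := inferInstance
  have : Algebra.IsSeparable (ResidueField A) (ResidueField B) :=
    Algebra.isSeparable_tower_bot_of_isSeparable (ResidueField A) (ResidueField B) (ResidueField C)
  exact Algebra.FormallyUnramified.of_map_maximalIdeal hm

/-- If `C` is flat over `A` and faithfully flat over `B` then `B` is flat over `A`. -/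
theorem flat_of_flat_of_comp [Module.Flat B C] [Module.Flat A C] : Module.Flat A B := by
  have : Module.FaithfullyFlat B C := Module.FaithfullyFlat.of_flat_of_isLocalHom
  exact Groth.Agent.S4358.flat_of_faithfullyFlat_of_flat (A := A) (C := B) (M := C)

end H18Loc
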