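import Mathlib
import Groth.Agent.Lib.Helper18.StalkEtale
import Groth.Agent.Lib.Helper18.LocalDescent

/-!
# Descent of stalkwise unramified/flat along a morphism flat at a point (helper18)
-/

set_option autoImplicit false
universe u

open AlgebraicGeometry CategoryTheory IsLocalRing

namespace H18Stalk

variable {X Y S : Scheme.{u}}

/-- Rewriting a property of the stalk map of a composition. -/
lemma stalkMap_comp_iff {Q : ∀ {R S : Type u} [CommRing R] [CommRing S], (R →+* S) → Prop}
    (f : Y ⟶ S) (g : X ⟶ Y) (x : X) :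
    Q ((g ≫ f).stalkMap x).hom ↔ Q ((g.stalkMap x).hom.comp (f.stalkMap (g x)).hom) := by
  rw [← CommRingCat.hom_comp, ← Scheme.Hom.stalkMap_comp]
  rfl

theorem stalk_unram_descent (f : Y ⟶ S) (g : X ⟶ Y) [LocallyOfFiniteType f]
    [LocallyOfFiniteType (g ≫ f)] (x : X) (hg : (g.stalkMap x).hom.Flat)
    (hh : ((g ≫ f).stalkMap x).hom.FormallyUnramified) :
    (f.stalkMap (g x)).hom.FormallyUnramified := by
  have hcomp : ((g.stalkMap x).hom.comp (f.stalkMap (g x)).hom).FormallyUnramified :=
    (stalkMap_comp_iff (Q := RingHom.FormallyUnramified) f g x).mp hh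
  have hft : ((g.stalkMap x).hom.comp (f.stalkMap (g x)).hom).EssFiniteType :=
    (stalkMap_comp_iff (Q := RingHom.EssFiniteType) f g x).mp
      (LocallyOfFiniteType.stalkMap (g ≫ f) x)
  have hft' : (f.stalkMap (g x)).hom.EssFiniteType := LocallyOfFiniteType.stalkMap f (g x)
  algebraize [(f.stalkMap (g x)).hom, (g.stalkMap x).hom,
    (g.stalkMap x).hom.comp (f.stalkMap (g x)).hom]
  have : IsLocalHom (algebraMap (S.presheaf.stalk (f (g x))) (Y.presheaf.stalk (g x))) :=
    inferInstanceAs <| IsLocalHom (f.stalkMap (g x)).hom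
  have : IsLocalHom (algebraMap (Y.presheaf.stalk (g x)) (X.presheaf.stalk x)) :=
    inferInstanceAs <| IsLocalHom (g.stalkMap x).hom
  have : IsLocalHom (algebraMap (S.presheaf.stalk (f (g x))) (X.presheaf.stalk x)) :=
    inferInstanceAs <| IsLocalHom ((g.stalkMap x).hom.comp (f.stalkMap (g x)).hom)
  have := H18Loc.formallyUnramified_of_flat_of_comp (S.presheaf.stalk (f (g x)))
    (Y.presheaf.stalk (g x)) (X.presheaf.stalk x)
  rwa [← RingHom.formallyUnramified_algebraMap, RingHom.algebraMap_toAlgebra] at this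

theorem stalk_flat_descent (f : Y ⟶ S) (g : X ⟶ Y) (x : X) (hg : (g.stalkMap x).hom.Flat)
    (hh : ((g ≫ f).stalkMap x).hom.Flat) :
    (f.stalkMap (g x)).hom.Flat := by
  have hcomp : ((g.stalkMap x).hom.comp (f.stalkMap (g x)).hom).Flat :=
    (stalkMap_comp_iff (Q := RingHom.Flat) f g x).mp hh
  algebraize [(f.stalkMap (g x)).hom, (g.stalkMap x).hom,
    (g.stalkMap x).hom.comp (f.stalkMap (g x)).hom]
  have : IsLocalHom (algebraMap (S.presheaf.stalk (f (g x))) (Y.presheaf.stalk (g x))) :=
    inferInstanceAs <| IsLocalHom (f.stalkMap (g x)).hom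
  have : IsLocalHom (algebraMap (Y.presheaf.stalk (g x)) (X.presheaf.stalk x)) :=
    inferInstanceAs <| IsLocalHom (g.stalkMap x).hom
  have : IsLocalHom (algebraMap (S.presheaf.stalk (f (g x))) (X.presheaf.stalk x)) :=
    inferInstanceAs <| IsLocalHom ((g.stalkMap x).hom.comp (f.stalkMap (g x)).hom)
  have := H18Loc.flat_of_flat_of_comp (S.presheaf.stalk (f (g x)))
    (Y.presheaf.stalk (g x)) (X.presheaf.stalk x)
  rwa [← RingHom.flat_algebraMap_iff, RingHom.algebraMap_toAlgebra] at this

end H18Stalk
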