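import Groth.Prelude.Def_AlgSp4
import Groth.Agent.Lib.Helper11.AlgSpBasic

/-!
# Lemmas on morphisms of fppf sheaves / algebraic spaces (helper18)
-/

set_option autoImplicit false
universe u

open CategoryTheory CategoryTheory.Limits AlgebraicGeometry Opposite

namespace Groth.Agent.Lib.helper18

open AlgSp

variable {S : Scheme.{u}}

/-- A morphism of sheaves representable by closed immersions is closed on points. -/
theorem isClosedMap_of_repWith_isClosedImmersion {F G : AlgSp.Sp S} (j : F ⟶ G)
    (hj : AlgSp.RepWith @IsClosedImmersion j) : IsClosedMap (AlgSp.Points.map j) := by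
  intro C hC
  rw [← isOpen_compl_iff, Points.isOpen_iff]
  intro T g
  obtain ⟨V, snd, fst, hpb⟩ := hj.rep g
  have hci : IsClosedImmersion snd.left := hj.2 g _ snd hpb
  have hcl : IsClosedMap snd.left := snd.left.isClosedEmbedding.isClosedMap
  have key : Points.ofPt g ⁻¹' (Points.map j '' C) = snd.left '' (Points.ofPt fst ⁻¹' C) := by
    ext t
    constructor
    · rintro ⟨c, hc, hct⟩
      obtain ⟨v, hv1, hv2⟩ :=
        Groth.Agent.Lib.helper11.exists_of_isPullback_scheme hpb c t hct
      exact ⟨v, by simpa [hv1] using hc, hv2⟩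
    · rintro ⟨v, hv, rfl⟩
      refine ⟨Points.ofPt fst v, hv, ?_⟩
      rw [Points.map_ofPt, hpb.w, Groth.Agent.Lib.helper11.ofPt_yon_map_comp]
  rw [Set.preimage_compl, key, isOpen_compl_iff]
  exact hcl _ (hC.preimage (Points.continuous_ofPt fst))

/-- `RepWith P` is monotone in `P`. -/
theorem repWith_mono {P Q : MorphismProperty Scheme.{u}} (hPQ : P ≤ Q) {F G : AlgSp.Sp S}
    {f : F ⟶ G} (hf : AlgSp.RepWith P f) : AlgSp.RepWith Q f :=
  (repWith_iff _ _).mpr ⟨hf.1, fun _ _ g fst snd hpb =>
    hPQ _ (((repWith_iff _ _).mp hf).2 g fst snd hpb)⟩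

/-- A morphism representable by closed immersions is universally closed. -/
theorem isUnivClosedMor_of_repWith_isClosedImmersion {F G : AlgSp.Sp S} (j : F ⟶ G)
    (hj : AlgSp.RepWith @IsClosedImmersion j) : AlgSp.IsUnivClosedMor j := by
  intro Z Z' _ g fst snd hpb
  exact isClosedMap_of_repWith_isClosedImmersion snd (MorphismProperty.of_isPullback hpb hj)

/-- `UnivSp Q` is stable under base change (pasting of pullback squares). -/
theorem univSp_of_isPullback {Q : MorphismProperty (AlgSp.Sp S)} {F G F' G' : AlgSp.Sp S}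
    {f : F ⟶ G} {g : G' ⟶ G} {fst : F' ⟶ F} {f' : F' ⟶ G'} (sq : IsPullback fst f' f g)
    (hf : AlgSp.UnivSp Q f) : AlgSp.UnivSp Q f' := by
  intro Z Z' hZ h a b hpb
  exact hf hZ (h ≫ g) (a ≫ fst) b (hpb.paste_horiz sq)

end Groth.Agent.Lib.helper18
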