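import Mathlib
import Groth.Prelude.Def_EtShriek2

set_option autoImplicit false
universe u

namespace Groth.Agent.Lib.Helper18.JCont

open CategoryTheory CategoryTheory.Limits AlgebraicGeometry Opposite

variable {U X : Scheme.{u}}

lemma aux {A B C D : Scheme.{u}} (a : A ⟶ B) (b : B ⟶ D) (a' : A ⟶ C) (c : C ⟶ D)
    (y : B ⟶ U) (y' : C ⟶ U) (z : D ⟶ U) (e1 : b ≫ z = y) (e2 : c ≫ z = y')
    (h : a ≫ b = a' ≫ c) : a' ≫ y' = a ≫ y := by
  rw [← e1, ← e2, ← Category.assoc, ← Category.assoc, h]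

set_option backward.isDefEq.respectTransparency.types false in
theorem compatiblePreserving_compEtale (j : U ⟶ X) [hj : Etale j] :
    CompatiblePreserving.{u+1} X.smallEtaleTopology (EtShriek.compEtale j) := by
  constructor
  intro ℱ Z T x hx Y₁ Y₂ W f₁ f₂ g₁ g₂ hg₁ hg₂ e
  have hW₁ : f₁.left ≫ Y₁.hom ≫ j = W.hom := MorphismProperty.Over.w f₁
  have hW₂ : f₂.left ≫ Y₂.hom ≫ j = W.hom := MorphismProperty.Over.w f₂
  have hW : EtCoh.etaleMP ((f₁.left ≫ Y₁.hom) ≫ j) := by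
    rw [Category.assoc, hW₁]; exact W.prop
  let W' : U.Etale := MorphismProperty.Over.mk ⊤ (f₁.left ≫ Y₁.hom)
      (EtCoh.etaleMP.of_postcomp (W' := EtCoh.etaleMP) (f₁.left ≫ Y₁.hom) j hj hW)
  let i : (EtShriek.compEtale j).obj W' ≅ W :=
    MorphismProperty.Over.isoMk (Iso.refl _)
      ((Category.id_comp W.hom).trans (hW₁.symm.trans (Category.assoc _ _ _).symm))
  -- the two maps in `U.Etale`
  have hZ : f₁.left ≫ g₁.left = f₂.left ≫ g₂.left := by
    have := congrArg (fun k => k.left) e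
    exact this
  have h₂ : f₂.left ≫ Y₂.hom = f₁.left ≫ Y₁.hom := by
    have e1 : g₁.left ≫ Z.hom = Y₁.hom := MorphismProperty.Over.w g₁
    have e2 : g₂.left ≫ Z.hom = Y₂.hom := MorphismProperty.Over.w g₂
    exact aux f₁.left g₁.left f₂.left g₂.left Y₁.hom Y₂.hom Z.hom e1 e2 hZ
  let g₁' : W' ⟶ Y₁ := MorphismProperty.Over.homMk f₁.left rfl
  let g₂' : W' ⟶ Y₂ := MorphismProperty.Over.homMk f₂.left h₂
  have hc : g₁' ≫ g₁ = g₂' ≫ g₂ := MorphismProperty.Over.Hom.ext hZ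
  have h := hx g₁' g₂' hg₁ hg₂ hc
  have e₁ : (EtShriek.compEtale j).map g₁' = i.hom ≫ f₁ :=
    MorphismProperty.Over.Hom.ext (Category.id_comp f₁.left).symm
  have e₂ : (EtShriek.compEtale j).map g₂' = i.hom ≫ f₂ :=
    MorphismProperty.Over.Hom.ext (Category.id_comp f₂.left).symm
  apply (ℱ.obj.mapIso i.op).toEquiv.injective
  change ℱ.obj.map i.hom.op (ℱ.obj.map f₁.op (x g₁ hg₁)) = ℱ.obj.map i.hom.op (ℱ.obj.map f₂.op (x g₂ hg₂))
  change ℱ.obj.map ((EtShriek.compEtale j).map g₁').op (x g₁ hg₁) =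
    ℱ.obj.map ((EtShriek.compEtale j).map g₂').op (x g₂ hg₂) at h
  rw [e₁, e₂] at h
  simpa using h

instance jCont (j : U ⟶ X) [hj : Etale j] : EtShriek.JCont j :=
  Functor.isContinuous_of_coverPreserving (compatiblePreserving_compEtale j)
    (EtShriek.coverPreserving_compEtale j)

end Groth.Agent.Lib.Helper18.JCont
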