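import Mathlib
import Groth.Prelude.Def_EssEt
import Groth.Agent.S9563

/-!
# Helper18: descent of finitely presented algebras along a localization, and a criterion for
being an essentially étale local algebra.
-/

universe u

namespace Groth.Agent.Lib.Helper18.EssEtale

open TensorProduct Algebra IsLocalRing

theorem coeff_aux {R₀ R : Type u} [CommRing R₀] [CommRing R]
    [Algebra R₀ R] {ι : Type} (p : MvPolynomial ι R) (b : R₀) (hb : ∀ c ∈ p.coeffs,
      IsLocalization.IsInteger R₀ ((b : R₀) • c)) (c : R)
    (hc : c ∈ (algebraMap R₀ R b • p).coeffs) :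
    c ∈ Set.range (algebraMap R₀ R) := by
  classical
  rw [MvPolynomial.mem_coeffs_iff] at hc
  obtain ⟨n, hn, rfl⟩ := hc
  rw [MvPolynomial.coeff_smul]
  by_cases h0 : MvPolynomial.coeff n p = 0
  · rw [h0, smul_zero]; exact ⟨0, map_zero _⟩
  · have := hb _ (MvPolynomial.coeff_mem_coeffs _ h0)
    obtain ⟨x, hx⟩ := this
    exact ⟨x, by rw [hx, Algebra.smul_def, smul_eq_mul]⟩

/-- A finitely presented algebra over a localization `R = M⁻¹R₀` has a finitely presented model
over `R₀`. -/
theorem exists_model_of_isLocalization {R₀ R S : Type u} [CommRing R₀] [CommRing R] [CommRing S]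
    [Algebra R₀ R] [Algebra R S] (M : Submonoid R₀) [IsLocalization M R]
    [Algebra.FinitePresentation R S] :
    ∃ (S₀ : Type u) (_ : CommRing S₀) (_ : Algebra R₀ S₀),
      Algebra.FinitePresentation R₀ S₀ ∧ Nonempty (R ⊗[R₀] S₀ ≃ₐ[R] S) := by
  classical
  let P := Algebra.Presentation.ofFinitePresentation R S
  have h : ∀ i, ∃ b : M, ∀ c ∈ (P.relation i).coeffs,
      IsLocalization.IsInteger R₀ ((b : R₀) • c) := fun i =>
    IsLocalization.exist_integer_multiples_of_finset M (P.relation i).coeffs
  choose b hb using h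
  have hu : ∀ i, IsUnit (algebraMap R₀ R (b i)) := fun i => IsLocalization.map_units R (b i)
  let rel' : Fin (Presentation.ofFinitePresentationRels R S) → P.Ring :=
    fun i => algebraMap R₀ R (b i) • P.relation i
  have hspan : Ideal.span (Set.range rel') = P.ker := by
    rw [← P.span_range_relation_eq_ker]
    apply le_antisymm
    · rw [Ideal.span_le]
      rintro _ ⟨i, rfl⟩
      have : rel' i = MvPolynomial.C (algebraMap R₀ R (b i)) * P.relation i := by
        simp only [rel', MvPolynomial.smul_eq_C_mul]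
      rw [this]
      exact Ideal.mul_mem_left _ _ (Ideal.subset_span ⟨i, rfl⟩)
    · rw [Ideal.span_le]
      rintro _ ⟨i, rfl⟩
      have : P.relation i = MvPolynomial.C ((hu i).unit⁻¹ : Rˣ).1 * rel' i := by
        simp only [rel', MvPolynomial.smul_eq_C_mul, ← mul_assoc, ← MvPolynomial.C_mul,
          IsUnit.val_inv_mul, MvPolynomial.C_1, one_mul]
      rw [this]
      exact Ideal.mul_mem_left _ _ (Ideal.subset_span ⟨i, rfl⟩)
  let P' : Algebra.Presentation R S _ _ :=
    { P.toGenerators with
      relation := rel'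
      span_range_relation_eq_ker := hspan }
  algebraize [(algebraMap R S).comp (algebraMap R₀ R)]
  have : P'.HasCoeffs R₀ := ⟨by
    intro c hc
    simp only [Algebra.Presentation.coeffs, Set.mem_iUnion] at hc
    obtain ⟨i, hc⟩ := hc
    exact coeff_aux (R₀ := R₀) (P.relation i) ((b i : M) : R₀) (hb i) c hc⟩
  exact ⟨P'.ModelOfHasCoeffs R₀, inferInstance, inferInstance, inferInstance,
    ⟨P'.tensorModelOfHasCoeffsEquiv R₀⟩⟩


theorem comap_maximalIdeal_of_ringEquiv {C T : Type*} [CommRing C] [CommRing T] [IsLocalRing C]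
    [IsLocalRing T] (e : C ≃+* T) : (maximalIdeal T).comap (e : C →+* T) = maximalIdeal C := by
  ext x
  simp only [Ideal.mem_comap, mem_maximalIdeal, mem_nonunits_iff, RingEquiv.coe_toRingHom]
  rw [not_iff_not]
  exact ⟨fun h => by simpa using h.map e.symm, fun h => h.map e⟩

/-- A local `A`-algebra `C` which is a localization of a finitely presented `A`-algebra `D`,
formally étale over `A`, and whose maximal ideal lies over `m_A`, is essentially étale. -/
theorem isEssentiallyEtale_of_isLocalization (A : Type u) [CommRing A] [IsLocalRing A]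
    (D C : Type u) [CommRing D] [CommRing C] [Algebra A D] [Algebra D C] [Algebra A C]
    [IsScalarTower A D C] [IsLocalRing C] [Algebra.FinitePresentation A D]
    (M : Submonoid D) [IsLocalization M C] [Algebra.FormallyEtale A C]
    (hm : (maximalIdeal C).comap (algebraMap A C) = maximalIdeal A) :
    EGA4loc.IsEssentiallyEtale A C := by
  let 𝔯 : Ideal D := (maximalIdeal C).comap (algebraMap D C)
  have h𝔯 : IsLocalization.AtPrime C 𝔯 := S9563.atPrime_of_isLocalization M
  let e₁ : C ≃ₐ[D] Localization.AtPrime 𝔯 := IsLocalization.algEquiv 𝔯.primeCompl _ _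
  have : IsEtaleAt A 𝔯 := FormallyEtale.of_equiv (e₁.restrictScalars A)
  obtain ⟨f, hf, hEt⟩ := exists_etale_of_isEtaleAt (R := A) 𝔯
  have hfu : IsUnit (algebraMap D C f) := IsLocalization.map_units (M := 𝔯.primeCompl) C ⟨f, hf⟩
  obtain ⟨𝔮', h𝔮', ⟨e₂⟩⟩ := S9563.exists_equiv_away (A := A) M f hfu
  refine ⟨Localization.Away f, inferInstance, inferInstance, 𝔮', h𝔮', hEt, ?_, ⟨e₂⟩⟩
  have h1 : 𝔮' = (maximalIdeal (Localization.AtPrime 𝔮')).comap
      (algebraMap (Localization.Away f) (Localization.AtPrime 𝔮')) :=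
    (IsLocalization.AtPrime.under_maximalIdeal (Localization.AtPrime 𝔮') 𝔮').symm
  have h2 := comap_maximalIdeal_of_ringEquiv (e₂ : C ≃+* Localization.AtPrime 𝔮')
  rw [h1, Ideal.comap_comap, ← IsScalarTower.algebraMap_eq, ← hm, ← h2, Ideal.comap_comap]
  congr 1
  ext a
  simp

attribute [local instance] Algebra.TensorProduct.rightAlgebra in
theorem isScalarTower_aux (A : Type u) [CommRing A]
    (C₁ : Type u) [CommRing C₁] [Algebra A C₁]
    (B : Type u) [CommRing B] [Algebra C₁ B] [Algebra A B] [IsScalarTower A C₁ B]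
    (D₀ : Type u) [CommRing D₀] [Algebra C₁ D₀] [Algebra A D₀] [IsScalarTower A C₁ D₀] :
    IsScalarTower A D₀ (B ⊗[C₁] D₀) := by
  refine IsScalarTower.of_algebraMap_eq fun a => ?_
  rw [Algebra.TensorProduct.algebraMap_apply, Algebra.TensorProduct.right_algebraMap_apply,
    IsScalarTower.algebraMap_apply A C₁ B, IsScalarTower.algebraMap_apply A C₁ D₀,
    Algebra.algebraMap_eq_smul_one (algebraMap A C₁ a),
    Algebra.algebraMap_eq_smul_one (algebraMap A C₁ a), TensorProduct.smul_tmul]

attribute [local instance] Algebra.TensorProduct.rightAlgebra in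
/-- The localization at a prime (over `m_A`) of the base change `B ⊗[C₁] D₀`, where `B = (C₁)_{q₁}`
is formally étale over `A`, `C₁` and `D₀` are finitely presented and `B ⊗ D₀` is formally étale
over `B`, is an essentially étale local `A`-algebra. -/
theorem trans_aux (A : Type u) [CommRing A] [IsLocalRing A]
    (C₁ : Type u) [CommRing C₁] [Algebra A C₁] [Algebra.FinitePresentation A C₁]
    (q₁ : Ideal C₁) [q₁.IsPrime]
    (B : Type u) [CommRing B] [Algebra C₁ B] [Algebra A B] [IsScalarTower A C₁ B]
    [IsLocalization.AtPrime B q₁] [Algebra.FormallyEtale A B]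
    (D₀ : Type u) [CommRing D₀] [Algebra C₁ D₀] [Algebra A D₀] [IsScalarTower A C₁ D₀]
    [Algebra.FinitePresentation C₁ D₀] [Algebra.FormallyEtale B (B ⊗[C₁] D₀)]
    (q' : Ideal (B ⊗[C₁] D₀)) [q'.IsPrime]
    (hq' : q'.comap (algebraMap A (B ⊗[C₁] D₀)) = maximalIdeal A) :
    EGA4loc.IsEssentiallyEtale A (Localization.AtPrime q') := by
  let T' := B ⊗[C₁] D₀
  let T := Localization.AtPrime q'
  have h1 : IsLocalization (algebraMapSubmonoid D₀ q₁.primeCompl) T' :=
    IsLocalization.tensorRight (R := C₁) (S := D₀) B q₁.primeCompl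
  have h2 : IsLocalization.AtPrime T (q'.comap (algebraMap D₀ T')) :=
    IsLocalization.isLocalization_isLocalization_atPrime_isLocalization
      (algebraMapSubmonoid D₀ q₁.primeCompl) T q'
  have : Algebra.FinitePresentation A D₀ := .trans A C₁ D₀
  have : IsScalarTower A D₀ T' := isScalarTower_aux A C₁ B D₀
  have : IsScalarTower A D₀ T := .to₁₂₄ A D₀ T' T
  have : Algebra.FormallyEtale A T' := .comp A B T'
  have : Algebra.FormallyEtale A T := .comp A T' T
  have h3 : (maximalIdeal T).comap (algebraMap T' T) = q' :=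
    IsLocalization.AtPrime.under_maximalIdeal T q'
  have hm : (maximalIdeal T).comap (algebraMap A T) = maximalIdeal A := by
    rw [IsScalarTower.algebraMap_eq A T' T, ← Ideal.comap_comap, h3, hq']
  exact isEssentiallyEtale_of_isLocalization A D₀ T (q'.comap (algebraMap D₀ T')).primeCompl hm

end Groth.Agent.Lib.Helper18.EssEtale
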