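import Mathlib
import Groth.Prelude.Def_Coh

set_option autoImplicit false

namespace Groth.Agent.Lib.Helper18.HH

open CategoryTheory Limits AlgebraicGeometry Opposite TopologicalSpace Abelian

universe u
variable {X : Scheme.{u}}

/-- the map on underlying abelian sheaves -/
noncomputable abbrev abMap {M N : X.Modules} (f : M ⟶ N) : Coh.toAb M ⟶ Coh.toAb N :=
  (SheafOfModules.toSheaf X.ringCatSheaf).map f

lemma smulAb_naturality {M N : X.Modules} (f : M ⟶ N) (r : Coh.Γtop X) :
    Coh.smulAb M r ≫ abMap f = abMap f ≫ Coh.smulAb N r := by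
  ext U m
  change (f.val.app U).hom (@HSMul.hSMul (X.ringCatSheaf.obj.obj U) (M.val.obj U) (M.val.obj U) _
      (Coh.resTop X U r) m) =
    @HSMul.hSMul (X.ringCatSheaf.obj.obj U) (N.val.obj U) (N.val.obj U) _
      (Coh.resTop X U r) ((f.val.app U).hom m)
  exact (f.val.app U).hom.map_smul _ _

lemma smul_def (M : X.Modules) (n : ℕ) (r : Coh.Γtop X) (x : Coh.HH X M n) :
    r • x = Sheaf.H.map (Coh.smulAb M r) n x := rfl

/-- A morphism of `O_X`-modules induces a `Γ(X, O_X)`-linear map on cohomology. -/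
noncomputable def map {M N : X.Modules} (f : M ⟶ N) (n : ℕ) :
    Coh.HH X M n →ₗ[Coh.Γtop X] Coh.HH X N n where
  toFun := Sheaf.H.map (abMap f) n
  map_add' := map_add _
  map_smul' r x := by
    change Sheaf.H.map (abMap f) n (Sheaf.H.map (Coh.smulAb M r) n x) =
      Sheaf.H.map (Coh.smulAb N r) n (Sheaf.H.map (abMap f) n x)
    rw [← Sheaf.H.map_comp_apply, ← Sheaf.H.map_comp_apply, smulAb_naturality]

lemma map_apply {M N : X.Modules} (f : M ⟶ N) (n : ℕ) (x : Coh.HH X M n) :
    map f n x = Sheaf.H.map (abMap f) n x := rfl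

@[simp] lemma map_id (M : X.Modules) (n : ℕ) : map (𝟙 M) n = LinearMap.id := by
  ext x
  rw [map_apply]
  have : abMap (𝟙 M) = 𝟙 _ := CategoryTheory.Functor.map_id _ _
  rw [this, Sheaf.H.map_id_apply]
  rfl

lemma map_comp {M N P : X.Modules} (f : M ⟶ N) (g : N ⟶ P) (n : ℕ) :
    map (f ≫ g) n = (map g n).comp (map f n) := by
  ext x
  simp only [map_apply, LinearMap.comp_apply]
  rw [← Sheaf.H.map_comp_apply]
  rfl

lemma map_comp_apply {M N P : X.Modules} (f : M ⟶ N) (g : N ⟶ P) (n : ℕ) (x : Coh.HH X M n) :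
    map (f ≫ g) n x = map g n (map f n x) := by
  rw [map_comp]; rfl

lemma map_add {M N : X.Modules} (f g : M ⟶ N) (n : ℕ) : map (f + g) n = map f n + map g n := by
  ext x
  simp only [map_apply, LinearMap.add_apply]
  rw [← Sheaf.H.map_add_apply]
  rfl

lemma map_zero {M N : X.Modules} (n : ℕ) : map (0 : M ⟶ N) n = 0 := by
  have h := map_add (0 : M ⟶ N) 0 n
  rw [add_zero] at h
  exact left_eq_add.mp h ▸ rfl

/-- `H^n(X, -)` as a functor to `Γ(X, O_X)`-modules. -/
noncomputable def functor (X : Scheme.{u}) (n : ℕ) : X.Modules ⥤ ModuleCat.{u} (Coh.Γtop X) where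
  obj M := ModuleCat.of _ (Coh.HH X M n)
  map f := ModuleCat.ofHom (map f n)
  map_id M := by rw [map_id]; rfl
  map_comp f g := by rw [map_comp]; rfl

instance (X : Scheme.{u}) (n : ℕ) : (functor X n).Additive where
  map_add {M N f g} := by
    change ModuleCat.ofHom (map (f + g) n) = ModuleCat.ofHom (map f n) + ModuleCat.ofHom (map g n)
    rw [map_add]; rfl

section Over

variable (A : Type u) [CommRing A] [X.Over (Spec (CommRingCat.of A))]

lemma smul_over_def (M : X.Modules) (n : ℕ) (a : A) (x : Coh.HH X M n) :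
    a • x = Coh.toGlobal (X ↘ Spec (CommRingCat.of A)) a • x := rfl

/-- A `Γ(X, O_X)`-linear map between cohomology groups is `A`-linear. -/
noncomputable def overLin {M N : X.Modules} {m n : ℕ}
    (φ : Coh.HH X M m →ₗ[Coh.Γtop X] Coh.HH X N n) : Coh.HH X M m →ₗ[A] Coh.HH X N n where
  toFun := φ
  map_add' := φ.map_add
  map_smul' a x := φ.map_smul (Coh.toGlobal (X ↘ Spec (CommRingCat.of A)) a) x

@[simp] lemma overLin_apply {M N : X.Modules} {m n : ℕ}
    (φ : Coh.HH X M m →ₗ[Coh.Γtop X] Coh.HH X N n) (x : Coh.HH X M m) :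
    overLin A φ x = φ x := rfl

/-- A morphism of `O_X`-modules induces an `A`-linear map on cohomology. -/
noncomputable def mapOver {M N : X.Modules} (f : M ⟶ N) (n : ℕ) :
    Coh.HH X M n →ₗ[A] Coh.HH X N n := overLin A (map f n)

end Over

end Groth.Agent.Lib.Helper18.HH
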