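import Mathlib
import Groth.Prelude.Def_Coh
import Groth.Agent.Lib.Helper18.HHLin
import Groth.Agent.Lib.Helper21.ModSh

set_option autoImplicit false

namespace Groth.Agent.Lib.Helper18.HH

open CategoryTheory Limits AlgebraicGeometry Opposite TopologicalSpace Abelian

universe w v u

section abstract

variable {C : Type u} [Category.{v} C] [Abelian C] [HasExt.{w} C]

lemma comp_extClass_comp_mk₀ {S₁ S₂ : ShortComplex C} (h₁ : S₁.ShortExact) (h₂ : S₂.ShortExact)
    (φ : S₁ ⟶ S₂) {P : C} {n : ℕ} (x : Ext.{w} P S₁.X₃ n) :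
    (x.comp h₁.extClass rfl).comp (Ext.mk₀ φ.τ₁) (add_zero (n + 1)) =
      (x.comp (Ext.mk₀ φ.τ₃) (add_zero n)).comp h₂.extClass rfl := by
  rw [Ext.comp_assoc_of_third_deg_zero, ShortComplex.ShortExact.extClass_naturality h₁ h₂ φ,
    Ext.comp_assoc_of_second_deg_zero]

end abstract

variable {X : Scheme.{u}}

/-- the forgetful functor to abelian sheaves, typed on `X.Modules` -/
noncomputable abbrev toAbF (X : Scheme.{u}) :
    X.Modules ⥤ Sheaf (Opens.grothendieckTopology X) AddCommGrpCat.{u} :=
  SheafOfModules.toSheaf.{u} X.ringCatSheaf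

instance : (toAbF X).Additive :=
  inferInstanceAs (SheafOfModules.toSheaf.{u} X.ringCatSheaf).Additive

instance : PreservesFiniteLimits (toAbF X) :=
  inferInstanceAs (PreservesFiniteLimits (SheafOfModules.toSheaf.{u} X.ringCatSheaf))

instance : PreservesFiniteColimits (toAbF X) := by
  have h1 := Groth.Agent.Lib.Helper21.ModSh.toSheaf_preservesColimits X.ringCatSheaf
  exact (PreservesColimitsOfSize.preservesFiniteColimits (SheafOfModules.toSheaf.{u} X.ringCatSheaf) :)

/-- the forgetful functor to abelian sheaves preserves short exact sequences -/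
theorem toAb_shortExact {S : ShortComplex X.Modules} (hS : S.ShortExact) :
    (S.map (toAbF X)).ShortExact :=
  hS.map_of_exact (toAbF X)

/-- multiplication by a global function as an endomorphism of the short complex of abelian
sheaves -/
noncomputable def smulSC (S : ShortComplex X.Modules) (r : Coh.Γtop X) :
    S.map (toAbF X) ⟶ S.map (toAbF X) where
  τ₁ := Coh.smulAb S.X₁ r
  τ₂ := Coh.smulAb S.X₂ r
  τ₃ := Coh.smulAb S.X₃ r
  comm₁₂ := smulAb_naturality S.f r
  comm₂₃ := smulAb_naturality S.g r

variable {S : ShortComplex X.Modules} (hS : S.ShortExact)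

/-- the connecting homomorphism -/
noncomputable def δ (n : ℕ) : Coh.HH X S.X₃ n →ₗ[Coh.Γtop X] Coh.HH X S.X₁ (n + 1) where
  toFun x := x.comp (toAb_shortExact hS).extClass rfl
  map_add' x y := Ext.add_comp _ _ _ _
  map_smul' r x := by
    have h := comp_extClass_comp_mk₀.{u, u, u+1} (toAb_shortExact hS) (toAb_shortExact hS) (smulSC S r) x
    simp only [RingHom.id_apply]
    rw [smul_def, smul_def, Sheaf.H.map_apply, Sheaf.H.map_apply]
    exact h.symm


lemma δ_apply (n : ℕ) (x : Coh.HH X S.X₃ n) :
    δ hS n x = x.comp (toAb_shortExact hS).extClass rfl := rfl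

/-- the constant sheaf `ℤ` computing cohomology -/
noncomputable abbrev ZZ (X : Scheme.{u}) : Sheaf (Opens.grothendieckTopology X) AddCommGrpCat.{u} :=
  (constantSheaf (Opens.grothendieckTopology X) AddCommGrpCat.{u}).obj (AddCommGrpCat.of (ULift ℤ))

include hS in
theorem exact₂ (n : ℕ) : Function.Exact (map S.f n) (map S.g n) :=
  (ShortComplex.ab_exact_iff_function_exact _).1
    (Ext.covariant_sequence_exact₂'.{u} (ZZ X) (toAb_shortExact hS) n)

theorem exact₃ (n : ℕ) : Function.Exact (map S.g n) (δ hS n) :=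
  (ShortComplex.ab_exact_iff_function_exact _).1
    (Ext.covariant_sequence_exact₃'.{u} (ZZ X) (toAb_shortExact hS) n (n + 1) rfl)

theorem exact₁ (n : ℕ) : Function.Exact (δ hS n) (map S.f (n + 1)) :=
  (ShortComplex.ab_exact_iff_function_exact _).1
    (Ext.covariant_sequence_exact₁'.{u} (ZZ X) (toAb_shortExact hS) n (n + 1) rfl)

include hS in
theorem injective_map_f_zero : Function.Injective (map S.f 0) := by
  have : Mono ((toAbF X).map S.f) := (toAb_shortExact hS).mono_f
  exact Ext.postcomp_mk₀_injective_of_mono.{u} (ZZ X) ((toAbF X).map S.f)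

section Over

variable (A : Type u) [CommRing A] [X.Over (Spec (CommRingCat.of A))]

/-- the connecting homomorphism, `A`-linear -/
noncomputable def δOver (n : ℕ) : Coh.HH X S.X₃ n →ₗ[A] Coh.HH X S.X₁ (n + 1) :=
  overLin A (δ hS n)

@[simp] lemma δOver_apply (n : ℕ) (x : Coh.HH X S.X₃ n) : δOver hS A n x = δ hS n x := rfl

@[simp] lemma mapOver_apply {M N : X.Modules} (f : M ⟶ N) (n : ℕ) (x : Coh.HH X M n) :
    mapOver A f n x = map f n x := rfl

include hS in
theorem exactOver₂ (n : ℕ) : Function.Exact (mapOver A S.f n) (mapOver A S.g n) := exact₂ hS n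

theorem exactOver₃ (n : ℕ) : Function.Exact (mapOver A S.g n) (δOver hS A n) := exact₃ hS n

theorem exactOver₁ (n : ℕ) : Function.Exact (δOver hS A n) (mapOver A S.f (n + 1)) := exact₁ hS n

include hS in
theorem injective_mapOver_f_zero : Function.Injective (mapOver A S.f 0) := injective_map_f_zero hS

end Over

end Groth.Agent.Lib.Helper18.HH
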