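import Mathlib
import Groth.Prelude.Def_Coh
import Groth.Prelude.Def_CohTop
import Groth.Agent.Lib.Helper18.HHLin
import Groth.Agent.Lib.Helper27.PullConst
import Groth.Agent.Lib.Helper27.RpushVanish

set_option autoImplicit false

namespace Groth.Agent.Lib.Helper18.HH

open CategoryTheory Limits AlgebraicGeometry Opposite TopologicalSpace Abelian
open Groth.Agent.Lib.helper27

universe u
variable {X S : Scheme.{u}} (f : X ⟶ S)

/-- the underlying abelian sheaf of a pushforward is the pushforward of the underlying sheaf -/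
lemma toAb_push (M : X.Modules) :
    Coh.toAb ((Coh.push f).obj M) = (Coh.pushAb f).obj (Coh.toAb M) := rfl

/-- `f^♯` on global functions, typed on `Coh.Γtop` -/
noncomputable def appTopΓ : Coh.Γtop S →+* Coh.Γtop X := f.appTop.hom

/-- scalar multiplication on a pushforward -/
lemma smulAb_push (M : X.Modules) (s : Coh.Γtop S) :
    Coh.smulAb ((Coh.push f).obj M) s = (Coh.pushAb f).map (Coh.smulAb M (appTopΓ f s)) := by
  ext U m
  rw [Coh.smulAb_app]
  change _ = (Coh.smulAb M (appTopΓ f s)).hom.app (op ((Opens.map f.base).obj U.unop)) m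
  rw [Coh.smulAb_app]
  have key : (f.app U.unop).hom (Coh.resTop S U s) =
      Coh.resTop X (op ((Opens.map f.base).obj (unop U))) (appTopΓ f s) := by
    have h := f.naturality (homOfLE (le_top (a := U.unop))).op
    exact congrArg (fun φ => φ.hom s) h
  rw [← key]
  rfl

section affine

variable [IsAffineHom f] (M : X.Modules) [M.IsQuasicoherent]

lemma acyclic_push (i : ℕ) (hi : 0 < i) :
    IsZero (((CohTop.push f.base).rightDerived i).obj (Coh.toAb M)) := by
  obtain ⟨j, rfl⟩ : ∃ j, i = j + 1 := ⟨i - 1, by omega⟩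
  exact RpushVanish.isZero_RpushAb f M j

/-- the constant sheaf `ℤ` -/
noncomputable abbrev ZZ' (X : Scheme.{u}) : Sheaf (Opens.grothendieckTopology X) AddCommGrpCat.{u} :=
  (constantSheaf (Opens.grothendieckTopology X) AddCommGrpCat.{u}).obj (AddCommGrpCat.of (ULift ℤ))

/-- `H^p(S, f_* M) ≃ H^p(X, M)` for an affine morphism `f` and quasi-coherent `M` (additive) -/
noncomputable def pushEquivAdd (p : ℕ) : Coh.HH S ((Coh.push f).obj M) p ≃+ Coh.HH X M p :=
  (ExtAdj.extAddEquiv.{u, u} (PullConst.pbAdj f.base) (ZZ' S) (Coh.toAb M)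
      (acyclic_push f M) p).trans
    (ExtAdj.extIsoLeft.{u} ((PullConst.pullConstIso f.base).app (AddCommGrpCat.of (ULift ℤ)))
      (Coh.toAb M) p)

lemma pushEquivAdd_apply (p : ℕ) (x : Coh.HH S ((Coh.push f).obj M) p) :
    pushEquivAdd f M p x =
      (Ext.mk₀ ((PullConst.pullConstIso f.base).app (AddCommGrpCat.of (ULift ℤ))).inv).comp
        (ExtAdj.Ψ (PullConst.pbAdj f.base) (ZZ' S) (Coh.toAb M) p x) (zero_add p) := rfl

lemma pushEquivAdd_natural {M' : X.Modules} [M'.IsQuasicoherent] (φ : Coh.toAb M ⟶ Coh.toAb M')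
    (p : ℕ) (x : Coh.HH S ((Coh.push f).obj M) p) :
    pushEquivAdd f M' p (Sheaf.H.map ((Coh.pushAb f).map φ) p x) =
      Sheaf.H.map φ p (pushEquivAdd f M p x) := by
  rw [pushEquivAdd_apply, pushEquivAdd_apply, Sheaf.H.map_apply, Sheaf.H.map_apply]
  have h := ExtAdj.Ψ_natural (PullConst.pbAdj f.base) (ZZ' S) φ p x
  erw [h]
  rw [Ext.comp_assoc_of_third_deg_zero]

/-- semilinearity: the isomorphism intertwines `s ∈ Γ(S, O_S)` with `f^♯ s ∈ Γ(X, O_X)` -/
lemma pushEquivAdd_smul (p : ℕ) (s : Coh.Γtop S) (x : Coh.HH S ((Coh.push f).obj M) p) :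
    pushEquivAdd f M p (s • x) = appTopΓ f s • pushEquivAdd f M p x := by
  rw [smul_def, smul_def, smulAb_push]
  exact pushEquivAdd_natural f M (Coh.smulAb M (appTopΓ f s)) p x

section Over

variable (A : Type u) [CommRing A] [X.Over (Spec (CommRingCat.of A))]
  [S.Over (Spec (CommRingCat.of A))] [f.IsOver (Spec (CommRingCat.of A))]

omit [IsAffineHom f] in
lemma toGlobal_comp (a : A) :
    Coh.toGlobal (X ↘ Spec (CommRingCat.of A)) a =
      appTopΓ f (Coh.toGlobal (S ↘ Spec (CommRingCat.of A)) a) := by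
  have h : f ≫ (S ↘ Spec (CommRingCat.of A)) = X ↘ Spec (CommRingCat.of A) :=
    CategoryTheory.comp_over f (Spec (CommRingCat.of A))
  unfold Coh.toGlobal
  rw [← h]
  rfl

/-- `H^p(S, f_* M) ≃ H^p(X, M)`, `A`-linearly, for an affine morphism `f` of schemes over `Spec A`
and quasi-coherent `M` -/
noncomputable def pushEquivOver (p : ℕ) : Coh.HH S ((Coh.push f).obj M) p ≃ₗ[A] Coh.HH X M p :=
  { pushEquivAdd f M p with
    map_smul' := fun a x => by
      change pushEquivAdd f M p (Coh.toGlobal (S ↘ Spec (CommRingCat.of A)) a • x) =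
        Coh.toGlobal (X ↘ Spec (CommRingCat.of A)) a • pushEquivAdd f M p x
      rw [pushEquivAdd_smul, toGlobal_comp f A a] }

lemma finite_iff_push (p : ℕ) :
    Module.Finite A (Coh.HH X M p) ↔ Module.Finite A (Coh.HH S ((Coh.push f).obj M) p) :=
  ⟨fun _ => Module.Finite.equiv (pushEquivOver f M A p).symm,
    fun _ => Module.Finite.equiv (pushEquivOver f M A p)⟩

lemma finrank_push (p : ℕ) :
    Module.finrank A (Coh.HH S ((Coh.push f).obj M) p) = Module.finrank A (Coh.HH X M p) :=
  (pushEquivOver f M A p).finrank_eq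

end Over

lemma subsingleton_iff_push (p : ℕ) :
    Subsingleton (Coh.HH X M p) ↔ Subsingleton (Coh.HH S ((Coh.push f).obj M) p) :=
  (pushEquivAdd f M p).symm.toEquiv.subsingleton_congr

end affine

end Groth.Agent.Lib.Helper18.HH
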