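import Mathlib
import Groth.Prelude.Def_Coh
import Groth.Agent.Lib.Helper18.HHLES

set_option autoImplicit false

namespace Groth.Agent.Lib.Helper18.HH

open CategoryTheory Limits AlgebraicGeometry Opposite TopologicalSpace Abelian

universe u
variable {X : Scheme.{u}} {S : ShortComplex X.Modules} (hS : S.ShortExact)

include hS

theorem subsingleton_X₂ (n : ℕ) (h₁ : Subsingleton (Coh.HH X S.X₁ n))
    (h₃ : Subsingleton (Coh.HH X S.X₃ n)) : Subsingleton (Coh.HH X S.X₂ n) := by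
  refine ⟨fun x y => ?_⟩
  obtain ⟨a, ha⟩ := (exact₂ hS n x).1 (Subsingleton.elim _ _)
  obtain ⟨b, hb⟩ := (exact₂ hS n y).1 (Subsingleton.elim _ _)
  rw [← ha, ← hb, Subsingleton.elim a b]

theorem subsingleton_X₃ (n : ℕ) (h₂ : Subsingleton (Coh.HH X S.X₂ n))
    (h₁ : Subsingleton (Coh.HH X S.X₁ (n + 1))) : Subsingleton (Coh.HH X S.X₃ n) := by
  refine ⟨fun x y => ?_⟩
  obtain ⟨a, ha⟩ := (exact₃ hS n x).1 (Subsingleton.elim _ _)
  obtain ⟨b, hb⟩ := (exact₃ hS n y).1 (Subsingleton.elim _ _)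
  rw [← ha, ← hb, Subsingleton.elim a b]

theorem subsingleton_X₁_succ (n : ℕ) (h₃ : Subsingleton (Coh.HH X S.X₃ n))
    (h₂ : Subsingleton (Coh.HH X S.X₂ (n + 1))) : Subsingleton (Coh.HH X S.X₁ (n + 1)) := by
  refine ⟨fun x y => ?_⟩
  obtain ⟨a, ha⟩ := (exact₁ hS n x).1 (Subsingleton.elim _ _)
  obtain ⟨b, hb⟩ := (exact₁ hS n y).1 (Subsingleton.elim _ _)
  rw [← ha, ← hb, Subsingleton.elim a b]

theorem subsingleton_X₁_zero (h₂ : Subsingleton (Coh.HH X S.X₂ 0)) :
    Subsingleton (Coh.HH X S.X₁ 0) :=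
  (injective_map_f_zero hS).subsingleton

theorem surjective_map_g (n : ℕ) (h₁ : Subsingleton (Coh.HH X S.X₁ (n + 1))) :
    Function.Surjective (map S.g n) := fun x =>
  (exact₃ hS n x).1 (Subsingleton.elim _ _)

theorem injective_map_f_succ (n : ℕ) (h₃ : Subsingleton (Coh.HH X S.X₃ n)) :
    Function.Injective (map S.f (n + 1)) := by
  rw [injective_iff_map_eq_zero]
  intro x hx
  obtain ⟨a, ha⟩ := (exact₁ hS n x).1 hx
  rw [← ha, Subsingleton.elim a 0, _root_.map_zero]

theorem injective_map_g (n : ℕ) (h₁ : Subsingleton (Coh.HH X S.X₁ n)) :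
    Function.Injective (map S.g n) := by
  rw [injective_iff_map_eq_zero]
  intro x hx
  obtain ⟨a, ha⟩ := (exact₂ hS n x).1 hx
  rw [← ha, Subsingleton.elim a 0, _root_.map_zero]

theorem surjective_map_f (n : ℕ) (h₃ : Subsingleton (Coh.HH X S.X₃ n)) :
    Function.Surjective (map S.f n) := fun x =>
  (exact₂ hS n x).1 (Subsingleton.elim _ _)

theorem injective_δ (n : ℕ) (h₂ : Subsingleton (Coh.HH X S.X₂ n)) :
    Function.Injective (δ hS n) := by
  rw [injective_iff_map_eq_zero]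
  intro x hx
  obtain ⟨a, ha⟩ := (exact₃ hS n x).1 hx
  rw [← ha, Subsingleton.elim a 0, _root_.map_zero]

theorem surjective_δ (n : ℕ) (h₂ : Subsingleton (Coh.HH X S.X₂ (n + 1))) :
    Function.Surjective (δ hS n) := fun x =>
  (exact₁ hS n x).1 (Subsingleton.elim _ _)

/-- if `H^n` and `H^{n+1}` of the middle term vanish, `δ` is an isomorphism -/
noncomputable def δEquiv (n : ℕ) (h₂ : Subsingleton (Coh.HH X S.X₂ n))
    (h₂' : Subsingleton (Coh.HH X S.X₂ (n + 1))) :
    Coh.HH X S.X₃ n ≃ₗ[Coh.Γtop X] Coh.HH X S.X₁ (n + 1) :=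
  LinearEquiv.ofBijective (δ hS n) ⟨injective_δ hS n h₂, surjective_δ hS n h₂'⟩

/-- if `H^n` and `H^{n+1}` of the kernel vanish, `g` induces an isomorphism on `H^n` -/
noncomputable def mapGEquiv (n : ℕ) (h₁ : Subsingleton (Coh.HH X S.X₁ n))
    (h₁' : Subsingleton (Coh.HH X S.X₁ (n + 1))) :
    Coh.HH X S.X₂ n ≃ₗ[Coh.Γtop X] Coh.HH X S.X₃ n :=
  LinearEquiv.ofBijective (map S.g n) ⟨injective_map_g hS n h₁, surjective_map_g hS n h₁'⟩

/-- if `H^n` and `H^{n+1}` of the cokernel vanish, `f` induces an isomorphism on `H^{n+1}` -/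
noncomputable def mapFEquiv_succ (n : ℕ) (h₃ : Subsingleton (Coh.HH X S.X₃ n))
    (h₃' : Subsingleton (Coh.HH X S.X₃ (n + 1))) :
    Coh.HH X S.X₁ (n + 1) ≃ₗ[Coh.Γtop X] Coh.HH X S.X₂ (n + 1) :=
  LinearEquiv.ofBijective (map S.f (n + 1))
    ⟨injective_map_f_succ hS n h₃, surjective_map_f hS (n + 1) h₃'⟩

/-- if `H^0` of the cokernel vanishes, `f` induces an isomorphism on `H^0` -/
noncomputable def mapFEquiv_zero (h₃ : Subsingleton (Coh.HH X S.X₃ 0)) :
    Coh.HH X S.X₁ 0 ≃ₗ[Coh.Γtop X] Coh.HH X S.X₂ 0 :=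
  LinearEquiv.ofBijective (map S.f 0) ⟨injective_map_f_zero hS, surjective_map_f hS 0 h₃⟩

omit hS in
/-- middle term of an exact sequence of modules over a Noetherian ring is finite if the outer
terms are -/
lemma _root_.Module.Finite.of_exact_of_isNoetherianRing {A V₁ V₂ V₃ : Type*} [CommRing A]
    [IsNoetherianRing A] [AddCommGroup V₁] [AddCommGroup V₂] [AddCommGroup V₃] [Module A V₁]
    [Module A V₂] [Module A V₃] (f : V₁ →ₗ[A] V₂) (g : V₂ →ₗ[A] V₃) (h : Function.Exact f g)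
    [Module.Finite A V₁] [Module.Finite A V₃] : Module.Finite A V₂ := by
  have : IsNoetherian A V₃ := isNoetherian_of_isNoetherianRing_of_finite A V₃
  have : Module.Finite A (LinearMap.range g) := Module.Finite.of_fg (IsNoetherian.noetherian _)
  have h' : Function.Exact f g.rangeRestrict := by
    intro y
    rw [← h y]
    constructor
    · intro hy
      simpa using congrArg Subtype.val hy
    · intro hy
      ext
      simpa using hy
  exact Module.Finite.of_exact h' g.surjective_rangeRestrict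

section Over

variable (A : Type u) [CommRing A] [X.Over (Spec (CommRingCat.of A))] [IsNoetherianRing A]

theorem finite_X₂ (n : ℕ) (h₁ : Module.Finite A (Coh.HH X S.X₁ n))
    (h₃ : Module.Finite A (Coh.HH X S.X₃ n)) : Module.Finite A (Coh.HH X S.X₂ n) :=
  Module.Finite.of_exact_of_isNoetherianRing _ _ (exactOver₂ hS A n)

theorem finite_X₃ (n : ℕ) (h₂ : Module.Finite A (Coh.HH X S.X₂ n))
    (h₁ : Module.Finite A (Coh.HH X S.X₁ (n + 1))) : Module.Finite A (Coh.HH X S.X₃ n) :=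
  Module.Finite.of_exact_of_isNoetherianRing _ _ (exactOver₃ hS A n)

theorem finite_X₁_succ (n : ℕ) (h₃ : Module.Finite A (Coh.HH X S.X₃ n))
    (h₂ : Module.Finite A (Coh.HH X S.X₂ (n + 1))) : Module.Finite A (Coh.HH X S.X₁ (n + 1)) :=
  Module.Finite.of_exact_of_isNoetherianRing _ _ (exactOver₁ hS A n)

theorem finite_X₁_zero (h₂ : Module.Finite A (Coh.HH X S.X₂ 0)) :
    Module.Finite A (Coh.HH X S.X₁ 0) := by
  have : IsNoetherian A (Coh.HH X S.X₂ 0) := isNoetherian_of_isNoetherianRing_of_finite A _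
  exact Module.Finite.of_injective (mapOver A S.f 0) (injective_mapOver_f_zero hS A)

end Over

end Groth.Agent.Lib.Helper18.HH
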