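import Mathlib

set_option autoImplicit false

namespace Groth.Agent.Lib.Helper18.HH

open Module

universe v

/-- alternating sums of dimensions along a long exact sequence
`0 → A₀ → B₀ → C₀ → A₁ → B₁ → C₁ → ⋯` with `A_{N+1} = 0` -/
theorem alternating_sum_of_exact {k : Type*} [Field k]
    {A B C : ℕ → Type v} [∀ i, AddCommGroup (A i)] [∀ i, Module k (A i)]
    [∀ i, AddCommGroup (B i)] [∀ i, Module k (B i)]
    [∀ i, AddCommGroup (C i)] [∀ i, Module k (C i)]
    (f : ∀ i, A i →ₗ[k] B i) (g : ∀ i, B i →ₗ[k] C i) (d : ∀ i, C i →ₗ[k] A (i + 1))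
    (hf0 : Function.Injective (f 0))
    (h₂ : ∀ i, Function.Exact (f i) (g i)) (h₃ : ∀ i, Function.Exact (g i) (d i))
    (h₁ : ∀ i, Function.Exact (d i) (f (i + 1)))
    [∀ i, Module.Finite k (A i)] [∀ i, Module.Finite k (B i)] [∀ i, Module.Finite k (C i)]
    (N : ℕ) (hN : Subsingleton (A (N + 1))) :
    ∑ i ∈ Finset.range (N + 1), (-1 : ℤ) ^ i * (finrank k (B i) : ℤ) =
      ∑ i ∈ Finset.range (N + 1), (-1 : ℤ) ^ i * (finrank k (A i) : ℤ) +
      ∑ i ∈ Finset.range (N + 1), (-1 : ℤ) ^ i * (finrank k (C i) : ℤ) := by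
  -- ranks
  set rf : ℕ → ℤ := fun i => (finrank k (LinearMap.range (f i)) : ℤ) with hrf
  set rg : ℕ → ℤ := fun i => (finrank k (LinearMap.range (g i)) : ℤ) with hrg
  set rd : ℕ → ℤ := fun i => (finrank k (LinearMap.range (d i)) : ℤ) with hrd
  have hB : ∀ i, (finrank k (B i) : ℤ) = rf i + rg i := by
    intro i
    have := LinearMap.finrank_range_add_finrank_ker (g i)
    rw [(LinearMap.exact_iff.1 (h₂ i))] at this
    simp only [hrf, hrg]
    omega
  have hC : ∀ i, (finrank k (C i) : ℤ) = rg i + rd i := by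
    intro i
    have := LinearMap.finrank_range_add_finrank_ker (d i)
    rw [(LinearMap.exact_iff.1 (h₃ i))] at this
    simp only [hrd, hrg]
    omega
  have hA : ∀ i, (finrank k (A (i + 1)) : ℤ) = rd i + rf (i + 1) := by
    intro i
    have := LinearMap.finrank_range_add_finrank_ker (f (i + 1))
    rw [(LinearMap.exact_iff.1 (h₁ i))] at this
    simp only [hrd, hrf]
    omega
  have hA0 : (finrank k (A 0) : ℤ) = rf 0 := by
    have := LinearMap.finrank_range_add_finrank_ker (f 0)
    rw [LinearMap.ker_eq_bot.2 hf0, finrank_bot] at this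
    simp only [hrf]
    omega
  have hdN : rd N = 0 := by
    simp only [hrd]
    have : finrank k (LinearMap.range (d N)) = 0 := by
      have := Submodule.finrank_le (LinearMap.range (d N))
      have h0 : finrank k (A (N + 1)) = 0 := finrank_zero_of_subsingleton
      omega
    rw [this]; rfl
  -- key telescoping identity
  have key : ∀ M : ℕ, ∑ i ∈ Finset.range (M + 1), (-1 : ℤ) ^ i *
      ((finrank k (B i) : ℤ) - (finrank k (A i) : ℤ) - (finrank k (C i) : ℤ)) =
      -((-1 : ℤ) ^ M * rd M) := by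
    intro M
    induction M with
    | zero =>
      rw [Finset.sum_range_one, hB, hC, hA0]
      ring
    | succ M ih =>
      rw [Finset.sum_range_succ, ih, hB, hC, hA]
      ring
  have h := key N
  rw [hdN] at h
  simp only [mul_sub, Finset.sum_sub_distrib] at h
  linarith

end Groth.Agent.Lib.Helper18.HH
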