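import Mathlib
import Groth.Prelude.Def_Coh
import Groth.Prelude.Def_CurvBase
import Groth.Prelude.Def_FGA
import Groth.Agent.Lib.Helper18.HHConseq
import Groth.Agent.Lib.Helper18.HHAlt

set_option autoImplicit false

namespace Groth.Agent.Lib.Helper18.HH

open CategoryTheory Limits AlgebraicGeometry Opposite TopologicalSpace Abelian Module

universe u
variable {X : Scheme.{u}} (k : Type u) [Field k] [X.Over (Spec (CommRingCat.of k))]

/-- the Euler characteristic as a finite sum, when cohomology vanishes above `N` -/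
theorem euler_eq_sum (F : X.Modules) (N : ℕ) (hN : ∀ i, N < i → Subsingleton (Coh.HH X F i)) :
    Curv2.euler k X F =
      ∑ i ∈ Finset.range (N + 1), (-1 : ℤ) ^ i * (finrank k (Coh.HH X F i) : ℤ) := by
  unfold Curv2.euler
  apply finsum_eq_sum_of_support_subset
  intro i hi
  simp only [Function.mem_support, ne_eq] at hi
  simp only [Finset.coe_range, Set.mem_Iio]
  by_contra hlt
  have : Subsingleton (Coh.HH X F i) := hN i (by omega)
  apply hi
  rw [finrank_zero_of_subsingleton]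
  simp

theorem euler_eq_eulerCharLE (F : X.Modules) (N : ℕ)
    (hN : ∀ i, N < i → Subsingleton (Coh.HH X F i)) :
    Curv2.euler k X F = FGA.eulerCharLE k X F N :=
  euler_eq_sum k F N hN

variable {S : ShortComplex X.Modules} (hS : S.ShortExact)

include hS in
/-- additivity of the truncated Euler characteristic -/
theorem eulerCharLE_additive
    (hfin₁ : ∀ i, Module.Finite k (Coh.HH X S.X₁ i)) (hfin₃ : ∀ i, Module.Finite k (Coh.HH X S.X₃ i))
    (N : ℕ) (hN₁ : Subsingleton (Coh.HH X S.X₁ (N + 1))) :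
    FGA.eulerCharLE k X S.X₂ N = FGA.eulerCharLE k X S.X₁ N + FGA.eulerCharLE k X S.X₃ N := by
  have hfin₂ : ∀ i, Module.Finite k (Coh.HH X S.X₂ i) := fun i =>
    finite_X₂ hS k i (hfin₁ i) (hfin₃ i)
  exact alternating_sum_of_exact (k := k) (A := fun i => Coh.HH X S.X₁ i)
    (B := fun i => Coh.HH X S.X₂ i) (C := fun i => Coh.HH X S.X₃ i)
    (fun i => mapOver k S.f i) (fun i => mapOver k S.g i) (fun i => δOver hS k i)
    (injective_mapOver_f_zero hS k) (fun i => exactOver₂ hS k i) (fun i => exactOver₃ hS k i)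
    (fun i => exactOver₁ hS k i) N hN₁

include hS in
/-- additivity of the Euler characteristic, given finite-dimensionality and vanishing in high
degrees of the cohomology of the outer terms -/
theorem euler_additive
    (hfin₁ : ∀ i, Module.Finite k (Coh.HH X S.X₁ i)) (hfin₃ : ∀ i, Module.Finite k (Coh.HH X S.X₃ i))
    (N : ℕ) (hN₁ : ∀ i, N < i → Subsingleton (Coh.HH X S.X₁ i))
    (hN₃ : ∀ i, N < i → Subsingleton (Coh.HH X S.X₃ i)) :
    Curv2.euler k X S.X₂ = Curv2.euler k X S.X₁ + Curv2.euler k X S.X₃ := by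
  have hN₂ : ∀ i, N < i → Subsingleton (Coh.HH X S.X₂ i) := fun i hi =>
    subsingleton_X₂ hS i (hN₁ i hi) (hN₃ i hi)
  rw [euler_eq_eulerCharLE k S.X₁ N hN₁, euler_eq_eulerCharLE k S.X₂ N hN₂,
    euler_eq_eulerCharLE k S.X₃ N hN₃]
  exact eulerCharLE_additive k hS hfin₁ hfin₃ N (hN₁ _ (Nat.lt_succ_self N))

include hS in
/-- additivity of the degree `χ(E) - rk(E) χ(O)` -/
theorem deg_additive
    (hfin₁ : ∀ i, Module.Finite k (Coh.HH X S.X₁ i)) (hfin₃ : ∀ i, Module.Finite k (Coh.HH X S.X₃ i))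
    (N : ℕ) (hN₁ : ∀ i, N < i → Subsingleton (Coh.HH X S.X₁ i))
    (hN₃ : ∀ i, N < i → Subsingleton (Coh.HH X S.X₃ i)) (n₁ n₂ n₃ : ℕ) (hn : n₂ = n₁ + n₃) :
    Curv2.deg k X S.X₂ n₂ = Curv2.deg k X S.X₁ n₁ + Curv2.deg k X S.X₃ n₃ := by
  unfold Curv2.deg
  rw [euler_additive k hS hfin₁ hfin₃ N hN₁ hN₃, hn]
  push_cast
  ring

end Groth.Agent.Lib.Helper18.HH
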