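import Mathlib
import Groth.Prelude.Def_Coh
import Groth.Agent.Lib.Helper18.HHLin

set_option autoImplicit false

namespace Groth.Agent.Lib.Helper18.HH

open CategoryTheory Limits AlgebraicGeometry Opposite TopologicalSpace Abelian

universe u
variable {X : Scheme.{u}}

/-- `f ↦ H^n(f)` as an additive map -/
noncomputable def mapHom (M N : X.Modules) (n : ℕ) :
    (M ⟶ N) →+ (Coh.HH X M n →ₗ[Coh.Γtop X] Coh.HH X N n) where
  toFun f := map f n
  map_zero' := map_zero n
  map_add' f g := map_add f g n

lemma map_sum {ι : Type*} (s : Finset ι) {M N : X.Modules} (f : ι → (M ⟶ N)) (n : ℕ) :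
    map (∑ i ∈ s, f i) n = ∑ i ∈ s, map (f i) n :=
  _root_.map_sum (mapHom M N n) f s

/-- isomorphic modules have isomorphic cohomology -/
noncomputable def isoEquiv {M N : X.Modules} (e : M ≅ N) (n : ℕ) :
    Coh.HH X M n ≃ₗ[Coh.Γtop X] Coh.HH X N n :=
  LinearEquiv.ofLinearMap (map e.hom n) (map e.inv n)
    (by rw [← map_comp, e.inv_hom_id, map_id])
    (by rw [← map_comp, e.hom_inv_id, map_id])

@[simp] lemma isoEquiv_apply {M N : X.Modules} (e : M ≅ N) (n : ℕ) (x : Coh.HH X M n) :
    isoEquiv e n x = map e.hom n x := rfl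

@[simp] lemma isoEquiv_symm_apply {M N : X.Modules} (e : M ≅ N) (n : ℕ) (x : Coh.HH X N n) :
    (isoEquiv e n).symm x = map e.inv n x := rfl

/-- cohomology of a finite bilimit bicone -/
noncomputable def biconeEquiv {ι : Type*} [Fintype ι] [DecidableEq ι] {M : ι → X.Modules}
    (b : Bicone M) (hb : b.IsBilimit) (n : ℕ) :
    Coh.HH X b.pt n ≃ₗ[Coh.Γtop X] (∀ i, Coh.HH X (M i) n) where
  toFun x i := map (b.π i) n x
  map_add' x y := by ext i; simp
  map_smul' r x := by ext i; simp
  invFun y := ∑ i, map (b.ι i) n (y i)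
  left_inv x := by
    simp only [← map_comp_apply]
    rw [← LinearMap.sum_apply, ← map_sum, Limits.IsBilimit.total hb, map_id]
    rfl
  right_inv y := by
    ext j
    simp only [_root_.map_sum, ← map_comp_apply]
    rw [Finset.sum_eq_single j]
    · rw [b.ι_π, dif_pos rfl]
      simp
    · intro i _ hij
      rw [b.ι_π, dif_neg hij, map_zero]; rfl
    · intro h; exact absurd (Finset.mem_univ j) h

/-- cohomology of a finite coproduct -/
noncomputable def sigmaEquiv {ι : Type*} [Fintype ι] [DecidableEq ι] (M : ι → X.Modules)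
    [HasCoproduct M] (n : ℕ) :
    Coh.HH X (∐ M) n ≃ₗ[Coh.Γtop X] (∀ i, Coh.HH X (M i) n) :=
  biconeEquiv (Bicone.ofColimitCocone (colimit.isColimit (Discrete.functor M)))
    (biconeIsBilimitOfColimitCoconeOfIsColimit (colimit.isColimit (Discrete.functor M))) n

/-- cohomology of a binary biproduct -/
noncomputable def biprodEquiv (M N : X.Modules) (n : ℕ) :
    Coh.HH X (M ⊞ N) n ≃ₗ[Coh.Γtop X] (Coh.HH X M n × Coh.HH X N n) where
  toFun x := (map biprod.fst n x, map biprod.snd n x)
  map_add' x y := by simp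
  map_smul' r x := by simp
  invFun y := map biprod.inl n y.1 + map biprod.inr n y.2
  left_inv x := by
    simp only [← map_comp_apply]
    rw [← LinearMap.add_apply, ← map_add, biprod.total, map_id]
    rfl
  right_inv y := by
    ext
    · simp only [_root_.map_add, ← map_comp_apply]
      rw [biprod.inl_fst, biprod.inr_fst, map_id, map_zero]
      simp
    · simp only [_root_.map_add, ← map_comp_apply]
      rw [biprod.inl_snd, biprod.inr_snd, map_id, map_zero]
      simp

noncomputable example (r : ℕ) (M : Fin r → X.Modules) (n : ℕ) :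
    Coh.HH X (∐ M) n ≃ₗ[Coh.Γtop X] (∀ i, Coh.HH X (M i) n) := sigmaEquiv M n

end Groth.Agent.Lib.Helper18.HH
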