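import Mathlib
import Groth.Prelude.Def_Coh
import Groth.Agent.Lib.Helper18.HHSum0

set_option autoImplicit false

namespace Groth.Agent.Lib.Helper18.HH

open CategoryTheory Limits AlgebraicGeometry Opposite TopologicalSpace Abelian

universe u
variable {X : Scheme.{u}}

section Over

variable (A : Type u) [CommRing A] [X.Over (Spec (CommRingCat.of A))]

/-- upgrade a `Γ(X, O_X)`-linear equivalence to an `A`-linear one, when the `A`-module structures
are induced through `A → Γ(X, O_X)` -/
noncomputable def overEquivGen {V W : Type*} [AddCommMonoid V] [AddCommMonoid W]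
    [Module (Coh.Γtop X) V] [Module (Coh.Γtop X) W] [Module A V] [Module A W]
    (hV : ∀ (a : A) (v : V), a • v = Coh.toGlobal (X ↘ Spec (CommRingCat.of A)) a • v)
    (hW : ∀ (a : A) (w : W), a • w = Coh.toGlobal (X ↘ Spec (CommRingCat.of A)) a • w)
    (e : V ≃ₗ[Coh.Γtop X] W) : V ≃ₗ[A] W :=
  { e.toAddEquiv with
    map_smul' := fun a v => by
      change e (a • v) = a • e v
      rw [hV, hW, e.map_smul] }

/-- upgrade a `Γ(X, O_X)`-linear equivalence of cohomology groups to an `A`-linear one -/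
noncomputable def overEquiv {M N : X.Modules} {m n : ℕ}
    (e : Coh.HH X M m ≃ₗ[Coh.Γtop X] Coh.HH X N n) : Coh.HH X M m ≃ₗ[A] Coh.HH X N n :=
  overEquivGen A (fun _ _ => rfl) (fun _ _ => rfl) e

@[simp] lemma overEquiv_apply {M N : X.Modules} {m n : ℕ}
    (e : Coh.HH X M m ≃ₗ[Coh.Γtop X] Coh.HH X N n) (x : Coh.HH X M m) :
    overEquiv A e x = e x := rfl

/-- isomorphic modules have `A`-linearly isomorphic cohomology -/
noncomputable def isoEquivOver {M N : X.Modules} (e : M ≅ N) (n : ℕ) :
    Coh.HH X M n ≃ₗ[A] Coh.HH X N n := overEquiv A (isoEquiv e n)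

/-- cohomology of a finite coproduct, `A`-linear -/
noncomputable def sigmaEquivOver {ι : Type*} [Fintype ι] [DecidableEq ι] (M : ι → X.Modules)
    [HasCoproduct M] (n : ℕ) : Coh.HH X (∐ M) n ≃ₗ[A] (∀ i, Coh.HH X (M i) n) :=
  overEquivGen A (fun _ _ => rfl) (fun _ _ => rfl) (sigmaEquiv M n)

/-- cohomology of a binary biproduct, `A`-linear -/
noncomputable def biprodEquivOver (M N : X.Modules) (n : ℕ) :
    Coh.HH X (M ⊞ N) n ≃ₗ[A] (Coh.HH X M n × Coh.HH X N n) :=
  overEquivGen A (fun _ _ => rfl) (fun _ _ => rfl) (biprodEquiv M N n)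

end Over

end Groth.Agent.Lib.Helper18.HH
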