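import Mathlib
import Groth.Prelude.Def_Coh
import Groth.Agent.Lib.Helper18.HHLin

set_option autoImplicit false

namespace Groth.Agent.Lib.Helper18.HH

open CategoryTheory Limits AlgebraicGeometry Opposite TopologicalSpace Abelian

universe u
variable {X : Scheme.{u}}

lemma resTop_top (r : Coh.Γtop X) : Coh.resTop X (op ⊤) r = r := by
  change (X.ringCatSheaf.obj.map (𝟙 (op (⊤ : Opens X)))).hom r = r
  rw [X.ringCatSheaf.obj.map_id]
  rfl

/-- `H⁰(X, M) ≃ Γ(X, M)`, linear over global functions. -/
noncomputable def equiv₀ (M : X.Modules) : Coh.HH X M 0 ≃ₗ[Coh.Γtop X] M.val.obj (op ⊤) :=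
  { (Sheaf.H.equiv₀ (Coh.toAb M) (isTerminalTop (α := Opens X))) with
    map_smul' := fun r x => by
      have h := Sheaf.H.equiv₀_naturality (hT := isTerminalTop (α := Opens X)) (Coh.smulAb M r) x
      simp only [RingHom.id_apply]
      rw [smul_def]
      refine h.symm.trans ?_
      rw [Coh.smulAb_app, resTop_top]
      rfl }

lemma equiv₀_apply (M : X.Modules) (x : Coh.HH X M 0) :
    equiv₀ M x = Sheaf.H.equiv₀ (Coh.toAb M) (isTerminalTop (α := Opens X)) x := rfl

lemma equiv₀_naturality {M N : X.Modules} (f : M ⟶ N) (x : Coh.HH X M 0) :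
    equiv₀ N (map f 0 x) = (f.val.app (op ⊤)).hom (equiv₀ M x) :=
  (Sheaf.H.equiv₀_naturality (hT := isTerminalTop (α := Opens X)) (abMap f) x).symm

lemma equiv₀_symm_naturality {M N : X.Modules} (f : M ⟶ N) (s : M.val.obj (op ⊤)) :
    map f 0 ((equiv₀ M).symm s) = (equiv₀ N).symm ((f.val.app (op ⊤)).hom s) := by
  apply (equiv₀ N).injective
  rw [equiv₀_naturality, LinearEquiv.apply_symm_apply, LinearEquiv.apply_symm_apply]

section Over

variable (A : Type u) [CommRing A] [X.Over (Spec (CommRingCat.of A))]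

/-- the `A`-module structure on global sections of an `O_X`-module, for `X` over `Spec A`
(not an instance; use `letI`/`attribute [local instance]`) -/
@[reducible] noncomputable def sectionsModuleOver (M : X.Modules) : Module A (M.val.obj (op ⊤)) :=
  Module.compHom (M.val.obj (op ⊤)) (Coh.toGlobal (X ↘ Spec (CommRingCat.of A)))

/-- `H⁰(X, M) ≃ Γ(X, M)`, `A`-linear for `X` over `Spec A`. -/
noncomputable def equiv₀Over (M : X.Modules) :
    letI := sectionsModuleOver A M
    Coh.HH X M 0 ≃ₗ[A] M.val.obj (op ⊤) :=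
  letI := sectionsModuleOver A M
  { (equiv₀ M).toAddEquiv with
    map_smul' := fun a x => (equiv₀ M).map_smul (Coh.toGlobal (X ↘ Spec (CommRingCat.of A)) a) x }

lemma equiv₀Over_apply (M : X.Modules) (x : Coh.HH X M 0) :
    letI := sectionsModuleOver A M
    equiv₀Over A M x = equiv₀ M x := rfl

end Over

end Groth.Agent.Lib.Helper18.HH
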