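import Mathlib
import Groth.Agent.Lib.Helper9.CurveTwist
import Groth.Agent.Lib.Helper21.FlatSES
import Groth.Agent.Lib.Helper12.TensorAssoc
import Groth.Agent.Lib.Helper8.DevMaster
import Groth.Agent.Lib.Helper16.FLF5
import Groth.Agent.Lib.Helper18.HHSum
import Groth.Agent.Lib.Lead.DimOneVanish

/-!
# Modules with zero-dimensional support and tensor products with locally free modules (helper18)

* `tensorFreeIso F n : F ⊗ O^n ≅ ∐_n F`.
* `isZero_tensorMod_left`, `subsingleton_sections_tensor`: `F ⊗ E` has no sections where `F` has none.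
* `nonempty_sections_equiv_of_local_iso`: two modules whose sections vanish off a finite set of closed points and
  which are locally isomorphic have isomorphic global sections (generalises helper9's
  `nonempty_sections_cokernel_tensor_equiv`).
* `nonempty_sections_tensor_equiv`: for `E` finite locally free of rank `n` and `F` punctual,
  `Γ(F ⊗ E) ≃ Γ(F ⊗ O^n)`.
* `euler_tensor_of_support_dim_le_zero` (= S1558): `χ(F ⊗ E) = n χ(F)`.
-/

set_option autoImplicit false
set_option linter.style.haveILetI false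
universe u
open CategoryTheory CategoryTheory.Limits AlgebraicGeometry Opposite TopologicalSpace Module
open Scheme.Modules

namespace Groth.Agent.Lib.Helper18.Punctual

open Groth.Agent.Lib.Lead.ModTensor Groth.Agent.Lib.Helper21.TensorAdj
open Groth.Agent.Lib.helper9.CurvePunctual

variable {X : Scheme.{u}}

section Free

/-- `O^n ⊗ F ≅ ∐_n F` -/
noncomputable def freeTensorIso (F : X.Modules) (n : ℕ) :
    CohB1.tensorMod (FlatMod.freeMod X n) F ≅ ∐ fun _ : Fin n => F := by
  haveI := isLeftAdjoint_tens X.sheaf F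
  haveI : PreservesColimitsOfSize.{0, 0} (tens X.sheaf F) :=
    (Adjunction.ofIsLeftAdjoint (tens X.sheaf F)).leftAdjoint_preservesColimits
  exact PreservesCoproduct.iso (tens X.sheaf F) (fun _ : Fin n => Coh.structureModule X) ≪≫
    Sigma.mapIso (fun _ => leftUnitor F)

/-- `F ⊗ O^n ≅ ∐_n F` -/
noncomputable def tensorFreeIso (F : X.Modules) (n : ℕ) :
    CohB1.tensorMod F (FlatMod.freeMod X n) ≅ ∐ fun _ : Fin n => F :=
  braid F (FlatMod.freeMod X n) ≪≫ freeTensorIso F n

lemma isZero_tensorMod_left {F : X.Modules} (hF : IsZero F) (E : X.Modules) :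
    IsZero (CohB1.tensorMod F E) := by
  haveI := Groth.Agent.Lib.Helper21.FlatSES.additive_tens (O := X.sheaf) E
  exact Functor.map_isZero (tens X.sheaf E) hF

end Free

section Vanish

/-- a module whose sections vanish on all opens inside `O` restricts to zero on `O` -/
lemma isZero_restrict_of_sections_vanish (F : X.Modules) (O : X.Opens)
    (h : ∀ P : X.Opens, P ≤ O → Subsingleton Γ(F, P)) : IsZero (F.restrict O.ι) := by
  rw [IsZero.iff_id_eq_zero]
  apply Scheme.Modules.hom_ext
  intro P
  ext m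
  have hsub : Subsingleton Γ(F, O.ι ''ᵁ P) := h _ (Scheme.Opens.ι_image_le O P)
  exact hsub.elim _ _

/-- `F ⊗ E` has no sections over `O` if `F` has none over the opens inside `O` -/
lemma subsingleton_sections_tensor (F E : X.Modules) (O : X.Opens)
    (h : ∀ P : X.Opens, P ≤ O → Subsingleton Γ(F, P)) :
    Subsingleton Γ(CohB1.tensorMod F E, O) := by
  have hz : IsZero ((CohB1.tensorMod F E).restrict O.ι) :=
    IsZero.of_iso (isZero_tensorMod_left (isZero_restrict_of_sections_vanish F O h) _)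
      (Groth.Agent.Lib.helper12.TensorRestrict.restrictTensorIso O.ι F E)
  have h1 : Subsingleton Γ(CohB1.tensorMod F E, O.ι ''ᵁ ⊤) :=
    Groth.Agent.Lib.Lead.DimOneVanish.subsingleton_sections_of_isZero hz ⊤
  rwa [Scheme.Opens.ι_image_top] at h1

end Vanish

section Glue

/-- two modules whose sections vanish on the opens inside `W`, where the complement of `W` is a finite set of closed
points, and which are isomorphic on all small opens, have isomorphic global sections -/
theorem nonempty_sections_equiv_of_local_iso (M M' : X.Modules) (W : X.Opens)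
    (hM : ∀ P : X.Opens, P ≤ W → Subsingleton Γ(M, P))
    (hM' : ∀ P : X.Opens, P ≤ W → Subsingleton Γ(M', P))
    (hfin : ((W : Set X)ᶜ).Finite) (hcl : ∀ x, x ∉ W → IsClosed ({x} : Set X))
    (hloc : ∀ x : X, ∃ U : X.Opens, x ∈ U ∧
      ∀ V : X.Opens, V ≤ U → Nonempty (M.restrict V.ι ≅ M'.restrict V.ι)) :
    Nonempty (Γ(M, ⊤) ≃ₗ[Γ(X, ⊤)] Γ(M', ⊤)) := by
  classical
  have hchoice : ∀ z : {z : X // z ∉ W}, ∃ U : X.Opens, z.1 ∈ U ∧
      ∀ V : X.Opens, V ≤ U → Nonempty (M.restrict V.ι ≅ M'.restrict V.ι) := fun z => hloc z.1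
  choose U hzU hUiso using hchoice
  have hTopen : ∀ z : {z : X // z ∉ W}, IsOpen (((W : Set X)ᶜ \ {z.1})ᶜ) := by
    intro z
    rw [isOpen_compl_iff]
    have h1 : ((W : Set X)ᶜ \ {z.1}).Finite := hfin.subset Set.sdiff_subset
    have h2 := h1.isClosed_biUnion (f := fun x => ({x} : Set X)) (fun x hx => hcl x hx.1)
    rwa [Set.biUnion_of_singleton] at h2
  let T : {z : X // z ∉ W} → X.Opens := fun z => ⟨_, hTopen z⟩
  let V : {z : X // z ∉ W} → X.Opens := fun z => U z ⊓ T z
  have hzV : ∀ z, z.1 ∈ V z := fun z => ⟨hzU z, fun h => h.2 rfl⟩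
  have hVW : ∀ z (x : X), x ∈ V z → x ∈ W ∨ x = z.1 := by
    intro z x hx
    by_contra hcon
    push Not at hcon
    exact hx.2 ⟨hcon.1, hcon.2⟩
  let e : ∀ z, M.restrict (V z).ι ≅ M'.restrict (V z).ι :=
    fun z => (hUiso z (V z) inf_le_left).some
  let O : {z : X // z ∉ W} → X.Opens := fun z => (V z).ι ''ᵁ ⊤
  have hO : ∀ z, O z = V z := fun z => Scheme.Opens.ι_image_top (V z)
  have hcov : (⊤ : X.Opens) ≤ W ⊔ ⨆ z, O z := by
    intro x _
    rw [Opens.mem_sup]
    by_cases hx : x ∈ W
    · exact Or.inl hx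
    · refine Or.inr (Opens.mem_iSup.mpr ⟨⟨x, hx⟩, ?_⟩)
      rw [hO]
      exact hzV ⟨x, hx⟩
  have hpair : ∀ z z', z ≠ z' → O z ⊓ O z' ≤ W := by
    intro z z' hzz' x hx
    rw [hO, hO] at hx
    rcases hVW z x hx.1 with h | h
    · exact h
    · rcases hVW z' x hx.2 with h' | h'
      · exact h'
      · exact absurd (Subtype.ext (h.symm.trans h')) hzz'
  exact nonempty_glueEquiv _ _ W hM hM' O hcov hpair
    (fun z => sectionsEquivOfRestrictIso _ _ (V z) (e z))

end Glue

section LocFree

/-- if `E` is free of rank `n` on `V`, then `F ⊗ E` and `F ⊗ O^n` are isomorphic on `V` -/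
theorem nonempty_restrict_tensor_iso (F E : X.Modules) (n : ℕ) (V : X.Opens)
    (e : E.restrict V.ι ≅ FlatMod.freeMod (↑V) n) :
    Nonempty ((CohB1.tensorMod F E).restrict V.ι ≅
      (CohB1.tensorMod F (FlatMod.freeMod X n)).restrict V.ι) :=
  ⟨Groth.Agent.Lib.helper12.TensorRestrict.restrictTensorIso V.ι F E ≪≫
    tensorIso (Iso.refl _)
      (e ≪≫ (Groth.Agent.Lib.helper16.FLF.restrictFreeModIso V.ι n).symm) ≪≫
    (Groth.Agent.Lib.helper12.TensorRestrict.restrictTensorIso V.ι F (FlatMod.freeMod X n)).symm⟩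

/-- **Twisting a punctual module by a locally free module**: global sections of `F ⊗ E` and of `F ⊗ O^n`
are isomorphic -/
theorem nonempty_sections_tensor_equiv (F E : X.Modules) (n : ℕ)
    (hE : FlatMod.IsFinLocFreeOfRank n E) (W : X.Opens)
    (hF : ∀ P : X.Opens, P ≤ W → Subsingleton Γ(F, P))
    (hfin : ((W : Set X)ᶜ).Finite) (hcl : ∀ x, x ∉ W → IsClosed ({x} : Set X)) :
    Nonempty (Γ(CohB1.tensorMod F E, ⊤) ≃ₗ[Γ(X, ⊤)]
      Γ(CohB1.tensorMod F (FlatMod.freeMod X n), ⊤)) := by
  refine nonempty_sections_equiv_of_local_iso _ _ W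
    (fun P hP => subsingleton_sections_tensor F E P (fun Q hQ => hF Q (hQ.trans hP)))
    (fun P hP => subsingleton_sections_tensor F _ P (fun Q hQ => hF Q (hQ.trans hP)))
    hfin hcl (fun x => ?_)
  obtain ⟨U, hxU, ⟨eU⟩⟩ := hE x
  refine ⟨U, hxU, fun V hV => ?_⟩
  obtain ⟨eV⟩ := Groth.Agent.Lib.helper16.FLF.restrict_iso_freeMod_of_le E hV n eU
  exact nonempty_restrict_tensor_iso F E n V eV

end LocFree

section Support

/-- the complement of the support of a coherent module with zero-dimensional support: an open `W` off which the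
module has no sections, with finite complement consisting of closed points -/
theorem exists_open_of_support_dim_le_zero [IsNoetherian X] (F : X.Modules) (hF : Coh.IsCoh F)
    (hsupp : topologicalKrullDim (CohB1.support F) ≤ 0) :
    ∃ W : X.Opens, (W : Set X) = (CohB1.support F)ᶜ ∧
      (∀ P : X.Opens, P ≤ W → Subsingleton Γ(F, P)) ∧
      ((W : Set X)ᶜ).Finite ∧ (∀ x, x ∉ W → IsClosed ({x} : Set X)) := by
  have hcl := Groth.Agent.Lib.helper8.Dev.isClosed_support_of_isCoh F hF
  let W : X.Opens := ⟨(CohB1.support F)ᶜ, hcl.isOpen_compl⟩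
  have hW : ∀ x, x ∉ W → x ∈ CohB1.support F := fun x hx => by
    by_contra h
    exact hx h
  have hpt : ∀ x, x ∉ W → IsClosed ({x} : Set X) := fun x hx =>
    Groth.Agent.Lib.Helper20.DimZeroClosed.isClosed_singleton_of_dim_le_zero
      (CohB1.support F) hcl hsupp x (hW x hx)
  refine ⟨W, rfl, fun P hP => ?_, ?_, hpt⟩
  · refine ⟨fun s t => ?_⟩
    refine TopCat.Presheaf.section_ext ⟨F.presheaf, F.isSheaf⟩ P _ _ (fun x hx => ?_)
    have h1 : x ∉ CohB1.support F := hP hx
    have h2 : Subsingleton (F.presheaf.stalk x) := by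
      by_contra h2
      exact h1 h2
    exact h2.elim _ _
  · exact Groth.Agent.Lib.helper9.CurveTwist.finite_of_forall_isClosed_singleton _
      W.isOpen.isClosed_compl (fun x hx => hpt x hx)

end Support

section Main

variable (k : Type u) [Field k] (X : Scheme.{u}) [X.Over (Spec (CommRingCat.of k))]

omit X in
/-- the Euler characteristic of a module without sections off a set of closed points is `h⁰` -/
theorem euler_eq_finrank_H0 {X : Scheme.{u}} [X.Over (Spec (CommRingCat.of k))]
    [IsLocallyNoetherian X] (G : X.Modules) (W : X.Opens)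
    (hG : ∀ P : X.Opens, P ≤ W → Subsingleton Γ(G, P))
    (hcl : ∀ x, x ∉ W → IsClosed ({x} : Set X)) :
    Curv2.euler k X G = (finrank k (Coh.HH X G 0) : ℤ) := by
  rw [HH.euler_eq_sum k G 0 (fun i hi => by
    obtain ⟨m, rfl⟩ : ∃ m, i = m + 1 := ⟨i - 1, by omega⟩
    exact Groth.Agent.Lib.Lead.DimOneVanish.subsingleton_HH_of_sections_vanish G W hcl hG m)]
  simp

variable [IsProper (X ↘ Spec (CommRingCat.of k))]

/-- `h^p(∐_n F) = n h^p(F)` -/
theorem finrank_HH_sigma (F : X.Modules) (hF : Coh.IsCoh F) (n p : ℕ) :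
    finrank k (Coh.HH X (∐ fun _ : Fin n => F) p) = n * finrank k (Coh.HH X F p) := by
  haveI : Module.Finite k (Coh.HH X F p) := Groth.Agent.Lib.Lead.ProperEuler.finite_HH k X F hF p
  rw [(HH.sigmaEquivOver k (fun _ : Fin n => F) p).finrank_eq, Module.finrank_pi_fintype]
  simp

/-- **S1558**: `χ(F ⊗ E) = n χ(F)` for `F` coherent with zero-dimensional support, `E` locally free of rank `n` -/
theorem euler_tensor_of_support_dim_le_zero (F : X.Modules) (hF : Coh.IsCoh F)
    (hsupp : topologicalKrullDim (CohB1.support F) ≤ 0)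
    (n : ℕ) (E : X.Modules) (hE : FlatMod.IsFinLocFreeOfRank n E) :
    Curv2.euler k X (CohB1.tensorMod F E) = n * Curv2.euler k X F := by
  haveI := Groth.Agent.Lib.Lead.CurveEuler.isNoetherian k X
  obtain ⟨W, -, hFW, hfin, hcl⟩ := exists_open_of_support_dim_le_zero F hF hsupp
  have h1 := euler_eq_finrank_H0 k F W hFW hcl
  have h2 := euler_eq_finrank_H0 k (CohB1.tensorMod F E) W
    (fun P hP => subsingleton_sections_tensor F E P (fun Q hQ => hFW Q (hQ.trans hP))) hcl
  obtain ⟨θ⟩ := nonempty_sections_tensor_equiv F E n hE W hFW hfin hcl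
  have h3 := Groth.Agent.Lib.helper9.CurveTwist.finrank_H0_eq_of_sections_equiv k _ _ θ
  have h4 := Groth.Agent.Lib.helper9.CurveTwist.finrank_HH_eq_of_iso k (tensorFreeIso F n) 0
  have h5 := finrank_HH_sigma k X F hF n 0
  rw [h1, h2, h3, h4, h5]
  push_cast
  ring

end Main

end Groth.Agent.Lib.Helper18.Punctual
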