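import Mathlib
import Groth.Agent.Lib.Helper18.Punctual
import Groth.Agent.Lib.Helper20.TensorEquiv
import Groth.Agent.Lib.Helper11.TwistH1
import Groth.Agent.Lib.Helper12.PullTensor
import Groth.Agent.Lib.Lead.RankAdd
import Groth.Agent.Lib.Helper16.CohStalk
import Groth.Agent.Lib.Helper2.TensorQCoh
import Groth.Agent.Lib.Lead.ProperEuler
import Groth.Agent.Lib.Lead.CurveEuler
import Groth.Agent.Lib.Helper8.DimLt
import Groth.Agent.Lib.Helper8.DevAR
import Groth.Agent.Lib.Helper8.DevInd
import Groth.Agent.Lib.Helper8.DevMaster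
import Groth.Agent.S0046

/-!
# Degree calculus on curves: `χ(F ⊗ E) = rk_η(F) · deg E + n · χ(F)` (helper18)

* `mono_tensorMap_unit`, `mono_tensorMap_free`, `mono_tensorMap_of_isFinLocFreeOfRank`: `− ⊗ E` preserves
  monomorphisms for `E` finite locally free of rank `n`.
* `shortExact_tensor`: `− ⊗ E` preserves short exact sequences; `isCoh_tensorMod`.
* `grk F`: the generic rank of a module on an integral scheme; `grk_add` (additive on short exact sequences of
  coherent modules), `grk_eq_of_iso`.
* `euler_tensor_additive`, `euler_eq_zero_of_isZero`.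
* `Pform k X n E F`: the formula; `pform_main` (dévissage; = S1557 up to the braiding).
-/

set_option autoImplicit false
set_option linter.style.haveILetI false
universe u
open CategoryTheory CategoryTheory.Limits AlgebraicGeometry Opposite TopologicalSpace Module
open Scheme.Modules

namespace Groth.Agent.Lib.Helper18.DegCalc

open Groth.Agent.Lib.Lead.ModTensor Groth.Agent.Lib.Helper21.TensorAdj
open Groth.Agent.Lib.Helper21.TensorMon

variable {X : Scheme.{u}}

lemma mono_tensorMap_unit {K I : X.Modules} (g : K ⟶ I) [Mono g] :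
    Mono (tensorMap g (𝟙 (Coh.structureModule X))) := by
  have h := Groth.Agent.Lib.Helper20.TensorEquiv.rightUnitor_naturality g
  have h2 : tensorMap g (𝟙 (Coh.structureModule X)) =
      (rightUnitor K).hom ≫ g ≫ (rightUnitor I).inv := by
    rw [← Category.assoc, ← h, Category.assoc, Iso.hom_inv_id, Category.comp_id]
  rw [h2]
  infer_instance

lemma mono_tensorMap_free {K I : X.Modules} (g : K ⟶ I) [Mono g] (n : ℕ) :
    Mono (tensorMap g (𝟙 (FlatMod.freeMod X n))) := by
  classical
  haveI := Groth.Agent.Lib.Helper21.FlatSES.additive_tensL (O := X.sheaf) K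
  let ι : Fin n → (Coh.structureModule X ⟶ FlatMod.freeMod X n) :=
    fun i => Sigma.ι (fun _ : Fin n => Coh.structureModule X) i
  let π : Fin n → (FlatMod.freeMod X n ⟶ Coh.structureModule X) :=
    fun i => Sigma.desc (fun j => if j = i then 𝟙 _ else 0)
  have hιπ : ∀ i j, ι j ≫ π i = if j = i then 𝟙 _ else 0 := fun i j => by
    simp only [ι, π, colimit.ι_desc, Cofan.mk_ι_app]
  have htot : ∑ i, π i ≫ ι i = 𝟙 (FlatMod.freeMod X n) := by
    apply Sigma.hom_ext
    intro j
    change ι j ≫ _ = ι j ≫ _
    rw [Preadditive.comp_sum, Category.comp_id]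
    have : ∀ i, ι j ≫ π i ≫ ι i = if j = i then ι j else 0 := by
      intro i
      rw [← Category.assoc, hιπ]
      split_ifs with h
      · subst h; rw [Category.id_comp]
      · rw [zero_comp]
    simp only [this, Finset.sum_ite_eq, Finset.mem_univ, if_true]
  refine Preadditive.mono_of_cancel_zero _ (fun {T} h hh => ?_)
  have h1 : ∀ i, h ≫ tensorMap (𝟙 K) (π i) = 0 := by
    intro i
    haveI := mono_tensorMap_unit g
    rw [← cancel_mono (tensorMap g (𝟙 (Coh.structureModule X))), Category.assoc, zero_comp,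
      ← Groth.Agent.Lib.Helper20.TensorEquiv.tensorMap_exchange, ← Category.assoc, hh, zero_comp]
  have e1 : h = h ≫ tensorMap (𝟙 K) (𝟙 (FlatMod.freeMod X n)) := by
    rw [tensorMap_id, Category.comp_id]
  have e2 : tensorMap (𝟙 K) (𝟙 (FlatMod.freeMod X n)) =
      ∑ i, tensorMap (𝟙 K) (π i) ≫ tensorMap (𝟙 K) (ι i) := by
    have e3 : ∀ (s : Finset (Fin n)) (f : Fin n → (FlatMod.freeMod X n ⟶ FlatMod.freeMod X n)),
        tensorMap (𝟙 K) (∑ i ∈ s, f i) = ∑ i ∈ s, tensorMap (𝟙 K) (f i) :=
      fun s f => (tensL X.sheaf K).map_sum f s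
    rw [← htot, e3]
    refine Finset.sum_congr rfl (fun i _ => ?_)
    exact (tensL X.sheaf K).map_comp (π i) (ι i)
  rw [e1, e2, Preadditive.comp_sum]
  refine Finset.sum_eq_zero (fun i _ => ?_)
  rw [← Category.assoc, h1, zero_comp]

open Groth.Agent.Lib.helper12.TensorRestrict Groth.Agent.Lib.helper12.PullTensor in
/-- `− ⊗ E` preserves monomorphisms for `E` finite locally free of rank `n` -/
theorem mono_tensorMap_of_isFinLocFreeOfRank {K I E : X.Modules} (g : K ⟶ I) [Mono g] {n : ℕ}
    (hE : FlatMod.IsFinLocFreeOfRank n E) : Mono (tensorMap g (𝟙 E)) := by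
  refine Groth.Agent.Lib.helper11.TwistH1.mono_of_forall_restrict _ fun x => ?_
  obtain ⟨U, hxU, ⟨e⟩⟩ := hE x
  refine ⟨U, hxU, ?_⟩
  have hn := restrictTensorIso_inv_naturality U.ι g (𝟙 E)
  rw [(restrictFunctor U.ι).map_id] at hn
  have h1 : (restrictFunctor U.ι).map (tensorMap g (𝟙 E)) =
      (restrictTensorIso U.ι K E).hom ≫ tensorMap ((restrictFunctor U.ι).map g) (𝟙 _) ≫
        (restrictTensorIso U.ι I E).inv := by
    rw [hn, Iso.hom_inv_id_assoc]
  have h2 : tensorMap ((restrictFunctor U.ι).map g) (𝟙 ((restrictFunctor U.ι).obj E)) =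
      tensorMap (𝟙 _) e.hom ≫ tensorMap ((restrictFunctor U.ι).map g) (𝟙 (FlatMod.freeMod (↑U) n)) ≫
        tensorMap (𝟙 _) e.inv := by
    rw [← tensorMap_comp, ← tensorMap_comp, Category.id_comp, Category.comp_id, Category.id_comp,
      Iso.hom_inv_id]
  rw [h1, h2]
  haveI := Groth.Agent.Lib.helper11.TwistH1.mono_restrict g U
  haveI := mono_tensorMap_free ((restrictFunctor U.ι).map g) n
  haveI : IsIso (tensorMap (𝟙 ((restrictFunctor U.ι).obj K)) e.hom) :=
    (tensorIso (Iso.refl _) e).isIso_hom
  haveI : IsIso (tensorMap (𝟙 ((restrictFunctor U.ι).obj I)) e.inv) :=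
    (tensorIso (Iso.refl _) e.symm).isIso_hom
  infer_instance

/-- generic rank -/
noncomputable def grk [IsIntegral X] (F : X.Modules) : ℕ :=
  Module.finrank (X.presheaf.stalk (genericPoint X)) (F.presheaf.stalk (genericPoint X))

open Groth.Agent.Lib.helper17.FlatOver7 Groth.Agent.Lib.helper8.StalkLen in
theorem grk_add [IsIntegral X] (S : ShortComplex X.Modules) (hS : S.ShortExact)
    (h₁ : Coh.IsCoh S.X₁) (h₂ : Coh.IsCoh S.X₂) (h₃ : Coh.IsCoh S.X₃) :
    grk S.X₂ = grk S.X₁ + grk S.X₃ := by
  haveI : S.X₂.IsQuasicoherent := h₂.1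
  haveI : S.X₃.IsQuasicoherent := h₃.1
  haveI := hS.mono_f
  haveI := hS.epi_g
  set x := genericPoint X
  haveI := Groth.Agent.Lib.helper16.CohStalk.finite_stalk_of_isCoh _ h₁ x
  haveI := Groth.Agent.Lib.helper16.CohStalk.finite_stalk_of_isCoh _ h₃ x
  have hinj := stalkAdd_injective_of_mono S.f x
  have hex := stalkAdd_exact S.f S.g S.zero hS.exact x
  have hsurj := stalkAdd_surjective_of_epi S.g x
  letI : Field (X.presheaf.stalk x) := inferInstanceAs (Field X.functionField)
  exact Groth.Agent.Lib.Lead.RankAdd.finrank_add_of_exact (R := X.presheaf.stalk x)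
    (stalkLin S.f x) (stalkLin S.g x) hinj hex hsurj

theorem grk_eq_of_iso [IsIntegral X] {F G : X.Modules} (e : F ≅ G) : grk F = grk G :=
  LinearEquiv.finrank_eq (Groth.Agent.Lib.helper17.FlatOver7.stalkLinEquiv e (genericPoint X))

section Site

variable {C : Type u} [SmallCategory C] {J : GrothendieckTopology C} {O : Sheaf J CommRingCat.{u}}

theorem shortExact_map_tens_of_mono (S : ShortComplex (ModSite.Mod O)) (hS : S.ShortExact)
    (G : ModSite.Mod O) [(tens O G).PreservesZeroMorphisms] (hm : Mono ((tens O G).map S.f)) :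
    (S.map (tens O G)).ShortExact := by
  have := hS.mono_f
  have := hS.epi_g
  haveI := isLeftAdjoint_tens O G
  have hex : (S.map (tens O G)).Exact :=
    hS.exact.map_of_epi_of_preservesCokernel (tens O G) inferInstance inferInstance
  haveI : Mono (S.map (tens O G)).f := hm
  haveI : Epi (S.map (tens O G)).g := (tens O G).map_epi S.g
  exact { exact := hex }

end Site

/-- `− ⊗ E` is exact for `E` finite locally free -/
theorem shortExact_tensor (S : ShortComplex X.Modules) (hS : S.ShortExact) {n : ℕ} {E : X.Modules}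
    (hE : FlatMod.IsFinLocFreeOfRank n E) :
    ∃ w, (ShortComplex.mk (tensorMap S.f (𝟙 E)) (tensorMap S.g (𝟙 E)) w).ShortExact := by
  haveI := Groth.Agent.Lib.Helper21.FlatSES.additive_tens (O := X.sheaf) E
  have := hS.mono_f
  have hm : Mono (tensorMap S.f (𝟙 E)) := mono_tensorMap_of_isFinLocFreeOfRank S.f hE
  let S' : ShortComplex (ModSite.Mod X.sheaf) := S
  have h := shortExact_map_tens_of_mono (O := X.sheaf) S' hS E hm
  exact ⟨(S'.map (tens X.sheaf E)).zero, h⟩

theorem isCoh_tensorMod {F G : X.Modules} (hF : Coh.IsCoh F) (hG : Coh.IsCoh G) :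
    Coh.IsCoh (CohB1.tensorMod F G) := by
  haveI : F.IsQuasicoherent := hF.1
  haveI : G.IsQuasicoherent := hG.1
  exact ⟨Groth.Agent.Lib.helper2.TensorQCoh.isQuasicoherent_tensorMod _ _,
    Groth.Agent.Lib.helper2.TensorQCoh.isFiniteType_tensorMod _ _ hF.2 hG.2⟩

section Curve

variable (k : Type u) [Field k] (X : Scheme.{u}) [X.Over (Spec (CommRingCat.of k))]
  [IsProper (X ↘ (Spec (CommRingCat.of k)))]

theorem euler_tensor_additive (S : ShortComplex X.Modules) (hS : S.ShortExact)
    (h₁ : Coh.IsCoh S.X₁) (h₃ : Coh.IsCoh S.X₃) {n : ℕ} {E : X.Modules}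
    (hE : FlatMod.IsFinLocFreeOfRank n E) :
    Curv2.euler k X (CohB1.tensorMod S.X₂ E) =
      Curv2.euler k X (CohB1.tensorMod S.X₁ E) + Curv2.euler k X (CohB1.tensorMod S.X₃ E) := by
  obtain ⟨w, hw⟩ := shortExact_tensor S hS hE
  have hEc := Groth.Agent.Lib.Lead.RankAdd.isCoh_of_isFinLocFreeOfRank hE
  have h1c := isCoh_tensorMod h₁ hEc
  have h3c := isCoh_tensorMod h₃ hEc
  have := Groth.Agent.Lib.Lead.ProperEuler.euler_additive k
    (S := ShortComplex.mk (tensorMap S.f (𝟙 E)) (tensorMap S.g (𝟙 E)) w) hw h1c h3c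
  exact this

/-- the Euler characteristic of a zero module vanishes -/
theorem euler_eq_zero_of_isZero {N : X.Modules} (hN : IsZero N) : Curv2.euler k X N = 0 := by
  let T : ShortComplex X.Modules := ShortComplex.mk (𝟙 N) (𝟙 N) (hN.eq_of_src _ _)
  have hsplit : T.Splitting :=
    { r := 𝟙 N
      s := 𝟙 N
      f_r := Category.comp_id _
      s_g := Category.comp_id _
      id := hN.eq_of_src _ _ }
  have hc := Groth.Agent.Lib.helper7.CohKer.isCoh_of_isZero hN
  have h := Groth.Agent.Lib.Lead.ProperEuler.euler_additive k (S := T) hsplit.shortExact hc hc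
  change Curv2.euler k X N = Curv2.euler k X N + Curv2.euler k X N at h
  linarith

variable [IsIntegral X]

theorem grk_eq_zero_of_isZero {N : X.Modules} (hN : IsZero N) : grk N = 0 := by
  let T : ShortComplex X.Modules := ShortComplex.mk (𝟙 N) (𝟙 N) (hN.eq_of_src _ _)
  have hsplit : T.Splitting :=
    { r := 𝟙 N
      s := 𝟙 N
      f_r := Category.comp_id _
      s_g := Category.comp_id _
      id := hN.eq_of_src _ _ }
  have hc := Groth.Agent.Lib.helper7.CohKer.isCoh_of_isZero hN
  have h := grk_add T hsplit.shortExact hc hc hc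
  change grk N = grk N + grk N at h
  omega

/-- the formula `χ(F ⊗ E) = rk_η(F) deg E + n χ(F)` -/
def Pform (n : ℕ) (E F : X.Modules) : Prop :=
  Curv2.euler k X (CohB1.tensorMod F E) =
    (grk F : ℤ) * Curv2.deg k X E n + n * Curv2.euler k X F

theorem pform_of_iso {n : ℕ} {E M N : X.Modules} (e : M ≅ N) (h : Pform k X n E M) :
    Pform k X n E N := by
  unfold Pform at *
  rw [← Groth.Agent.Lib.Lead.CurveEuler.euler_eq_of_iso k X (tensorIso e (Iso.refl E)),
    ← grk_eq_of_iso e, ← Groth.Agent.Lib.Lead.CurveEuler.euler_eq_of_iso k X e]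
  exact h

theorem pform_of_isZero {n : ℕ} {E N : X.Modules} (hN : IsZero N) : Pform k X n E N := by
  unfold Pform
  rw [euler_eq_zero_of_isZero k X hN, grk_eq_zero_of_isZero X hN,
    euler_eq_zero_of_isZero k X (Groth.Agent.Lib.Helper18.Punctual.isZero_tensorMod_left hN E)]
  simp

theorem pform_ses {n : ℕ} {E : X.Modules} (hE : FlatMod.IsFinLocFreeOfRank n E)
    (S : ShortComplex X.Modules) (hS : S.ShortExact)
    (h₁ : Coh.IsCoh S.X₁) (h₂ : Coh.IsCoh S.X₂) (h₃ : Coh.IsCoh S.X₃) :
    (Pform k X n E S.X₁ → Pform k X n E S.X₂ → Pform k X n E S.X₃) ∧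
    (Pform k X n E S.X₁ → Pform k X n E S.X₃ → Pform k X n E S.X₂) ∧
    (Pform k X n E S.X₂ → Pform k X n E S.X₃ → Pform k X n E S.X₁) := by
  have e1 := euler_tensor_additive k X S hS h₁ h₃ hE
  have e2 := grk_add S hS h₁ h₂ h₃
  have e3 := Groth.Agent.Lib.Lead.ProperEuler.euler_additive k hS h₁ h₃
  unfold Pform
  rw [e1, e2, e3]
  push_cast
  refine ⟨fun a b => ?_, fun a b => ?_, fun a b => ?_⟩ <;> linarith

/-- the structure sheaf satisfies the formula -/
theorem pform_structureModule {n : ℕ} (E : X.Modules) :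
    Pform k X n E (Coh.structureModule X) := by
  unfold Pform
  have hrk : grk (Coh.structureModule X) = 1 :=
    Groth.Agent.Lib.helper16.FLF.finrank_stalk_of_isFinLocFreeOfRank _
      (Groth.Agent.Lib.helper16.FLF.isFinLocFreeOfRank_structureModule X) (genericPoint X)
  rw [Groth.Agent.Lib.Lead.CurveEuler.euler_eq_of_iso k X (leftUnitor E), hrk]
  unfold Curv2.deg
  push_cast
  ring

/-- a coherent module with support in a proper closed subset satisfies the formula -/
theorem pform_of_support (hdim : topologicalKrullDim X = 1) {n : ℕ} {E : X.Modules}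
    (hE : FlatMod.IsFinLocFreeOfRank n E) (G : X.Modules) (hG : Coh.IsCoh G)
    (C : Set X) (hC : IsClosed C) (hCne : C ≠ Set.univ) (hs : CohB1.support G ⊆ C) :
    Pform k X n E G := by
  unfold Pform
  have hd0 : topologicalKrullDim ↥(CohB1.support G) ≤ 0 := by
    have h1 := Groth.Agent.Lib.helper8.DimLt.topologicalKrullDim_add_one_le
      (Set.subset_univ C) hC (IrreducibleSpace.isIrreducible_univ X) hCne
    have h2 : topologicalKrullDim ↥(Set.univ : Set X) = topologicalKrullDim X :=
      (Homeomorph.Set.univ X).isHomeomorph.topologicalKrullDim_eq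
    rw [h2, hdim] at h1
    have h3 := Groth.Agent.Lib.helper8.DimLt.topologicalKrullDim_le_of_subset hs
    have h4 : topologicalKrullDim ↥C ≤ 0 := by
      generalize topologicalKrullDim ↥C = a at h1
      induction a with
      | bot => exact bot_le
      | coe a =>
        have : a + 1 ≤ 1 := by exact_mod_cast h1
        have : a ≤ 0 := by
          induction a with
          | top => simp at this
          | coe m =>
            have hm : m + 1 ≤ 1 := by exact_mod_cast this
            have : m = 0 := by omega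
            subst this
            simp
        exact_mod_cast this
    exact h3.trans h4
  have hgrk : grk G = 0 := by
    have hη : genericPoint X ∉ CohB1.support G := by
      intro h
      apply hCne
      have h1 : closure {genericPoint X} ⊆ C := hC.closure_subset_iff.mpr
        (Set.singleton_subset_iff.mpr (hs h))
      rw [(genericPoint_spec X).def] at h1
      exact Set.eq_univ_of_univ_subset h1
    have hsub : Subsingleton (G.presheaf.stalk (genericPoint X)) := by
      by_contra hn
      exact hη hn
    unfold grk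
    exact Module.finrank_zero_of_subsingleton
  rw [hgrk, Groth.Agent.Lib.Helper18.Punctual.euler_tensor_of_support_dim_le_zero k X G hG hd0 n E hE]
  simp

/-- the stalk of the structure module at the generic point is the residue field -/
theorem nonempty_stalk_equiv_residueField :
    Nonempty (↑((Coh.structureModule X).presheaf.stalk (genericPoint X)) ≃ₗ[X.presheaf.stalk
      (genericPoint X)] IsLocalRing.ResidueField (X.presheaf.stalk (genericPoint X))) := by
  letI : Field (X.presheaf.stalk (genericPoint X)) := inferInstanceAs (Field X.functionField)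
  obtain ⟨hfree, hfin⟩ := Groth.Agent.Lib.helper16.FLF.free_stalk_of_isFinLocFree _
    (Groth.Agent.Lib.helper16.FLF.isFinLocFree_structureModule X) (genericPoint X)
  have hrk := Groth.Agent.Lib.helper16.FLF.finrank_stalk_of_isFinLocFreeOfRank _
    (Groth.Agent.Lib.helper16.FLF.isFinLocFreeOfRank_structureModule X) (genericPoint X)
  obtain ⟨e1⟩ := FiniteDimensional.nonempty_linearEquiv_of_finrank_eq
    (R := X.presheaf.stalk (genericPoint X))
    (M := ↑((Coh.structureModule X).presheaf.stalk (genericPoint X)))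
    (M' := X.presheaf.stalk (genericPoint X)) (by rw [hrk, Module.finrank_self])
  have e2 : X.presheaf.stalk (genericPoint X) ≃ₗ[X.presheaf.stalk (genericPoint X)]
      IsLocalRing.ResidueField (X.presheaf.stalk (genericPoint X)) :=
    LinearEquiv.ofBijective (Algebra.linearMap _ _)
      ⟨(algebraMap (X.presheaf.stalk (genericPoint X))
        (IsLocalRing.ResidueField (X.presheaf.stalk (genericPoint X)))).injective,
        IsLocalRing.residue_surjective⟩
  exact ⟨e1.trans e2⟩

theorem pform_main (hdim : topologicalKrullDim X = 1) {n : ℕ} {E : X.Modules}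
    (hE : FlatMod.IsFinLocFreeOfRank n E) (F : X.Modules) (hF : Coh.IsCoh F) :
    Pform k X n E F := by
  haveI := Groth.Agent.Lib.Lead.CurveEuler.isNoetherian k X
  refine Groth.Agent.Lib.helper8.Dev.devissage_master (Pform k X n E) ?_ Set.univ ?_ ?_ ?_ F hF
    (Set.subset_univ _)
  · rintro M N ⟨e⟩ hM
    exact pform_of_iso k X e hM
  · intro N hN
    exact pform_of_isZero k X hN
  · intro S hS h1 h2 h3 _
    exact pform_ses k X hE S hS h1 h2 h3
  · intro Z i _ _ _
    by_cases hr : Set.range i = Set.univ
    · right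
      have hy : i (genericPoint Z) = genericPoint X := by
        have h1 : closure {genericPoint Z} = (Set.univ : Set Z) := genericPoint_spec Z
        have hcl : closure {i (genericPoint Z)} = (Set.univ : Set X) := by
          rw [← Set.image_singleton, i.isClosedEmbedding.closure_image_eq, h1, Set.image_univ, hr]
        exact ((genericPoint_spec X).eq (show IsGenericPoint (i (genericPoint Z)) ⊤ from hcl)).symm
      refine ⟨Coh.structureModule X, Groth.Agent.Lib.helper8.Dev.isCoh_structureModule X, ?_, ?_,
        pform_structureModule k X E⟩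
      · rw [hr]
        exact Set.subset_univ _
      · rw [hy]
        exact nonempty_stalk_equiv_residueField X
    · left
      intro I ι hι hIq
      haveI : IsLocallyNoetherian Z := LocallyOfFiniteType.isLocallyNoetherian i
      have hIc : Coh.IsCoh I := Groth.Agent.S0046.result Z (Coh.structureModule Z) I ι
        (Groth.Agent.Lib.helper8.Dev.isCoh_structureModule Z) hIq
      have hG : Coh.IsCoh ((Coh.push i).obj I) :=
        Groth.Agent.Lib.helper8.Dev.isCoh_push_of_isCoh i I hIc
      have hs : CohB1.support ((Coh.push i).obj I) ⊆ Set.range i :=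
        Groth.Agent.Lib.helper8.SchemeSupport.support_subset_range_of_iso _ i I (Iso.refl _)
      exact pform_of_support k X hdim hE _ hG (Set.range i) i.isClosedEmbedding.isClosed_range hr hs

end Curve

end Groth.Agent.Lib.Helper18.DegCalc
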