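import Mathlib
import Groth.Agent.Lib.Helper12.PullTensor
import Groth.Agent.Lib.Helper16.FLF5
import Groth.Agent.Lib.Helper21.FlatSES

/-!
# The projection formula for finite locally free modules (helper18)

For any morphism of schemes `h : Y ⟶ X`, any `O_Y`-module `P` and any finite locally free `O_X`-module `E`:

  `projIso h P E hE : h_*P ⊗ E ≅ h_*(P ⊗ h^*E)`.

* `laxHom_naturality`: naturality of helper12's lax structure `h_*P ⊗ h_*Q ⟶ h_*(P ⊗ Q)`.
* `projHom h P E`: the projection morphism (for all `E`), `projHom_tmul` (section formula), `projHom_naturality`.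
* `projHom_unit`, `isIso_projHom_unit`: the case `E = O_X`.
* `isIso_app_sigma`: a natural transformation of additive functors that is an isomorphism at `A` is one at `A^n`.
* `tensorLeftFunctor M`, `projNat`, `isIso_projHom_free`: the case `E = O_X^n`.
* `le_isoLocus_pushforward`; `isIso_projHom`: the zigzag `E ⟶ j_*(E|_U) ⟵ O^n` (as in helper12's
  `isIso_pullTensorHom`).
-/

set_option autoImplicit false
set_option linter.style.haveILetI false
universe u

open CategoryTheory AlgebraicGeometry Opposite TopologicalSpace MonoidalCategory CategoryTheory.Limits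

namespace Groth.Agent.Lib.Helper18.ProjFormulaLF

section Additive

variable {C D : Type*} [Category C] [Category D] [Preadditive C] [Preadditive D]

/-- a natural transformation between additive functors which is an isomorphism at `A` is an isomorphism at
finite coproducts of copies of `A` -/
theorem isIso_app_sigma {F G : C ⥤ D} [F.Additive] [G.Additive] (θ : F ⟶ G) (A : C) (n : ℕ)
    [HasCoproduct (fun _ : Fin n => A)] [IsIso (θ.app A)] :
    IsIso (θ.app (∐ fun _ : Fin n => A)) := by
  classical
  let ι : Fin n → (A ⟶ ∐ fun _ : Fin n => A) := fun i => Sigma.ι (fun _ : Fin n => A) i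
  let π : Fin n → ((∐ fun _ : Fin n => A) ⟶ A) :=
    fun i => Sigma.desc (fun j => if j = i then 𝟙 _ else 0)
  have hιπ : ∀ i j, ι j ≫ π i = if j = i then 𝟙 _ else 0 := fun i j => by
    simp only [ι, π, colimit.ι_desc, Cofan.mk_ι_app]
  have htot : ∑ i, π i ≫ ι i = 𝟙 (∐ fun _ : Fin n => A) := by
    apply Sigma.hom_ext
    intro j
    change ι j ≫ _ = ι j ≫ _
    rw [Preadditive.comp_sum, Category.comp_id]
    have : ∀ i, ι j ≫ π i ≫ ι i = if j = i then ι j else 0 := by
      intro i
      rw [← Category.assoc, hιπ]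
      split_ifs with h
      · subst h; rw [Category.id_comp]
      · rw [zero_comp]
    simp only [this, Finset.sum_ite_eq, Finset.mem_univ, if_true]
  refine ⟨∑ i, G.map (π i) ≫ inv (θ.app A) ≫ F.map (ι i), ?_, ?_⟩
  · rw [Preadditive.comp_sum]
    have : ∀ i, θ.app (∐ fun _ : Fin n => A) ≫ G.map (π i) ≫ inv (θ.app A) ≫ F.map (ι i) =
        F.map (π i ≫ ι i) := by
      intro i
      rw [← Category.assoc, ← θ.naturality, Category.assoc, IsIso.hom_inv_id_assoc, F.map_comp]
    simp only [this]
    rw [← F.map_sum, htot, F.map_id]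
  · rw [Preadditive.sum_comp]
    have : ∀ i, (G.map (π i) ≫ inv (θ.app A) ≫ F.map (ι i)) ≫ θ.app (∐ fun _ : Fin n => A) =
        G.map (π i ≫ ι i) := by
      intro i
      rw [Category.assoc, Category.assoc, θ.naturality, IsIso.inv_hom_id_assoc, G.map_comp]
    simp only [this]
    rw [← G.map_sum, htot, G.map_id]

end Additive

open Groth.Agent.Lib.helper12.TensorRestrict Groth.Agent.Lib.helper12.TensorSec
open Groth.Agent.Lib.helper12.PullTensor Groth.Agent.Lib.Lead.ModTensor
open Scheme.Modules

variable {X Y : Scheme.{u}} (h : Y ⟶ X)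

/-- naturality of the lax structure `h_*P ⊗ h_*Q ⟶ h_*(P ⊗ Q)` -/
theorem laxHom_naturality {P P' Q Q' : Y.Modules} (g : P ⟶ P') (k : Q ⟶ Q') :
    tensorMap ((Scheme.Modules.pushforward h).map g) ((Scheme.Modules.pushforward h).map k) ≫
        laxHom h P' Q' =
      laxHom h P Q ≫ (Scheme.Modules.pushforward h).map (tensorMap g k) := by
  apply tensorMod_hom_ext
  intro U p q
  change ((laxHom h P' Q').val.app (op U)).hom
      (((tensorMap ((Scheme.Modules.pushforward h).map g)
        ((Scheme.Modules.pushforward h).map k)).val.app (op U)).hom _) =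
    ((tensorMap g k).val.app (op (h ⁻¹ᵁ U))).hom (((laxHom h P Q).val.app (op U)).hom _)
  refine (congrArg _ (tensorMap_tmul _ _ U p q)).trans ?_
  refine (laxHom_tmul h P' Q' U _ _).trans ?_
  refine Eq.trans ?_ (congrArg _ (laxHom_tmul h P Q U p q)).symm
  exact (tensorMap_tmul g k (h ⁻¹ᵁ U) p q).symm

/-- **the projection morphism** `h_*P ⊗ E ⟶ h_*(P ⊗ h^*E)` -/
noncomputable def projHom (P : Y.Modules) (E : X.Modules) :
    CohB1.tensorMod ((Scheme.Modules.pushforward h).obj P) E ⟶
      (Scheme.Modules.pushforward h).obj (CohB1.tensorMod P ((Scheme.Modules.pullback h).obj E)) :=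
  tensorMap (𝟙 ((Scheme.Modules.pushforward h).obj P))
      (show E ⟶ (Scheme.Modules.pushforward h).obj ((Scheme.Modules.pullback h).obj E) from
        (pbAdj h).unit.app E) ≫
    laxHom h P ((Scheme.Modules.pullback h).obj E)

theorem projHom_tmul (P : Y.Modules) (E : X.Modules) (U : X.Opens)
    (p : P.val.obj (op (h ⁻¹ᵁ U))) (e : E.val.obj (op U)) :
    ((projHom h P E).val.app (op U)).hom
      (SecTwist.tmul ((Scheme.Modules.pushforward h).obj P) E U p e) =
      SecTwist.tmul P ((Scheme.Modules.pullback h).obj E) (h ⁻¹ᵁ U) p (unitSec h E U e) := by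
  unfold projHom
  change ((laxHom h P ((Scheme.Modules.pullback h).obj E)).val.app (op U)).hom
    (((tensorMap (𝟙 ((Scheme.Modules.pushforward h).obj P))
      (show E ⟶ (Scheme.Modules.pushforward h).obj ((Scheme.Modules.pullback h).obj E) from
        (pbAdj h).unit.app E)).val.app (op U)).hom _) = _
  exact (congrArg _ (tensorMap_tmul (𝟙 ((Scheme.Modules.pushforward h).obj P))
    (show E ⟶ (Scheme.Modules.pushforward h).obj ((Scheme.Modules.pullback h).obj E) from
        (pbAdj h).unit.app E) U p e)).trans
    (laxHom_tmul h _ _ U _ _)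

/-- naturality of the projection morphism in the second variable -/
theorem projHom_naturality (P : Y.Modules) {E E' : X.Modules} (a : E ⟶ E') :
    tensorMap (𝟙 ((Scheme.Modules.pushforward h).obj P)) a ≫ projHom h P E' =
      projHom h P E ≫ (Scheme.Modules.pushforward h).map
        (tensorMap (𝟙 P) ((Scheme.Modules.pullback h).map a)) := by
  apply tensorMod_hom_ext
  intro U p e
  change ((projHom h P E').val.app (op U)).hom
      (((tensorMap (𝟙 ((Scheme.Modules.pushforward h).obj P)) a).val.app (op U)).hom _) =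
    ((tensorMap (𝟙 P) ((Scheme.Modules.pullback h).map a)).val.app (op (h ⁻¹ᵁ U))).hom
      (((projHom h P E).val.app (op U)).hom _)
  refine (congrArg _ (tensorMap_tmul _ _ U p e)).trans ?_
  refine (projHom_tmul h P E' U _ _).trans ?_
  refine Eq.trans ?_ (congrArg _ (projHom_tmul h P E U p e)).symm
  refine Eq.trans ?_ (tensorMap_tmul _ _ (h ⁻¹ᵁ U) _ _).symm
  rw [unitSec_naturality]
  rfl

open Groth.Agent.Lib.helper11.InvMod Groth.Agent.Lib.helper11.InvPullback in
/-- the unit case of the projection morphism -/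
theorem projHom_unit (P : Y.Modules) :
    projHom h P (Coh.structureModule X) ≫ (Scheme.Modules.pushforward h).map
      (tensorMap (𝟙 P) (pullbackUnitIso h).hom ≫ (SecTwist.unitorR P).hom) =
      (SecTwist.unitorR ((Scheme.Modules.pushforward h).obj P)).hom := by
  apply tensorMod_hom_ext
  intro U p a
  change ((SecTwist.unitorR P).hom.val.app (op (h ⁻¹ᵁ U))).hom
    (((tensorMap (𝟙 P) (pullbackUnitIso h).hom).val.app (op (h ⁻¹ᵁ U))).hom
      (((projHom h P (Coh.structureModule X)).val.app (op U)).hom _)) = _
  rw [projHom_tmul]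
  refine (congrArg _ (tensorMap_tmul _ _ (h ⁻¹ᵁ U) _ _)).trans ?_
  erw [pullbackUnitIso_hom_unitSec h U a]
  refine (SecTwist.unitorR_tmul P (h ⁻¹ᵁ U) _ _).trans ?_
  exact (SecTwist.unitorR_tmul ((Scheme.Modules.pushforward h).obj P) U p a).symm

open Groth.Agent.Lib.helper11.InvMod Groth.Agent.Lib.helper11.InvPullback in
instance isIso_projHom_unit (P : Y.Modules) : IsIso (projHom h P (Coh.structureModule X)) := by
  have h1 := projHom_unit h P
  haveI : IsIso (tensorMap (𝟙 P) (pullbackUnitIso h).hom) :=
    (tensorIso (Iso.refl P) (pullbackUnitIso h)).isIso_hom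
  haveI : IsIso ((Scheme.Modules.pushforward h).map
      (tensorMap (𝟙 P) (pullbackUnitIso h).hom ≫ (SecTwist.unitorR P).hom)) := inferInstance
  have h2 : projHom h P (Coh.structureModule X) =
      (SecTwist.unitorR ((Scheme.Modules.pushforward h).obj P)).hom ≫
        inv ((Scheme.Modules.pushforward h).map
          (tensorMap (𝟙 P) (pullbackUnitIso h).hom ≫ (SecTwist.unitorR P).hom)) := by
    rw [← h1, Category.assoc, IsIso.hom_inv_id, Category.comp_id]
  rw [h2]
  infer_instance

/-- `M ⊗ −` as a functor on `X.Modules` -/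
noncomputable def tensorLeftFunctor {Z : Scheme.{u}} (M : Z.Modules) : Z.Modules ⥤ Z.Modules where
  obj N := CohB1.tensorMod M N
  map g := tensorMap (𝟙 M) g
  map_id N := tensorMap_id M N
  map_comp f g := by
    have := tensorMap_comp (𝟙 M) (𝟙 M) f g
    rwa [Category.comp_id] at this

instance {Z : Scheme.{u}} (M : Z.Modules) : (tensorLeftFunctor M).Additive where
  map_add {N N' f g} := by
    haveI := Groth.Agent.Lib.Helper21.FlatSES.additive_tensL (O := Z.sheaf) M
    exact (Groth.Agent.Lib.Helper21.TensorMon.tensL Z.sheaf M).map_add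

/-- the projection morphism as a natural transformation -/
noncomputable def projNat (P : Y.Modules) :
    tensorLeftFunctor ((Scheme.Modules.pushforward h).obj P) ⟶
      Scheme.Modules.pullback h ⋙ tensorLeftFunctor P ⋙ Scheme.Modules.pushforward h where
  app E := projHom h P E
  naturality E E' a := projHom_naturality h P a

instance isIso_projHom_free (P : Y.Modules) (n : ℕ) : IsIso (projHom h P (FlatMod.freeMod X n)) := by
  haveI : IsIso ((projNat h P).app (Coh.structureModule X)) := isIso_projHom_unit h P
  exact isIso_app_sigma (projNat h P) (Coh.structureModule X) n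

section Zigzag

open Groth.Agent.Lib.helper11.IsoLocus Groth.Agent.Lib.helper11.InvPullback

/-- pushforward of a morphism which is an isomorphism over `h⁻¹ U` is an isomorphism over `U` -/
theorem le_isoLocus_pushforward {P Q : Y.Modules} (ψ : P ⟶ Q) (U : X.Opens)
    (hU : h ⁻¹ᵁ U ≤ isoLocus ψ) : U ≤ isoLocus ((Scheme.Modules.pushforward h).map ψ) := by
  rw [le_isoLocus_iff, isIso_restrict_iff_app]
  intro V hV
  have h1 : h ⁻¹ᵁ V ≤ isoLocus ψ := le_trans (fun z hz => hV hz) hU
  exact isIso_app_of_le_isoLocus ψ h1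

/-- **The projection morphism is an isomorphism for `E` finite locally free.** -/
theorem isIso_projHom (P : Y.Modules) (E : X.Modules) (hE : FlatMod.IsFinLocFree E) :
    IsIso (projHom h P E) := by
  rw [isIso_iff_stalk]
  intro x
  obtain ⟨U, n, hxU, ⟨e⟩⟩ := hE x
  -- the zigzag `E ⟶ Ẽ ⟵ O^n`
  let Et : X.Modules := (Scheme.Modules.pushforward U.ι).obj ((restrictFunctor U.ι).obj E)
  let a : E ⟶ Et := (restrictAdjunction U.ι).unit.app E
  let c : (restrictFunctor U.ι).obj (FlatMod.freeMod X n) ⟶ (restrictFunctor U.ι).obj E :=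
    (Groth.Agent.Lib.helper16.FLF.restrictFreeModIso U.ι n).hom ≫ e.inv
  let b : FlatMod.freeMod X n ⟶ Et :=
    (restrictAdjunction U.ι).unit.app (FlatMod.freeMod X n) ≫
      (Scheme.Modules.pushforward U.ι).map c
  have ha : U ≤ isoLocus a := le_isoLocus_restrictAdjunction_unit E U
  have hb : U ≤ isoLocus b := by
    rw [le_isoLocus_iff]
    have h1 : IsIso ((restrictFunctor U.ι).map
        ((restrictAdjunction U.ι).unit.app (FlatMod.freeMod X n))) :=
      (le_isoLocus_iff _ _).mp (le_isoLocus_restrictAdjunction_unit (FlatMod.freeMod X n) U)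
    change IsIso ((restrictFunctor U.ι).map (_ ≫ _))
    rw [Functor.map_comp]
    infer_instance
  -- the first functor
  have hta : U ≤ isoLocus (tensorMap (𝟙 ((Scheme.Modules.pushforward h).obj P)) a) :=
    le_trans (by rw [isoLocus_id, top_inf_eq]; exact ha) (isoLocus_inf_le_tensorMap (𝟙 _) a)
  have htb : U ≤ isoLocus (tensorMap (𝟙 ((Scheme.Modules.pushforward h).obj P)) b) :=
    le_trans (by rw [isoLocus_id, top_inf_eq]; exact hb) (isoLocus_inf_le_tensorMap (𝟙 _) b)
  -- the second functor
  have hqa : U ≤ isoLocus ((Scheme.Modules.pushforward h).map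
      (tensorMap (𝟙 P) ((Scheme.Modules.pullback h).map a))) := by
    apply le_isoLocus_pushforward
    refine le_trans ?_ (isoLocus_inf_le_tensorMap _ _)
    rw [isoLocus_id, top_inf_eq]
    exact le_trans (fun z hz => ha hz) (preimage_isoLocus_le h a)
  have hqb : U ≤ isoLocus ((Scheme.Modules.pushforward h).map
      (tensorMap (𝟙 P) ((Scheme.Modules.pullback h).map b))) := by
    apply le_isoLocus_pushforward
    refine le_trans ?_ (isoLocus_inf_le_tensorMap _ _)
    rw [isoLocus_id, top_inf_eq]
    exact le_trans (fun z hz => hb hz) (preimage_isoLocus_le h b)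
  -- `θ_{Ẽ}` is an isomorphism at `x`
  have h1 : IsIso (stalkMap (projHom h P Et) x) :=
    isIso_stalkMap_of_square' _ _ _ _ (projHom_naturality h P b) x
      (isIso_stalkMap_of_le _ htb hxU) inferInstance (isIso_stalkMap_of_le _ hqb hxU)
  exact isIso_stalkMap_of_square _ _ _ _ (projHom_naturality h P a) x
    (isIso_stalkMap_of_le _ hta hxU) h1 (isIso_stalkMap_of_le _ hqa hxU)

/-- **Projection formula**: `h_*P ⊗ E ≅ h_*(P ⊗ h^*E)` for `E` finite locally free. -/
noncomputable def projIso (P : Y.Modules) (E : X.Modules) (hE : FlatMod.IsFinLocFree E) :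
    CohB1.tensorMod ((Scheme.Modules.pushforward h).obj P) E ≅
      (Scheme.Modules.pushforward h).obj (CohB1.tensorMod P ((Scheme.Modules.pullback h).obj E)) :=
  haveI := isIso_projHom h P E hE
  asIso (projHom h P E)

end Zigzag

end Groth.Agent.Lib.Helper18.ProjFormulaLF
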