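import Mathlib
import Groth.Prelude.Def_Coh
import Groth.Agent.Lib.Helper20.AcyclicEmb
import Groth.Agent.Lib.Helper18.HHLES

set_option autoImplicit false

/-!
# Helper18: localisation of quasi-coherent cohomology, part 1 (acyclic embeddings)

* `pieceRestrictIso`: `(j_{U*} j_U^* M)|_W ≅ j'_* j'^* (M|_W)` on underlying abelian sheaves.
* `subsingleton_HHon_piece`: `H^p(W, (j_{U*} j_U^* M)|_W) = 0`.
* `exists_mono_acyclic'`: on a quasi-compact scheme with affine intersections of affines, a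
  quasi-coherent `M` embeds in a quasi-coherent `M'` acyclic on `X` and on `W` (for `W` meeting
  affines in affines, e.g. `W = X_f`).
* `restrict_shortExact`: restriction to an open is exact.
-/

namespace Groth.Agent.Lib.Helper18.HHLoc

open CategoryTheory Limits AlgebraicGeometry Opposite TopologicalSpace Abelian
open Groth.Agent.Lib.Helper20.AcyclicEmb

universe u
variable {X : Scheme.{u}}

/-- the two opens computing sections of `(j_{U*} j_U^* M)|_W` and of
`j'_* j'^* (M|_W)`, `j' : W ∩ U → W`, agree -/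
lemma opens_eq (U W : X.Opens) (V : (W : Scheme.{u}).Opens) :
    U.ι ''ᵁ (U.ι ⁻¹ᵁ (W.ι ''ᵁ V)) =
      W.ι ''ᵁ ((W.ι ⁻¹ᵁ U).ι ''ᵁ ((W.ι ⁻¹ᵁ U).ι ⁻¹ᵁ V)) := by
  rw [Scheme.Hom.image_preimage_eq_opensRange_inf, Scheme.Hom.image_preimage_eq_opensRange_inf,
    Scheme.Opens.opensRange_ι, Scheme.Opens.opensRange_ι]
  ext x
  constructor
  · rintro ⟨hxU, ⟨y, hy, rfl⟩⟩
    exact ⟨y, ⟨hxU, hy⟩, rfl⟩
  · rintro ⟨y, ⟨hyU, hy⟩, rfl⟩
    exact ⟨hyU, ⟨y, hy, rfl⟩⟩

lemma map_comp_eq {P : (Opens X)ᵒᵖ ⥤ AddCommGrpCat.{u}} {A B C D : (Opens X)ᵒᵖ}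
    (f : A ⟶ B) (g : B ⟶ D) (f' : A ⟶ C) (g' : C ⟶ D) :
    P.map f ≫ P.map g = P.map f' ≫ P.map g' := by
  rw [← P.map_comp, ← P.map_comp]
  congr 1

section
variable (U W : X.Opens) (M : X.Modules)

/-- components -/
noncomputable def pieceRestrictApp (V : (Opens (W : Scheme.{u}))ᵒᵖ) :
    (Coh.toAb ((piece U M).restrict W.ι)).obj.obj V ≅
      (Coh.toAb (piece (W.ι ⁻¹ᵁ U) (M.restrict W.ι))).obj.obj V :=
  (Coh.toAb M).obj.mapIso (eqToIso (congrArg op (opens_eq U W V.unop)))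

lemma map1 {V V' : (Opens (W : Scheme.{u}))ᵒᵖ} (a : V ⟶ V') :
    (Coh.toAb ((piece U M).restrict W.ι)).obj.map a =
      (Coh.toAb M).obj.map (U.ι.opensFunctor.map ((Opens.map U.ι.base).map
        (W.ι.opensFunctor.map a.unop))).op := rfl

lemma map2 {V V' : (Opens (W : Scheme.{u}))ᵒᵖ} (a : V ⟶ V') :
    (Coh.toAb (piece (W.ι ⁻¹ᵁ U) (M.restrict W.ι))).obj.map a =
      (Coh.toAb M).obj.map (W.ι.opensFunctor.map ((W.ι ⁻¹ᵁ U).ι.opensFunctor.map
        ((Opens.map (W.ι ⁻¹ᵁ U).ι.base).map a.unop))).op := rfl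

lemma pieceRestrictApp_naturality {V V' : (Opens (W : Scheme.{u}))ᵒᵖ} (a : V ⟶ V') :
    (Coh.toAb ((piece U M).restrict W.ι)).obj.map a ≫ (pieceRestrictApp U W M V').hom =
      (pieceRestrictApp U W M V).hom ≫
        (Coh.toAb (piece (W.ι ⁻¹ᵁ U) (M.restrict W.ι))).obj.map a := by
  rw [map1, map2]
  unfold pieceRestrictApp
  rw [Functor.mapIso_hom, Functor.mapIso_hom]
  exact map_comp_eq _ _ _ _

/-- `(j_{U*} j_U^* M)|_W ≅ j'_* j'^* (M|_W)` on underlying abelian sheaves -/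
noncomputable def pieceRestrictIso :
    Coh.toAb ((piece U M).restrict W.ι) ≅ Coh.toAb (piece (W.ι ⁻¹ᵁ U) (M.restrict W.ι)) :=
  (fullyFaithfulSheafToPresheaf _ _).preimageIso
    (NatIso.ofComponents (pieceRestrictApp U W M)
      (fun a => pieceRestrictApp_naturality U W M a))

end

lemma subsingleton_H_of_iso {Y : Scheme.{u}}
    {F G : Sheaf (Opens.grothendieckTopology Y) AddCommGrpCat.{u}}
    (e : F ≅ G) (n : ℕ) (h : Subsingleton (Sheaf.H G n)) : Subsingleton (Sheaf.H F n) := by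
  refine ⟨fun x y => ?_⟩
  have hx : Sheaf.H.map e.inv n (Sheaf.H.map e.hom n x) = x := by
    rw [← Sheaf.H.map_comp_apply, e.hom_inv_id, Sheaf.H.map_id_apply]
  have hy : Sheaf.H.map e.inv n (Sheaf.H.map e.hom n y) = y := by
    rw [← Sheaf.H.map_comp_apply, e.hom_inv_id, Sheaf.H.map_id_apply]
  rw [← hx, ← hy, Subsingleton.elim (Sheaf.H.map e.hom n x) (Sheaf.H.map e.hom n y)]

/-- affine opens of an open subscheme have affine intersections if this holds on the ambient
scheme -/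
lemma hd_opens (hd : ∀ V W : X.Opens, IsAffineOpen V → IsAffineOpen W → IsAffineOpen (V ⊓ W))
    (W : X.Opens) :
    ∀ V V' : (W : Scheme.{u}).Opens, IsAffineOpen V → IsAffineOpen V' → IsAffineOpen (V ⊓ V') := by
  intro V V' hV hV'
  rw [← Scheme.Hom.isAffineOpen_iff_of_isOpenImmersion W.ι] at hV hV' ⊢
  have : W.ι ''ᵁ (V ⊓ V') = W.ι ''ᵁ V ⊓ W.ι ''ᵁ V' := by
    ext x
    constructor
    · rintro ⟨y, ⟨hy, hy'⟩, rfl⟩
      exact ⟨⟨y, hy, rfl⟩, ⟨y, hy', rfl⟩⟩
    · rintro ⟨⟨y, hy, rfl⟩, ⟨y', hy', h⟩⟩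
      have : y' = y := W.ι.isOpenEmbedding.injective h
      subst this
      exact ⟨y', ⟨hy, hy'⟩, rfl⟩
  rw [this]
  exact hd _ _ hV hV'

/-- `H^p(W, (j_{U*} j_U^* M)|_W) = 0` for `p > 0`, `U` and `W ∩ U` affine, `M` quasi-coherent -/
theorem subsingleton_HHon_piece
    (hd : ∀ V W : X.Opens, IsAffineOpen V → IsAffineOpen W → IsAffineOpen (V ⊓ W))
    (U W : X.Opens) (hWU : IsAffineOpen (W ⊓ U)) (M : X.Modules) [M.IsQuasicoherent]
    (p : ℕ) (hp : 0 < p) : Subsingleton (Coh.HHon X (piece U M) W p) := by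
  have hU' : IsAffineOpen (W.ι ⁻¹ᵁ U) := by
    rw [← Scheme.Hom.isAffineOpen_iff_of_isOpenImmersion W.ι,
      Scheme.Hom.image_preimage_eq_opensRange_inf, Scheme.Opens.opensRange_ι]
    exact hWU
  have h := subsingleton_HH_piece (hd_opens hd W) (W.ι ⁻¹ᵁ U) hU' (M.restrict W.ι) p hp
  exact subsingleton_H_of_iso (pieceRestrictIso U W M) p h

instance (W : X.Opens) : (Scheme.Modules.restrictFunctor W.ι).Additive :=
  (Scheme.Modules.restrictAdjunction W.ι).left_adjoint_additive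

/-- restriction to an open preserves limits (computed sectionwise) -/
theorem preservesLimits_restrictFunctor {X Y : Scheme.{u}} (j : X ⟶ Y) [IsOpenImmersion j] :
    PreservesLimitsOfSize.{u, u} (Scheme.Modules.restrictFunctor j) := by
  haveI : ReflectsLimitsOfSize.{u, u} (Scheme.Modules.toPresheaf X) :=
    reflectsLimits_of_reflectsIsomorphisms
  have h1 : PreservesLimitsOfSize.{u, u} (Scheme.Modules.toPresheaf Y) := inferInstance
  have h2 : PreservesLimitsOfSize.{u, u}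
      ((Functor.whiskeringLeft (Opens ↥X)ᵒᵖ (Opens ↥Y)ᵒᵖ Ab.{u}).obj j.opensFunctor.op) :=
    whiskeringLeft_preservesLimits _
  have h3 : PreservesLimitsOfSize.{u, u} (Scheme.Modules.toPresheaf Y ⋙
      (Functor.whiskeringLeft (Opens ↥X)ᵒᵖ (Opens ↥Y)ᵒᵖ Ab.{u}).obj j.opensFunctor.op) :=
    @comp_preservesLimits _ _ _ _ _ _ _ _ h1 h2
  haveI : PreservesLimitsOfSize.{u, u}
      (Scheme.Modules.restrictFunctor j ⋙ Scheme.Modules.toPresheaf X) :=
    preservesLimits_of_natIso (Iso.refl _ : Scheme.Modules.toPresheaf Y ⋙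
      (Functor.whiskeringLeft _ _ _).obj j.opensFunctor.op ≅
        Scheme.Modules.restrictFunctor j ⋙ Scheme.Modules.toPresheaf X)
  exact preservesLimits_of_reflects_of_preserves _ (Scheme.Modules.toPresheaf X)

/-- restriction to an open is exact -/
theorem restrict_shortExact (W : X.Opens) {S : ShortComplex X.Modules} (hS : S.ShortExact) :
    (S.map (Scheme.Modules.restrictFunctor W.ι)).ShortExact := by
  haveI := preservesLimits_restrictFunctor W.ι
  haveI : PreservesFiniteLimits (Scheme.Modules.restrictFunctor W.ι) :=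
    (PreservesLimitsOfSize.preservesFiniteLimits.{u, u} (Scheme.Modules.restrictFunctor W.ι) :)
  haveI : PreservesFiniteColimits (Scheme.Modules.restrictFunctor W.ι) := inferInstance
  exact hS.map_of_exact (Scheme.Modules.restrictFunctor W.ι)

attribute [local instance] Abelian.hasFiniteBiproducts

/-- acyclic embedding, simultaneously on `X` and on an open `W` whose intersections with affine
opens are affine -/
theorem exists_mono_acyclic' (X : Scheme.{u}) [CompactSpace X]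
    (hd : ∀ V W : X.Opens, IsAffineOpen V → IsAffineOpen W → IsAffineOpen (V ⊓ W))
    (W : X.Opens) (hW : ∀ U : X.Opens, IsAffineOpen U → IsAffineOpen (W ⊓ U))
    (M : X.Modules) [M.IsQuasicoherent] :
    ∃ (M' : X.Modules) (i : M ⟶ M'), Mono i ∧ M'.IsQuasicoherent ∧
      (∀ p : ℕ, 0 < p → Subsingleton (Coh.HH X M' p)) ∧
      (∀ p : ℕ, 0 < p → Subsingleton (Coh.HHon X M' W p)) := by
  obtain ⟨n, U, hU, hcov⟩ := exists_finite_affine_cover X
  let P : Fin n → X.Modules := fun j => piece (U j) M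
  let i : M ⟶ ⨁ P := biproduct.lift (fun j => toPiece (U j) M)
  refine ⟨⨁ P, i, ?_, ?_, ?_, ?_⟩
  · apply mono_of_injective_app
    intro V
    rw [injective_iff_map_eq_zero]
    intro s hs
    have key : ∀ j, (toPiece (U j) M).app V s = 0 := by
      intro j
      have h1 : i ≫ biproduct.π P j = toPiece (U j) M := biproduct.lift_π _ _
      rw [← h1, Scheme.Modules.Hom.comp_app]
      show (biproduct.π P j).app V (i.app V s) = 0
      rw [hs, map_zero]
    let F : TopCat.Sheaf AddCommGrpCat.{u} X.toTopCat := ⟨M.presheaf, M.isSheaf⟩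
    refine TopCat.Sheaf.eq_of_locally_eq' F
      (fun j => (U j).ι ''ᵁ ((U j).ι ⁻¹ᵁ V)) V
      (fun j => homOfLE ((U j).ι.image_preimage_le V)) ?_ s 0 ?_
    · intro x hx
      obtain ⟨j, hj⟩ := hcov x
      refine Opens.mem_iSup.mpr ⟨j, ?_⟩
      rw [Scheme.Hom.image_preimage_eq_opensRange_inf, Scheme.Opens.opensRange_ι]
      exact ⟨hj, hx⟩
    · intro j
      rw [map_zero]
      exact key j
  · have h : ∀ j, (P j).IsQuasicoherent := fun j => isQuasicoherent_piece hd (U j) (hU j) M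
    exact Groth.Agent.Lib.helper7.QCohProd.isQuasicoherent_of_iso (biproduct.isoProduct P).symm
      (Groth.Agent.Lib.helper7.QCohProd.isQuasicoherent_piObj P h)
  · intro p hp
    exact subsingleton_HH_biproduct P p (fun j => subsingleton_HH_piece hd (U j) (hU j) M p hp)
  · intro p hp
    exact subsingleton_ext_biproduct
      (Scheme.Modules.restrictFunctor W.ι ⋙ toAbFunctor (W : Scheme.{u})) P _ p
      (fun j => subsingleton_HHon_piece hd (U j) W (hW _ (hU j)) M p hp)

end Groth.Agent.Lib.Helper18.HHLoc
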