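import Mathlib
import Groth.Agent.Lib.Helper18.PullbackStalk

/-!
# Helper18: a finite morphism whose fibre is a closed immersion is a closed immersion nearby

* `exists_mul_mem_range`: ring-level Nakayama-type lemma.
* `isClosedImmersion_morphismRestrict_basicOpen`
* `exists_isClosedImmersion_of_isFinite`: for a cartesian square `IsPullback a b f t` with `f` finite
  and `b` a closed immersion, `f` is a closed immersion over an open neighbourhood of `t t₀`.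
-/

universe u

namespace Groth.Agent.Lib.Helper18.ClosedImmNear

open TensorProduct

/-- Ring-level key lemma: if `B` is a finite `A`-algebra, `P = K ⊗_A B` and `K → P` is surjective,
then for every prime `p'` of `K` there is `g : A` whose image in `K` is not in `p'` with
`g • B ⊆ im (A → B)`. -/
theorem exists_mul_mem_range (A B K P : Type*) [CommRing A] [CommRing B] [CommRing K] [CommRing P]
    [Algebra A B] [Algebra A K] [Algebra K P] [Algebra B P] [Algebra A P]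
    [IsScalarTower A K P] [IsScalarTower A B P]
    [Algebra.IsPushout A K B P] [Module.Finite A B]
    (hs : Function.Surjective (algebraMap K P)) (p' : PrimeSpectrum K) :
    ∃ g : A, algebraMap A K g ∉ p'.asIdeal ∧
      ∀ b : B, ∃ a : A, algebraMap A B g * b = algebraMap A B a := by
  let N : Submodule A B := LinearMap.range (Algebra.linearMap A B)
  have h1 : (1 : B) ∈ N := ⟨1, by simp⟩
  have hsub : Subsingleton (K ⊗[A] (B ⧸ N)) := by
    refine subsingleton_of_forall_eq 0 fun z => ?_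
    obtain ⟨t, rfl⟩ := LinearMap.lTensor_surjective K N.mkQ_surjective z
    obtain ⟨k, hk⟩ := hs (Algebra.IsPushout.equiv A K B P t)
    have ht : t = k ⊗ₜ[A] (1 : B) := by
      apply (Algebra.IsPushout.equiv A K B P).injective
      rw [← hk]
      simp [Algebra.IsPushout.equiv_tmul]
    rw [ht]
    simp only [LinearMap.lTensor_tmul, Submodule.mkQ_apply]
    rw [(Submodule.Quotient.mk_eq_zero N).mpr h1, tmul_zero]
  have hsupp : PrimeSpectrum.comap (algebraMap A K) p' ∉ Module.support A (B ⧸ N) := by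
    rw [← Groth.Agent.Lib.Helper18.PullbackStalk.mem_support_baseChange_iff A K (B ⧸ N) p']
    rw [Module.support_eq_empty_iff.mpr hsub]
    exact Set.notMem_empty _
  rw [Module.support_eq_zeroLocus, PrimeSpectrum.mem_zeroLocus, SetLike.coe_subset_coe,
    SetLike.not_le_iff_exists] at hsupp
  obtain ⟨g, hg, hgp⟩ := hsupp
  refine ⟨g, fun h => hgp h, fun b => ?_⟩
  have := Module.mem_annihilator.mp hg (N.mkQ b)
  rw [← map_smul, Submodule.mkQ_apply, Submodule.Quotient.mk_eq_zero] at this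
  obtain ⟨a, ha⟩ := this
  exact ⟨a, by rw [← Algebra.smul_def]; exact ha.symm⟩


open AlgebraicGeometry CategoryTheory Limits

section
variable {X Y : Scheme.{u}} {f : X ⟶ Y}

/-- If `W` is affine with affine preimage, and `g ∈ Γ(Y, W)` is such that `g • Γ(X, f⁻¹W)` lies in
the image of `Γ(Y, W)`, then `f` is a closed immersion over `D(g)`. -/
theorem isClosedImmersion_morphismRestrict_basicOpen (W : Y.Opens) (hW : IsAffineOpen W)
    (hUX : IsAffineOpen (f ⁻¹ᵁ W)) (g : Γ(Y, W))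
    (hg : ∀ b : Γ(X, f ⁻¹ᵁ W), ∃ a : Γ(Y, W), f.app W g * b = f.app W a) :
    IsClosedImmersion (f ∣_ Y.basicOpen g) := by
  have hV : IsAffineOpen (Y.basicOpen g) := hW.basicOpen g
  have e : f ⁻¹ᵁ Y.basicOpen g = X.basicOpen (f.app W g) := Scheme.preimage_basicOpen f g
  have hV' : IsAffineOpen (f ⁻¹ᵁ Y.basicOpen g) := by rw [e]; exact hUX.basicOpen _
  have : IsAffine ((Y.basicOpen g : Y.Opens) : Scheme) := hV
  have : IsAffine ((f ⁻¹ᵁ Y.basicOpen g : X.Opens) : Scheme) := hV'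
  rw [HasAffineProperty.iff_of_isAffine (P := @IsClosedImmersion)]
  refine ⟨inferInstance, ?_⟩
  have key : Function.Surjective (f.app (Y.basicOpen g)) := by
    intro z
    let i : f ⁻¹ᵁ Y.basicOpen g ⟶ f ⁻¹ᵁ W := homOfLE (f.preimage_mono (Y.basicOpen_le g))
    have hloc := hUX.isLocalization_of_eq_basicOpen (f.app W g) i e
    let alg : Algebra Γ(X, f ⁻¹ᵁ W) Γ(X, f ⁻¹ᵁ Y.basicOpen g) :=
      (X.presheaf.map i.op).hom.toAlgebra
    have : IsLocalization.Away (f.app W g) Γ(X, f ⁻¹ᵁ Y.basicOpen g) := hloc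
    obtain ⟨⟨b, m⟩, hbm⟩ := IsLocalization.surj (Submonoid.powers (f.app W g)) z
    obtain ⟨n, hn⟩ := m.2
    obtain ⟨a', ha'⟩ := hg b
    -- unit
    have hu : IsUnit (Y.presheaf.map (homOfLE (Y.basicOpen_le g)).op g) :=
      Y.toRingedSpace.isUnit_res_basicOpen g
    obtain ⟨u, hu'⟩ := hu
    have hnat : ∀ s : Γ(Y, W), f.app (Y.basicOpen g) (Y.presheaf.map (homOfLE (Y.basicOpen_le g)).op s) =
        X.presheaf.map i.op (f.app W s) := by
      intro s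
      have := f.naturality (homOfLE (Y.basicOpen_le g)).op
      exact congr($(this).hom s)
    have hw : X.presheaf.map i.op (f.app W g) = f.app (Y.basicOpen g) u := by
      rw [hu', hnat]
    have h1 : z * (X.presheaf.map i.op (f.app W g)) ^ n = X.presheaf.map i.op b := by
      have : algebraMap Γ(X, f ⁻¹ᵁ W) Γ(X, f ⁻¹ᵁ Y.basicOpen g) (m : Γ(X, f ⁻¹ᵁ W)) =
          (X.presheaf.map i.op (f.app W g)) ^ n := by
        rw [← hn, map_pow]; rfl
      rw [← this]; exact hbm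
    have h2 : z * (f.app (Y.basicOpen g) u) ^ (n + 1) =
        f.app (Y.basicOpen g) (Y.presheaf.map (homOfLE (Y.basicOpen_le g)).op a') := by
      rw [hnat, ← ha', map_mul, ← hw, pow_succ, ← mul_assoc, h1, mul_comm]
    refine ⟨Y.presheaf.map (homOfLE (Y.basicOpen_le g)).op a' * ((u⁻¹ : _ˣ) : Γ(Y, Y.basicOpen g)) ^ (n + 1), ?_⟩
    rw [map_mul, ← h2, map_pow, mul_assoc, ← mul_pow, ← map_mul]
    simp
  have hcomp : ∀ {R S T : CommRingCat.{u}} (φ : R ⟶ S) (ψ : S ⟶ T) [IsIso ψ],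
      Function.Surjective φ → Function.Surjective (φ ≫ ψ) := by
    intro R S T φ ψ _ hφ
    have : (⇑(φ ≫ ψ) : R → T) = ⇑ψ ∘ ⇑φ := by ext; simp
    rw [this]
    exact (ConcreteCategory.bijective_of_isIso ψ).2.comp hφ
  have : ∀ U' : Y.Opens, U' = Y.basicOpen g → Function.Surjective (f.app U') := by
    rintro _ rfl; exact key
  rw [morphismRestrict_appTop]
  have hiso : ∀ {U₁ U₂ : X.Opens} (h : U₁ = U₂), IsIso (X.presheaf.map (eqToHom h).op) := by
    intro U₁ U₂ h; subst h; simp only [eqToHom_refl, op_id, CategoryTheory.Functor.map_id]; infer_instance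
  exact @hcomp _ _ _ _ _ (hiso _) (this _ (by simp))


end

variable {P X Y T : Scheme.{u}} {a : P ⟶ X} {b : P ⟶ T} {f : X ⟶ Y} {t : T ⟶ Y}

theorem mem_basicOpen_iff_notMem_primeIdealOf {X : Scheme.{u}} {U : X.Opens} (hU : IsAffineOpen U)
    (x : X) (hx : x ∈ U) (s : Γ(X, U)) :
    x ∈ X.basicOpen s ↔ s ∉ (hU.primeIdealOf ⟨x, hx⟩).asIdeal := by
  have h1 : hU.fromSpec (hU.primeIdealOf ⟨x, hx⟩) = x := hU.fromSpec_primeIdealOf ⟨x, hx⟩
  have h2 := hU.fromSpec_preimage_basicOpen s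
  have h3 : hU.primeIdealOf ⟨x, hx⟩ ∈ hU.fromSpec ⁻¹ᵁ X.basicOpen s ↔ x ∈ X.basicOpen s := by
    show hU.fromSpec (hU.primeIdealOf ⟨x, hx⟩) ∈ X.basicOpen s ↔ _
    rw [h1]
  rw [← h3, h2]
  exact PrimeSpectrum.mem_basicOpen _ _

theorem exists_isClosedImmersion_of_isFinite (H : IsPullback a b f t) [IsFinite f]
    [IsClosedImmersion b] (t₀ : T) :
    ∃ V : Y.Opens, t t₀ ∈ V ∧ IsClosedImmersion (f ∣_ V) := by
  obtain ⟨_, ⟨W, hW, rfl⟩, hyW, -⟩ :=
    Y.isBasis_affineOpens.exists_subset_of_mem_open (Set.mem_univ (t t₀)) isOpen_univ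
  obtain ⟨_, ⟨UT, hUT, rfl⟩, htUT, hTS⟩ :=
    T.isBasis_affineOpens.exists_subset_of_mem_open
      (show t₀ ∈ (t ⁻¹ᵁ W : Set T) from hyW) (t ⁻¹ᵁ W).2
  have hUX : IsAffineOpen (f ⁻¹ᵁ W) := hW.preimage f
  have hXS : f ⁻¹ᵁ W ≤ f ⁻¹ᵁ W := le_rfl
  have hTS' : UT ≤ t ⁻¹ᵁ W := hTS
  let UY : P.Opens := a ⁻¹ᵁ (f ⁻¹ᵁ W) ⊓ b ⁻¹ᵁ UT
  have hUYeq : b ⁻¹ᵁ UT ≤ UY := by
    apply le_inf _ le_rfl
    intro p hp
    show f (a p) ∈ W
    rw [← Scheme.Hom.comp_apply, H.w, Scheme.Hom.comp_apply]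
    exact hTS' hp
  have : IsIso (pushoutSection H hTS' hXS (UY := UY) rfl) :=
    isIso_pushoutSection_of_isAffineOpen H hTS' hXS rfl hW hUT hUX
  have hPO := (isIso_pushoutSection_iff H hTS' hXS rfl).mp this
  let _ : Algebra Γ(Y, W) Γ(X, f ⁻¹ᵁ W) := (f.appLE W (f ⁻¹ᵁ W) hXS).hom.toAlgebra
  let _ : Algebra Γ(Y, W) Γ(T, UT) := (t.appLE W UT hTS').hom.toAlgebra
  let _ : Algebra Γ(X, f ⁻¹ᵁ W) Γ(P, UY) := (a.appLE (f ⁻¹ᵁ W) UY inf_le_left).hom.toAlgebra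
  let _ : Algebra Γ(T, UT) Γ(P, UY) := (b.appLE UT UY inf_le_right).hom.toAlgebra
  let _ : Algebra Γ(Y, W) Γ(P, UY) :=
    ((a.appLE (f ⁻¹ᵁ W) UY inf_le_left).hom.comp (f.appLE W (f ⁻¹ᵁ W) hXS).hom).toAlgebra
  have : IsScalarTower Γ(Y, W) Γ(X, f ⁻¹ᵁ W) Γ(P, UY) :=
    IsScalarTower.of_algebraMap_eq fun _ => rfl
  have : IsScalarTower Γ(Y, W) Γ(T, UT) Γ(P, UY) :=
    IsScalarTower.of_algebraMap_eq fun r => congr($(hPO.w).hom r)
  have : Algebra.IsPushout Γ(Y, W) Γ(T, UT) Γ(X, f ⁻¹ᵁ W) Γ(P, UY) :=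
    CommRingCat.isPushout_iff_isPushout.mp hPO.flip
  have hfin : Module.Finite Γ(Y, W) Γ(X, f ⁻¹ᵁ W) := by
    have h := IsFinite.finite_app f W hW
    rw [← Scheme.Hom.appLE_eq_app] at h
    exact h
  have hs : Function.Surjective (algebraMap Γ(T, UT) Γ(P, UY)) := by
    show Function.Surjective (b.appLE UT UY inf_le_right)
    have h1 : Function.Surjective (b.app UT) := b.app_surjective UT hUT
    have h2 : b.appLE UT UY inf_le_right = b.app UT ≫ P.presheaf.map (homOfLE inf_le_right).op :=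
      rfl
    rw [h2]
    have : IsIso (P.presheaf.map (homOfLE (inf_le_right : UY ≤ b ⁻¹ᵁ UT)).op) := by
      have : IsIso (homOfLE (inf_le_right : UY ≤ b ⁻¹ᵁ UT)) :=
        ⟨homOfLE hUYeq, Subsingleton.elim _ _, Subsingleton.elim _ _⟩
      infer_instance
    simp only [CommRingCat.hom_comp, RingHom.coe_comp]
    exact (ConcreteCategory.bijective_of_isIso _).2.comp h1
  obtain ⟨g, hgp, hg⟩ := exists_mul_mem_range Γ(Y, W) Γ(X, f ⁻¹ᵁ W) Γ(T, UT) Γ(P, UY) hs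
    (hUT.primeIdealOf ⟨t₀, htUT⟩)
  refine ⟨Y.basicOpen g, ?_, ?_⟩
  · have h1 : t₀ ∈ T.basicOpen (t.appLE W UT hTS' g) :=
      (mem_basicOpen_iff_notMem_primeIdealOf hUT t₀ htUT _).mpr hgp
    rw [Scheme.basicOpen_appLE] at h1
    exact h1.2
  · refine isClosedImmersion_morphismRestrict_basicOpen W hW hUX g fun b => ?_
    obtain ⟨a', ha'⟩ := hg b
    refine ⟨a', ?_⟩
    have e : ∀ s : Γ(Y, W), algebraMap Γ(Y, W) Γ(X, f ⁻¹ᵁ W) s = f.app W s := fun s => by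
      show f.appLE W (f ⁻¹ᵁ W) hXS s = f.app W s
      rw [Scheme.Hom.appLE_eq_app]
    rw [← e, ← e]; exact ha'


/-- Transfer a property of a double restriction to a single restriction. -/
theorem exists_of_restrict {Q : MorphismProperty Scheme.{u}} [Q.RespectsIso] (f : X ⟶ Y)
    (V : Y.Opens) (y' : V)
    (h : ∃ V₁ : (V : Scheme.{u}).Opens, y' ∈ V₁ ∧ Q (f ∣_ V ∣_ V₁)) :
    ∃ U : Y.Opens, y'.1 ∈ U ∧ Q (f ∣_ U) := by
  obtain ⟨V₁, hy, hQ⟩ := h
  exact ⟨V.ι ''ᵁ V₁, ⟨y', hy, rfl⟩, (Q.arrow_mk_iso_iff (morphismRestrictRestrict f V V₁)).mp hQ⟩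

/-- Restriction of a cartesian square to an open of the base. -/
theorem isPullback_restrict (H : IsPullback a b f t) (V : Y.Opens) :
    ∃ a' : ↑(b ⁻¹ᵁ (t ⁻¹ᵁ V)) ⟶ ↑(f ⁻¹ᵁ V),
      IsPullback a' (b ∣_ (t ⁻¹ᵁ V)) (f ∣_ V) (t ∣_ V) := by
  have hUY : b ⁻¹ᵁ (t ⁻¹ᵁ V) = a ⁻¹ᵁ (f ⁻¹ᵁ V) ⊓ b ⁻¹ᵁ (t ⁻¹ᵁ V) := by
    rw [← Scheme.Hom.comp_preimage, ← Scheme.Hom.comp_preimage, H.w, inf_idem]
  have := Scheme.Hom.isPullback_resLE H (US := V) (UT := t ⁻¹ᵁ V) (UX := f ⁻¹ᵁ V) le_rfl le_rfl hUY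
  rw [Scheme.Hom.resLE_eq_morphismRestrict, Scheme.Hom.resLE_eq_morphismRestrict,
    Scheme.Hom.resLE_eq_morphismRestrict] at this
  exact ⟨_, this⟩

theorem exists_preimage_of_isPullback (H : IsPullback a b f t) (x : X) (t₀ : T) (h : f x = t t₀) :
    ∃ p : P, a p = x ∧ b p = t₀ := by
  obtain ⟨z, hz1, hz2⟩ := Scheme.Pullback.exists_preimage_pullback x t₀ h
  refine ⟨H.isoPullback.inv z, ?_, ?_⟩
  · rw [← Scheme.Hom.comp_apply, H.isoPullback_inv_fst]; exact hz1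
  · rw [← Scheme.Hom.comp_apply, H.isoPullback_inv_snd]; exact hz2

/-- The finite case, with finiteness only over a neighbourhood. -/
theorem exists_isClosedImmersion_of_isFinite_nhd (H : IsPullback a b f t) [IsClosedImmersion b]
    (t₀ : T) (U₂ : Y.Opens) (hU₂ : t t₀ ∈ U₂) [IsFinite (f ∣_ U₂)] :
    ∃ U : Y.Opens, t t₀ ∈ U ∧ IsClosedImmersion (f ∣_ U) := by
  obtain ⟨a', H'⟩ := isPullback_restrict H U₂
  obtain ⟨V₃, hV₃, hci⟩ := exists_isClosedImmersion_of_isFinite H' ⟨t₀, hU₂⟩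
  have := exists_of_restrict (Q := @IsClosedImmersion) f U₂ ((t ∣_ U₂) ⟨t₀, hU₂⟩) ⟨V₃, hV₃, hci⟩
  rwa [morphismRestrict_base_coe] at this

theorem exists_isClosedImmersion_of_universallyClosed (H : IsPullback a b f t)
    [LocallyOfFiniteType f] [UniversallyClosed f] [IsClosedImmersion b] (t₀ : T) :
    ∃ U : Y.Opens, t t₀ ∈ U ∧ IsClosedImmersion (f ∣_ U) := by
  have hsub : (f ⁻¹' {t t₀}).Subsingleton := by
    intro x₁ h₁ x₂ h₂
    obtain ⟨p₁, hp₁a, hp₁b⟩ := exists_preimage_of_isPullback H x₁ t₀ h₁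
    obtain ⟨p₂, hp₂a, hp₂b⟩ := exists_preimage_of_isPullback H x₂ t₀ h₂
    have : p₁ = p₂ := b.isClosedEmbedding.injective (hp₁b.trans hp₂b.symm)
    rw [← hp₁a, ← hp₂a, this]
  by_cases hne : (f ⁻¹' {t t₀}).Nonempty
  · obtain ⟨x, hx⟩ := hne
    obtain ⟨_, ⟨Wx, hWx, rfl⟩, hxW, -⟩ :=
      X.isBasis_affineOpens.exists_subset_of_mem_open (Set.mem_univ x) isOpen_univ
    have hZ : IsClosed (f '' ((Wx : Set X)ᶜ)) := f.isClosedMap _ Wx.isOpen.isClosed_compl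
    let U₁ : Y.Opens := ⟨(f '' ((Wx : Set X)ᶜ))ᶜ, hZ.isOpen_compl⟩
    have hyU₁ : t t₀ ∈ U₁ := by
      rintro ⟨z, hz, hzy⟩
      exact hz ((hsub hzy hx) ▸ hxW)
    have hle : f ⁻¹ᵁ U₁ ≤ Wx := by
      intro x' hx'
      by_contra hcon
      exact hx' ⟨x', hcon, rfl⟩
    have hsep : (↑(f ⁻¹ᵁ U₁) : Scheme.{u}).IsSeparated := by
      have : IsAffine (Wx : Scheme.{u}) := hWx
      refine ⟨?_⟩
      rw [← terminal.comp_from (X.homOfLE hle)]
      infer_instance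
    have : IsProper (f ∣_ U₁) := {}
    have hfin : ((f ∣_ U₁) ⁻¹' {⟨t t₀, hyU₁⟩}).Finite := by
      apply Set.Subsingleton.finite
      intro x₁ h₁ x₂ h₂
      apply (f ⁻¹ᵁ U₁).ι.isOpenEmbedding.injective
      apply hsub
      · show f x₁.1 = t t₀
        rw [← morphismRestrict_base_coe, h₁]
      · show f x₂.1 = t t₀
        rw [← morphismRestrict_base_coe, h₂]
    obtain ⟨V₂, hV₂, hV₂fin⟩ :=
      exists_isFinite_morphismRestrict_of_finite_preimage_singleton (f ∣_ U₁) ⟨t t₀, hyU₁⟩ hfin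
    obtain ⟨U₂, hU₂, hU₂fin⟩ := exists_of_restrict (Q := @IsFinite) f U₁ ⟨t t₀, hyU₁⟩
      ⟨V₂, hV₂, hV₂fin⟩
    exact exists_isClosedImmersion_of_isFinite_nhd H t₀ U₂ hU₂
  · have hR : IsClosed (Set.range f) := f.isClosedMap.isClosed_range
    refine ⟨⟨(Set.range f)ᶜ, hR.isOpen_compl⟩, ?_, ?_⟩
    · rintro ⟨x, hx⟩
      exact hne ⟨x, hx⟩
    · have : IsEmpty ↑(f ⁻¹ᵁ (⟨(Set.range f)ᶜ, hR.isOpen_compl⟩ : Y.Opens)) := by
        constructor
        rintro ⟨x, hx⟩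
        exact hx ⟨x, rfl⟩
      infer_instance


/-- Version with `f` universally closed only over a neighbourhood. -/
theorem exists_isClosedImmersion_of_universallyClosed_nhd (H : IsPullback a b f t)
    [LocallyOfFiniteType f] [IsClosedImmersion b] (t₀ : T) (V : Y.Opens) (hV : t t₀ ∈ V)
    [UniversallyClosed (f ∣_ V)] :
    ∃ U : Y.Opens, t t₀ ∈ U ∧ IsClosedImmersion (f ∣_ U) := by
  obtain ⟨a', H'⟩ := isPullback_restrict H V
  obtain ⟨V₃, hV₃, hci⟩ := exists_isClosedImmersion_of_universallyClosed H' ⟨t₀, hV⟩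
  have := exists_of_restrict (Q := @IsClosedImmersion) f V ((t ∣_ V) ⟨t₀, hV⟩) ⟨V₃, hV₃, hci⟩
  rwa [morphismRestrict_base_coe] at this

section

variable {X Y S : Scheme.{u}}

/-- If `Q` holds for `f ∣_ V`, it holds for the restriction of `f ∣_ U` to `U ∩ V`. -/
theorem restrict_inf {Q : MorphismProperty Scheme.{u}} [IsZariskiLocalAtTarget Q] (f : X ⟶ Y)
    (U V : Y.Opens) (hV : Q (f ∣_ V)) : Q (f ∣_ U ∣_ (U.ι ⁻¹ᵁ V)) := by
  rw [Q.arrow_mk_iso_iff (morphismRestrictRestrict f U (U.ι ⁻¹ᵁ V))]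
  have e : U.ι ''ᵁ (U.ι ⁻¹ᵁ V) = V.ι ''ᵁ (V.ι ⁻¹ᵁ U) := by
    rw [Scheme.Hom.image_preimage_eq_opensRange_inf, Scheme.Hom.image_preimage_eq_opensRange_inf,
      Scheme.Opens.opensRange_ι, Scheme.Opens.opensRange_ι, inf_comm]
  rw [Q.arrow_mk_iso_iff (morphismRestrictEq f e),
    ← Q.arrow_mk_iso_iff (morphismRestrictRestrict f V (V.ι ⁻¹ᵁ U))]
  exact IsZariskiLocalAtTarget.restrict hV _

/-- If `h` is a closed map and `Q` (local on the target) holds for `f` near every point of the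
fibre `h⁻¹(s)`, then `Q` holds for `f` over `h⁻¹(U)` for some open neighbourhood `U` of `s`. -/
theorem exists_preimage_nhd {Q : MorphismProperty Scheme.{u}} [IsZariskiLocalAtTarget Q]
    (f : X ⟶ Y) (h : Y ⟶ S) (hh : IsClosedMap h) (s : S)
    (H : ∀ y, h y = s → ∃ V : Y.Opens, y ∈ V ∧ Q (f ∣_ V)) :
    ∃ U : S.Opens, s ∈ U ∧ Q (f ∣_ (h ⁻¹ᵁ U)) := by
  let Vtot : Y.Opens := sSup {V | Q (f ∣_ V)}
  have hC : IsClosed (h '' ((Vtot : Set Y)ᶜ)) := hh _ Vtot.isOpen.isClosed_compl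
  refine ⟨⟨(h '' ((Vtot : Set Y)ᶜ))ᶜ, hC.isOpen_compl⟩, ?_, ?_⟩
  · rintro ⟨c, hc, hcs⟩
    obtain ⟨V, hcV, hV⟩ := H c hcs
    exact hc (TopologicalSpace.Opens.mem_sSup.mpr ⟨V, hV, hcV⟩)
  · apply IsZariskiLocalAtTarget.of_forall_exists_morphismRestrict
    intro x
    have hx : x.1 ∈ Vtot := by
      by_contra hcon
      exact x.2 ⟨x.1, hcon, rfl⟩
    obtain ⟨V, hV, hxV⟩ := TopologicalSpace.Opens.mem_sSup.mp hx
    exact ⟨(Scheme.Opens.ι _) ⁻¹ᵁ V, hxV, restrict_inf f _ V hV⟩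

end

end Groth.Agent.Lib.Helper18.ClosedImmNear
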