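import Mathlib
import Groth.Agent.Lib.Helper28.LocalGen
import Groth.Agent.Lib.Helper2.ModSec3

set_option autoImplicit false
universe u
open CategoryTheory CategoryTheory.Limits AlgebraicGeometry TopologicalSpace Opposite

namespace Groth.Agent.Lib.Helper18.GenTriv

open Scheme.Modules Groth.Agent.Lib.helper7 Groth.Agent.Lib.helper28.LocalGen

variable {X : Scheme.{u}}

/-- **A module with a section over `W` generating it freely over every open of `W` is trivial on
`W`** (no quasi-coherence needed). -/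
theorem isTrivOn_of_forall_bijective (L : X.Modules) (W : X.Opens) (g : Γ(L, W))
    (hg : ∀ (V : X.Opens) (h : V ≤ W),
      Function.Bijective (fun r : Γ(X, V) => r • L.presheaf.map (homOfLE h).op g)) :
    Nonempty (L.restrict W.ι ≅ Coh.structureModule (↑W : Scheme.{u})) := by
  let M := L.restrict W.ι
  have hWe : W.ι ''ᵁ ⊤ = W := Scheme.Opens.ι_image_top W
  let g₀ : Γ(M, ⊤) := L.presheaf.map (eqToHom hWe).op g
  let ψ : Coh.structureModule (↑W : Scheme.{u}) ⟶ M :=
    (SheafOfModules.unitHomEquiv (R := (↑W : Scheme.{u}).ringCatSheaf) M).symm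
      (LocalLift.secOfTop M g₀)
  have hψ1 : secOf M ψ = g₀ := by
    change (1 : Γ((↑W : Scheme.{u}), ⊤)) •
      (M.presheaf.map (homOfLE (le_top : (⊤ : (↑W : Scheme.{u}).Opens) ≤ ⊤)).op g₀) = g₀
    rw [one_smul]
    have : (homOfLE (le_top : (⊤ : (↑W : Scheme.{u}).Opens) ≤ ⊤)).op = 𝟙 _ := rfl
    rw [this, M.presheaf.map_id]
    rfl
  have hle : ∀ V' : (↑W : Scheme.{u}).Opens, W.ι ''ᵁ V' ≤ W := fun V' =>
    (W.ι.image_mono le_top).trans hWe.le
  have hres : ∀ V' : (↑W : Scheme.{u}).Opens,
      (show Γ(L, W.ι ''ᵁ V') from M.presheaf.map (homOfLE (le_top : V' ≤ ⊤)).op g₀) =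
        L.presheaf.map (homOfLE (hle V')).op g := by
    intro V'
    show L.presheaf.map _ (L.presheaf.map (eqToHom hWe).op g) = _
    rw [← ConcreteCategory.comp_apply, ← Functor.map_comp]
    rfl
  have happ : ∀ (V' : (↑W : Scheme.{u}).Opens) (a : Γ((↑W : Scheme.{u}), V')),
      (show Γ(L, W.ι ''ᵁ V') from
        (ψ.app V').hom (show Γ(Coh.structureModule (↑W : Scheme.{u}), V') from a)) =
        (show Γ(X, W.ι ''ᵁ V') from a) • L.presheaf.map (homOfLE (hle V')).op g := by
    intro V' a
    have h1 := unit_hom_app M ψ V' a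
    have h2 : (ψ.app ⊤).hom (show Γ(Coh.structureModule (↑W : Scheme.{u}), ⊤) from
        (1 : Γ((↑W : Scheme.{u}), ⊤))) = g₀ := hψ1
    rw [h2] at h1
    rw [h1, IdealCartier.restrict_smul W L V' a, hres V']
  haveI : IsIso ψ := by
    refine Groth.Agent.Lib.helper2.ModSec.isIso_of_bijective_basis ψ Set.univ ?_ ?_
    · exact Opens.isBasis_iff_nbhd.mpr (fun {V' x} hx => ⟨V', trivial, hx, le_rfl⟩)
    · intro V' _
      have hb := hg (W.ι ''ᵁ V') (hle V')
      constructor
      · intro a b hab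
        have e : (show Γ(L, W.ι ''ᵁ V') from
            (ψ.app V').hom (show Γ(Coh.structureModule (↑W : Scheme.{u}), V') from a)) =
            (ψ.app V').hom (show Γ(Coh.structureModule (↑W : Scheme.{u}), V') from b) := hab
        exact hb.1 ((happ V' a).symm.trans (e.trans (happ V' b)))
      · intro t
        obtain ⟨c, hc⟩ := hb.2 (show Γ(L, W.ι ''ᵁ V') from t)
        exact ⟨(show Γ((↑W : Scheme.{u}), V') from c), (happ V' c).trans hc⟩
  exact ⟨(asIso ψ).symm⟩

/-- a module with free local generators is invertible -/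
theorem isInvertible_of_generators (L : X.Modules) {ι : Type*} (U : ι → X.Opens) (hU : iSup U = ⊤)
    (s : ∀ i, Γ(L, U i))
    (hs : ∀ (i : ι) (V : X.Opens) (h : V ≤ U i),
      Function.Bijective (fun r : Γ(X, V) => r • L.presheaf.map (homOfLE h).op (s i))) :
    PicF.IsInvertible L := by
  intro y
  have hy : y ∈ iSup U := by rw [hU]; trivial
  obtain ⟨i, hi⟩ := Opens.mem_iSup.mp hy
  exact ⟨U i, hi, isTrivOn_of_forall_bijective L (U i) (s i) (hs i)⟩

end Groth.Agent.Lib.Helper18.GenTriv
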