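import Mathlib
import Groth.Prelude.Def_MeroDiv
import Groth.Agent.Lib.Helper16.FLF5
import Groth.Agent.Lib.Helper16.CohStalk

set_option autoImplicit false
universe u
open CategoryTheory CategoryTheory.Limits AlgebraicGeometry TopologicalSpace Opposite

namespace Groth.Agent.Lib.Helper18.InvGen

variable {X : Scheme.{u}}

/-- `ℓ` freely generates the stalks of `L` at all points of `W` -/
def IsGen (L : X.Modules) (W : X.Opens) (ℓ : Γ(L, W)) : Prop :=
  ∀ (x : X) (hx : x ∈ W), Function.Bijective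
    (fun a : X.presheaf.stalk x => a • (L.presheaf.germ W x hx ℓ : L.presheaf.stalk x))

open Groth.Agent.Lib.helper16.CohStalk in
/-- a basis of the sections over an affine open gives a stalkwise generator -/
theorem isGen_of_linearEquiv (L : X.Modules) [L.IsQuasicoherent] {U : X.Opens} (hU : IsAffineOpen U)
    (e : Γ(L, U) ≃ₗ[Γ(X, U)] (Fin 1 → Γ(X, U))) : IsGen L U (e.symm (fun _ => 1)) := by
  intro x hx
  letI := TopCat.Presheaf.algebra_section_stalk X.presheaf (⟨x, hx⟩ : U)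
  letI := modStalk L x hx
  haveI := isScalarTower_stalk L x hx
  haveI : IsLocalization.AtPrime (X.presheaf.stalk x) (hU.primeIdealOf ⟨x, hx⟩).asIdeal :=
    hU.isLocalization_stalk ⟨x, hx⟩
  haveI := isLocalizedModule_stalk L hU x hx
  set S := (hU.primeIdealOf ⟨x, hx⟩).asIdeal.primeCompl with hS
  let φ : Γ(X, U) ≃ₗ[Γ(X, U)] Γ(L, U) :=
    (LinearEquiv.funUnique (Fin 1) Γ(X, U) Γ(X, U)).symm ≪≫ₗ e.symm
  have hφ1 : φ 1 = e.symm (fun _ => 1) := by
    show e.symm ((LinearEquiv.funUnique (Fin 1) Γ(X, U) Γ(X, U)).symm 1) = _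
    congr 1
  let f : Γ(X, U) →ₗ[Γ(X, U)] L.presheaf.stalk x := (germLin L x hx) ∘ₗ φ.toLinearMap
  haveI hf : IsLocalizedModule S f := IsLocalizedModule.of_linearEquiv_right S (germLin L x hx) φ
  let g : Γ(X, U) →ₗ[Γ(X, U)] X.presheaf.stalk x := Algebra.linearMap Γ(X, U) (X.presheaf.stalk x)
  haveI hg : IsLocalizedModule S g := inferInstance
  let ψ : X.presheaf.stalk x ≃ₗ[Γ(X, U)] L.presheaf.stalk x := IsLocalizedModule.linearEquiv S g f
  have hψ1 : ψ 1 = L.presheaf.germ U x hx (e.symm (fun _ => 1)) := by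
    have h1 : ψ (g 1) = f 1 := IsLocalizedModule.linearEquiv_apply S g f 1
    have h2 : g 1 = 1 := map_one (algebraMap Γ(X, U) (X.presheaf.stalk x))
    rw [h2] at h1
    rw [h1]
    show (germLin L x hx) (φ 1) = _
    rw [hφ1]
    rfl
  haveI := IsLocalization.linearMap_compatibleSMul S (X.presheaf.stalk x) (X.presheaf.stalk x)
    (L.presheaf.stalk x)
  have hψ : ∀ a : X.presheaf.stalk x, ψ a = a • L.presheaf.germ U x hx (e.symm (fun _ => 1)) := by
    intro a
    have h1 : ψ.toLinearMap (a • (1 : X.presheaf.stalk x)) = a • ψ.toLinearMap 1 :=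
      LinearMap.map_smul_of_tower ψ.toLinearMap a 1
    rw [smul_eq_mul, mul_one] at h1
    rw [← hψ1]
    exact h1
  have : (fun a : X.presheaf.stalk x => a • (L.presheaf.germ U x hx (e.symm (fun _ => 1)) :
      L.presheaf.stalk x)) = ψ := by
    funext a
    exact (hψ a).symm
  rw [this]
  exact ψ.bijective

theorem IsGen.res {L : X.Modules} {W W' : X.Opens} {ℓ : Γ(L, W)} (hℓ : IsGen L W ℓ) (h : W' ≤ W) :
    IsGen L W' (L.presheaf.map (homOfLE h).op ℓ) := by
  intro x hx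
  have e : L.presheaf.germ W' x hx (L.presheaf.map (homOfLE h).op ℓ) = L.presheaf.germ W x (h hx) ℓ :=
    TopCat.Presheaf.germ_res_apply L.presheaf (homOfLE h) x hx ℓ
  rw [e]
  exact hℓ x (h hx)

open Groth.Agent.Lib.helper16.FLF in
/-- an invertible module has local generators on arbitrarily small affine opens -/
theorem exists_isGen {L : X.Modules} (hL : PicF.IsInvertible L) (x : X) (U₀ : X.Opens) (hx : x ∈ U₀) :
    ∃ (W : X.Opens) (ℓ : Γ(L, W)), IsAffineOpen W ∧ x ∈ W ∧ W ≤ U₀ ∧ IsGen L W ℓ := by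
  have hM := (isInvertible_iff_isFinLocFreeOfRank_one L).1 hL
  haveI := isQuasicoherent_of_isFinLocFree L (isFinLocFree_of_isFinLocFreeOfRank hM)
  obtain ⟨U, hU, hxU, -, ⟨e⟩⟩ := exists_affine_free_sections_of_isFinLocFreeOfRank L hM x
  obtain ⟨W, hW, hxW, hWle⟩ := exists_isAffineOpen_mem_and_subset (x := x) (U := U ⊓ U₀) ⟨hxU, hx⟩
  have hWU : W ≤ U := fun y hy => (hWle hy).1
  have hWU₀ : W ≤ U₀ := fun y hy => (hWle hy).2
  exact ⟨W, _, hW, hxW, hWU₀, (isGen_of_linearEquiv L hU e).res hWU⟩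

theorem map_map (L : X.Modules) {A B C : X.Opens} (h₁ : B ≤ A) (h₂ : C ≤ B) (x : Γ(L, A)) :
    L.presheaf.map (homOfLE h₂).op (L.presheaf.map (homOfLE h₁).op x) =
      L.presheaf.map (homOfLE (h₂.trans h₁)).op x := by
  rw [← ConcreteCategory.comp_apply, ← Functor.map_comp]
  rfl

theorem map_map' {A B C : X.Opens} (h₁ : B ≤ A) (h₂ : C ≤ B) (x : Γ(X, A)) :
    X.presheaf.map (homOfLE h₂).op (X.presheaf.map (homOfLE h₁).op x) =
      X.presheaf.map (homOfLE (h₂.trans h₁)).op x := by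
  rw [← ConcreteCategory.comp_apply, ← Functor.map_comp]
  rfl

/-- germ of a scalar multiple of the restricted generator -/
theorem germ_smul_res (L : X.Modules) {W V : X.Opens} (ℓ : Γ(L, W)) (hV : V ≤ W) (a : Γ(X, V))
    (y : X) (hy : y ∈ V) :
    L.presheaf.germ V y hy (a • L.presheaf.map (homOfLE hV).op ℓ) =
      X.presheaf.germ V y hy a • L.presheaf.germ W y (hV hy) ℓ := by
  rw [Mero.germ_smul]
  congr 1
  exact TopCat.Presheaf.germ_res_apply L.presheaf (homOfLE hV) y hy ℓ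

/-- injectivity of `a ↦ a • ℓ` on sections -/
theorem IsGen.smul_injective {L : X.Modules} {W V : X.Opens} {ℓ : Γ(L, W)} (hℓ : IsGen L W ℓ)
    (hV : V ≤ W) (a b : Γ(X, V))
    (h : a • L.presheaf.map (homOfLE hV).op ℓ = b • L.presheaf.map (homOfLE hV).op ℓ) : a = b := by
  apply TopCat.Presheaf.section_ext X.sheaf V
  intro y hy
  have h1 := congrArg (L.presheaf.germ V y hy) h
  rw [germ_smul_res, germ_smul_res] at h1
  exact (hℓ y (hV hy)).1 h1

/-- local existence of the coefficient -/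
theorem IsGen.exists_local {L : X.Modules} {W V : X.Opens} {ℓ : Γ(L, W)} (hℓ : IsGen L W ℓ)
    (hV : V ≤ W) (m : Γ(L, V)) (y : X) (hy : y ∈ V) :
    ∃ (V' : X.Opens) (_ : y ∈ V') (hle : V' ≤ V) (g : Γ(X, V')),
      g • L.presheaf.map (homOfLE (hle.trans hV)).op ℓ = L.presheaf.map (homOfLE hle).op m := by
  obtain ⟨a, ha⟩ := (hℓ y (hV hy)).2 (L.presheaf.germ V y hy m)
  obtain ⟨V₁, hyV₁, g₁, rfl⟩ := X.presheaf.exists_germ_eq a
  let V₂ : X.Opens := V₁ ⊓ V
  have hyV₂ : y ∈ V₂ := ⟨hyV₁, hy⟩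
  have hV₂V : V₂ ≤ V := inf_le_right
  let g₂ : Γ(X, V₂) := X.presheaf.map (homOfLE (inf_le_left : V₂ ≤ V₁)).op g₁
  have hg₂ : X.presheaf.germ V₂ y hyV₂ g₂ = X.presheaf.germ V₁ y hyV₁ g₁ :=
    TopCat.Presheaf.germ_res_apply X.presheaf (homOfLE (inf_le_left : V₂ ≤ V₁)) y hyV₂ g₁
  have h1 : L.presheaf.germ V₂ y hyV₂ (g₂ • L.presheaf.map (homOfLE (hV₂V.trans hV)).op ℓ) =
      L.presheaf.germ V₂ y hyV₂ (L.presheaf.map (homOfLE hV₂V).op m) := by
    rw [germ_smul_res, hg₂]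
    have e : L.presheaf.germ V₂ y hyV₂ (L.presheaf.map (homOfLE hV₂V).op m) =
        L.presheaf.germ V y hy m :=
      TopCat.Presheaf.germ_res_apply L.presheaf (homOfLE hV₂V) y hyV₂ m
    rw [e]
    exact ha
  obtain ⟨V₃, hyV₃, i₁, i₂, h2⟩ := TopCat.Presheaf.germ_eq L.presheaf y hyV₂ hyV₂ _ _ h1
  have hV₃ : V₃ ≤ V₂ := i₁.le
  refine ⟨V₃, hyV₃, hV₃.trans hV₂V, X.presheaf.map (homOfLE hV₃).op g₂, ?_⟩
  have h3 : L.presheaf.map (homOfLE hV₃).op (g₂ • L.presheaf.map (homOfLE (hV₂V.trans hV)).op ℓ) =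
      L.presheaf.map (homOfLE hV₃).op (L.presheaf.map (homOfLE hV₂V).op m) := h2
  rw [Scheme.Modules.map_smul, map_map, map_map] at h3
  exact h3

/-- every section is a unique multiple of the generator -/
theorem IsGen.exists_smul_eq {L : X.Modules} {W V : X.Opens} {ℓ : Γ(L, W)} (hℓ : IsGen L W ℓ)
    (hV : V ≤ W) (m : Γ(L, V)) :
    ∃ g : Γ(X, V), g • L.presheaf.map (homOfLE hV).op ℓ = m := by
  have hloc := fun y : V => hℓ.exists_local hV m y.1 y.2
  choose V' hyV' hle g hg using hloc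
  have hcov : V ≤ iSup V' := fun y hy => (le_iSup V' ⟨y, hy⟩) (hyV' ⟨y, hy⟩)
  have key : ∀ (i : V) (O : X.Opens) (hO : O ≤ V' i),
      X.presheaf.map (homOfLE hO).op (g i) • L.presheaf.map (homOfLE (hO.trans ((hle i).trans hV))).op ℓ =
        L.presheaf.map (homOfLE (hO.trans (hle i))).op m := by
    intro i O hO
    have h1 := congrArg (L.presheaf.map (homOfLE hO).op) (hg i)
    rw [Scheme.Modules.map_smul, map_map, map_map] at h1
    exact h1
  have compat : TopCat.Presheaf.IsCompatible X.presheaf V' g := by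
    intro i j
    show X.presheaf.map (homOfLE (inf_le_left : V' i ⊓ V' j ≤ V' i)).op (g i) =
      X.presheaf.map (homOfLE (inf_le_right : V' i ⊓ V' j ≤ V' j)).op (g j)
    apply hℓ.smul_injective ((inf_le_left : V' i ⊓ V' j ≤ V' i).trans ((hle i).trans hV))
    exact (key i _ inf_le_left).trans (key j _ inf_le_right).symm
  obtain ⟨e, he, -⟩ : ∃! e : Γ(X, V), ∀ i : V, X.presheaf.map (homOfLE (hle i)).op e = g i :=
    X.sheaf.existsUnique_gluing' V' V (fun i => homOfLE (hle i)) hcov g compat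
  refine ⟨e, ?_⟩
  apply TopCat.Presheaf.section_ext ⟨L.presheaf, L.isSheaf⟩ V
  intro y hy
  have e1 : L.presheaf.germ V y hy m =
      L.presheaf.germ (V' ⟨y, hy⟩) y (hyV' ⟨y, hy⟩) (L.presheaf.map (homOfLE (hle ⟨y, hy⟩)).op m) :=
    (TopCat.Presheaf.germ_res_apply L.presheaf (homOfLE (hle ⟨y, hy⟩)) y (hyV' ⟨y, hy⟩) m).symm
  have e2 : X.presheaf.germ (V' ⟨y, hy⟩) y (hyV' ⟨y, hy⟩) (g ⟨y, hy⟩) = X.presheaf.germ V y hy e := by
    rw [← he ⟨y, hy⟩]
    exact TopCat.Presheaf.germ_res_apply X.presheaf (homOfLE (hle ⟨y, hy⟩)) y (hyV' ⟨y, hy⟩) e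
  show L.presheaf.germ V y hy (e • L.presheaf.map (homOfLE hV).op ℓ) = L.presheaf.germ V y hy m
  rw [e1, ← hg ⟨y, hy⟩, germ_smul_res, germ_smul_res, e2]

end Groth.Agent.Lib.Helper18.InvGen
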