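import Mathlib
import Groth.Prelude.Def_MeroDiv
import Groth.Agent.Lib.Helper18.InvGen
import Groth.Agent.Lib.Helper16.CohStalk
import Groth.Agent.Lib.Helper16.FLF5

set_option autoImplicit false
universe u
open CategoryTheory CategoryTheory.Limits AlgebraicGeometry TopologicalSpace Opposite

namespace Groth.Agent.Lib.Helper18.SemiLocalGen

open InvGen

/-- separating finitely many pairwise incomparable primes -/
theorem exists_notMem_mem {A : Type*} [CommRing A] (T : Finset (Ideal A))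
    (hprime : ∀ p ∈ T, p.IsPrime) (hinc : ∀ p ∈ T, ∀ q ∈ T, q ≤ p → q = p) (p : Ideal A) (hp : p ∈ T) :
    ∃ a : A, a ∉ p ∧ ∀ q ∈ T, q ≠ p → a ∈ q := by
  classical
  have hb : ∀ q : Ideal A, ∃ b : A, b ∉ p ∧ (q ∈ T → q ≠ p → b ∈ q) := by
    intro q
    by_cases hq : q ∈ T ∧ q ≠ p
    · have hnle : ¬ q ≤ p := fun hle => hq.2 (hinc p hp q hq.1 hle)
      obtain ⟨b, hbq, hbp⟩ := SetLike.not_le_iff_exists.mp hnle
      exact ⟨b, hbp, fun _ _ => hbq⟩
    · haveI := hprime p hp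
      exact ⟨1, fun h1 => (hprime p hp).ne_top ((Ideal.eq_top_iff_one _).mpr h1),
        fun h1 h2 => absurd ⟨h1, h2⟩ hq⟩
  choose b hbp hbq using hb
  haveI := hprime p hp
  refine ⟨∏ q ∈ T.erase p, b q, ?_, ?_⟩
  · rw [Ideal.IsPrime.prod_mem_iff (p := p)]
    rintro ⟨q, -, hq⟩
    exact hbp q hq
  · intro q hq hne
    have hqm : q ∈ T.erase p := Finset.mem_erase.mpr ⟨hne, hq⟩
    rw [← Finset.mul_prod_erase _ _ hqm]
    exact q.mul_mem_right _ (hbq q hq hne)

variable {X : Scheme.{u}}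

/-- a unit multiple of a stalkwise generator is a generator -/
theorem bijective_smul_of_isUnit {R M : Type*} [CommRing R] [AddCommGroup M] [Module R M]
    (e : M) (he : Function.Bijective (fun a : R => a • e)) (v : R) (hv : IsUnit v) :
    Function.Bijective (fun a : R => a • (v • e)) := by
  have h1 : (fun a : R => a • (v • e)) = (fun a : R => a • e) ∘ (fun a : R => a * v) := by
    funext a
    simp [mul_smul]
  rw [h1]
  exact he.comp (IsUnit.isUnit_iff_mulRight_bijective.mp hv)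

theorem mem_of_le_primeIdealOf {W : X.Opens} (hW : IsAffineOpen W) (x : X) (hx : x ∈ W)
    (p : Ideal Γ(X, W)) [hp : p.IsPrime] (hle : (hW.primeIdealOf ⟨x, hx⟩).asIdeal ≤ p)
    (O : X.Opens) (hO : hW.fromSpec ⟨p, hp⟩ ∈ O) : x ∈ O := by
  have h1 : hW.primeIdealOf ⟨x, hx⟩ ⤳ (⟨p, hp⟩ : PrimeSpectrum Γ(X, W)) :=
    (PrimeSpectrum.le_iff_specializes _ _).mp hle
  have h2 : hW.fromSpec (hW.primeIdealOf ⟨x, hx⟩) ⤳ hW.fromSpec ⟨p, hp⟩ :=
    h1.map hW.fromSpec.continuous
  rw [hW.fromSpec_primeIdealOf ⟨x, hx⟩] at h2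
  exact h2.mem_open O.2 hO

theorem fromSpec_mem {W : X.Opens} (hW : IsAffineOpen W) (p : PrimeSpectrum Γ(X, W)) :
    hW.fromSpec p ∈ W := by
  have h1 : hW.fromSpec p ∈ Set.range hW.fromSpec := ⟨_, rfl⟩
  rw [hW.range_fromSpec] at h1
  exact h1

theorem primeIdealOf_fromSpec {W : X.Opens} (hW : IsAffineOpen W) (p : PrimeSpectrum Γ(X, W)) :
    hW.primeIdealOf ⟨hW.fromSpec p, fromSpec_mem hW p⟩ = p := by
  apply hW.fromSpec.isOpenEmbedding.injective
  rw [hW.fromSpec_primeIdealOf]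

open Groth.Agent.Lib.helper16.CohStalk in
/-- a global section over an affine open which generates the stalk at a given prime up to a unit -/
theorem exists_section_at_prime {L : X.Modules} [L.IsQuasicoherent] (hL : PicF.IsInvertible L)
    {W : X.Opens} (hW : IsAffineOpen W) (p : PrimeSpectrum Γ(X, W)) :
    ∃ (Wp : X.Opens) (ℓp : Γ(L, Wp)) (_ : Wp ≤ W) (hy : hW.fromSpec p ∈ Wp) (mp : Γ(L, W))
      (sp : Γ(X, W)), IsGen L Wp ℓp ∧ sp ∉ p.asIdeal ∧
        L.presheaf.germ W (hW.fromSpec p) (fromSpec_mem hW p) mp =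
          X.presheaf.germ W (hW.fromSpec p) (fromSpec_mem hW p) sp •
            L.presheaf.germ Wp (hW.fromSpec p) hy ℓp := by
  set y := hW.fromSpec p with hy
  have hyW : y ∈ W := fromSpec_mem hW p
  obtain ⟨Wp, ℓp, -, hyWp, hWpW, hℓp⟩ := exists_isGen hL y W hyW
  letI := TopCat.Presheaf.algebra_section_stalk X.presheaf (⟨y, hyW⟩ : W)
  letI := modStalk L y hyW
  haveI := isScalarTower_stalk L y hyW
  haveI := isLocalizedModule_stalk L hW y hyW
  obtain ⟨⟨m', s⟩, hms⟩ := IsLocalizedModule.surj (hW.primeIdealOf ⟨y, hyW⟩).asIdeal.primeCompl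
    (germLin L y hyW) (L.presheaf.germ Wp y hyWp ℓp)
  refine ⟨Wp, ℓp, hWpW, hyWp, m', s.1, hℓp, ?_, ?_⟩
  · have h1 : (s : Γ(X, W)) ∉ (hW.primeIdealOf ⟨y, hyW⟩).asIdeal := s.2
    have h2 : hW.primeIdealOf ⟨y, hyW⟩ = p := primeIdealOf_fromSpec hW p
    have h4 : (hW.primeIdealOf ⟨y, hyW⟩).asIdeal = p.asIdeal := congrArg PrimeSpectrum.asIdeal h2
    intro h3
    exact h1 ((SetLike.ext_iff.mp h4 (s : Γ(X, W))).mpr h3)
  · exact hms.symm

theorem isUnit_sum {R ι : Type*} [CommRing R] [IsLocalRing R] [DecidableEq ι] (T : Finset ι) (p : ι)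
    (hp : p ∈ T) (f : ι → R) (hfp : IsUnit (f p))
    (hf : ∀ q ∈ T, q ≠ p → f q ∈ IsLocalRing.maximalIdeal R) : IsUnit (∑ q ∈ T, f q) := by
  by_contra hcon
  have h1 : ∑ q ∈ T, f q ∈ IsLocalRing.maximalIdeal R := (IsLocalRing.mem_maximalIdeal _).mpr hcon
  have h2 : ∑ q ∈ T.erase p, f q ∈ IsLocalRing.maximalIdeal R :=
    Ideal.sum_mem _ (fun q hq => hf q (Finset.mem_of_mem_erase hq) (Finset.ne_of_mem_erase hq))
  have h3 : f p + ∑ q ∈ T.erase p, f q = ∑ q ∈ T, f q := Finset.add_sum_erase T f hp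
  have h4 : f p ∈ IsLocalRing.maximalIdeal R := by
    have : f p = ∑ q ∈ T, f q - ∑ q ∈ T.erase p, f q := by rw [← h3]; ring
    rw [this]
    exact Ideal.sub_mem _ h1 h2
  exact (IsLocalRing.mem_maximalIdeal _).mp h4 hfp

open Groth.Agent.Lib.helper16.FLF in
/-- a generator of an invertible module near finitely many pairwise incomparable points of an
affine open -/
theorem exists_isGen_of_finset {L : X.Modules} (hL : PicF.IsInvertible L)
    {W : X.Opens} (hW : IsAffineOpen W) (T : Finset (PrimeSpectrum Γ(X, W)))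
    (hinc : ∀ p ∈ T, ∀ q ∈ T, q.asIdeal ≤ p.asIdeal → q = p) :
    ∃ (D : X.Opens) (ℓ : Γ(L, D)), IsGen L D ℓ ∧ ∀ p ∈ T, hW.fromSpec p ∈ D := by
  classical
  have hM := (isInvertible_iff_isFinLocFreeOfRank_one L).1 hL
  haveI := isQuasicoherent_of_isFinLocFree L (isFinLocFree_of_isFinLocFreeOfRank hM)
  choose Wp ℓp hWpW hyWp mp sp hℓp hsp hgerm using
    fun p : PrimeSpectrum Γ(X, W) => exists_section_at_prime hL hW p
  -- separating elements
  have hsep : ∀ p : PrimeSpectrum Γ(X, W), ∃ a : Γ(X, W),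
      p ∈ T → (a ∉ p.asIdeal ∧ ∀ q ∈ T, q ≠ p → a ∈ q.asIdeal) := by
    intro p
    by_cases hp : p ∈ T
    · obtain ⟨a, ha, haq⟩ := exists_notMem_mem (T.image PrimeSpectrum.asIdeal)
        (by
          intro I hI
          obtain ⟨q, -, rfl⟩ := Finset.mem_image.mp hI
          exact q.2)
        (by
          intro I hI J hJ hle
          obtain ⟨q, hq, rfl⟩ := Finset.mem_image.mp hI
          obtain ⟨r, hr, rfl⟩ := Finset.mem_image.mp hJ
          rw [hinc q hq r hr hle])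
        p.asIdeal (Finset.mem_image_of_mem _ hp)
      exact ⟨a, fun _ => ⟨ha, fun q hq hne => haq q.asIdeal (Finset.mem_image_of_mem _ hq)
        (fun h => hne (PrimeSpectrum.ext h))⟩⟩
    · exact ⟨0, fun h => absurd h hp⟩
  choose a ha using hsep
  let m : Γ(L, W) := ∑ q ∈ T, a q • mp q
  -- the germ of `m` at the point of `p ∈ T`
  have hunit : ∀ p ∈ T, ∃ v : X.presheaf.stalk (hW.fromSpec p), IsUnit v ∧
      L.presheaf.germ W (hW.fromSpec p) (fromSpec_mem hW p) m =
        v • L.presheaf.germ (Wp p) (hW.fromSpec p) (hyWp p) (ℓp p) := by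
    intro p hp
    set y := hW.fromSpec p with hy
    have hyW : y ∈ W := fromSpec_mem hW p
    letI := TopCat.Presheaf.algebra_section_stalk X.presheaf (⟨y, hyW⟩ : W)
    haveI hloc : IsLocalization.AtPrime (X.presheaf.stalk y) p.asIdeal := by
      have h1 := hW.isLocalization_stalk ⟨y, hyW⟩
      rw [primeIdealOf_fromSpec hW p] at h1
      exact h1
    have halg : ∀ b : Γ(X, W), algebraMap Γ(X, W) (X.presheaf.stalk y) b =
        X.presheaf.germ W y hyW b := fun b => rfl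
    -- coefficients of the `mp q`
    have hc : ∀ q : PrimeSpectrum Γ(X, W), ∃ c : X.presheaf.stalk y,
        c • L.presheaf.germ (Wp p) y (hyWp p) (ℓp p) = L.presheaf.germ W y hyW (mp q) :=
      fun q => (hℓp p y (hyWp p)).2 _
    choose c hcq using hc
    have hcp : c p = X.presheaf.germ W y hyW (sp p) := by
      apply (hℓp p y (hyWp p)).1
      show c p • _ = X.presheaf.germ W y hyW (sp p) • _
      rw [hcq p]
      exact hgerm p
    refine ⟨∑ q ∈ T, X.presheaf.germ W y hyW (a q) * c q, ?_, ?_⟩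
    · apply isUnit_sum T p hp
      · rw [hcp, ← halg, ← halg]
        exact ((IsLocalization.AtPrime.isUnit_to_map_iff (X.presheaf.stalk y) p.asIdeal (a p)).mpr
          (ha p hp).1).mul
          ((IsLocalization.AtPrime.isUnit_to_map_iff (X.presheaf.stalk y) p.asIdeal (sp p)).mpr
            (hsp p))
      · intro q hq hne
        apply Ideal.mul_mem_right
        rw [← halg]
        exact (IsLocalization.AtPrime.to_map_mem_maximal_iff (X.presheaf.stalk y) p.asIdeal (a q)).mpr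
          ((ha q hq).2 p hp (Ne.symm hne))
    · show L.presheaf.germ W y hyW (∑ q ∈ T, a q • mp q) = _
      rw [map_sum, Finset.sum_smul]
      refine Finset.sum_congr rfl (fun q _ => ?_)
      rw [Mero.germ_smul, mul_smul, hcq q]
  choose v hv hvm using hunit
  -- spreading out
  have hg : ∀ p : PrimeSpectrum Γ(X, W), ∃ g : Γ(X, Wp p),
      g • L.presheaf.map (homOfLE (le_refl (Wp p))).op (ℓp p) =
        L.presheaf.map (homOfLE (hWpW p)).op m := fun p => (hℓp p).exists_smul_eq le_rfl _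
  choose g hg using hg
  have hgz : ∀ (p : PrimeSpectrum Γ(X, W)) (z : X) (hz : z ∈ Wp p),
      L.presheaf.germ W z (hWpW p hz) m =
        X.presheaf.germ (Wp p) z hz (g p) • L.presheaf.germ (Wp p) z hz (ℓp p) := by
    intro p z hz
    rw [← germ_smul_res L (ℓp p) le_rfl (g p) z hz, hg p]
    exact (TopCat.Presheaf.germ_res_apply L.presheaf (homOfLE (hWpW p)) z hz m).symm
  have hgv : ∀ (p : PrimeSpectrum Γ(X, W)) (hp : p ∈ T),
      X.presheaf.germ (Wp p) (hW.fromSpec p) (hyWp p) (g p) = v p hp := by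
    intro p hp
    apply (hℓp p _ (hyWp p)).1
    show X.presheaf.germ (Wp p) (hW.fromSpec p) (hyWp p) (g p) • _ = v p hp • _
    rw [← hvm p hp, ← hgz p _ (hyWp p)]
  let D : X.Opens := ⨆ p : {p : PrimeSpectrum Γ(X, W) // p ∈ T}, X.basicOpen (g p.1)
  have hDW : D ≤ W := iSup_le fun p => (X.basicOpen_le (g p.1)).trans (hWpW p.1)
  refine ⟨D, L.presheaf.map (homOfLE hDW).op m, ?_, ?_⟩
  · intro z hz
    obtain ⟨p, hzp⟩ := Opens.mem_iSup.mp hz
    have hzWp : z ∈ Wp p.1 := X.basicOpen_le (g p.1) hzp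
    have hu : IsUnit (X.presheaf.germ (Wp p.1) z hzWp (g p.1)) :=
      (X.mem_basicOpen (g p.1) z hzWp).mp hzp
    have e : L.presheaf.germ D z hz (L.presheaf.map (homOfLE hDW).op m) =
        X.presheaf.germ (Wp p.1) z hzWp (g p.1) • L.presheaf.germ (Wp p.1) z hzWp (ℓp p.1) := by
      rw [← hgz p.1 z hzWp]
      exact TopCat.Presheaf.germ_res_apply L.presheaf (homOfLE hDW) z hz m
    rw [e]
    exact bijective_smul_of_isUnit _ (hℓp p.1 z hzWp) _ hu
  · intro p hp
    apply (le_iSup (fun p : {p : PrimeSpectrum Γ(X, W) // p ∈ T} => X.basicOpen (g p.1)) ⟨p, hp⟩)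
    rw [X.mem_basicOpen (g p) _ (hyWp p), hgv p hp]
    exact hv p hp

end Groth.Agent.Lib.Helper18.SemiLocalGen
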