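import Mathlib
import Groth.Agent.Lib.Helper18.SemiLocalGen
import Groth.Agent.Lib.Helper18.GenTriv
import Groth.Agent.Lib.Helper11.InvMod

/-!
# Invertible modules are trivial near the fibres of a finite morphism (helper18; for Stacks 09NW)

* `bijective_of_isGen`, `isTrivOn_of_isGen`: a stalkwise generator (`InvGen.IsGen`) generates over all smaller opens and
  trivialises the module.
* `eq_of_specializes_of_isDiscrete`.
* `exists_isTrivOn_preimage f hL y`: `f` finite, `L` invertible on the source ⇒ `L` is trivial on `f⁻¹ W` for an open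
  neighbourhood `W` of `y`.
-/

set_option autoImplicit false
universe u
open CategoryTheory CategoryTheory.Limits AlgebraicGeometry TopologicalSpace Opposite

namespace Groth.Agent.Lib.Helper18.PicGlue

open Groth.Agent.Lib.Helper18.InvGen Groth.Agent.Lib.helper11.InvMod

variable {X Y : Scheme.{u}}

/-- a stalkwise generator generates freely over every smaller open -/
theorem bijective_of_isGen {L : X.Modules} {W : X.Opens} {ℓ : Γ(L, W)} (hℓ : IsGen L W ℓ)
    (V : X.Opens) (hV : V ≤ W) :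
    Function.Bijective (fun r : Γ(X, V) => r • L.presheaf.map (homOfLE hV).op ℓ) :=
  ⟨fun a b h => hℓ.smul_injective hV a b h, fun m => hℓ.exists_smul_eq hV m⟩

/-- a module with a stalkwise generator over `W` is trivial on `W` -/
theorem isTrivOn_of_isGen {L : X.Modules} {W : X.Opens} {ℓ : Γ(L, W)} (hℓ : IsGen L W ℓ) :
    IsTrivOn L W :=
  Groth.Agent.Lib.Helper18.GenTriv.isTrivOn_of_forall_bijective L W ℓ (bijective_of_isGen hℓ)

/-- in a discrete subset, specialization is equality -/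
theorem eq_of_specializes_of_isDiscrete {T : Type*} [TopologicalSpace T] {s : Set T} (hs : _root_.IsDiscrete s)
    {a b : T} (ha : a ∈ s) (hb : b ∈ s) (h : a ⤳ b) : a = b := by
  obtain ⟨u, hu, hus⟩ := (isDiscrete_iff_forall_mem_exists_isOpen.1 hs) b hb
  have hbu : b ∈ u := by
    have : b ∈ u ∩ s := by rw [hus]; rfl
    exact this.1
  have hau : a ∈ u := h.mem_open hu hbu
  have : a ∈ u ∩ s := ⟨hau, ha⟩
  rw [hus] at this
  exact this

/-- **an invertible module on the source of a finite morphism is trivial over a neighbourhood of each fibre** -/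
theorem exists_isTrivOn_preimage (f : X ⟶ Y) [IsFinite f] {L : X.Modules} (hL : PicF.IsInvertible L)
    (y : Y) : ∃ W : Y.Opens, y ∈ W ∧ IsTrivOn L (f ⁻¹ᵁ W) := by
  classical
  obtain ⟨W₀, hW₀, hyW₀⟩ : ∃ U : Y.Opens, IsAffineOpen U ∧ y ∈ U := by
    obtain ⟨_, ⟨U, hU, rfl⟩, hxU, -⟩ :=
      Y.isBasis_affineOpens.exists_subset_of_mem_open (Set.mem_univ y) isOpen_univ
    exact ⟨U, hU, hxU⟩
  have hU₀ : IsAffineOpen (f ⁻¹ᵁ W₀) := hW₀.preimage f
  have hFfin : (f ⁻¹' {y}).Finite := f.finite_preimage_singleton y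
  have hFdisc : _root_.IsDiscrete (f ⁻¹' {y}) := f.isDiscrete_preimage_singleton y
  have hFU : ∀ x ∈ f ⁻¹' {y}, x ∈ f ⁻¹ᵁ W₀ := by
    intro x hx
    have : f x = y := hx
    show f x ∈ W₀
    rw [this]
    exact hyW₀
  -- the primes of the fibre
  let pr : (f ⁻¹' {y}) → PrimeSpectrum Γ(X, f ⁻¹ᵁ W₀) := fun x => hU₀.primeIdealOf ⟨x.1, hFU x.1 x.2⟩
  haveI : Fintype (f ⁻¹' {y}) := hFfin.fintype
  let T : Finset (PrimeSpectrum Γ(X, f ⁻¹ᵁ W₀)) := Finset.univ.image pr
  have hpr : ∀ x : (f ⁻¹' {y}), hU₀.fromSpec (pr x) = x.1 := fun x => hU₀.fromSpec_primeIdealOf ⟨x.1, _⟩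
  have hinc : ∀ p ∈ T, ∀ q ∈ T, q.asIdeal ≤ p.asIdeal → q = p := by
    intro p hp q hq hle
    obtain ⟨a, -, rfl⟩ := Finset.mem_image.1 hp
    obtain ⟨b, -, rfl⟩ := Finset.mem_image.1 hq
    have h1 : pr b ⤳ pr a := (PrimeSpectrum.le_iff_specializes _ _).1 hle
    have h2 : hU₀.fromSpec (pr b) ⤳ hU₀.fromSpec (pr a) := h1.map hU₀.fromSpec.continuous
    rw [hpr, hpr] at h2
    have h3 := eq_of_specializes_of_isDiscrete hFdisc b.2 a.2 h2
    have : b = a := Subtype.ext h3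
    rw [this]
  obtain ⟨D, ℓ, hℓ, hD⟩ := Groth.Agent.Lib.Helper18.SemiLocalGen.exists_isGen_of_finset hL hU₀ T hinc
  have hFD : ∀ x ∈ f ⁻¹' {y}, x ∈ D := by
    intro x hx
    have := hD (pr ⟨x, hx⟩) (Finset.mem_image.2 ⟨⟨x, hx⟩, Finset.mem_univ _, rfl⟩)
    rwa [hpr] at this
  -- the open neighbourhood
  have hcl : IsClosed (f '' ((D : Set X)ᶜ)) := f.isClosedMap _ D.isOpen.isClosed_compl
  let W : Y.Opens := ⟨(f '' ((D : Set X)ᶜ))ᶜ, hcl.isOpen_compl⟩
  have hyW : y ∈ W := by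
    rintro ⟨x, hxD, hxy⟩
    exact hxD (hFD x hxy)
  have hWD : f ⁻¹ᵁ W ≤ D := by
    intro x hx
    by_contra hxD
    exact hx ⟨x, hxD, rfl⟩
  exact ⟨W, hyW, (isTrivOn_of_isGen hℓ).of_le hWD⟩

end Groth.Agent.Lib.Helper18.PicGlue
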