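import Mathlib
import Groth.Prelude.Def_MeroSh

set_option autoImplicit false
universe u
open CategoryTheory CategoryTheory.Limits AlgebraicGeometry TopologicalSpace Opposite

namespace Groth.Agent.Lib.Helper18.CocycleMod

open Mero

variable {X : Scheme.{u}} {ι : Type u} (U : ι → X.Opens) (hU : iSup U = ⊤)
  (η : ∀ i j : ι, (Γ(X, U i ⊓ U j))ˣ)

/-- the germ of a transition function -/
noncomputable def tg (i j : ι) (y : X) (hi : y ∈ U i) (hj : y ∈ U j) : X.presheaf.stalk y :=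
  X.presheaf.germ (U i ⊓ U j) y ⟨hi, hj⟩ (η i j : Γ(X, U i ⊓ U j))

theorem isUnit_tg (i j : ι) (y : X) (hi : y ∈ U i) (hj : y ∈ U j) : IsUnit (tg U η i j y hi hj) :=
  (η i j).isUnit.map _

/-- the cocycle condition -/
def IsCocycle : Prop := ∀ i j k : ι,
  X.presheaf.map (homOfLE (inf_le_inf_right (U k) inf_le_left : U i ⊓ U j ⊓ U k ≤ U i ⊓ U k)).op
      (η i k : Γ(X, U i ⊓ U k)) =
    X.presheaf.map (homOfLE (inf_le_left : U i ⊓ U j ⊓ U k ≤ U i ⊓ U j)).op (η i j : Γ(X, U i ⊓ U j)) *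
      X.presheaf.map (homOfLE (inf_le_inf_right (U k) inf_le_right : U i ⊓ U j ⊓ U k ≤ U j ⊓ U k)).op
        (η j k : Γ(X, U j ⊓ U k))

variable {U η}

theorem tg_cocycle (hη : IsCocycle U η) (i j k : ι) (y : X) (hi : y ∈ U i) (hj : y ∈ U j)
    (hk : y ∈ U k) : tg U η i k y hi hk = tg U η i j y hi hj * tg U η j k y hj hk := by
  have h := congrArg (X.presheaf.germ (U i ⊓ U j ⊓ U k) y ⟨⟨hi, hj⟩, hk⟩) (hη i j k)
  rw [map_mul, TopCat.Presheaf.germ_res_apply, TopCat.Presheaf.germ_res_apply,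
    TopCat.Presheaf.germ_res_apply] at h
  exact h

theorem tg_self (hη : IsCocycle U η) (i : ι) (y : X) (hi : y ∈ U i) : tg U η i i y hi hi = 1 := by
  have h := tg_cocycle hη i i i y hi hi hi
  have hu := isUnit_tg U η i i y hi hi
  have h2 : tg U η i i y hi hi * 1 = tg U η i i y hi hi * tg U η i i y hi hi := by rw [mul_one]; exact h
  exact (hu.mul_left_cancel h2).symm

variable (U)

/-- a chosen index of a member of the cover containing a point -/
noncomputable def idx (y : X) : ι :=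
  Classical.choose (Opens.mem_iSup.mp (show y ∈ iSup U by rw [hU]; trivial))

theorem idx_mem (y : X) : y ∈ U (idx U hU y) :=
  Classical.choose_spec (Opens.mem_iSup.mp (show y ∈ iSup U by rw [hU]; trivial))

variable (η)

/-- coordinate functions of sections: locally `r • s_i` -/
def pre : TopCat.PrelocalPredicate (fun y : X => (X.presheaf.stalk y : Type u)) where
  pred {V} f := ∃ (i : ι) (hV : V ≤ U i) (r : Γ(X, V)),
    ∀ y : V, f y = X.presheaf.germ V y.1 y.2 r * tg U η i (idx U hU y.1) y.1 (hV y.2) (idx_mem U hU y.1)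
  res {V' V} j f := by
    rintro ⟨i, hV, r, h⟩
    refine ⟨i, j.le.trans hV, X.presheaf.map j.op r, fun y => ?_⟩
    dsimp only
    rw [TopCat.Presheaf.germ_res_apply]
    exact h (j y)

/-- change of the index in a local representation -/
theorem pre_change (hη : IsCocycle U η) {V : X.Opens} (f : ∀ y : V, X.presheaf.stalk y.1) (i j : ι)
    (hVi : V ≤ U i) (hVj : V ≤ U j) (r : Γ(X, V))
    (h : ∀ y : V, f y = X.presheaf.germ V y.1 y.2 r *
      tg U η i (idx U hU y.1) y.1 (hVi y.2) (idx_mem U hU y.1)) :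
    ∀ y : V, f y = X.presheaf.germ V y.1 y.2
        (r * X.presheaf.map (homOfLE (le_inf hVi hVj)).op (η i j : Γ(X, U i ⊓ U j))) *
      tg U η j (idx U hU y.1) y.1 (hVj y.2) (idx_mem U hU y.1) := by
  intro y
  rw [h y, tg_cocycle hη i j (idx U hU y.1) y.1 (hVi y.2) (hVj y.2) (idx_mem U hU y.1), map_mul,
    TopCat.Presheaf.germ_res_apply, mul_assoc]
  rfl

theorem isModPred (hη : IsCocycle U η) : IsModPred (pre U hU η).sheafify where
  zero V := fun x => by
    refine ⟨V ⊓ U (idx U hU x.1), ⟨x.2, idx_mem U hU x.1⟩, homOfLE inf_le_left, idx U hU x.1,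
      inf_le_right, 0, fun y => ?_⟩
    show (0 : X.presheaf.stalk y.1) = _
    rw [map_zero, zero_mul]
  add V f g hf hg := fun x => by
    obtain ⟨V₁, hx₁, j₁, i₁, hV₁, r₁, h₁⟩ := hf x
    obtain ⟨V₂, hx₂, j₂, i₂, hV₂, r₂, h₂⟩ := hg x
    have k₁ := (pre U hU η).res (homOfLE (inf_le_left : V₁ ⊓ V₂ ≤ V₁)) _ ⟨i₁, hV₁, r₁, h₁⟩
    have k₂ := (pre U hU η).res (homOfLE (inf_le_right : V₁ ⊓ V₂ ≤ V₂)) _ ⟨i₂, hV₂, r₂, h₂⟩
    obtain ⟨a₁, hW₁, t₁, e₁⟩ := k₁
    obtain ⟨a₂, hW₂, t₂, e₂⟩ := k₂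
    have e₃ := pre_change U hU η hη _ a₂ a₁ hW₂ hW₁ t₂ e₂
    refine ⟨V₁ ⊓ V₂, ⟨hx₁, hx₂⟩, homOfLE (inf_le_left.trans j₁.le), a₁, hW₁,
      t₁ + t₂ * X.presheaf.map (homOfLE (le_inf hW₂ hW₁)).op (η a₂ a₁ : Γ(X, U a₂ ⊓ U a₁)),
      fun y => ?_⟩
    have q1 := e₁ y
    have q2 := e₃ y
    show f _ + g _ = _
    rw [map_add, add_mul]
    exact congrArg₂ (· + ·) q1 q2
  smul V r f hf := fun x => by
    obtain ⟨V₁, hx₁, j₁, i₁, hV₁, r₁, h₁⟩ := hf x
    refine ⟨V₁, hx₁, j₁, i₁, hV₁, X.presheaf.map j₁.op r * r₁, fun y => ?_⟩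
    show X.presheaf.germ V _ _ r • f _ = _
    rw [map_mul, TopCat.Presheaf.germ_res_apply, mul_assoc, ← h₁ y]
    rfl

/-- the standard invertible module attached to a unit cocycle -/
noncomputable def cocMod (hη : IsCocycle U η) : X.Modules :=
  @modOf X _ _ _ (pre U hU η).sheafify (isModPred U hU η hη)

/-- the standard generator over `U i` -/
noncomputable def gen (hη : IsCocycle U η) (i : ι) : Γ(cocMod U hU η hη, U i) :=
  ⟨fun y => tg U η i (idx U hU y.1) y.1 y.2 (idx_mem U hU y.1),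
    fun y => ⟨U i, y.2, 𝟙 _, i, le_rfl, 1, fun z => by
      show tg U η i (idx U hU z.1) z.1 z.2 (idx_mem U hU z.1) = _
      rw [map_one, one_mul]⟩⟩

theorem gen_apply (hη : IsCocycle U η) (i : ι) (y : U i) :
    (gen U hU η hη i).1 y = tg U η i (idx U hU y.1) y.1 y.2 (idx_mem U hU y.1) := rfl

theorem smul_apply (hη : IsCocycle U η) {V : X.Opens} (r : Γ(X, V)) (f : Γ(cocMod U hU η hη, V))
    (y : V) : (r • f).1 y = X.presheaf.germ V y.1 y.2 r * f.1 y := rfl

theorem map_apply (hη : IsCocycle U η) {V V' : X.Opens} (j : V' ⟶ V) (f : Γ(cocMod U hU η hη, V))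
    (y : V') : ((cocMod U hU η hη).presheaf.map j.op f).1 y = f.1 ⟨y.1, j.le y.2⟩ := rfl

theorem ext (hη : IsCocycle U η) {V : X.Opens} (f g : Γ(cocMod U hU η hη, V))
    (h : ∀ y : V, f.1 y = g.1 y) : f = g := Subtype.ext (funext h)

/-- the transition relation between the standard generators -/
theorem gen_relation (hη : IsCocycle U η) (i j : ι) :
    (cocMod U hU η hη).presheaf.map (homOfLE (inf_le_left : U i ⊓ U j ≤ U i)).op (gen U hU η hη i) =
      (η i j : Γ(X, U i ⊓ U j)) •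
        (cocMod U hU η hη).presheaf.map (homOfLE (inf_le_right : U i ⊓ U j ≤ U j)).op
          (gen U hU η hη j) := by
  apply ext U hU η hη
  intro y
  rw [smul_apply, map_apply, map_apply, gen_apply, gen_apply]
  exact tg_cocycle hη i j (idx U hU y.1) y.1 y.2.1 y.2.2 (idx_mem U hU y.1)

/-- the standard generators generate freely -/
theorem bijective_smul_gen (hη : IsCocycle U η) (i : ι) (V : X.Opens) (h : V ≤ U i) :
    Function.Bijective (fun r : Γ(X, V) =>
      r • (cocMod U hU η hη).presheaf.map (homOfLE h).op (gen U hU η hη i)) := by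
  constructor
  · intro r r' hrr
    apply TopCat.Presheaf.section_ext X.sheaf V
    intro y hy
    have h1 := congrArg (fun f : Γ(cocMod U hU η hη, V) => f.1 ⟨y, hy⟩) hrr
    simp only [smul_apply, map_apply, gen_apply] at h1
    exact (isUnit_tg U η i (idx U hU y) y (h hy) (idx_mem U hU y)).mul_left_injective h1
  · intro f
    have hloc := f.2
    choose V' hyV' j i' hV' r hr using hloc
    have hr' : ∀ (y : V) (z : V' y), f.1 (j y z) = X.presheaf.germ (V' y) z.1 z.2 (r y) *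
        tg U η (i' y) (idx U hU z.1) z.1 (hV' y z.2) (idx_mem U hU z.1) := fun y z => hr y z
    have hVi : ∀ y : V, V' y ≤ U i := fun y => (j y).le.trans h
    set r' : ∀ y : V, Γ(X, V' y) := fun y =>
      r y * X.presheaf.map (homOfLE (le_inf (hV' y) (hVi y))).op (η (i' y) i : Γ(X, U (i' y) ⊓ U i))
      with hr'def
    have hr'' : ∀ (y : V) (z : V' y), f.1 (j y z) = X.presheaf.germ (V' y) z.1 z.2 (r' y) *
        tg U η i (idx U hU z.1) z.1 (hVi y z.2) (idx_mem U hU z.1) := fun y =>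
      pre_change U hU η hη (fun z : V' y => f.1 (j y z)) (i' y) i (hV' y) (hVi y) (r y) (hr' y)
    have compat : TopCat.Presheaf.IsCompatible X.sheaf.1 V' r' := by
      intro y y'
      apply TopCat.Presheaf.section_ext X.sheaf (V' y ⊓ V' y')
      intro z hz
      have e1 := hr'' y ⟨z, hz.1⟩
      have e2 := hr'' y' ⟨z, hz.2⟩
      have e3 : f.1 (j y ⟨z, hz.1⟩) = f.1 (j y' ⟨z, hz.2⟩) := rfl
      rw [e1, e2] at e3
      have e4 := (isUnit_tg U η i (idx U hU z) z (hVi y hz.1) (idx_mem U hU z)).mul_left_injective e3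
      show X.presheaf.germ (V' y ⊓ V' y') z hz (X.presheaf.map (homOfLE inf_le_left).op (r' y)) =
        X.presheaf.germ (V' y ⊓ V' y') z hz (X.presheaf.map (homOfLE inf_le_right).op (r' y'))
      rw [TopCat.Presheaf.germ_res_apply, TopCat.Presheaf.germ_res_apply]
      exact e4
    have hcov : V ≤ iSup V' := fun y hy => Opens.mem_iSup.mpr ⟨⟨y, hy⟩, hyV' ⟨y, hy⟩⟩
    obtain ⟨r₀, hr₀, -⟩ : ∃! r₀ : Γ(X, V), ∀ y : V, X.presheaf.map (j y).op r₀ = r' y :=
      X.sheaf.existsUnique_gluing' V' V j hcov r' compat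
    refine ⟨r₀, ?_⟩
    apply ext U hU η hη
    intro y
    rw [smul_apply, map_apply, gen_apply]
    have e1 := hr'' y ⟨y.1, hyV' y⟩
    have e2 : f.1 (j y ⟨y.1, hyV' y⟩) = f.1 y := rfl
    rw [← e2, e1, ← hr₀ y, TopCat.Presheaf.germ_res_apply]

end Groth.Agent.Lib.Helper18.CocycleMod
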