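import Mathlib
import Groth.Agent.Lib.Helper18.PicGlue1
import Groth.Agent.Lib.Helper12.NormSec3
import Groth.Agent.S10963
import Groth.Agent.S10964

/-!
# Gluing invertible modules along an isomorphism locus (helper18; Stacks 09NW)

* `bijective_app_of_le f V hV O hO`: if `f ∣_ V` is an isomorphism, `f♯` is bijective on every open `O ≤ V`.
* `tr`, `tr_spec`, `tr_unique`, `tr_res`, `tr_self`, `tr_mul`, `tr_mul_inv`: transition functions between generators
  `e a` of `L` over `f⁻¹ (U a)`.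
* `et`, `app_et`, `et_cocycle`: the descended unit cocycle on `Y` (when pairwise intersections lie in `V`).
* `exists_invertible_pullback_of_cover`: `L ≅ f^* N` with `N` invertible.
-/

set_option autoImplicit false
universe u
open CategoryTheory CategoryTheory.Limits AlgebraicGeometry TopologicalSpace Opposite

namespace Groth.Agent.Lib.Helper18.PicGlue

variable {X Y : Scheme.{u}}

/-- over an open where `f` is an isomorphism, `f♯` is bijective on every smaller open -/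
theorem bijective_app_of_le (f : X ⟶ Y) (V : Y.Opens) (hV : IsIso (f ∣_ V)) (O : Y.Opens) (hO : O ≤ V) :
    Function.Bijective (f.app O).hom := by
  have h1 := morphismRestrict_app f V (V.ι ⁻¹ᵁ O)
  have hiso2 : IsIso (f.app (V.ι ''ᵁ (V.ι ⁻¹ᵁ O))) := by
    have h3 : IsIso (f.app (V.ι ''ᵁ (V.ι ⁻¹ᵁ O)) ≫
        X.presheaf.map (eqToHom (image_morphismRestrict_preimage f V (V.ι ⁻¹ᵁ O))).op) := by
      have h0 : IsIso ((f ∣_ V).app (V.ι ⁻¹ᵁ O)) := by
        haveI := hV
        exact inferInstance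
      exact h1 ▸ h0
    exact IsIso.of_isIso_comp_right _
      (X.presheaf.map (eqToHom (image_morphismRestrict_preimage f V (V.ι ⁻¹ᵁ O))).op)
  have heq : V.ι ''ᵁ (V.ι ⁻¹ᵁ O) = O := by
    rw [Scheme.Hom.image_preimage_eq_opensRange_inf, Scheme.Opens.opensRange_ι]
    exact inf_eq_right.2 hO
  rw [heq] at hiso2
  exact ConcreteCategory.bijective_of_isIso (f.app O)

open Groth.Agent.Lib.Helper12.NormSec Scheme.Modules

section Trans

variable (f : X ⟶ Y) {L : X.Modules} {ι : Type u} (U : ι → Y.Opens)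
  (e : ∀ a, Γ(L, f ⁻¹ᵁ U a)) (he : ∀ a, IsGen L (f ⁻¹ᵁ U a) (e a))

/-- the transition function `e_a = tr a b • e_b` over `f⁻¹ O`, `O ≤ U a ⊓ U b` -/
noncomputable def tr (a b : ι) (O : Y.Opens) (ha : O ≤ U a) (hb : O ≤ U b) : Γ(X, f ⁻¹ᵁ O) :=
  ((he b (f ⁻¹ᵁ O) (f.preimage_mono hb)).2 (rs L (f.preimage_mono ha) (e a))).choose

theorem tr_spec (a b : ι) (O : Y.Opens) (ha : O ≤ U a) (hb : O ≤ U b) :
    tr f U e he a b O ha hb • rs L (f.preimage_mono hb) (e b) = rs L (f.preimage_mono ha) (e a) :=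
  ((he b (f ⁻¹ᵁ O) (f.preimage_mono hb)).2 (rs L (f.preimage_mono ha) (e a))).choose_spec

theorem tr_unique (a b : ι) (O : Y.Opens) (ha : O ≤ U a) (hb : O ≤ U b) (u : Γ(X, f ⁻¹ᵁ O))
    (hu : u • rs L (f.preimage_mono hb) (e b) = rs L (f.preimage_mono ha) (e a)) :
    u = tr f U e he a b O ha hb :=
  (he b (f ⁻¹ᵁ O) (f.preimage_mono hb)).1 (hu.trans (tr_spec f U e he a b O ha hb).symm)

theorem tr_res (a b : ι) {O O' : Y.Opens} (h : O' ≤ O) (ha : O ≤ U a) (hb : O ≤ U b) :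
    rf (f.preimage_mono h) (tr f U e he a b O ha hb) = tr f U e he a b O' (h.trans ha) (h.trans hb) := by
  apply tr_unique
  have h1 := congrArg (rs L (f.preimage_mono h)) (tr_spec f U e he a b O ha hb)
  rw [rs_smul, rs_rs, rs_rs] at h1
  exact h1

theorem tr_self (a : ι) (O : Y.Opens) (ha : O ≤ U a) : tr f U e he a a O ha ha = 1 :=
  (tr_unique f U e he a a O ha ha 1 (one_smul _ _)).symm

theorem tr_mul (a b c : ι) (O : Y.Opens) (ha : O ≤ U a) (hb : O ≤ U b) (hc : O ≤ U c) :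
    tr f U e he a b O ha hb * tr f U e he b c O hb hc = tr f U e he a c O ha hc := by
  apply tr_unique
  rw [mul_smul, tr_spec, tr_spec]

theorem tr_mul_inv (a b : ι) (O : Y.Opens) (ha : O ≤ U a) (hb : O ≤ U b) :
    tr f U e he a b O ha hb * tr f U e he b a O hb ha = 1 := by
  rw [tr_mul, tr_self]

end Trans

theorem app_rf (f : X ⟶ Y) {O O' : Y.Opens} (h : O' ≤ O) (a : Γ(Y, O)) :
    (f.app O').hom (rf h a) = rf (f.preimage_mono h) ((f.app O).hom a) := by
  have := f.naturality (homOfLE h).op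
  exact congrArg (fun ψ => ψ.hom a) this

section Descent

variable (f : X ⟶ Y) (V : Y.Opens) (hV : IsIso (f ∣_ V)) {L : X.Modules} {ι : Type u} (U : ι → Y.Opens)
  (hne : ∀ a b, a ≠ b → U a ⊓ U b ≤ V)
  (e : ∀ a, Γ(L, f ⁻¹ᵁ U a)) (he : ∀ a, IsGen L (f ⁻¹ᵁ U a) (e a))

/-- the ring isomorphism `f♯` over an open inside `V` -/
noncomputable def appEquiv (O : Y.Opens) (hO : O ≤ V) : Γ(Y, O) ≃+* Γ(X, f ⁻¹ᵁ O) :=
  RingEquiv.ofBijective (f.app O).hom (bijective_app_of_le f V hV O hO)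

/-- the transition function as a unit -/
noncomputable def trUnit (a b : ι) (O : Y.Opens) (ha : O ≤ U a) (hb : O ≤ U b) : (Γ(X, f ⁻¹ᵁ O))ˣ :=
  ⟨tr f U e he a b O ha hb, tr f U e he b a O hb ha, tr_mul_inv f U e he a b O ha hb,
    tr_mul_inv f U e he b a O hb ha⟩

open Classical in
/-- the descended cocycle -/
noncomputable def et (a b : ι) : (Γ(Y, U a ⊓ U b))ˣ :=
  if h : a = b then 1 else
    Units.map (appEquiv f V hV (U a ⊓ U b) (hne a b h)).symm.toRingHom.toMonoidHom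
      (trUnit f U e he a b (U a ⊓ U b) inf_le_left inf_le_right)

theorem app_et (a b : ι) :
    (f.app (U a ⊓ U b)).hom ((et f V hV U hne e he a b : (Γ(Y, U a ⊓ U b))ˣ) : Γ(Y, U a ⊓ U b)) =
      tr f U e he a b (U a ⊓ U b) inf_le_left inf_le_right := by
  unfold et
  split_ifs with h
  · subst h
    rw [Units.val_one, map_one, tr_self]
  · exact (appEquiv f V hV (U a ⊓ U b) (hne a b h)).apply_symm_apply _

theorem et_cocycle (i j k : ι) :
    Y.presheaf.map (homOfLE (inf_le_inf_right (U k) inf_le_left : U i ⊓ U j ⊓ U k ≤ U i ⊓ U k)).op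
        ((et f V hV U hne e he i k : (Γ(Y, U i ⊓ U k))ˣ) : Γ(Y, U i ⊓ U k)) =
      Y.presheaf.map (homOfLE (inf_le_left : U i ⊓ U j ⊓ U k ≤ U i ⊓ U j)).op
          ((et f V hV U hne e he i j : (Γ(Y, U i ⊓ U j))ˣ) : Γ(Y, U i ⊓ U j)) *
        Y.presheaf.map (homOfLE (inf_le_inf_right (U k) inf_le_right : U i ⊓ U j ⊓ U k ≤ U j ⊓ U k)).op
          ((et f V hV U hne e he j k : (Γ(Y, U j ⊓ U k))ˣ) : Γ(Y, U j ⊓ U k)) := by
  by_cases hall : i = j ∧ j = k
  · obtain ⟨rfl, rfl⟩ := hall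
    have h1 : et f V hV U hne e he i i = 1 := dif_pos rfl
    rw [h1, Units.val_one, map_one, mul_one]
  · have hO : U i ⊓ U j ⊓ U k ≤ V := by
      by_cases hij : i = j
      · have hjk : j ≠ k := fun h => hall ⟨hij, h⟩
        exact (inf_le_inf_right (U k) inf_le_right).trans (hne j k hjk)
      · exact inf_le_left.trans (hne i j hij)
    apply (bijective_app_of_le f V hV _ hO).1
    rw [map_mul]
    have e1 := (app_rf f (inf_le_inf_right (U k) inf_le_left : U i ⊓ U j ⊓ U k ≤ U i ⊓ U k)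
      ((et f V hV U hne e he i k : (Γ(Y, U i ⊓ U k))ˣ) : Γ(Y, U i ⊓ U k))).trans
      ((congrArg (rf (f.preimage_mono (inf_le_inf_right (U k) inf_le_left :
        U i ⊓ U j ⊓ U k ≤ U i ⊓ U k))) (app_et f V hV U hne e he i k)).trans
        (tr_res f U e he i k (inf_le_inf_right (U k) inf_le_left : U i ⊓ U j ⊓ U k ≤ U i ⊓ U k)
          inf_le_left inf_le_right))
    have e2 := (app_rf f (inf_le_left : U i ⊓ U j ⊓ U k ≤ U i ⊓ U j)
      ((et f V hV U hne e he i j : (Γ(Y, U i ⊓ U j))ˣ) : Γ(Y, U i ⊓ U j))).trans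
      ((congrArg (rf (f.preimage_mono (inf_le_left : U i ⊓ U j ⊓ U k ≤ U i ⊓ U j)))
        (app_et f V hV U hne e he i j)).trans
        (tr_res f U e he i j (inf_le_left : U i ⊓ U j ⊓ U k ≤ U i ⊓ U j)
          inf_le_left inf_le_right))
    have e3 := (app_rf f (inf_le_inf_right (U k) inf_le_right : U i ⊓ U j ⊓ U k ≤ U j ⊓ U k)
      ((et f V hV U hne e he j k : (Γ(Y, U j ⊓ U k))ˣ) : Γ(Y, U j ⊓ U k))).trans
      ((congrArg (rf (f.preimage_mono (inf_le_inf_right (U k) inf_le_right :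
        U i ⊓ U j ⊓ U k ≤ U j ⊓ U k))) (app_et f V hV U hne e he j k)).trans
        (tr_res f U e he j k (inf_le_inf_right (U k) inf_le_right : U i ⊓ U j ⊓ U k ≤ U j ⊓ U k)
          inf_le_left inf_le_right))
    exact e1.trans ((tr_mul f U e he i j k _ _ _ _).symm.trans (congrArg₂ (· * ·) e2.symm e3.symm))

end Descent

open Groth.Agent.Lib.helper11.InvMod in
/-- **gluing along an isomorphism locus**: `f` an isomorphism over `V`, `Y` covered by opens `U a` whose pairwise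
intersections lie in `V` and such that `L` is trivial over each `f⁻¹ (U a)`.  Then `L ≅ f^* N` with `N` invertible. -/
theorem exists_invertible_pullback_of_cover (f : X ⟶ Y) (V : Y.Opens) (hV : IsIso (f ∣_ V))
    {L : X.Modules} {ι : Type u} (U : ι → Y.Opens) (hU : iSup U = ⊤)
    (hne : ∀ a b, a ≠ b → U a ⊓ U b ≤ V)
    (hT : ∀ a, IsTrivOn L (f ⁻¹ᵁ U a)) :
    ∃ N : Y.Modules, PicF.IsInvertible N ∧ Nonempty ((Scheme.Modules.pullback f).obj N ≅ L) := by
  choose e he using fun a => exists_isGen_of_isTrivOn (hT a) le_rfl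
  obtain ⟨N, n, hN, hbij, hrel⟩ := Groth.Agent.S10963.result Y U hU (et f V hV U hne e he)
    (et_cocycle f V hV U hne e he)
  refine ⟨N, hN, ?_⟩
  have hTN : ∀ a, IsTrivOn N (U a) := fun a =>
    Groth.Agent.Lib.Helper18.GenTriv.isTrivOn_of_forall_bijective N (U a) (n a) (hbij a)
  have hgenN : ∀ a, IsGen N (U a) (n a) := fun a W hW => hbij a W hW
  have hgen' : ∀ a, IsGen ((Scheme.Modules.pullback f).obj N) (f ⁻¹ᵁ U a) (eta f N (U a) (n a)) :=
    fun a => isGen_eta f (hTN a) le_rfl (n a) (hgenN a)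
  have hU' : iSup (fun a => f ⁻¹ᵁ U a) = ⊤ := by
    rw [eq_top_iff]
    intro x _
    have hx : f x ∈ (⊤ : Y.Opens) := trivial
    rw [← hU] at hx
    obtain ⟨a, ha⟩ := TopologicalSpace.Opens.mem_iSup.mp hx
    exact TopologicalSpace.Opens.mem_iSup.mpr ⟨a, ha⟩
  refine (Groth.Agent.S10964.result X (fun a => f ⁻¹ᵁ U a) hU' ((Scheme.Modules.pullback f).obj N) L
    (fun a => eta f N (U a) (n a)) e (fun a W hW => hgen' a W hW) (fun a W hW => he a W hW)
    (fun a b => tr f U e he a b (U a ⊓ U b) inf_le_left inf_le_right)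
    (fun a b => tr f U e he a b (U a ⊓ U b) inf_le_left inf_le_right) ?_ ?_).2 ⟨fun _ => 1, ?_⟩
  · intro a b
    have h1 := eta_rs f N (inf_le_left : U a ⊓ U b ≤ U a) (n a)
    have h2 := eta_rs f N (inf_le_right : U a ⊓ U b ≤ U b) (n b)
    have h3 : rs N (inf_le_left : U a ⊓ U b ≤ U a) (n a) =
        ((et f V hV U hne e he a b : (Γ(Y, U a ⊓ U b))ˣ) : Γ(Y, U a ⊓ U b)) •
          rs N (inf_le_right : U a ⊓ U b ≤ U b) (n b) := hrel a b
    rw [h3, eta_smul] at h1
    have h4 := app_et f V hV U hne e he a b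
    change (f.app (U a ⊓ U b)) _ = _ at h4
    rw [h4, ← h2] at h1
    exact h1
  · intro a b
    exact (tr_spec f U e he a b (U a ⊓ U b) inf_le_left inf_le_right).symm
  · intro a b
    simp

end Groth.Agent.Lib.Helper18.PicGlue
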