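import Mathlib

/-!
# Helper18: relative fibre criterion for formal smoothness of local algebras
(adapted from Mathlib's `Algebra.FormallySmooth.of_formallySmooth_residueField_tensor`)
-/

universe u

namespace Groth.Agent.Lib.Helper18.RelSmoothFiber

open TensorProduct IsLocalRing Algebra

local notation "𝓀[" R "]" => ResidueField R
local notation "𝓂[" R "]" => maximalIdeal R

section aux

variable {Λ k R S P : Type*} [CommRing Λ] [CommRing k] [CommRing R] [CommRing S] [CommRing P]
  [Algebra Λ k]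
  [Algebra Λ R] [Algebra Λ S] [Algebra R S] [IsScalarTower Λ R S] [Module.Flat Λ S]
  [Algebra Λ P] [Algebra R P] [IsScalarTower Λ R P] [Algebra P S] [IsScalarTower R P S]
  [IsScalarTower Λ P S]
  [IsLocalRing S] [Algebra k 𝓀[S]] [IsScalarTower Λ k 𝓀[S]] [IsLocalRing (k ⊗[Λ] S)]

set_option backward.defeqAttrib.useBackward true in
set_option backward.isDefEq.respectTransparency false in
attribute [local instance] TensorProduct.rightAlgebra in
/-- Relative fibre criterion (local, with a presentation). -/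
theorem formallySmooth_of_fiber_aux
    [FormallySmooth R P] [Module.Free P Ω[P⁄R]] [Module.Finite P Ω[P⁄R]]
    (h₁ : Function.Surjective (algebraMap P S)) (h₂ : (RingHom.ker (algebraMap P S)).FG)
    (h : (Algebra.TensorProduct.map (AlgHom.id k k)
      (IsScalarTower.toAlgHom Λ R S)).toRingHom.FormallySmooth)
    (h₃' : 𝓂[k ⊗[Λ] S] ≤ RingHom.ker (Algebra.TensorProduct.lift (IsScalarTower.toAlgHom Λ k 𝓀[S])
      (IsScalarTower.toAlgHom Λ S 𝓀[S]) fun _ _ ↦ .all _ _)) :
    Algebra.FormallySmooth R S := by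
  let Rp := k ⊗[Λ] R
  let Sp := k ⊗[Λ] S
  let Pp := k ⊗[Λ] P
  let ρ : Rp →ₐ[k] Pp := Algebra.TensorProduct.map (.id _ _) (IsScalarTower.toAlgHom _ _ _)
  let φ : Pp →ₐ[k] Sp := Algebra.TensorProduct.map (.id _ _) (IsScalarTower.toAlgHom _ _ _)
  let ψ : Sp →ₐ[Λ] 𝓀[S] := Algebra.TensorProduct.lift (IsScalarTower.toAlgHom _ _ _)
    (IsScalarTower.toAlgHom _ _ _) fun _ _ ↦ .all _ _
  algebraize [ρ.toRingHom, φ.toRingHom, (φ.toRingHom.comp ρ.toRingHom),
    (φ.toRingHom.comp (algebraMap P Pp)), ψ.toRingHom,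
    ψ.toRingHom.comp φ.toRingHom, ((algebraMap P Pp).comp (algebraMap R P))]
  have := IsScalarTower.of_algebraMap_eq' φ.comp_algebraMap.symm
  have := IsScalarTower.of_algebraMap_eq' ψ.comp_algebraMap.symm
  have : IsScalarTower P S Sp := .of_algebraMap_eq' rfl
  have : IsScalarTower S Sp 𝓀[S] := .of_algebraMap_eq fun r ↦ by
    simp [RingHom.algebraMap_toAlgebra, ψ, Sp]
  have : IsScalarTower P Sp 𝓀[S] := .to₁₃₄ _ S _ _
  have : IsScalarTower P Pp 𝓀[S] := .to₁₂₄ _ _ Sp _
  have : IsScalarTower R Rp Pp := .of_algebraMap_eq fun r ↦ by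
    simp [RingHom.algebraMap_toAlgebra, ρ, Rp, Pp]
  have hPO : Algebra.IsPushout R Rp P Pp := by
    have h1 : Algebra.IsPushout Λ k R Rp := inferInstance
    have h2 : Algebra.IsPushout Λ k P Pp := inferInstance
    have : IsScalarTower k Rp Pp := .of_algebraMap_eq' ρ.comp_algebraMap.symm
    have : IsScalarTower Λ R Pp := .to₁₂₄ _ _ P _
    have : IsScalarTower Λ Rp Pp := .to₁₃₄ Λ k Rp Pp
    have h1' : Algebra.IsPushout Λ R k Rp := h1.symm
    exact ((Algebra.IsPushout.comp_iff Λ R k Rp).mp h2.symm).symm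
  let e₀ : Ω[Pp⁄Rp] ≃ₗ[Pp] Pp ⊗[P] Ω[P⁄R] :=
    (KaehlerDifferential.tensorKaehlerEquiv R Rp P Pp).symm
  have : Module.Free Pp Ω[Pp⁄Rp] := .of_equiv e₀.symm
  have : Module.Finite Pp Ω[Pp⁄Rp] := .of_surjective e₀.symm.toLinearMap e₀.symm.surjective
  have : FormallySmooth Rp Pp := .of_equiv (Algebra.IsPushout.equiv R Rp P Pp)
  have hfs : FormallySmooth Rp Sp := by
    have hcomp : φ.toRingHom.comp ρ.toRingHom = (Algebra.TensorProduct.map (AlgHom.id k k)
        (IsScalarTower.toAlgHom Λ R S)).toRingHom := by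
      have : φ.comp ρ = Algebra.TensorProduct.map (AlgHom.id k k)
          (IsScalarTower.toAlgHom Λ R S) := by
        have hc : (IsScalarTower.toAlgHom Λ P S).comp (IsScalarTower.toAlgHom Λ R P) =
            IsScalarTower.toAlgHom Λ R S := by
          ext x
          exact (IsScalarTower.algebraMap_apply R P S x).symm
        rw [← hc]
        exact (Algebra.TensorProduct.map_id_comp _ _).symm
      exact congr($(this).toRingHom)
    rw [← hcomp] at h
    exact h
  let e₁ : RingHom.ker φ ≃ₗ[Pp] Pp ⊗[P] RingHom.ker (algebraMap P S) :=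
    kerTensorProductMapIdToAlgHomEquiv _ _ _ _ h₁
  have h₁' : Function.Surjective φ := LinearMap.lTensor_surjective _ h₁
  have h₂' : (RingHom.ker φ).FG := by
    suffices Module.Finite Pp (RingHom.ker φ) from (Submodule.fg_top _).mp this.1
    have : Module.Finite P (RingHom.ker (algebraMap P S)) := ⟨(Submodule.fg_top _).mpr h₂⟩
    exact .equiv e₁.symm
  have h₃ : 𝓂[Sp] ≤ RingHom.ker ψ := h₃'
  rw [Algebra.FormallySmooth.iff_injective_cotangentComplexBaseChange_residueField (P := P) h₁ h₂]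
  have key := (Algebra.FormallySmooth.iff_injective_cotangentComplexBaseChange
    (R := Rp) (S := Sp) Pp 𝓀[S] h₁' h₂' h₃).mp hfs
  let eᵣ : 𝓀[S] ⊗[Pp] Ω[Pp⁄Rp] ≃ₗ[S] 𝓀[S] ⊗[P] Ω[P⁄R] :=
    (AlgebraTensorModule.congr (.refl 𝓀[S] _) e₀).restrictScalars S ≪≫ₗ
      (AlgebraTensorModule.cancelBaseChange P Pp Sp 𝓀[S] Ω[P⁄R]).restrictScalars S
  let eₗ : 𝓀[S] ⊗[Pp] RingHom.ker φ ≃ₗ[S] 𝓀[S] ⊗[P] RingHom.ker (algebraMap P S) :=
    (AlgebraTensorModule.congr (.refl 𝓀[S] 𝓀[S]) e₁).restrictScalars S ≪≫ₗ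
      (AlgebraTensorModule.cancelBaseChange P Pp Sp 𝓀[S] _).restrictScalars S
  convert! (eᵣ.injective.comp key).comp eₗ.symm.injective
  ext x
  dsimp
  induction x with
  | zero => simp only [LinearEquiv.map_zero, LinearMap.map_zero]
  | add x y _ _ => simp only [LinearEquiv.map_add, LinearMap.map_add, *]
  | tmul x y =>
  dsimp [eₗ, eᵣ, e₁, KaehlerDifferential.cotangentComplexBaseChange,
    TensorProduct.one_def, Pp, smul_tmul']
  rw [kerTensorProductMapIdToAlgHomEquiv_symm_apply]
  have hD : (KaehlerDifferential.tensorKaehlerEquiv R Rp P Pp).symm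
      (KaehlerDifferential.D Rp Pp ((1 : k) ⊗ₜ[Λ] (y : P))) =
      (1 : Pp) ⊗ₜ[P] KaehlerDifferential.D R P (y : P) := by
    rw [LinearEquiv.symm_apply_eq, KaehlerDifferential.tensorKaehlerEquiv_tmul_D, one_smul]
    rfl
  simp [e₀, Pp, hD]

end aux

section main

variable {Λ k R S P : Type*} [CommRing Λ] [CommRing k] [CommRing R] [CommRing S] [CommRing P]
  [Algebra Λ k]
  [Algebra Λ R] [Algebra Λ S] [Algebra R S] [IsScalarTower Λ R S] [Module.Flat Λ S]
  [Algebra R P] [Algebra P S] [IsScalarTower R P S]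
  [IsLocalRing S] [Algebra k 𝓀[S]] [IsScalarTower Λ k 𝓀[S]] [IsLocalRing (k ⊗[Λ] S)]

/-- Relative fibre criterion for formal smoothness of local algebras: `S` a local
`R`-algebra essentially of finite presentation, flat over `Λ`, `k` a `Λ`-algebra such that `k ⊗ S`
is local with residue field that of `S` and formally smooth over `k ⊗ R`.
Then `S` is formally smooth over `R`. -/
theorem formallySmooth_of_fiber (M : Submonoid P) [IsLocalization M S]
    [Algebra.FinitePresentation R P]
    (h : (Algebra.TensorProduct.map (AlgHom.id k k)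
      (IsScalarTower.toAlgHom Λ R S)).toRingHom.FormallySmooth)
    (h₃ : 𝓂[k ⊗[Λ] S] ≤ RingHom.ker (Algebra.TensorProduct.lift (IsScalarTower.toAlgHom Λ k 𝓀[S])
      (IsScalarTower.toAlgHom Λ S 𝓀[S]) fun _ _ ↦ .all _ _)) :
    Algebra.FormallySmooth R S := by
  obtain ⟨n, f₀, hf₀⟩ := Algebra.FiniteType.iff_quotient_mvPolynomial''.mp
    (inferInstance : Algebra.FiniteType R P)
  let M' := M.comap f₀
  let P' := Localization M'
  let fP : P' →ₐ[R] S := IsLocalization.liftAlgHom (M := M')
      (f := (IsScalarTower.toAlgHom R P S).comp f₀) fun x ↦ by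
    simpa using IsLocalization.map_units (M := M) _ ⟨f₀ x.1, x.2⟩
  have hf₁ : Function.Surjective fP := by
    intro x
    obtain ⟨x, ⟨s, hs⟩, rfl⟩ := IsLocalization.exists_mk'_eq M x
    obtain ⟨x, rfl⟩ := hf₀ x
    obtain ⟨s, rfl⟩ := hf₀ s
    refine ⟨IsLocalization.mk' (M := M') _ x ⟨s, hs⟩, ?_⟩
    simp [fP, IsLocalization.lift_mk', Units.mul_inv_eq_iff_eq_mul, IsUnit.liftRight]
  have hfP : (RingHom.ker fP).FG := by
    have := Algebra.FinitePresentation.ker_fG_of_surjective _ hf₀
    convert! this.map (algebraMap _ P')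
    refine le_antisymm ?_ (Ideal.map_le_iff_le_comap.mpr fun x hx ↦ by simp_all [fP])
    intro x hx
    obtain ⟨x, s, rfl⟩ := IsLocalization.exists_mk'_eq M' x
    obtain ⟨a, ha, e⟩ : ∃ a ∈ M, a * f₀ x = 0 := by
      simpa [fP, IsLocalization.lift_mk', IsLocalization.map_eq_zero_iff M] using hx
    obtain ⟨a, rfl⟩ := hf₀ a
    rw [IsLocalization.mk'_mem_map_algebraMap_iff]
    exact ⟨a, ha, by simpa⟩
  algebraize [fP.toRingHom]
  have : IsScalarTower R P' S := .of_algebraMap_eq' fP.comp_algebraMap.symm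
  have : IsScalarTower Λ P' S := .to₁₃₄ Λ R P' S
  have : FormallyEtale (MvPolynomial (Fin n) R) P' := .of_isLocalization M'
  have : FormallySmooth R P' := .comp _ (MvPolynomial (Fin n) R) _
  have : Module.Free P' Ω[P'⁄R] :=
    .of_equiv (KaehlerDifferential.tensorKaehlerEquivOfFormallyEtale R (MvPolynomial (Fin n) R) P')
  exact formallySmooth_of_fiber_aux (Λ := Λ) (k := k) (R := R) (S := S) (P := P') hf₁ hfP h h₃

end main

theorem formallySmooth_of_algEquiv_restrict {R T C D : Type*} [CommRing R] [CommRing T]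
    [CommRing C] [CommRing D] [Algebra R T] [Algebra T C] [Algebra T D] [Algebra R C] [Algebra R D]
    [IsScalarTower R T C] [IsScalarTower R T D] (e : C ≃ₐ[T] D) [Algebra.FormallySmooth R C] :
    Algebra.FormallySmooth R D :=
  .of_equiv (e.restrictScalars R)

section loc

variable {A₀ C : Type*} [CommRing A₀] [CommRing C] [Algebra A₀ C] (p : Ideal A₀) [p.IsPrime]
  (qk : Ideal (p.Fiber C)) [qk.IsPrime]

attribute [local instance] TensorProduct.rightAlgebra in
/-- The fibre of the localisation is the localisation of the fibre. -/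
theorem isLocalization_atPrime_fiber :
    letI q : Ideal C := qk.comap (Algebra.TensorProduct.includeRight : C →ₐ[A₀] p.Fiber C)
    letI : Algebra (p.Fiber C) (p.Fiber (Localization.AtPrime q)) :=
      (Algebra.TensorProduct.map (AlgHom.id p.ResidueField p.ResidueField)
        (IsScalarTower.toAlgHom A₀ C (Localization.AtPrime q))).toRingHom.toAlgebra
    IsLocalization.AtPrime (p.Fiber (Localization.AtPrime q)) qk := by
  let q : Ideal C := qk.comap (Algebra.TensorProduct.includeRight : C →ₐ[A₀] p.Fiber C)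
  let k := p.ResidueField
  let Cq := Localization.AtPrime q
  let Ck := p.Fiber C
  let X := p.Fiber Cq
  let θ : Ck →ₐ[k] X := Algebra.TensorProduct.map (AlgHom.id k k) (IsScalarTower.toAlgHom A₀ C Cq)
  let _ : Algebra Ck X := θ.toRingHom.toAlgebra
  let _ : Algebra C X := ((algebraMap Cq X).comp (algebraMap C Cq)).toAlgebra
  have : IsScalarTower C Cq X := .of_algebraMap_eq' rfl
  have : IsScalarTower C Ck X := .of_algebraMap_eq fun c ↦ by
    simp [RingHom.algebraMap_toAlgebra, θ, Ck, X]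
  have : IsScalarTower k Ck X := .of_algebraMap_eq' θ.comp_algebraMap.symm
  have hPO : Algebra.IsPushout C Ck Cq X := by
    have h1 : Algebra.IsPushout A₀ k C Ck := inferInstance
    have h2 : Algebra.IsPushout A₀ k Cq X := inferInstance
    have : IsScalarTower A₀ C X := .to₁₂₄ _ _ Cq _
    have : IsScalarTower A₀ Ck X := .to₁₃₄ A₀ k Ck X
    have h1' : Algebra.IsPushout A₀ C k Ck := h1.symm
    exact ((Algebra.IsPushout.comp_iff A₀ C k Ck).mp h2.symm).symm
  have hloc : IsLocalization (Algebra.algebraMapSubmonoid Ck q.primeCompl) X :=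
    (Algebra.isLocalization_iff_isPushout q.primeCompl Cq).mpr hPO
  refine IsLocalization.of_le (M := Algebra.algebraMapSubmonoid Ck q.primeCompl) (S := X)
    qk.primeCompl ?_ ?_
  · rintro _ ⟨c, hc, rfl⟩
    exact hc
  · intro x hx
    obtain ⟨r, hr, c, e⟩ := Ideal.Fiber.exists_smul_eq_one_tmul p x
    have hru : IsUnit (algebraMap A₀ k r) := by
      refine IsUnit.mk0 _ ?_
      rwa [Ne, Ideal.algebraMap_residueField_eq_zero]
    have hc : c ∈ q.primeCompl := by
      intro hcq
      have h1 : (1 : k) ⊗ₜ[A₀] c ∈ qk := hcq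
      rw [← e, Algebra.smul_def] at h1
      rcases Ideal.IsPrime.mem_or_mem ‹qk.IsPrime› h1 with h2 | h2
      · have : IsUnit (algebraMap A₀ Ck r) := by
          rw [IsScalarTower.algebraMap_apply A₀ k Ck]
          exact hru.map _
        exact Ideal.IsPrime.ne_top ‹qk.IsPrime› (Ideal.eq_top_of_isUnit_mem _ h2 this)
      · exact hx h2
    have h1 : IsUnit (algebraMap Ck X ((1 : k) ⊗ₜ[A₀] c)) :=
      IsLocalization.map_units X (⟨_, c, hc, rfl⟩ : Algebra.algebraMapSubmonoid Ck q.primeCompl)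
    rw [← e, Algebra.smul_def, map_mul] at h1
    exact isUnit_of_mul_isUnit_right h1

end loc

section literal

variable {A₀ B C : Type u} [CommRing A₀] [CommRing B] [CommRing C]
  [Algebra A₀ B] [Algebra B C] [Algebra A₀ C] [IsScalarTower A₀ B C]
  [Algebra.FinitePresentation B C] (p : Ideal A₀) [p.IsPrime]
  (qk : Ideal (p.Fiber C)) [qk.IsPrime]

set_option backward.isDefEq.respectTransparency false in
attribute [local instance] TensorProduct.rightAlgebra in
/-- Relative pointwise fibre criterion (literal fibre rings). -/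
theorem isSmoothAt_of_isSmoothAt_fiber_rel
    (hflat : Module.Flat A₀ (Localization.AtPrime
      (qk.comap (Algebra.TensorProduct.includeRight : C →ₐ[A₀] p.Fiber C))))
    (hsm : letI : Algebra (p.Fiber B) (p.Fiber C) :=
        (Algebra.TensorProduct.map (AlgHom.id p.ResidueField p.ResidueField)
          (IsScalarTower.toAlgHom A₀ B C)).toRingHom.toAlgebra
      Algebra.IsSmoothAt (p.Fiber B) qk) :
    Algebra.IsSmoothAt B
      (qk.comap (Algebra.TensorProduct.includeRight : C →ₐ[A₀] p.Fiber C)) := by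
  let q : Ideal C := qk.comap (Algebra.TensorProduct.includeRight : C →ₐ[A₀] p.Fiber C)
  let k := p.ResidueField
  let Cq := Localization.AtPrime q
  let Bk := p.Fiber B
  let Ck := p.Fiber C
  let X := p.Fiber Cq
  let β : Bk →ₐ[k] Ck := Algebra.TensorProduct.map (AlgHom.id k k) (IsScalarTower.toAlgHom A₀ B C)
  let θ : Ck →ₐ[k] X := Algebra.TensorProduct.map (AlgHom.id k k) (IsScalarTower.toAlgHom A₀ C Cq)
  let _ : Algebra Bk Ck := β.toRingHom.toAlgebra
  let _ : Algebra Ck X := θ.toRingHom.toAlgebra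
  let _ : Algebra Bk X := (θ.toRingHom.comp β.toRingHom).toAlgebra
  have : IsScalarTower Bk Ck X := .of_algebraMap_eq' rfl
  have hloc : IsLocalization.AtPrime X qk := isLocalization_atPrime_fiber p qk
  have : IsLocalRing X := IsLocalization.AtPrime.isLocalRing X qk
  have hsm' : Algebra.FormallySmooth Bk (Localization.AtPrime qk) := hsm
  let e : Localization.AtPrime qk ≃ₐ[Ck] X := IsLocalization.algEquiv qk.primeCompl _ _
  have hfs : Algebra.FormallySmooth Bk X :=
    formallySmooth_of_algEquiv_restrict (R := Bk) (T := Ck) (C := Localization.AtPrime qk)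
      (D := X) e
  have hqp : q.LiesOver p := by
    have h1 : qk.LiesOver p := inferInstance
    constructor
    rw [h1.over]
    ext x
    simp [q, Ideal.under, Ideal.mem_comap]
  let _ := Localization.AtPrime.algebraOfLiesOver p q
  have t1 : IsScalarTower A₀ k 𝓀[Cq] := inferInstance
  have h : (Algebra.TensorProduct.map (AlgHom.id k k)
      (IsScalarTower.toAlgHom A₀ B Cq)).toRingHom.FormallySmooth := by
    have hcomp : θ.toRingHom.comp β.toRingHom = (Algebra.TensorProduct.map (AlgHom.id k k)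
        (IsScalarTower.toAlgHom A₀ B Cq)).toRingHom := by
      have : θ.comp β = Algebra.TensorProduct.map (AlgHom.id k k)
          (IsScalarTower.toAlgHom A₀ B Cq) := by
        have hc : (IsScalarTower.toAlgHom A₀ C Cq).comp (IsScalarTower.toAlgHom A₀ B C) =
            IsScalarTower.toAlgHom A₀ B Cq := by
          ext x
          exact (IsScalarTower.algebraMap_apply B C Cq x).symm
        rw [← hc]
        exact (Algebra.TensorProduct.map_id_comp _ _).symm
      exact congr($(this).toRingHom)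
    rw [← hcomp]
    exact hfs
  have h₃ : 𝓂[k ⊗[A₀] Cq] ≤ RingHom.ker (Algebra.TensorProduct.lift
      (IsScalarTower.toAlgHom A₀ k 𝓀[Cq]) (IsScalarTower.toAlgHom A₀ Cq 𝓀[Cq])
      fun _ _ ↦ .all _ _) := by
    set ψ := Algebra.TensorProduct.lift
      (IsScalarTower.toAlgHom A₀ k 𝓀[Cq]) (IsScalarTower.toAlgHom A₀ Cq 𝓀[Cq])
      (fun _ _ ↦ .all _ _) with hψ
    have hmax : qk.map (algebraMap Ck X) = 𝓂[X] :=
      IsLocalization.AtPrime.map_eq_maximalIdeal qk X
    show 𝓂[X] ≤ RingHom.ker ψ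
    rw [← hmax, Ideal.map_le_iff_le_comap]
    intro z hz
    rw [Ideal.mem_comap, RingHom.mem_ker]
    obtain ⟨r, hr, c, e⟩ := Ideal.Fiber.exists_smul_eq_one_tmul p z
    have hc : c ∈ q := by
      show (1 : k) ⊗ₜ[A₀] c ∈ qk
      rw [← e]
      exact Submodule.smul_of_tower_mem qk r hz
    have h1 : ψ (θ ((1 : k) ⊗ₜ[A₀] c)) = 0 := by
      rw [hψ]
      show (IsScalarTower.toAlgHom A₀ k 𝓀[Cq]) 1 *
        (IsScalarTower.toAlgHom A₀ Cq 𝓀[Cq]) (algebraMap C Cq c) = 0
      rw [map_one, one_mul]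
      show IsLocalRing.residue Cq (algebraMap C Cq c) = 0
      rw [IsLocalRing.residue_eq_zero_iff, IsLocalization.AtPrime.to_map_mem_maximal_iff Cq q]
      exact hc
    have h2 : ψ (θ (r • z)) = r • ψ (θ z) := by
      rw [show θ (r • z) = r • θ z from map_smul (θ.restrictScalars A₀) r z, map_smul]
    rw [e, h1, Algebra.smul_def] at h2
    have h3 : algebraMap A₀ 𝓀[Cq] r ≠ 0 := by
      rw [IsScalarTower.algebraMap_apply A₀ Cq 𝓀[Cq], IsScalarTower.algebraMap_apply A₀ C Cq]
      show IsLocalRing.residue Cq _ ≠ 0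
      rw [Ne, IsLocalRing.residue_eq_zero_iff, IsLocalization.AtPrime.to_map_mem_maximal_iff Cq q]
      intro hmem
      apply hr
      rw [hqp.over]
      exact hmem
    show ψ (θ z) = 0
    exact (mul_eq_zero.mp h2.symm).resolve_left h3
  exact formallySmooth_of_fiber (Λ := A₀) (k := k) (R := B) (S := Cq) (P := C) q.primeCompl h h₃

end literal

end Groth.Agent.Lib.Helper18.RelSmoothFiber
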