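import Mathlib

/-!
# Helper18: descent of smoothness at a point along flat base change (ring level)
-/

universe u

namespace Groth.Agent.Lib.Helper18.SmoothDescent

open TensorProduct Algebra

section FlatLocal

variable (A B M : Type*) [CommRing A] [CommRing B] [Algebra A B] [Module.Flat A B]
  [AddCommGroup M] [Module A M] (p' : Ideal B) [p'.IsPrime]

/-- For a flat ring map `A → B`, a prime `p'` of `B` and `p` its contraction, `B_{p'}` is
faithfully flat over `A_p`. -/
theorem faithfullyFlat_localization_of_flat :
    letI : (p').LiesOver (p'.comap (algebraMap A B)) := ⟨rfl⟩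
    letI := Localization.AtPrime.algebraOfLiesOver (p'.comap (algebraMap A B)) p'
    Module.FaithfullyFlat (Localization.AtPrime (p'.comap (algebraMap A B)))
      (Localization.AtPrime p') := by
  let p : Ideal A := p'.comap (algebraMap A B)
  have : p'.LiesOver p := ⟨rfl⟩
  let _ : Algebra (Localization.AtPrime p) (Localization.AtPrime p') :=
    Localization.AtPrime.algebraOfLiesOver p p'
  have : Module.Flat B (Localization.AtPrime p') := IsLocalization.flat _ p'.primeCompl
  have hA : Module.Flat A (Localization.AtPrime p') := Module.Flat.trans A B _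
  have : Module.Flat (Localization.AtPrime p) (Localization.AtPrime p') :=
    (Module.flat_iff_of_isLocalization (Localization.AtPrime p) p.primeCompl _).mpr hA
  exact Module.FaithfullyFlat.of_flat_of_isLocalHom

/-- The localisation of a flat base change at a prime, as a base change of the localisation. -/
noncomputable def localizationBaseChangeEquiv :
    letI : (p').LiesOver (p'.comap (algebraMap A B)) := ⟨rfl⟩
    letI := Localization.AtPrime.algebraOfLiesOver (p'.comap (algebraMap A B)) p'
    Localization.AtPrime p' ⊗[B] (B ⊗[A] M) ≃ₗ[Localization.AtPrime p']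
      Localization.AtPrime p' ⊗[Localization.AtPrime (p'.comap (algebraMap A B))]
        (Localization.AtPrime (p'.comap (algebraMap A B)) ⊗[A] M) :=
  letI : (p').LiesOver (p'.comap (algebraMap A B)) := ⟨rfl⟩
  letI := Localization.AtPrime.algebraOfLiesOver (p'.comap (algebraMap A B)) p'
  (AlgebraTensorModule.cancelBaseChange A B (Localization.AtPrime p')
      (Localization.AtPrime p') M) ≪≫ₗ
    (AlgebraTensorModule.cancelBaseChange A (Localization.AtPrime (p'.comap (algebraMap A B)))
      (Localization.AtPrime p') (Localization.AtPrime p') M).symm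

/-- Support of a flat base change of an arbitrary module: one inclusion. -/
theorem mem_support_baseChange_of_flat
    (h : (⟨p'.comap (algebraMap A B), inferInstance⟩ : PrimeSpectrum A) ∈ Module.support A M) :
    (⟨p', inferInstance⟩ : PrimeSpectrum B) ∈ Module.support B (B ⊗[A] M) := by
  let p : Ideal A := p'.comap (algebraMap A B)
  have : p'.LiesOver p := ⟨rfl⟩
  let _ : Algebra (Localization.AtPrime p) (Localization.AtPrime p') :=
    Localization.AtPrime.algebraOfLiesOver p p'
  have hff := faithfullyFlat_localization_of_flat A B p'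
  rw [Module.mem_support_iff] at h ⊢
  by_contra hcon
  rw [not_nontrivial_iff_subsingleton] at hcon
  have e1 := (IsLocalizedModule.isBaseChange p'.primeCompl (Localization.AtPrime p')
    (LocalizedModule.mkLinearMap p'.primeCompl (B ⊗[A] M))).equiv
  have e2 := (IsLocalizedModule.isBaseChange p.primeCompl (Localization.AtPrime p)
    (LocalizedModule.mkLinearMap p.primeCompl M)).equiv
  have s1 : Subsingleton (Localization.AtPrime p' ⊗[B] (B ⊗[A] M)) := e1.subsingleton_congr.mpr hcon
  have s2 : Subsingleton (Localization.AtPrime p' ⊗[Localization.AtPrime p]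
      (Localization.AtPrime p ⊗[A] M)) :=
    (localizationBaseChangeEquiv A B M p').subsingleton_congr.mp s1
  have s3 : Subsingleton (Localization.AtPrime p ⊗[A] M) :=
    (Module.FaithfullyFlat.subsingleton_tensorProduct_iff_right (Localization.AtPrime p)
      (Localization.AtPrime p')).mp s2
  have s4 : Subsingleton (LocalizedModule p.primeCompl M) := e2.subsingleton_congr.mp s3
  exact not_subsingleton _ s4

/-- Free locus of a flat base change of a finite module: one inclusion. -/
theorem mem_freeLocus_of_baseChange_of_flat [Module.Finite A M]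
    (h : (⟨p', inferInstance⟩ : PrimeSpectrum B) ∈ Module.freeLocus B (B ⊗[A] M)) :
    (⟨p'.comap (algebraMap A B), inferInstance⟩ : PrimeSpectrum A) ∈ Module.freeLocus A M := by
  let p : Ideal A := p'.comap (algebraMap A B)
  have : p'.LiesOver p := ⟨rfl⟩
  let _ : Algebra (Localization.AtPrime p) (Localization.AtPrime p') :=
    Localization.AtPrime.algebraOfLiesOver p p'
  have hff := faithfullyFlat_localization_of_flat A B p'
  have h' : Module.Free (Localization.AtPrime p') (Localization.AtPrime p' ⊗[B] (B ⊗[A] M)) :=
    (Module.mem_freeLocus_iff_tensor _ (Localization.AtPrime p')).mp h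
  rw [Module.mem_freeLocus_iff_tensor _ (Localization.AtPrime p)]
  have f2 : Module.Free (Localization.AtPrime p') (Localization.AtPrime p' ⊗[Localization.AtPrime p]
      (Localization.AtPrime p ⊗[A] M)) :=
    Module.Free.of_equiv (localizationBaseChangeEquiv A B M p')
  have f3 : Module.Flat (Localization.AtPrime p) (Localization.AtPrime p ⊗[A] M) :=
    Module.Flat.of_flat_tensorProduct _ _ (Localization.AtPrime p')
  show Module.Free (Localization.AtPrime p) (Localization.AtPrime p ⊗[A] M)
  exact Module.free_of_flat_of_isLocalRing

end FlatLocal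

section H1

variable (R T A B : Type u) [CommRing R] [CommRing T] [CommRing A] [CommRing B]
  [Algebra R T] [Algebra R A] [Algebra T B] [Algebra A B] [Algebra R B]
  [IsScalarTower R A B] [IsScalarTower R T B]

attribute [local instance] Algebra.TensorProduct.rightAlgebra in
/-- Compatibility of `H1Cotangent.map` with the comparison isomorphism of a pushout. -/
theorem h1Cotangent_map_equiv [Algebra.IsPushout R T A B] (x : H1Cotangent R A) :
    H1Cotangent.mapEquiv T (T ⊗[R] A) B (Algebra.IsPushout.equiv R T A B)
      (H1Cotangent.map R T A (T ⊗[R] A) x) = H1Cotangent.map R T A B x := by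
  let e := Algebra.IsPushout.equiv R T A B
  let _ := e.toRingHom.toAlgebra
  have : IsScalarTower T (T ⊗[R] A) B := .of_algebraMap_eq' e.toAlgHom.comp_algebraMap.symm
  have : IsScalarTower A (T ⊗[R] A) B := .of_algebraMap_eq fun a => by
    show algebraMap A B a = e ((1 : T) ⊗ₜ a)
    rw [Algebra.IsPushout.equiv_tmul]
    simp
  show (H1Cotangent.map T T (T ⊗[R] A) B) (H1Cotangent.map R T A (T ⊗[R] A) x) = _
  rw [H1Cotangent.map, H1Cotangent.map, ← Extension.H1Cotangent.map_comp_apply, H1Cotangent.map]
  exact congr($(Extension.H1Cotangent.map_eq _ _) x)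

attribute [local instance] Algebra.TensorProduct.rightAlgebra in
/-- Flat base change for `H¹(L)`, for an arbitrary pushout square, as a `B`-linear statement. -/
theorem h1Cotangent_liftBaseChange_bijective [Algebra.IsPushout R T A B] [Module.Flat R T] :
    Function.Bijective ((H1Cotangent.map R T A B).liftBaseChange B) := by
  let θ : T ⊗[R] H1Cotangent R A ≃ₗ[T] H1Cotangent T B :=
    tensorH1CotangentOfFlat R A T ≪≫ₗ
      (H1Cotangent.mapEquiv T (T ⊗[R] A) B (Algebra.IsPushout.equiv R T A B))
  let c := (Algebra.IsPushout.cancelBaseChange R T A B (H1Cotangent R A)).symm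
  have key : ∀ z, (H1Cotangent.map R T A B).liftBaseChange B (c z) = θ z := by
    intro z
    induction z with
    | zero => simp
    | add x y hx hy => simp only [map_add, hx, hy]
    | tmul t x =>
      simp only [c, Algebra.IsPushout.cancelBaseChange_symm_tmul, LinearMap.liftBaseChange_tmul,
        θ, LinearEquiv.trans_apply, tensorH1CotangentOfFlat_tmul, map_smul,
        h1Cotangent_map_equiv, algebraMap_smul]
  have : ⇑((H1Cotangent.map R T A B).liftBaseChange B) = θ ∘ c.symm := by
    funext z
    obtain ⟨w, rfl⟩ := c.surjective z
    simp [key]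
  rw [this]
  exact θ.bijective.comp c.symm.bijective

end H1

section SD

variable (R T A B : Type u) [CommRing R] [CommRing T] [CommRing A] [CommRing B]
  [Algebra R T] [Algebra R A] [Algebra T B] [Algebra A B] [Algebra R B]
  [IsScalarTower R A B] [IsScalarTower R T B]

/-- Smoothness at a prime descends along a flat base change (ring version). -/
theorem mem_smoothLocus_of_isPushout_of_flat [Algebra.IsPushout R T A B] [Module.Flat R T]
    [Algebra.FiniteType R A] (Q : Ideal B) [Q.IsPrime]
    (h : (⟨Q, inferInstance⟩ : PrimeSpectrum B) ∈ Algebra.smoothLocus T B) :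
    (⟨Q.comap (algebraMap A B), inferInstance⟩ : PrimeSpectrum A) ∈ Algebra.smoothLocus R A := by
  have hTB : Algebra.FiniteType T B :=
    Algebra.FiniteType.equiv inferInstance (Algebra.IsPushout.equiv R T A B)
  have hPO : Algebra.IsPushout R A T B := Algebra.IsPushout.symm inferInstance
  have : Module.Flat A B := Module.Flat.isBaseChange R A T B hPO.out
  rw [Algebra.smoothLocus_eq_compl_support_inter] at h ⊢
  obtain ⟨h1, h2⟩ := h
  refine ⟨fun hmem => h1 ?_, ?_⟩
  · have := mem_support_baseChange_of_flat A B (H1Cotangent R A) Q hmem
    rwa [(LinearEquiv.ofBijective _ (h1Cotangent_liftBaseChange_bijective R T A B)).support_eq]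
      at this
  · apply mem_freeLocus_of_baseChange_of_flat A B Ω[A⁄R] Q
    rwa [Module.freeLocus_congr (KaehlerDifferential.tensorKaehlerEquiv R T A B)]

theorem isSmoothAt_congr {R A : Type*} [CommRing R] [CommRing A] [Algebra R A]
    {q q' : Ideal A} (h : q = q') [hq : q.IsPrime] [hq' : q'.IsPrime] :
    Algebra.IsSmoothAt R q ↔ Algebra.IsSmoothAt R q' := by
  subst h
  exact Iff.rfl

theorem isLocalization_atPrime_congr {A S : Type*} [CommRing A] [CommRing S] [Algebra A S]
    {q q' : Ideal A} (h : q = q') [hq : q.IsPrime] [hq' : q'.IsPrime] :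
    IsLocalization.AtPrime S q ↔ IsLocalization.AtPrime S q' := by
  subst h
  exact Iff.rfl

/-- Smoothness at a prime descends along a base change which is flat at the prime. -/
theorem isSmoothAt_of_isPushout_of_flat_atPrime [Algebra.IsPushout R T A B]
    [Algebra.FiniteType R A] (Q : Ideal B) [Q.IsPrime]
    [Module.Flat R (Localization.AtPrime (Q.comap (algebraMap T B)))]
    (h : Algebra.IsSmoothAt T Q) : Algebra.IsSmoothAt R (Q.comap (algebraMap A B)) := by
  let q' : Ideal T := Q.comap (algebraMap T B)
  let M : Submonoid T := q'.primeCompl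
  let T' := Localization.AtPrime q'
  let B' := Localization (algebraMapSubmonoid B M)
  have : IsScalarTower R T B' := .to₁₂₄ R T B B'
  have : IsScalarTower R T' B' := .to₁₃₄ R T T' B'
  have : IsScalarTower R A B' := .to₁₂₄ R A B B'
  have h1 : Algebra.IsPushout T T' B B' :=
    (Algebra.isPushout_of_isLocalization M T' B B').symm
  have h2 : Algebra.IsPushout R T' A B' :=
    (Algebra.IsPushout.comp_iff R T A B).mpr h1
  have hle : algebraMapSubmonoid B M ≤ Q.primeCompl := by
    rintro _ ⟨t, ht, rfl⟩
    exact ht
  have hdisj : Disjoint (algebraMapSubmonoid B M : Set B) (Q : Set B) := by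
    rw [Set.disjoint_left]
    intro x hx hxQ
    exact hle hx hxQ
  let Q' : Ideal B' := Q.map (algebraMap B B')
  have hQ' : Q'.IsPrime :=
    IsLocalization.isPrime_of_isPrime_disjoint (algebraMapSubmonoid B M) B' Q ‹_› hdisj
  have hcomap : Q'.comap (algebraMap B B') = Q :=
    IsLocalization.under_map_of_isPrime_disjoint (algebraMapSubmonoid B M) B' ‹_› hdisj
  have hloc : IsLocalization.AtPrime (Localization.AtPrime Q') (Q'.comap (algebraMap B B')) :=
    IsLocalization.isLocalization_isLocalization_atPrime_isLocalization
      (algebraMapSubmonoid B M) _ Q'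
  have hsm : Algebra.FormallySmooth T (Localization.AtPrime Q') := by
    have hloc' : IsLocalization.AtPrime (Localization.AtPrime Q') Q :=
      (isLocalization_atPrime_congr hcomap).mp hloc
    have e : Localization.AtPrime Q ≃ₐ[B] Localization.AtPrime Q' :=
      IsLocalization.algEquiv Q.primeCompl _ _
    exact Algebra.FormallySmooth.of_equiv (e.restrictScalars T)
  have hsm' : Algebra.FormallySmooth T' (Localization.AtPrime Q') :=
    (Algebra.FormallySmooth.iff_restrictScalars (R := T) (A := T')
      (B := Localization.AtPrime Q')).mp hsm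
  have hmem : (⟨Q', hQ'⟩ : PrimeSpectrum B') ∈ Algebra.smoothLocus T' B' := hsm'
  have key := mem_smoothLocus_of_isPushout_of_flat R T' A B' Q' hmem
  have hc : Q'.comap (algebraMap A B') = Q.comap (algebraMap A B) := by
    rw [IsScalarTower.algebraMap_eq A B B', ← Ideal.comap_comap, hcomap]
  have key' : Algebra.IsSmoothAt R (Q'.comap (algebraMap A B')) := key
  exact (isSmoothAt_congr hc).mp key'

end SD

end Groth.Agent.Lib.Helper18.SmoothDescent
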