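import Mathlib
import Groth.Agent.Lib.Helper18.RelSmoothFiber
import Groth.Agent.Lib.Helper18.SmoothDescent
import Groth.Agent.Lib.Helper18.PullbackFlat

/-!
# Helper18: relative pointwise fibre criterion for smoothness, chart form
-/

universe u

namespace Groth.Agent.Lib.Helper18.RelSmoothFiber

open TensorProduct IsLocalRing Algebra Groth.Agent.Lib.Helper18.SmoothDescent
  Groth.Agent.Lib.Helper18.PullbackStalk

section chart

variable (A₀ K₀ B BK C CK : Type u) [CommRing A₀] [CommRing K₀] [CommRing B] [CommRing BK]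
  [CommRing C] [CommRing CK]
  [Algebra A₀ K₀] [Algebra A₀ B] [Algebra B C] [Algebra A₀ C] [IsScalarTower A₀ B C]
  [Algebra K₀ BK] [Algebra B BK] [Algebra A₀ BK] [IsScalarTower A₀ K₀ BK] [IsScalarTower A₀ B BK]
  [Algebra BK CK] [Algebra C CK] [Algebra B CK] [IsScalarTower B BK CK] [IsScalarTower B C CK]
  [Algebra.IsPushout A₀ K₀ B BK] [Algebra.IsPushout B BK C CK]
  [Algebra.FinitePresentation B C]

set_option backward.isDefEq.respectTransparency false in
attribute [local instance] TensorProduct.rightAlgebra in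
/-- Relative pointwise fibre criterion for smoothness, chart form: `A₀ → B → C`, `K₀` a field over
`A₀`, `BK = K₀ ⊗ B`, `CK = BK ⊗_B C`. If `C` is flat over `A₀` at `q = q' ∩ C` and `CK` is smooth
over `BK` at `q'`, then `C` is smooth over `B` at `q`. -/
theorem isSmoothAt_of_isPushout_field_rel (hK : IsField K₀) (q' : Ideal CK) [q'.IsPrime]
    (hflat : Module.Flat A₀ (Localization.AtPrime (q'.comap (algebraMap C CK))))
    (h : Algebra.IsSmoothAt BK q') : Algebra.IsSmoothAt B (q'.comap (algebraMap C CK)) := by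
  let p : Ideal A₀ := RingHom.ker (algebraMap A₀ K₀)
  have : IsDomain K₀ := hK.isDomain
  have hp : p.IsPrime := RingHom.ker_isPrime _
  let k := p.ResidueField
  let φ : k →ₐ[A₀] K₀ := Ideal.ResidueField.liftₐ p (Algebra.ofId A₀ K₀) le_rfl (by
    intro x hx
    have hne : algebraMap A₀ K₀ x ≠ 0 := fun h0 => hx h0
    obtain ⟨y, hy⟩ := hK.mul_inv_cancel hne
    exact IsUnit.of_mul_eq_one _ hy)
  let _ : Algebra k K₀ := φ.toRingHom.toAlgebra
  have : IsScalarTower A₀ k K₀ := .of_algebraMap_eq' φ.comp_algebraMap.symm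
  let _ : Algebra k BK := ((algebraMap K₀ BK).comp (algebraMap k K₀)).toAlgebra
  have : IsScalarTower k K₀ BK := .of_algebraMap_eq' rfl
  have : IsScalarTower A₀ k BK := .to₁₂₄ A₀ k K₀ BK
  let Bk := p.Fiber B
  let Ck := p.Fiber C
  -- Bk → BK
  let βK : Bk →ₐ[k] BK := Algebra.TensorProduct.lift (Algebra.ofId k BK)
    (IsScalarTower.toAlgHom A₀ B BK) (fun _ _ => .all _ _)
  let _ : Algebra Bk BK := βK.toRingHom.toAlgebra
  have : IsScalarTower k Bk BK := .of_algebraMap_eq' βK.comp_algebraMap.symm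
  have : IsScalarTower B Bk BK := .of_algebraMap_eq fun b => by
    show algebraMap B BK b = βK ((1 : k) ⊗ₜ b)
    rw [Algebra.TensorProduct.lift_tmul]
    simp
  have : IsScalarTower A₀ Bk BK := .of_algebraMap_eq fun r => by
    show algebraMap A₀ BK r = βK (algebraMap A₀ Bk r)
    rw [IsScalarTower.algebraMap_apply A₀ k Bk, βK.commutes,
      ← IsScalarTower.algebraMap_apply A₀ k BK]
  have hPOk : Algebra.IsPushout k K₀ Bk BK :=
    (Algebra.IsPushout.comp_iff A₀ k B Bk).mp inferInstance
  have hflatBk : Module.Flat Bk BK := Module.Flat.isBaseChange k Bk K₀ BK hPOk.symm.out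
  -- algebra structures on CK
  let _ : Algebra A₀ CK := ((algebraMap B CK).comp (algebraMap A₀ B)).toAlgebra
  have : IsScalarTower A₀ B CK := .of_algebraMap_eq' rfl
  have : IsScalarTower A₀ C CK := .to₁₃₄ A₀ B C CK
  have : IsScalarTower A₀ BK CK := .to₁₃₄ A₀ B BK CK
  let _ : Algebra k CK := ((algebraMap BK CK).comp (algebraMap k BK)).toAlgebra
  have : IsScalarTower k BK CK := .of_algebraMap_eq' rfl
  have : IsScalarTower A₀ k CK := .to₁₂₄ A₀ k BK CK
  let β : Bk →ₐ[k] Ck := Algebra.TensorProduct.map (AlgHom.id k k) (IsScalarTower.toAlgHom A₀ B C)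
  let _ : Algebra Bk Ck := β.toRingHom.toAlgebra
  let γK : Ck →ₐ[k] CK := Algebra.TensorProduct.lift (Algebra.ofId k CK)
    (IsScalarTower.toAlgHom A₀ C CK) (fun _ _ => .all _ _)
  let _ : Algebra Ck CK := γK.toRingHom.toAlgebra
  have : IsScalarTower k Ck CK := .of_algebraMap_eq' γK.comp_algebraMap.symm
  have : IsScalarTower C Ck CK := .of_algebraMap_eq fun c => by
    show algebraMap C CK c = γK ((1 : k) ⊗ₜ c)
    rw [Algebra.TensorProduct.lift_tmul]
    simp
  let _ : Algebra Bk CK := ((algebraMap BK CK).comp (algebraMap Bk BK)).toAlgebra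
  have : IsScalarTower Bk BK CK := .of_algebraMap_eq' rfl
  have hcompK : γK.comp β = (IsScalarTower.toAlgHom k BK CK).comp βK := by
    apply Algebra.TensorProduct.ext'
    intro a b
    show (Algebra.ofId k CK) a * (IsScalarTower.toAlgHom A₀ C CK) (algebraMap B C b) =
      algebraMap BK CK ((Algebra.ofId k BK) a * (IsScalarTower.toAlgHom A₀ B BK) b)
    rw [map_mul]
    congr 1
    show algebraMap C CK (algebraMap B C b) = algebraMap BK CK (algebraMap B BK b)
    rw [← IsScalarTower.algebraMap_apply B C CK, ← IsScalarTower.algebraMap_apply B BK CK]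
  have : IsScalarTower Bk Ck CK := .of_algebraMap_eq' congr($(hcompK).toRingHom).symm
  let _ : Algebra B Ck := ((algebraMap C Ck).comp (algebraMap B C)).toAlgebra
  have : IsScalarTower B C Ck := .of_algebraMap_eq' rfl
  have : IsScalarTower B Bk Ck := .of_algebraMap_eq fun b => by
    show algebraMap C Ck (algebraMap B C b) = β ((1 : k) ⊗ₜ b)
    rfl
  have : IsScalarTower k Bk Ck := .of_algebraMap_eq' β.comp_algebraMap.symm
  have hPOB : Algebra.IsPushout B Bk C Ck := by
    have h1 : Algebra.IsPushout A₀ k B Bk := inferInstance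
    have h2 : Algebra.IsPushout A₀ k C Ck := inferInstance
    have : IsScalarTower A₀ B Ck := .to₁₂₄ _ _ C _
    have : IsScalarTower A₀ Bk Ck := .to₁₃₄ A₀ k Bk Ck
    have h1' : Algebra.IsPushout A₀ B k Bk := h1.symm
    exact ((Algebra.IsPushout.comp_iff A₀ B k Bk).mp h2.symm).symm
  have : IsScalarTower B Ck CK := .to₁₃₄ B C Ck CK
  have hPOK : Algebra.IsPushout Bk BK Ck CK :=
    (Algebra.IsPushout.comp_iff B Bk C Ck).mp inferInstance
  have hft : Algebra.FiniteType Bk Ck :=
    Algebra.FiniteType.equiv inferInstance (Algebra.IsPushout.equiv B Bk C Ck)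
  have hmem : (⟨q', inferInstance⟩ : PrimeSpectrum CK) ∈ Algebra.smoothLocus BK CK := h
  have hk := mem_smoothLocus_of_isPushout_of_flat Bk BK Ck CK q' hmem
  let qk : Ideal Ck := q'.comap (algebraMap Ck CK)
  have hqk : Algebra.IsSmoothAt Bk qk := hk
  have hc : qk.comap (Algebra.TensorProduct.includeRight : C →ₐ[A₀] p.Fiber C) =
      q'.comap (algebraMap C CK) := by
    have : (algebraMap Ck CK).comp
        (Algebra.TensorProduct.includeRight : C →ₐ[A₀] p.Fiber C).toRingHom = algebraMap C CK := by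
      ext c
      exact (IsScalarTower.algebraMap_apply C Ck CK c).symm
    rw [← this, ← Ideal.comap_comap]
    rfl
  have hflat' := (flat_congr (R := A₀) hc).mpr hflat
  exact (isSmoothAt_congr hc).mp (isSmoothAt_of_isSmoothAt_fiber_rel p qk hflat' hqk)

end chart

end Groth.Agent.Lib.Helper18.RelSmoothFiber
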