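import Mathlib

import Groth.Agent.Lib.Helper18.SmoothDescent
import Groth.Agent.Lib.Helper18.PullbackSquare

/-!
# Helper18: descent of smoothness at a point along base change flat at the point (schemes)
-/

universe u

namespace Groth.Agent.Lib.Helper18.SmoothDescent

open AlgebraicGeometry CategoryTheory Limits H18Stalk Groth.Agent.Lib.Helper18.PullbackStalk

variable {P X S S' : Scheme.{u}} {a : P ⟶ X} {b : P ⟶ S'} {f : X ⟶ S} {g : S' ⟶ S}

/-- In a cartesian square with `f` locally of finite type, if `g` is flat at `b x'` and `b` is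
formally smooth at `x'` (stalkwise), then `f` is formally smooth at `a x'`. -/
theorem formallySmooth_stalk_descent_of_isPullback [LocallyOfFiniteType f]
    (H : IsPullback a b f g) (x' : P)
    (hg : (g.stalkMap (b x')).hom.Flat) (hs : (b.stalkMap x').hom.FormallySmooth) :
    (f.stalkMap (a x')).hom.FormallySmooth := by
  obtain ⟨US, UX, UT, UY, hUS, hUX, hUT, hUY, hXS, hTS, hYX, hYT, hx', hPO⟩ :=
    exists_chart_of_isPullback H x'
  have hxX : a x' ∈ UX := hYX hx'
  have hxT : b x' ∈ UT := hYT hx'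
  have hft := f.finiteType_appLE hUS hUX hXS
  let _ : Algebra Γ(S, US) Γ(X, UX) := (f.appLE US UX hXS).hom.toAlgebra
  let _ : Algebra Γ(S, US) Γ(S', UT) := (g.appLE US UT hTS).hom.toAlgebra
  let _ : Algebra Γ(X, UX) Γ(P, UY) := (a.appLE UX UY hYX).hom.toAlgebra
  let _ : Algebra Γ(S', UT) Γ(P, UY) := (b.appLE UT UY hYT).hom.toAlgebra
  let _ : Algebra Γ(S, US) Γ(P, UY) :=
    ((a.appLE UX UY hYX).hom.comp (f.appLE US UX hXS).hom).toAlgebra
  have : IsScalarTower Γ(S, US) Γ(X, UX) Γ(P, UY) :=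
    IsScalarTower.of_algebraMap_eq fun _ => rfl
  have : IsScalarTower Γ(S, US) Γ(S', UT) Γ(P, UY) :=
    IsScalarTower.of_algebraMap_eq fun r => congr($(hPO.w).hom r)
  have : Algebra.FiniteType Γ(S, US) Γ(X, UX) := hft
  have : Algebra.IsPushout Γ(S, US) Γ(S', UT) Γ(X, UX) Γ(P, UY) :=
    CommRingCat.isPushout_iff_isPushout.mp hPO.flip
  have hg' := (flat_stalkMap_iff' US hUS UT hUT hTS hxT).mp hg
  have hs' := (formallySmooth_stalkMap_iff UT hUT UY hUY hYT hx').mp hs
  rw [formallySmooth_stalkMap_iff US hUS UX hUX hXS hxX]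
  have e1 := IsAffineOpen.comap_primeIdealOf_appLE UX hUX UY hUY hYX hx'
  have e2 := IsAffineOpen.comap_primeIdealOf_appLE UT hUT UY hUY hYT hx'
  have hg'' := (flat_congr (R := Γ(S, US)) congr($(e2).asIdeal)).mpr hg'
  have : Module.Flat Γ(S, US) (Localization.AtPrime
      ((hUY.primeIdealOf ⟨x', hx'⟩).asIdeal.comap (algebraMap Γ(S', UT) Γ(P, UY)))) := hg''
  have key := isSmoothAt_of_isPushout_of_flat_atPrime Γ(S, US) Γ(S', UT) Γ(X, UX) Γ(P, UY)
    (hUY.primeIdealOf ⟨x', hx'⟩).asIdeal hs'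
  exact (isSmoothAt_congr (R := Γ(S, US)) congr($(e1).asIdeal)).mp key

/-- For `f` locally of finite presentation, `f` is smooth on a neighbourhood of `x` iff the stalk
map at `x` is formally smooth. -/
theorem exists_smooth_nhd_iff {X Y : Scheme.{u}} (f : X ⟶ Y) [LocallyOfFinitePresentation f]
    (x : X) :
    (∃ U : X.Opens, x ∈ U ∧ Smooth (U.ι ≫ f)) ↔ (f.stalkMap x).hom.FormallySmooth := by
  constructor
  · rintro ⟨U, hxU, hU⟩
    have h1 : (U.ι ≫ f).smoothLocus = ⊤ := Scheme.Hom.smoothLocus_eq_top _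
    have h2 := Scheme.Hom.preimage_smoothLocus_eq U.ι f
    rw [h1] at h2
    have h3 : (⟨x, hxU⟩ : U.toScheme) ∈ U.ι ⁻¹ᵁ f.smoothLocus := by rw [h2]; trivial
    exact h3
  · intro h
    refine ⟨f.smoothLocus, h, ?_⟩
    rw [← Scheme.Hom.smoothLocus_eq_top_iff, ← Scheme.Hom.preimage_smoothLocus_eq]
    simp

end Groth.Agent.Lib.Helper18.SmoothDescent
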