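import Mathlib
import Groth.Agent.Lib.Helper18.SmoothDescent
import Groth.Agent.Lib.Helper18.PullbackFlat

/-!
# Helper18: pointwise fibre criterion for smoothness (ring level)
-/

universe u

namespace Groth.Agent.Lib.Helper18.SmoothFiber

open TensorProduct Algebra IsLocalRing Groth.Agent.Lib.Helper18.SmoothDescent
  Groth.Agent.Lib.Helper18.PullbackStalk

local notation "𝓀[" R "]" => ResidueField R

/-- An `R`-algebra isomorphism between two `k`-algebras is `k`-linear if `R → k` is surjective. -/
noncomputable def algEquivOfSurjective {R k C D : Type*} [CommRing R] [CommRing k] [Algebra R k]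
    [CommRing C] [CommRing D] [Algebra R C] [Algebra R D] [Algebra k C] [Algebra k D]
    [IsScalarTower R k C] [IsScalarTower R k D] (hk : Function.Surjective (algebraMap R k))
    (E : C ≃ₐ[R] D) : C ≃ₐ[k] D :=
  { E with
    commutes' := fun x => by
      obtain ⟨y, rfl⟩ := hk x
      have h1 : algebraMap k C (algebraMap R k y) = algebraMap R C y :=
        (IsScalarTower.algebraMap_apply R k C y).symm
      have h2 : algebraMap k D (algebraMap R k y) = algebraMap R D y :=
        (IsScalarTower.algebraMap_apply R k D y).symm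
      show E _ = _
      rw [h1, h2, E.commutes] }

theorem formallySmooth_of_algEquiv_of_surjective {R k C D : Type*} [CommRing R] [CommRing k]
    [Algebra R k] [CommRing C] [CommRing D] [Algebra R C] [Algebra R D] [Algebra k C] [Algebra k D]
    [IsScalarTower R k C] [IsScalarTower R k D] (hk : Function.Surjective (algebraMap R k))
    (E : C ≃ₐ[R] D) [Algebra.FormallySmooth k C] : Algebra.FormallySmooth k D :=
  .of_equiv (algEquivOfSurjective hk E)

set_option backward.isDefEq.respectTransparency false in
/-- `𝓀[R] ⊗[R] S ≃ S ⧸ 𝔪 S`. -/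
noncomputable def residueFieldTensorEquivQuotient (R S : Type*) [CommRing R] [IsLocalRing R]
    [CommRing S] [Algebra R S] :
    𝓀[R] ⊗[R] S ≃ₐ[R] S ⧸ (maximalIdeal R).map (algebraMap R S) :=
  (Algebra.TensorProduct.comm _ _ _).trans
    ((TensorProduct.quotIdealMapEquivTensorQuot S (maximalIdeal R)).symm.restrictScalars _)

variable {R S : Type*} [CommRing R] [CommRing S] [Algebra R S]

set_option backward.isDefEq.respectTransparency false in
/-- Pointwise fibre criterion for smoothness: if `S` is finitely presented over `R`, `qk` is a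
prime of the fibre `κ(p) ⊗ S` with contraction `q` to `S`, `S_q` is flat over `R` and the fibre is
smooth at `qk`, then `S` is smooth over `R` at `q`. -/
theorem isSmoothAt_of_isSmoothAt_fiber [Algebra.FinitePresentation R S] (p : Ideal R) [p.IsPrime]
    (qk : Ideal (p.Fiber S)) [qk.IsPrime]
    (hflat : Module.Flat R (Localization.AtPrime
      (qk.comap (Algebra.TensorProduct.includeRight : S →ₐ[R] p.Fiber S))))
    (h : Algebra.IsSmoothAt p.ResidueField qk) :
    Algebra.IsSmoothAt R
      (qk.comap (Algebra.TensorProduct.includeRight : S →ₐ[R] p.Fiber S)) := by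
  let q : Ideal S := qk.comap (Algebra.TensorProduct.includeRight : S →ₐ[R] p.Fiber S)
  have hqp : q.LiesOver p := by
    have h1 : qk.LiesOver p := inferInstance
    constructor
    rw [h1.over]
    ext x
    simp [q, Ideal.under, Ideal.mem_comap]
  let Rp := Localization.AtPrime p
  let Sp := Localization (algebraMapSubmonoid S p.primeCompl)
  let Sq := Localization.AtPrime q
  let _ := Localization.AtPrime.algebraOfLiesOver p q
  let f : Sp →ₐ[S] Sq := IsLocalization.liftAlgHom (M := algebraMapSubmonoid S p.primeCompl)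
        (f := Algebra.ofId _ _) (by
      rintro ⟨_, x, hx, rfl⟩
      simpa using! IsLocalization.map_units (M := q.primeCompl) Sq ⟨algebraMap _ _ x,
        by simp_all [q.over_def p]⟩)
  algebraize [f.toRingHom]
  have : IsScalarTower R Sp Sq := .to₁₃₄ _ S _ _
  have : IsScalarTower Rp Sp Sq := .of_algebraMap_eq' <| by
    apply IsLocalization.ringHom_ext p.primeCompl
    simp only [RingHom.comp_assoc, ← IsScalarTower.algebraMap_eq]
  have : IsLocalization (algebraMapSubmonoid Sp q.primeCompl) Sq :=
    .isLocalization_of_submonoid_le _ _ (algebraMapSubmonoid S p.primeCompl) _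
    (by rintro _ ⟨x, hx, rfl⟩; simp_all [q.over_def p])
  have : FinitePresentation Rp Sp := by
    have : Algebra.IsPushout R Rp S Sp :=
      .symm <| Algebra.isPushout_of_isLocalization p.primeCompl _ _ _
    exact .equiv (Algebra.IsPushout.equiv R Rp S Sp)
  have hfl : Module.Flat Rp Sq :=
    (Module.flat_iff_of_isLocalization Rp p.primeCompl Sq).mpr hflat
  have hfs : FormallySmooth 𝓀[Rp] (𝓀[Rp] ⊗[Rp] Sq) := by
    have h0 : FormallySmooth 𝓀[Rp] (Localization.AtPrime qk) := h
    let E1 : Localization.AtPrime qk ≃ₐ[Rp] Sq ⧸ p.map (algebraMap R Sq) :=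
      Ideal.Fiber.localizationAlgEquivQuotient p qk
    have hmap : p.map (algebraMap R Sq) = (maximalIdeal Rp).map (algebraMap Rp Sq) := by
      rw [← Localization.AtPrime.map_eq_maximalIdeal, Ideal.map_map,
        ← IsScalarTower.algebraMap_eq]
    let E2 : (Sq ⧸ p.map (algebraMap R Sq)) ≃ₐ[Rp]
        Sq ⧸ (maximalIdeal Rp).map (algebraMap Rp Sq) :=
      Ideal.quotientEquivAlgOfEq Rp hmap
    let E3 : 𝓀[Rp] ⊗[Rp] Sq ≃ₐ[Rp] Sq ⧸ (maximalIdeal Rp).map (algebraMap Rp Sq) :=
      residueFieldTensorEquivQuotient Rp Sq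
    let E : Localization.AtPrime qk ≃ₐ[Rp] 𝓀[Rp] ⊗[Rp] Sq := (E1.trans E2).trans E3.symm
    exact formallySmooth_of_algEquiv_of_surjective (R := Rp) (k := 𝓀[Rp])
      (C := Localization.AtPrime qk) (D := 𝓀[Rp] ⊗[Rp] Sq) IsLocalRing.residue_surjective E
  have := FormallySmooth.of_formallySmooth_residueField_tensor
    (R := Rp) (S := Sq) (P := Sp) (algebraMapSubmonoid _ q.primeCompl)
  exact .comp R Rp Sq

attribute [local instance] Algebra.TensorProduct.rightAlgebra in
/-- Fibre criterion for smoothness at a prime, for a pushout along a map to a field. -/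
theorem isSmoothAt_of_isPushout_field (R K A B : Type u) [CommRing R] [CommRing K] [CommRing A]
    [CommRing B] (hK : IsField K) [Algebra R K] [Algebra R A] [Algebra K B] [Algebra A B] [Algebra R B]
    [IsScalarTower R A B] [IsScalarTower R K B] [Algebra.IsPushout R K A B]
    [Algebra.FinitePresentation R A] (Q : Ideal B) [Q.IsPrime]
    (hflat : Module.Flat R (Localization.AtPrime (Q.comap (algebraMap A B))))
    (h : Algebra.IsSmoothAt K Q) : Algebra.IsSmoothAt R (Q.comap (algebraMap A B)) := by
  let p : Ideal R := RingHom.ker (algebraMap R K)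
  have : IsDomain K := hK.isDomain
  have hp : p.IsPrime := RingHom.ker_isPrime _
  let k := p.ResidueField
  let φ : k →ₐ[R] K := Ideal.ResidueField.liftₐ p (Algebra.ofId R K) le_rfl (by
    intro x hx
    have hne : algebraMap R K x ≠ 0 := fun h0 => hx h0
    obtain ⟨y, hy⟩ := hK.mul_inv_cancel hne
    exact IsUnit.of_mul_eq_one _ hy)
  let _ : Algebra k K := φ.toRingHom.toAlgebra
  have : IsScalarTower R k K := .of_algebraMap_eq' φ.comp_algebraMap.symm
  let _ : Algebra k B := ((algebraMap K B).comp (algebraMap k K)).toAlgebra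
  have : IsScalarTower k K B := .of_algebraMap_eq' rfl
  have : IsScalarTower R k B := .to₁₂₄ R k K B
  let Ak := p.Fiber A
  let ψ : Ak →ₐ[k] B := Algebra.TensorProduct.lift (Algebra.ofId k B)
    (IsScalarTower.toAlgHom R A B) (fun _ _ => .all _ _)
  let _ : Algebra Ak B := ψ.toRingHom.toAlgebra
  have : IsScalarTower k Ak B := .of_algebraMap_eq' ψ.comp_algebraMap.symm
  have : IsScalarTower A Ak B := .of_algebraMap_eq fun a => by
    show algebraMap A B a = ψ ((1 : k) ⊗ₜ a)
    rw [Algebra.TensorProduct.lift_tmul]
    simp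
  have : IsScalarTower R Ak B := .of_algebraMap_eq fun r => by
    show algebraMap R B r = ψ (algebraMap R Ak r)
    rw [IsScalarTower.algebraMap_apply R k Ak, ψ.commutes, ← IsScalarTower.algebraMap_apply R k B]
  have hPO : Algebra.IsPushout k K Ak B := (Algebra.IsPushout.comp_iff R k A Ak).mp inferInstance
  have hmem : (⟨Q, inferInstance⟩ : PrimeSpectrum B) ∈ Algebra.smoothLocus K B := h
  have hk := mem_smoothLocus_of_isPushout_of_flat k K Ak B Q hmem
  let qk : Ideal Ak := Q.comap (algebraMap Ak B)
  have hqk : Algebra.IsSmoothAt k qk := hk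
  have hc : qk.comap (Algebra.TensorProduct.includeRight : A →ₐ[R] p.Fiber A) =
      Q.comap (algebraMap A B) := by
    have : (algebraMap Ak B).comp
        (Algebra.TensorProduct.includeRight : A →ₐ[R] p.Fiber A).toRingHom = algebraMap A B := by
      ext a
      exact (IsScalarTower.algebraMap_apply A Ak B a).symm
    rw [← this, ← Ideal.comap_comap]
    rfl
  have hflat' := (flat_congr (R := R) hc).mpr hflat
  exact (isSmoothAt_congr hc).mp (isSmoothAt_of_isSmoothAt_fiber p qk hflat' hqk)

end Groth.Agent.Lib.Helper18.SmoothFiber
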