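import Mathlib
import Groth.Agent.Lib.Helper18.SmoothFiber
import Groth.Agent.Lib.Helper18.SmoothDescentScheme

/-!
# Helper18: fibre criterion for smoothness at a point and base change of smoothness (schemes)
-/

universe u

namespace Groth.Agent.Lib.Helper18.SmoothFiber

open AlgebraicGeometry CategoryTheory Limits H18Stalk Groth.Agent.Lib.Helper18.PullbackStalk
  Groth.Agent.Lib.Helper18.SmoothDescent

/-- Fibre criterion at a point, for a cartesian square over the spectrum of a field:
if `f` is flat at `a x'` and the base change `b` to `Spec K` is smooth at `x'`, then `f` is smooth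
at `a x'`. -/
theorem formallySmooth_stalk_of_isPullback_field {P X S : Scheme.{u}} {K : Type u} [Field K]
    {a : P ⟶ X} {b : P ⟶ Spec (.of K)} {f : X ⟶ S} {g : Spec (.of K) ⟶ S}
    [LocallyOfFinitePresentation f] (H : IsPullback a b f g) (x' : P)
    (hf : (f.stalkMap (a x')).hom.Flat) (hs : (b.stalkMap x').hom.FormallySmooth) :
    (f.stalkMap (a x')).hom.FormallySmooth := by
  obtain ⟨US, UX, UT, UY, hUS, hUX, hUT, hUY, hXS, hTS, hYX, hYT, hx', hPO⟩ :=
    exists_chart_of_isPullback H x'
  have hxX : a x' ∈ UX := hYX hx'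
  have hxT : b x' ∈ UT := hYT hx'
  obtain rfl : UT = ⊤ := by
    ext y
    simp only [TopologicalSpace.Opens.coe_top, Set.mem_univ, iff_true]
    have : y = b x' := Subsingleton.elim (α := PrimeSpectrum K) _ _
    rw [this]; exact hxT
  have hT : IsField Γ(Spec (.of K), ⊤) :=
    (Scheme.ΓSpecIso (.of K)).commRingCatIsoToRingEquiv.toMulEquiv.isField (Field.toIsField K)
  have hfp := f.finitePresentation_appLE hUS hUX hXS
  let _ : Algebra Γ(S, US) Γ(X, UX) := (f.appLE US UX hXS).hom.toAlgebra
  let _ : Algebra Γ(S, US) Γ(Spec (.of K), ⊤) := (g.appLE US ⊤ hTS).hom.toAlgebra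
  let _ : Algebra Γ(X, UX) Γ(P, UY) := (a.appLE UX UY hYX).hom.toAlgebra
  let _ : Algebra Γ(Spec (.of K), ⊤) Γ(P, UY) := (b.appLE ⊤ UY hYT).hom.toAlgebra
  let _ : Algebra Γ(S, US) Γ(P, UY) :=
    ((a.appLE UX UY hYX).hom.comp (f.appLE US UX hXS).hom).toAlgebra
  have : IsScalarTower Γ(S, US) Γ(X, UX) Γ(P, UY) :=
    IsScalarTower.of_algebraMap_eq fun _ => rfl
  have : IsScalarTower Γ(S, US) Γ(Spec (.of K), ⊤) Γ(P, UY) :=
    IsScalarTower.of_algebraMap_eq fun r => congr($(hPO.w).hom r)
  have : Algebra.FinitePresentation Γ(S, US) Γ(X, UX) := hfp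
  have : Algebra.IsPushout Γ(S, US) Γ(Spec (.of K), ⊤) Γ(X, UX) Γ(P, UY) :=
    CommRingCat.isPushout_iff_isPushout.mp hPO.flip
  have hf' := (flat_stalkMap_iff' US hUS UX hUX hXS hxX).mp hf
  have hs' := (formallySmooth_stalkMap_iff ⊤ hUT UY hUY hYT hx').mp hs
  rw [formallySmooth_stalkMap_iff US hUS UX hUX hXS hxX]
  have e1 := IsAffineOpen.comap_primeIdealOf_appLE UX hUX UY hUY hYX hx'
  have hf'' := (flat_congr (R := Γ(S, US)) congr($(e1).asIdeal)).mpr hf'
  have key := isSmoothAt_of_isPushout_field Γ(S, US) Γ(Spec (.of K), ⊤) Γ(X, UX) Γ(P, UY) hT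
    (hUY.primeIdealOf ⟨x', hx'⟩).asIdeal hf'' hs'
  exact (isSmoothAt_congr (R := Γ(S, US)) congr($(e1).asIdeal)).mp key

section

variable {P X S S' : Scheme.{u}} {a : P ⟶ X} {b : P ⟶ S'} {f : X ⟶ S} {g : S' ⟶ S}

/-- Smoothness at a point is stable under base change. -/
theorem formallySmooth_stalk_baseChange_of_isPullback [LocallyOfFinitePresentation f]
    (H : IsPullback a b f g) (x' : P) (hf : (f.stalkMap (a x')).hom.FormallySmooth) :
    (b.stalkMap x').hom.FormallySmooth := by
  have : LocallyOfFinitePresentation b :=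
    MorphismProperty.of_isPullback (P := @LocallyOfFinitePresentation) H ‹_›
  rw [← exists_smooth_nhd_iff] at hf ⊢
  obtain ⟨U, hxU, hU⟩ := hf
  refine ⟨a ⁻¹ᵁ U, hxU, ?_⟩
  have h1 : IsPullback (a ∣_ U) (a ⁻¹ᵁ U).ι U.ι a := isPullback_morphismRestrict a U
  exact MorphismProperty.of_isPullback (P := @Smooth) (h1.paste_vert H) hU

/-- In a cartesian square with `f` locally of finite presentation, if `f` is flat at `a x'` and
the base change `b` is smooth at `x'`, then `f` is smooth at `a x'`. -/
theorem formallySmooth_stalk_descent_of_isPullback_of_flat [LocallyOfFinitePresentation f]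
    (H : IsPullback a b f g) (x' : P)
    (hf : (f.stalkMap (a x')).hom.Flat) (hs : (b.stalkMap x').hom.FormallySmooth) :
    (f.stalkMap (a x')).hom.FormallySmooth := by
  have : LocallyOfFinitePresentation b :=
    MorphismProperty.of_isPullback (P := @LocallyOfFinitePresentation) H ‹_›
  let y : S' := b x'
  -- the fibre of `b` at `y` is smooth at the point over `x'`
  have HPb : IsPullback (b.fiberι y) (b.fiberToSpecResidueField y) b
      (S'.fromSpecResidueField y) := IsPullback.of_hasPullback _ _
  have h3 : b.fiberι y (b.asFiber x') = x' := b.fiberι_asFiber x'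
  have h1 : ((b.fiberToSpecResidueField y).stalkMap (b.asFiber x')).hom.FormallySmooth := by
    apply formallySmooth_stalk_baseChange_of_isPullback HPb
    rw [h3]; exact hs
  -- descend along the field extension
  obtain ⟨m, HF, hm⟩ : ∃ m, IsPullback m (b.fiberToSpecResidueField y)
      (f.fiberToSpecResidueField (g y)) (Spec.map (g.residueFieldMap y)) ∧
      m ≫ f.fiberι (g y) = b.fiberι y ≫ a :=
    ⟨_, isPullback_fiberToSpecResidueField_of_isPullback H y, by
      unfold Scheme.Hom.fiberι; exact pullback.lift_fst _ _ _⟩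
  have hflatK : Flat (Spec.map (g.residueFieldMap y)) := by
    rw [HasRingHomProperty.Spec_iff (P := @Flat)]
    unfold RingHom.Flat
    infer_instance
  have : LocallyOfFinitePresentation (f.fiberToSpecResidueField (g y)) :=
    MorphismProperty.pullback_snd _ _ ‹_›
  have h2 := formallySmooth_stalk_descent_of_isPullback HF (b.asFiber x')
    (Flat.stalkMap _ _) h1
  -- fibre criterion
  have HPf : IsPullback (f.fiberι (g y)) (f.fiberToSpecResidueField (g y)) f
      (S.fromSpecResidueField (g y)) := IsPullback.of_hasPullback _ _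
  have hpt : f.fiberι (g y) (m (b.asFiber x')) = a x' := by
    rw [← Scheme.Hom.comp_apply, hm, Scheme.Hom.comp_apply, h3]
  have key := formallySmooth_stalk_of_isPullback_field (K := S.residueField (g y)) HPf _
    (by rw [hpt]; exact hf) h2
  rw [hpt] at key
  exact key

end

end Groth.Agent.Lib.Helper18.SmoothFiber
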