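import Mathlib
import Groth.Agent.Lib.Helper18.RelSmoothFiberChart
import Groth.Agent.Lib.Helper18.SmoothFiberScheme

/-!
# Helper18: relative pointwise fibre criterion for smoothness (schemes)
-/

universe u

namespace Groth.Agent.Lib.Helper18.RelSmoothFiber

open AlgebraicGeometry CategoryTheory Limits H18Stalk Groth.Agent.Lib.Helper18.PullbackStalk
  Groth.Agent.Lib.Helper18.SmoothDescent

/-- Affine chart of a cartesian square with prescribed affine opens downstairs. -/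
theorem chart_of_isPullback {P X S S' : Scheme.{u}} {a : P ⟶ X} {b : P ⟶ S'} {f : X ⟶ S}
    {g : S' ⟶ S} (H : IsPullback a b f g) {US : S.Opens} {UX : X.Opens} {UT : S'.Opens}
    (hUS : IsAffineOpen US) (hUX : IsAffineOpen UX) (hUT : IsAffineOpen UT)
    (hXS : UX ≤ f ⁻¹ᵁ US) (hTS : UT ≤ g ⁻¹ᵁ US) :
    IsAffineOpen (a ⁻¹ᵁ UX ⊓ b ⁻¹ᵁ UT) ∧
      IsPushout (f.appLE US UX hXS) (g.appLE US UT hTS)
        (a.appLE UX (a ⁻¹ᵁ UX ⊓ b ⁻¹ᵁ UT) inf_le_left)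
        (b.appLE UT (a ⁻¹ᵁ UX ⊓ b ⁻¹ᵁ UT) inf_le_right) := by
  let UY : P.Opens := a ⁻¹ᵁ UX ⊓ b ⁻¹ᵁ UT
  have hUY : IsAffineOpen UY := by
    have : IsAffine (US : Scheme) := hUS
    have : IsAffine (UT : Scheme) := hUT
    have : IsAffine (UX : Scheme) := hUX
    exact .of_isIso (Scheme.Hom.isPullback_resLE H hTS hXS rfl).isoPullback.hom
  have : IsIso (pushoutSection H hTS hXS (UY := UY) rfl) :=
    isIso_pushoutSection_of_isAffineOpen H hTS hXS rfl hUS hUT hUX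
  exact ⟨hUY, (isIso_pushoutSection_iff H hTS hXS rfl).mp this⟩

/-- Relative fibre criterion for smoothness at a point (schemes): `g : Y ⟶ S`, `f : X ⟶ Y`,
`σ : Spec K ⟶ S` a field-valued point, `YK`, `XK` the base changes. If `f ≫ g` is flat at the image
`x` of `x'` and `XK ⟶ YK` is smooth at `x'`, then `f` is smooth at `x`. -/
theorem formallySmooth_stalk_of_isPullback_fiber_rel {S Y X YK XK : Scheme.{u}} {K : Type u}
    [Field K] {σ : Spec (.of K) ⟶ S} {g : Y ⟶ S} {f : X ⟶ Y} {a₁ : YK ⟶ Y}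
    {b₁ : YK ⟶ Spec (.of K)} {a₂ : XK ⟶ X} {b₂ : XK ⟶ YK} [LocallyOfFinitePresentation f]
    (H₁ : IsPullback a₁ b₁ g σ) (H₂ : IsPullback a₂ b₂ f a₁) (x' : XK)
    (hflat : ((f ≫ g).stalkMap (a₂ x')).hom.Flat)
    (hs : (b₂.stalkMap x').hom.FormallySmooth) :
    (f.stalkMap (a₂ x')).hom.FormallySmooth := by
  have hy : a₁ (b₂ x') = f (a₂ x') := by
    rw [← Scheme.Hom.comp_apply, ← Scheme.Hom.comp_apply, H₂.w]
  have hs' : σ (b₁ (b₂ x')) = g (f (a₂ x')) := by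
    rw [← hy]
    have := congr($(H₁.w) (b₂ x'))
    simpa [Scheme.Hom.comp_apply] using this.symm
  obtain ⟨_, ⟨US, hUS, rfl⟩, hxS, -⟩ :=
    S.isBasis_affineOpens.exists_subset_of_mem_open (Set.mem_univ (g (f (a₂ x')))) isOpen_univ
  obtain ⟨_, ⟨UY, hUY, rfl⟩, hxY, hYS⟩ :=
    Y.isBasis_affineOpens.exists_subset_of_mem_open
      (show f (a₂ x') ∈ (g ⁻¹ᵁ US : Set Y) from hxS) (g ⁻¹ᵁ US).2
  obtain ⟨_, ⟨UX, hUX, rfl⟩, hxX, hXY⟩ :=
    X.isBasis_affineOpens.exists_subset_of_mem_open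
      (show a₂ x' ∈ (f ⁻¹ᵁ UY : Set X) from hxY) (f ⁻¹ᵁ UY).2
  have hYS' : UY ≤ g ⁻¹ᵁ US := hYS
  have hXY' : UX ≤ f ⁻¹ᵁ UY := hXY
  have hKS : (⊤ : (Spec (.of K)).Opens) ≤ σ ⁻¹ᵁ US := by
    intro z _
    have : z = b₁ (b₂ x') := Subsingleton.elim (α := PrimeSpectrum K) _ _
    show σ z ∈ US
    rw [this, hs']
    exact hxS
  have hUK : IsAffineOpen (⊤ : (Spec (.of K)).Opens) := isAffineOpen_top _
  obtain ⟨hUYK, hPO₁⟩ := chart_of_isPullback H₁ hUS hUY hUK hYS' hKS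
  set UYK : YK.Opens := a₁ ⁻¹ᵁ UY ⊓ b₁ ⁻¹ᵁ ⊤ with hUYK_def
  have hYKY : UYK ≤ a₁ ⁻¹ᵁ UY := inf_le_left
  obtain ⟨hUXK, hPO₂⟩ := chart_of_isPullback H₂ hUY hUX hUYK hXY' hYKY
  set UXK : XK.Opens := a₂ ⁻¹ᵁ UX ⊓ b₂ ⁻¹ᵁ UYK with hUXK_def
  have hx'K : x' ∈ UXK := by
    refine ⟨hxX, ?_, trivial⟩
    show a₁ (b₂ x') ∈ UY
    rw [hy]; exact hxY
  have hXS : UX ≤ (f ≫ g) ⁻¹ᵁ US := fun z hz => hYS' (hXY' hz)
  have hK₀ : IsField Γ(Spec (.of K), ⊤) :=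
    (Scheme.ΓSpecIso (.of K)).commRingCatIsoToRingEquiv.toMulEquiv.isField (Field.toIsField K)
  have hfp := f.finitePresentation_appLE hUY hUX hXY'
  let _ : Algebra Γ(S, US) Γ(Spec (.of K), ⊤) := (σ.appLE US ⊤ hKS).hom.toAlgebra
  let _ : Algebra Γ(S, US) Γ(Y, UY) := (g.appLE US UY hYS').hom.toAlgebra
  let _ : Algebra Γ(Y, UY) Γ(X, UX) := (f.appLE UY UX hXY').hom.toAlgebra
  let _ : Algebra Γ(S, US) Γ(X, UX) := ((f ≫ g).appLE US UX hXS).hom.toAlgebra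
  have : IsScalarTower Γ(S, US) Γ(Y, UY) Γ(X, UX) :=
    IsScalarTower.of_algebraMap_eq fun r =>
      congr($(Scheme.Hom.appLE_comp_appLE f g US UY UX hYS' hXY').hom r).symm
  let _ : Algebra Γ(Spec (.of K), ⊤) Γ(YK, UYK) := (b₁.appLE ⊤ UYK inf_le_right).hom.toAlgebra
  let _ : Algebra Γ(Y, UY) Γ(YK, UYK) := (a₁.appLE UY UYK inf_le_left).hom.toAlgebra
  let _ : Algebra Γ(S, US) Γ(YK, UYK) :=
    ((a₁.appLE UY UYK inf_le_left).hom.comp (g.appLE US UY hYS').hom).toAlgebra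
  have : IsScalarTower Γ(S, US) Γ(Y, UY) Γ(YK, UYK) :=
    IsScalarTower.of_algebraMap_eq fun _ => rfl
  have : IsScalarTower Γ(S, US) Γ(Spec (.of K), ⊤) Γ(YK, UYK) :=
    IsScalarTower.of_algebraMap_eq fun r => congr($(hPO₁.w).hom r)
  let _ : Algebra Γ(YK, UYK) Γ(XK, UXK) := (b₂.appLE UYK UXK inf_le_right).hom.toAlgebra
  let _ : Algebra Γ(X, UX) Γ(XK, UXK) := (a₂.appLE UX UXK inf_le_left).hom.toAlgebra
  let _ : Algebra Γ(Y, UY) Γ(XK, UXK) :=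
    ((a₂.appLE UX UXK inf_le_left).hom.comp (f.appLE UY UX hXY').hom).toAlgebra
  have : IsScalarTower Γ(Y, UY) Γ(X, UX) Γ(XK, UXK) :=
    IsScalarTower.of_algebraMap_eq fun _ => rfl
  have : IsScalarTower Γ(Y, UY) Γ(YK, UYK) Γ(XK, UXK) :=
    IsScalarTower.of_algebraMap_eq fun r => congr($(hPO₂.w).hom r)
  have : Algebra.FinitePresentation Γ(Y, UY) Γ(X, UX) := hfp
  have : Algebra.IsPushout Γ(S, US) Γ(Spec (.of K), ⊤) Γ(Y, UY) Γ(YK, UYK) :=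
    CommRingCat.isPushout_iff_isPushout.mp hPO₁.flip
  have : Algebra.IsPushout Γ(Y, UY) Γ(YK, UYK) Γ(X, UX) Γ(XK, UXK) :=
    CommRingCat.isPushout_iff_isPushout.mp hPO₂.flip
  have hflat' := (flat_stalkMap_iff' US hUS UX hUX hXS hxX).mp hflat
  have hs' := (formallySmooth_stalkMap_iff UYK hUYK UXK hUXK inf_le_right hx'K).mp hs
  rw [formallySmooth_stalkMap_iff UY hUY UX hUX hXY' hxX]
  have e1 := IsAffineOpen.comap_primeIdealOf_appLE UX hUX UXK hUXK inf_le_left hx'K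
  have hflat'' := (flat_congr (R := Γ(S, US)) congr($(e1).asIdeal)).mpr hflat'
  have key := isSmoothAt_of_isPushout_field_rel Γ(S, US) Γ(Spec (.of K), ⊤) Γ(Y, UY) Γ(YK, UYK)
    Γ(X, UX) Γ(XK, UXK) hK₀ (hUXK.primeIdealOf ⟨x', hx'K⟩).asIdeal hflat'' hs'
  exact (isSmoothAt_congr (R := Γ(Y, UY)) congr($(e1).asIdeal)).mp key

end Groth.Agent.Lib.Helper18.RelSmoothFiber
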