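import Mathlib
import Groth.Agent.Lib.Helper18.RelSmoothFiberScheme
import Groth.Agent.Lib.Helper18.LfpCancel

universe u
open CategoryTheory CategoryTheory.Limits AlgebraicGeometry Opposite

namespace Groth.Agent.Lib.Helper18.RelSmoothFiber

/-- Relative fibre criterion (pointwise, with literal scheme-theoretic fibres): if `f ≫ g` is flat
at `x` and `X_s ⟶ Y_s` is smooth at a point `x'` over `x`, then `f` is smooth at `x`. -/
theorem formallySmooth_stalk_of_fiber {X Y S : Scheme.{u}} (g : Y ⟶ S) (f : X ⟶ Y)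
    [LocallyOfFinitePresentation f] (s : S) (x' : ↑(pullback f (g.fiberι s)))
    (hflat : ((f ≫ g).stalkMap (pullback.fst f (g.fiberι s) x')).hom.Flat)
    (hs : ((pullback.snd f (g.fiberι s)).stalkMap x').hom.FormallySmooth) :
    (f.stalkMap (pullback.fst f (g.fiberι s) x')).hom.FormallySmooth := by
  have H₁ : IsPullback (g.fiberι s) (g.fiberToSpecResidueField s) g (S.fromSpecResidueField s) :=
    IsPullback.of_hasPullback g (S.fromSpecResidueField s)
  have H₂ := IsPullback.of_hasPullback f (g.fiberι s)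
  exact formallySmooth_stalk_of_isPullback_fiber_rel (K := S.residueField s)
    (σ := S.fromSpecResidueField s) H₁ H₂ x' hflat hs

/-- Relative fibre criterion for smoothness. -/
theorem smooth_of_fiber {X Y S : Scheme.{u}} (g : Y ⟶ S) (f : X ⟶ Y)
    [LocallyOfFiniteType g] [LocallyOfFinitePresentation (f ≫ g)] [Flat (f ≫ g)]
    (H : ∀ s : S, Smooth (pullback.snd f (g.fiberι s))) : Smooth f := by
  have hf : LocallyOfFinitePresentation f :=
    locallyOfFinitePresentation_of_comp f g inferInstance inferInstance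
  rw [← Scheme.Hom.smoothLocus_eq_top_iff, ← top_le_iff]
  rintro x -
  have hx : f x ∈ Set.range (g.fiberι ((f ≫ g) x)) := by
    rw [Scheme.Hom.range_fiberι]; simp
  obtain ⟨y, hy⟩ := hx
  obtain ⟨x', hx', -⟩ := Scheme.Pullback.exists_preimage_pullback (f := f)
    (g := g.fiberι ((f ≫ g) x)) x y hy.symm
  have := H ((f ≫ g) x)
  have h1 := formallySmooth_stalk_of_fiber g f ((f ≫ g) x) x'
    (by rw [hx']; exact Flat.stalkMap (f ≫ g) x)
    ((Scheme.Hom.smoothLocus_eq_top (pullback.snd f (g.fiberι ((f ≫ g) x)))).ge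
      (Set.mem_univ x'))
  rw [hx'] at h1
  exact h1

end Groth.Agent.Lib.Helper18.RelSmoothFiber

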