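import Mathlib
import Groth.Agent.Lib.Helper18.RelSmoothFiberMor
import Groth.Agent.Lib.Helper18.PullbackSquare

universe u
open CategoryTheory CategoryTheory.Limits AlgebraicGeometry Opposite

namespace Groth.Agent.Lib.Helper18.RelSmoothFiber

open Groth.Agent.Lib.Helper18.PullbackStalk H18Stalk

/-- A morphism locally of finite type which is stalkwise formally unramified is formally
unramified. -/
theorem formallyUnramified_of_stalk {X Y : Scheme.{u}} (f : X ⟶ Y) [LocallyOfFiniteType f]
    (H : ∀ x : X, (f.stalkMap x).hom.FormallyUnramified) : FormallyUnramified f := by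
  have key : ∀ x : X, ∃ U : X.Opens, x ∈ U ∧ FormallyUnramified (U.ι ≫ f) := fun x =>
    (exists_unramified_nhd_iff f x).mpr (H x)
  choose U hxU hU using key
  refine IsZariskiLocalAtSource.of_iSup_eq_top (P := @FormallyUnramified) U ?_ hU
  exact top_le_iff.mp fun x _ => by simpa using ⟨x, hxU x⟩

/-- Relative fibre criterion for étaleness. -/
theorem etale_of_fiber {X Y S : Scheme.{u}} (g : Y ⟶ S) (f : X ⟶ Y)
    [LocallyOfFiniteType g] [LocallyOfFinitePresentation (f ≫ g)] [Flat (f ≫ g)]
    (H : ∀ s : S, Etale (pullback.snd f (g.fiberι s))) : Etale f := by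
  have hf : LocallyOfFinitePresentation f :=
    locallyOfFinitePresentation_of_comp f g inferInstance inferInstance
  have hsm : Smooth f := smooth_of_fiber g f fun s => by
    have := H s; infer_instance
  have hun : FormallyUnramified f := by
    refine formallyUnramified_of_stalk f fun x => ?_
    have hx : f x ∈ Set.range (g.fiberι ((f ≫ g) x)) := by
      rw [Scheme.Hom.range_fiberι]; simp
    obtain ⟨y, hy⟩ := hx
    obtain ⟨x', hx', -⟩ := Scheme.Pullback.exists_preimage_pullback (f := f)
      (g := g.fiberι ((f ≫ g) x)) x y hy.symm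
    have := H ((f ≫ g) x)
    have h1 := FormallyUnramified.stalkMap (pullback.snd f (g.fiberι ((f ≫ g) x))) x'
    have h2 := (unram_stalk_iff_of_isPullback
      (IsPullback.of_hasPullback f (g.fiberι ((f ≫ g) x))) x').mp h1
    rwa [hx'] at h2
  exact Etale.of_formallyUnramified_of_flat f

end Groth.Agent.Lib.Helper18.RelSmoothFiber

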