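import Mathlib
import Groth.Agent.Lib.Helper18.RelEtaleFiberMor

universe u
open CategoryTheory CategoryTheory.Limits AlgebraicGeometry Opposite

namespace Groth.Agent.Lib.Helper18.RelSmoothFiber

/-- A surjective open immersion is an isomorphism. -/
theorem isIso_of_isOpenImmersion_of_surjective {X Y : Scheme.{u}} (f : X ⟶ Y)
    [IsOpenImmersion f] (hf : Function.Surjective f) : IsIso f := by
  have : Epi f.base := (TopCat.epi_iff_surjective _).mpr hf
  exact IsOpenImmersion.isIso f

/-- If all the fibre maps `X_s ⟶ Y_s` are monomorphisms, then the diagonal of `f` is surjective. -/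
theorem surjective_diagonal_of_fiber {X Y S : Scheme.{u}} (g : Y ⟶ S) (f : X ⟶ Y)
    (H : ∀ s : S, Mono (pullback.snd f (g.fiberι s))) :
    Function.Surjective (pullback.diagonal f) := by
  intro z
  let K : Type u := (pullback f f).residueField z
  let ι : Spec (.of K) ⟶ pullback f f := (pullback f f).fromSpecResidueField z
  let u₁ : Spec (.of K) ⟶ X := ι ≫ pullback.fst f f
  let u₂ : Spec (.of K) ⟶ X := ι ≫ pullback.snd f f
  have hu : u₁ ≫ f = u₂ ≫ f := by
    simp only [u₁, u₂, Category.assoc, pullback.condition]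
  let v : Spec (.of K) ⟶ Y := u₁ ≫ f
  let s : S := (v ≫ g) (IsLocalRing.closedPoint K)
  have hfac := Scheme.descResidueField_stalkClosedPointTo_fromSpecResidueField K S (v ≫ g)
  let v' : Spec (.of K) ⟶ g.fiber s :=
    pullback.lift v (Spec.map (Scheme.descResidueField (Scheme.stalkClosedPointTo (v ≫ g))))
      hfac.symm
  have hv' : v' ≫ g.fiberι s = v := pullback.lift_fst _ _ _
  let u₁' : Spec (.of K) ⟶ pullback f (g.fiberι s) := pullback.lift u₁ v' hv'.symm
  let u₂' : Spec (.of K) ⟶ pullback f (g.fiberι s) := pullback.lift u₂ v' (by rw [hv', ← hu])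
  have := H s
  have h12 : u₁' = u₂' := by
    rw [← cancel_mono (pullback.snd f (g.fiberι s))]
    simp only [u₁', u₂', pullback.lift_snd]
  have h12' : u₁ = u₂ := by
    have := congr($h12 ≫ pullback.fst f (g.fiberι s))
    simpa only [u₁', u₂', pullback.lift_fst] using this
  have hι : ι = u₁ ≫ pullback.diagonal f := by
    apply pullback.hom_ext
    · simp only [Category.assoc, pullback.diagonal_fst, Category.comp_id, u₁]
    · simp only [Category.assoc, pullback.diagonal_snd, Category.comp_id]
      rw [h12']
  refine ⟨u₁ (IsLocalRing.closedPoint K), ?_⟩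
  rw [← Scheme.Hom.comp_apply, ← hι]
  exact Scheme.fromSpecResidueField_apply _ _

/-- Relative fibre criterion for open immersions. -/
theorem isOpenImmersion_of_fiber {X Y S : Scheme.{u}} (g : Y ⟶ S) (f : X ⟶ Y)
    [LocallyOfFiniteType g] [LocallyOfFinitePresentation (f ≫ g)] [Flat (f ≫ g)]
    (H : ∀ s : S, IsOpenImmersion (pullback.snd f (g.fiberι s))) : IsOpenImmersion f := by
  have het : Etale f := etale_of_fiber g f fun s => by
    have := H s; infer_instance
  have hsurj := surjective_diagonal_of_fiber g f fun s => by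
    have := H s; infer_instance
  have : IsIso (pullback.diagonal f) := isIso_of_isOpenImmersion_of_surjective _ hsurj
  have : Mono f := (pullback.isIso_diagonal_iff f).mp this
  exact IsOpenImmersion.of_flat_of_mono f

/-- Relative fibre criterion for isomorphisms. -/
theorem isIso_of_fiber {X Y S : Scheme.{u}} (g : Y ⟶ S) (f : X ⟶ Y)
    [LocallyOfFiniteType g] [LocallyOfFinitePresentation (f ≫ g)] [Flat (f ≫ g)]
    (H : ∀ s : S, IsIso (pullback.snd f (g.fiberι s))) : IsIso f := by
  have : IsOpenImmersion f := isOpenImmersion_of_fiber g f fun s => by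
    have := H s; infer_instance
  refine isIso_of_isOpenImmersion_of_surjective f fun y => ?_
  have hy : y ∈ Set.range (g.fiberι (g y)) := by
    rw [Scheme.Hom.range_fiberι]; simp
  obtain ⟨y', hy'⟩ := hy
  have := H (g y)
  obtain ⟨p, hp⟩ := (asIso (pullback.snd f (g.fiberι (g y)))).hom.homeomorph.surjective y'
  refine ⟨pullback.fst f (g.fiberι (g y)) p, ?_⟩
  rw [← Scheme.Hom.comp_apply, pullback.condition, Scheme.Hom.comp_apply]
  refine Eq.trans ?_ hy'
  exact congrArg _ hp

end Groth.Agent.Lib.Helper18.RelSmoothFiber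

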