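import Mathlib
import Groth.Agent.Lib.Helper18.RelEtaleFiberMor

universe u
open CategoryTheory CategoryTheory.Limits AlgebraicGeometry

namespace Groth.Agent.Lib.Helper18.RelSmoothFiber

/-- A morphism from a reduced scheme factors through any thickening of the target. -/
theorem exists_factor_of_isReduced {S S' T : Scheme.{u}} (iS : S ⟶ S') [IsClosedImmersion iS]
    [Surjective iS] [IsReduced T] (φ : T ⟶ S') : ∃ τ : T ⟶ S, τ ≫ iS = φ := by
  have : IsIso (pullback.fst φ iS) := isIso_of_isClosedImmersion_of_surjective _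
  refine ⟨inv (pullback.fst φ iS) ≫ pullback.snd φ iS, ?_⟩
  rw [Category.assoc, ← pullback.condition, IsIso.inv_hom_id_assoc]

/-- If `f` is the base change of `f'` along `iY` and has a property stable under base change,
then so does the base change of `f'` along any morphism factoring through `iY`. -/
theorem snd_of_factor (P : MorphismProperty Scheme.{u}) [P.IsStableUnderBaseChange]
    {X X' Y Y' T : Scheme.{u}} {iX : X ⟶ X'} {iY : Y ⟶ Y'}
    {f : X ⟶ Y} {f' : X' ⟶ Y'} (H : IsPullback iX f f' iY) (hf : P f)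
    (φ : T ⟶ Y') (θ : T ⟶ Y) (hθ : θ ≫ iY = φ) : P (pullback.snd f' φ) := by
  subst hθ
  have h := IsPullback.of_bot' (IsPullback.of_hasPullback f' (θ ≫ iY)).flip H.flip
  exact MorphismProperty.of_isPullback h.flip hf

/-- Over a thickening `S ⟶ S'`, every fibre inclusion `Y'_{s'} ⟶ Y'` factors through the base
change `Y ⟶ Y'`. -/
theorem exists_fiberι_factor {Y Y' S S' : Scheme.{u}} {iY : Y ⟶ Y'} {iS : S ⟶ S'} {g : Y ⟶ S}
    {g' : Y' ⟶ S'} [IsClosedImmersion iS] [Surjective iS] (hcY : IsPullback iY g g' iS)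
    (s' : S') : ∃ θ : g'.fiber s' ⟶ Y, θ ≫ iY = g'.fiberι s' := by
  obtain ⟨τ, hτ⟩ := exists_factor_of_isReduced iS (S'.fromSpecResidueField s')
  refine ⟨hcY.lift (g'.fiberι s') (g'.fiberToSpecResidueField s' ≫ τ) ?_, hcY.lift_fst _ _ _⟩
  rw [Category.assoc, hτ]
  exact g'.fiber_fac s'

end Groth.Agent.Lib.Helper18.RelSmoothFiber

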