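import Mathlib
import Groth.Agent.Lib.Helper18.RelOpenImmFiber
import Groth.Agent.Lib.Helper18.ThickeningFiber

universe u
open CategoryTheory CategoryTheory.Limits AlgebraicGeometry

namespace Groth.Agent.Lib.Helper18.RelSmoothFiber

open Groth.Agent.Lib.Helper18.PullbackStalk H18Stalk

/-- Formal unramifiedness ascends along a thickening of the base (finite type case). -/
theorem formallyUnramified_of_thickening {X X' Y Y' : Scheme.{u}} {iX : X ⟶ X'} {iY : Y ⟶ Y'}
    {f : X ⟶ Y} {f' : X' ⟶ Y'} (hs : Function.Surjective iY) (hc : IsPullback iX f f' iY)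
    [LocallyOfFiniteType f'] [FormallyUnramified f] : FormallyUnramified f' := by
  have : Surjective iY := ⟨hs⟩
  have : Surjective iX := MorphismProperty.of_isPullback (P := @Surjective) hc.flip ‹_›
  refine formallyUnramified_of_stalk f' fun x' => ?_
  obtain ⟨x, rfl⟩ := iX.surjective x'
  exact (unram_stalk_iff_of_isPullback hc x).mp (FormallyUnramified.stalkMap f x)

/-- Monomorphisms ascend along a thickening of the base (finite type case). -/
theorem mono_of_thickening {X X' Y Y' : Scheme.{u}} {iX : X ⟶ X'} {iY : Y ⟶ Y'}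
    {f : X ⟶ Y} {f' : X' ⟶ Y'} [IsClosedImmersion iY] (hs : Function.Surjective iY)
    (hc : IsPullback iX f f' iY) [LocallyOfFiniteType f'] [Mono f] : Mono f' := by
  have : Surjective iY := ⟨hs⟩
  have : LocallyOfFiniteType f := MorphismProperty.of_isPullback hc ‹_›
  have : FormallyUnramified f' := formallyUnramified_of_thickening hs hc
  have hsurj : Function.Surjective (pullback.diagonal f') := by
    intro z
    let K : Type u := (pullback f' f').residueField z
    let ι : Spec (.of K) ⟶ pullback f' f' := (pullback f' f').fromSpecResidueField z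
    let u₁ : Spec (.of K) ⟶ X' := ι ≫ pullback.fst f' f'
    let u₂ : Spec (.of K) ⟶ X' := ι ≫ pullback.snd f' f'
    have hu : u₁ ≫ f' = u₂ ≫ f' := by
      simp only [u₁, u₂, Category.assoc, pullback.condition]
    obtain ⟨v₀, hv₀⟩ := exists_factor_of_isReduced iY (u₁ ≫ f')
    let w₁ : Spec (.of K) ⟶ X := hc.lift u₁ v₀ hv₀.symm
    let w₂ : Spec (.of K) ⟶ X := hc.lift u₂ v₀ (by rw [hv₀, hu])
    have h12 : w₁ = w₂ := by
      rw [← cancel_mono f]
      simp only [w₁, w₂, IsPullback.lift_snd]
    have h12' : u₁ = u₂ := by
      have := congr($h12 ≫ iX)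
      simpa only [w₁, w₂, IsPullback.lift_fst] using this
    have hι : ι = u₁ ≫ pullback.diagonal f' := by
      apply pullback.hom_ext
      · simp only [Category.assoc, pullback.diagonal_fst, Category.comp_id, u₁]
      · simp only [Category.assoc, pullback.diagonal_snd, Category.comp_id]
        rw [h12']
    refine ⟨u₁ (IsLocalRing.closedPoint K), ?_⟩
    rw [← Scheme.Hom.comp_apply, ← hι]
    exact Scheme.fromSpecResidueField_apply _ _
  have : IsIso (pullback.diagonal f') := isIso_of_isOpenImmersion_of_surjective _ hsurj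
  exact (pullback.isIso_diagonal_iff f').mp this

end Groth.Agent.Lib.Helper18.RelSmoothFiber

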