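import Mathlib
import Groth.Agent.Lib.Helper18.ThickeningUnram

universe u
open CategoryTheory CategoryTheory.Limits AlgebraicGeometry

namespace Groth.Agent.Lib.Helper18.RelSmoothFiber

/-- Local quasi-finiteness ascends along a thickening of the base (finite type case). -/
theorem locallyQuasiFinite_of_thickening {X X' Y Y' : Scheme.{u}} {iX : X ⟶ X'} {iY : Y ⟶ Y'}
    {f : X ⟶ Y} {f' : X' ⟶ Y'} [IsClosedImmersion iY] (hs : Function.Surjective iY)
    (hc : IsPullback iX f f' iY) [LocallyOfFiniteType f'] [LocallyQuasiFinite f] :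
    LocallyQuasiFinite f' := by
  have : Surjective iY := ⟨hs⟩
  have : Surjective iX := MorphismProperty.of_isPullback (P := @Surjective) hc.flip ‹_›
  have : IsClosedImmersion iX := MorphismProperty.of_isPullback hc.flip ‹_›
  have : LocallyOfFiniteType f := MorphismProperty.of_isPullback hc ‹_›
  rw [locallyQuasiFinite_iff_isDiscrete_preimage_singleton]
  intro y'
  obtain ⟨y, rfl⟩ := hs y'
  have heq : f' ⁻¹' {iY y} = iX '' (f ⁻¹' {y}) := by
    ext x'
    constructor
    · intro hx'
      obtain ⟨x, rfl⟩ := iX.surjective x'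
      refine ⟨x, ?_, rfl⟩
      have h1 : iY (f x) = f' (iX x) := by
        rw [← Scheme.Hom.comp_apply, ← Scheme.Hom.comp_apply, hc.w]
      exact iY.isClosedEmbedding.injective (h1.trans hx')
    · rintro ⟨x, hx, rfl⟩
      have h1 : iY (f x) = f' (iX x) := by
        rw [← Scheme.Hom.comp_apply, ← Scheme.Hom.comp_apply, hc.w]
      show f' (iX x) = iY y
      rw [← h1, hx]
  rw [heq]
  exact (f.isDiscrete_preimage_singleton y).image iX.isClosedEmbedding.isInducing

/-- Closed immersions ascend along a thickening of the base (finite type case). -/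
theorem isClosedImmersion_of_thickening {X X' Y Y' : Scheme.{u}} {iX : X ⟶ X'} {iY : Y ⟶ Y'}
    {f : X ⟶ Y} {f' : X' ⟶ Y'} [IsClosedImmersion iY] (hs : Function.Surjective iY)
    (hc : IsPullback iX f f' iY) [LocallyOfFiniteType f'] [IsClosedImmersion f] :
    IsClosedImmersion f' := by
  have : Surjective iY := ⟨hs⟩
  have : Surjective iX := MorphismProperty.of_isPullback (P := @Surjective) hc.flip ‹_›
  have : Mono f' := mono_of_thickening hs hc
  have : LocallyQuasiFinite f' := locallyQuasiFinite_of_thickening hs hc
  have : UniversallyClosed (iX ≫ f') := by rw [hc.w]; infer_instance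
  have : UniversallyClosed f' := UniversallyClosed.of_comp_surjective iX f'
  have : IsProper f' := {}
  have : IsFinite f' := IsFinite.of_isProper_of_locallyQuasiFinite f'
  exact (IsClosedImmersion.iff_isFinite_and_mono f').mpr ⟨inferInstance, inferInstance⟩

end Groth.Agent.Lib.Helper18.RelSmoothFiber

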