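import Mathlib
import Groth.Agent.Lib.Helper12.Thickening
import Groth.Agent.Lib.Helper18.ThickeningClosedImm

universe u

open AlgebraicGeometry CategoryTheory Limits

namespace Groth.Agent.Lib.Helper18.NilBase

open Groth.Agent.Lib.Helper18.RelSmoothFiber

/-- Separatedness ascends along a thickening of the base. -/
theorem isSeparated_of_thickening {X X' Y Y' : Scheme.{u}} {iX : X ⟶ X'} {iY : Y ⟶ Y'}
    {f : X ⟶ Y} {f' : X' ⟶ Y'} [IsClosedImmersion iY] [Surjective iY]
    (hc : IsPullback iX f f' iY) [IsSeparated f] : IsSeparated f' := by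
  have : Surjective iX := MorphismProperty.of_isPullback (P := @Surjective) hc.flip ‹_›
  have : IsClosedImmersion iX := MorphismProperty.of_isPullback hc.flip ‹_›
  have : QuasiSeparated (iX ≫ f') := by rw [hc.w]; infer_instance
  have : QuasiSeparated f' :=
    Groth.Agent.Lib.helper12.quasiSeparated_of_comp_surjective_isEmbedding iX f'
      iX.isClosedEmbedding.isEmbedding
  refine IsSeparated.of_valuativeCriterion f' fun S => ⟨fun l₁ l₂ => ?_⟩
  obtain ⟨τ, hτ⟩ := exists_factor_of_isReduced iY S.i₂
  let S' : ValuativeCommSq f :=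
    { R := S.R
      K := S.K
      i₁ := hc.lift S.i₁ (Spec.map (CommRingCat.ofHom (algebraMap S.R S.K)) ≫ τ) (by
        rw [Category.assoc, hτ]; exact S.commSq.w)
      i₂ := τ
      commSq := ⟨by rw [IsPullback.lift_snd]⟩ }
  let m : S.commSq.LiftStruct → S'.commSq.LiftStruct := fun l =>
    { l := hc.lift l.l τ (l.fac_right.trans hτ.symm)
      fac_left := by
        apply hc.hom_ext
        · rw [Category.assoc, IsPullback.lift_fst, IsPullback.lift_fst]; exact l.fac_left
        · rw [Category.assoc, IsPullback.lift_snd, IsPullback.lift_snd]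
      fac_right := by rw [IsPullback.lift_snd] }
  have hsub := IsSeparated.valuativeCriterion f S'
  have h12 : m l₁ = m l₂ := Subsingleton.elim _ _
  have h12' : (m l₁).l ≫ iX = (m l₂).l ≫ iX := by rw [h12]
  simp only [m, IsPullback.lift_fst] at h12'
  ext1
  exact h12'

/-- Finiteness ascends along a thickening of the base (finite type case). -/
theorem isFinite_of_thickening {X X' Y Y' : Scheme.{u}} {iX : X ⟶ X'} {iY : Y ⟶ Y'}
    {f : X ⟶ Y} {f' : X' ⟶ Y'} [IsClosedImmersion iY] [Surjective iY]
    (hc : IsPullback iX f f' iY) [LocallyOfFiniteType f'] [IsFinite f] : IsFinite f' := by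
  have : Surjective iX := MorphismProperty.of_isPullback (P := @Surjective) hc.flip ‹_›
  have : IsSeparated f' := isSeparated_of_thickening hc
  have : LocallyQuasiFinite f' := locallyQuasiFinite_of_thickening iY.surjective hc
  have : UniversallyClosed (iX ≫ f') := by rw [hc.w]; infer_instance
  have : UniversallyClosed f' := UniversallyClosed.of_comp_surjective iX f'
  have : IsProper f' := {}
  exact IsFinite.of_isProper_of_locallyQuasiFinite f'

end Groth.Agent.Lib.Helper18.NilBase
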