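import Mathlib
import Groth.Agent.Lib.Helper18.PullbackSquare

/-!
# Helper18: a morphism locally of finite type with unramified fibres is unramified;
a morphism locally of finite type with a section whose fibres are all `Spec κ` is an isomorphism.
-/

universe u

namespace Groth.Agent.Lib.Helper18.FiberUnram

open CategoryTheory CategoryTheory.Limits AlgebraicGeometry
open Groth.Agent.Lib.Helper18.PullbackStalk H18Stalk

/-- A morphism locally of finite type all of whose fibres are formally unramified is formally
unramified. -/
theorem formallyUnramified_of_fibers {X S : Scheme.{u}} (f : X ⟶ S) [LocallyOfFiniteType f]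
    (H : ∀ s : S, FormallyUnramified (f.fiberToSpecResidueField s)) :
    FormallyUnramified f := by
  have key : ∀ x : X, ∃ U : X.Opens, x ∈ U ∧ FormallyUnramified (U.ι ≫ f) := by
    intro x
    rw [exists_unramified_nhd_iff]
    have hb1 := H (f x)
    have HP : IsPullback (f.fiberι (f x)) (f.fiberToSpecResidueField (f x)) f
        (S.fromSpecResidueField (f x)) := IsPullback.of_hasPullback _ _
    have h1 := FormallyUnramified.stalkMap (f.fiberToSpecResidueField (f x)) (f.asFiber x)
    have h2 := (unram_stalk_iff_of_isPullback HP (f.asFiber x)).mp h1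
    have h3 : f.fiberι (f x) (f.asFiber x) = x := f.fiberι_asFiber x
    rw [h3] at h2
    exact h2
  choose U hxU hU using key
  refine IsZariskiLocalAtSource.of_iSup_eq_top (P := @FormallyUnramified) U ?_ hU
  exact top_le_iff.mp fun x _ => by simpa using ⟨x, hxU x⟩

/-- A section of an unramified morphism is an open immersion. -/
theorem isOpenImmersion_of_section {X S : Scheme.{u}} (f : X ⟶ S) [LocallyOfFiniteType f]
    [FormallyUnramified f] (σ : S ⟶ X) (hσ : σ ≫ f = 𝟙 S) : IsOpenImmersion σ := by
  have : Etale (σ ≫ f) := by rw [hσ]; infer_instance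
  have : Etale σ := Etale.of_comp σ f
  have : Mono σ := mono_of_mono_fac hσ
  exact IsOpenImmersion.of_flat_of_mono σ

/-- A morphism locally of finite type with a section, all of whose fibres are isomorphic to the
spectrum of the residue field, is an isomorphism. -/
theorem isIso_of_section_of_fibers {X S : Scheme.{u}} (f : X ⟶ S) [LocallyOfFiniteType f]
    (σ : S ⟶ X) (hσ : σ ≫ f = 𝟙 S) (H : ∀ s : S, IsIso (f.fiberToSpecResidueField s)) :
    IsIso f := by
  have : FormallyUnramified f := formallyUnramified_of_fibers f fun s => by
    have := H s; infer_instance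
  have hopen := isOpenImmersion_of_section f σ hσ
  have hsurj : Surjective σ := by
    refine ⟨fun x => ⟨f x, ?_⟩⟩
    -- both `σ (f x)` and `x` lie in the fibre over `f x`, which is a single point
    have hsub : Subsingleton (f.fiber (f x)) := by
      have := H (f x)
      have e := (asIso (f.fiberToSpecResidueField (f x))).hom.homeomorph
      exact e.injective.subsingleton (α := f.fiber (f x)) (β := PrimeSpectrum _)
    have h1 : σ (f x) ∈ f ⁻¹' {f x} := by
      show f (σ (f x)) = f x
      rw [← Scheme.Hom.comp_apply, hσ]; rfl
    have h2 : x ∈ f ⁻¹' {f x} := rfl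
    have hss : Subsingleton (f ⁻¹' {f x}) :=
      (f.fiberHomeo (f x)).symm.injective.subsingleton
    exact congr_arg Subtype.val (Subsingleton.elim (⟨σ (f x), h1⟩ : f ⁻¹' {f x}) ⟨x, h2⟩)
  have : IsIso σ := (isIso_iff_isOpenImmersion_and_surjective σ).mpr ⟨hopen, hsurj⟩
  have : f = inv σ := by
    rw [← cancel_epi σ, hσ, IsIso.hom_inv_id]
  rw [this]; infer_instance

end Groth.Agent.Lib.Helper18.FiberUnram
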