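import Mathlib

universe u

open TensorProduct

namespace Groth.Agent.Lib.Helper18.NilBase

/-- In a pushout square of rings `B = B' ⊗[A'] A` with `A' → A` surjective with kernel `I`, the map
`B' → B` is surjective with kernel `I B'`. -/
theorem surjective_and_ker_of_isPushout (A' B' A B : Type u) [CommRing A'] [CommRing B']
    [CommRing A] [CommRing B] [Algebra A' B'] [Algebra A' A] [Algebra B' B] [Algebra A B]
    [Algebra A' B] [IsScalarTower A' B' B] [IsScalarTower A' A B] [Algebra.IsPushout A' B' A B]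
    (hs : Function.Surjective (algebraMap A' A)) :
    Function.Surjective (algebraMap B' B) ∧
      RingHom.ker (algebraMap B' B) = (RingHom.ker (algebraMap A' A)).map (algebraMap A' B') := by
  let I := RingHom.ker (algebraMap A' A)
  let e₀ : (A' ⧸ I) ≃ₐ[A'] A := Ideal.quotientKerAlgEquivOfSurjective (f := Algebra.ofId A' A) hs
  let E : (B' ⧸ I.map (algebraMap A' B')) ≃ₐ[B'] B :=
    (Algebra.TensorProduct.quotIdealMapEquivTensorQuot B' I).trans
      ((Algebra.TensorProduct.congr AlgEquiv.refl e₀).trans (Algebra.IsPushout.equiv A' B' A B))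
  have hE : ∀ b' : B', algebraMap B' B b' = E (Ideal.Quotient.mk _ b') := fun b' =>
    (E.commutes b').symm
  constructor
  · intro b
    obtain ⟨x, rfl⟩ := E.surjective b
    obtain ⟨b', rfl⟩ := Ideal.Quotient.mk_surjective x
    exact ⟨b', hE b'⟩
  · ext x
    rw [RingHom.mem_ker, hE, EmbeddingLike.map_eq_zero_iff, Ideal.Quotient.eq_zero_iff_mem]

/-- Finite type lifts along a nilpotent thickening of the base. -/
theorem finiteType_of_comp_surjective_nilpotent_base {A' B' B : Type*} [CommRing A'] [CommRing B']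
    [CommRing B] (φ : A' →+* B') (π : B' →+* B) (hπ : Function.Surjective π) (I : Ideal A')
    (hI : IsNilpotent I) (hker : RingHom.ker π = I.map φ)
    (h : (π.comp φ).FiniteType) : φ.FiniteType := by
  algebraize [φ, π.comp φ]
  let π' : B' →ₐ[A'] B := ⟨π, fun a => rfl⟩
  obtain ⟨s, hs⟩ := (Algebra.FiniteType.out : (⊤ : Subalgebra A' B).FG)
  have hlift : ∀ x : B, ∃ b : B', π b = x := hπ
  choose σ hσ using hlift
  classical
  let T : Finset B' := s.image σ
  let B'' : Subalgebra A' B' := Algebra.adjoin A' (T : Set B')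
  have hTB' : ∀ x ∈ s, σ x ∈ B'' := fun x hx =>
    Algebra.subset_adjoin (Finset.mem_coe.mpr (Finset.mem_image_of_mem σ hx))
  have claim1 : ∀ b : B', ∃ b' ∈ B'', b - b' ∈ I.map φ := by
    intro b
    have hb : π b ∈ Algebra.adjoin A' (s : Set B) := by rw [hs]; trivial
    have hle : Algebra.adjoin A' (s : Set B) ≤ B''.map π' := by
      rw [Algebra.adjoin_le_iff]
      intro x hx
      exact ⟨σ x, hTB' x hx, hσ x⟩
    obtain ⟨b', hb', hbb'⟩ := hle hb
    refine ⟨b', hb', ?_⟩
    rw [← hker, RingHom.mem_ker, map_sub, sub_eq_zero]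
    exact hbb'.symm
  have claim2 : ∀ k : ℕ, ∀ b ∈ (I ^ k).map φ, ∃ b' ∈ B'', b - b' ∈ (I ^ (k + 1)).map φ := by
    intro k b hb
    refine Submodule.span_induction (p := fun b _ => ∃ b' ∈ B'', b - b' ∈ (I ^ (k + 1)).map φ)
      ?_ ?_ ?_ ?_ hb
    · rintro _ ⟨i, hi, rfl⟩
      exact ⟨φ i, B''.algebraMap_mem i, by simp⟩
    · exact ⟨0, B''.zero_mem, by simp⟩
    · rintro x y _ _ ⟨x', hx', hxx'⟩ ⟨y', hy', hyy'⟩
      refine ⟨x' + y', B''.add_mem hx' hy', ?_⟩
      have : x + y - (x' + y') = (x - x') + (y - y') := by ring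
      rw [this]
      exact Ideal.add_mem _ hxx' hyy'
    · intro r x hx ⟨x', hx', hxx'⟩
      -- r • x with x ∈ I^k B': write r = r' + r'' with r' ∈ B'', r'' ∈ I B'
      obtain ⟨r', hr', hrr'⟩ := claim1 r
      -- x = x' + (x - x'), so r x = r' x' + (r - r') x' + r (x - x')
      have hx'mem : x' ∈ (I ^ k).map φ := by
        have h1 : x - x' ∈ (I ^ k).map φ :=
          Ideal.map_mono (Ideal.pow_le_pow_right (Nat.le_succ k)) hxx'
        have : x' = x - (x - x') := by ring
        rw [this]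
        exact Ideal.sub_mem _ hx h1
      refine ⟨r' * x', B''.mul_mem hr' hx', ?_⟩
      have : r • x - r' * x' = (r - r') * x' + r * (x - x') := by rw [smul_eq_mul]; ring
      rw [this]
      refine Ideal.add_mem _ ?_ (Ideal.mul_mem_left _ _ hxx')
      rw [pow_succ', Ideal.map_mul]
      exact Ideal.mul_mem_mul hrr' hx'mem
  have claim3 : ∀ k : ℕ, ∀ b : B', ∃ b' ∈ B'', b - b' ∈ (I ^ k).map φ := by
    intro k
    induction k with
    | zero => intro b; exact ⟨0, B''.zero_mem, by simp [Ideal.one_eq_top, Ideal.map_top]⟩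
    | succ k ih =>
      intro b
      obtain ⟨b₁, hb₁, hbb₁⟩ := ih b
      obtain ⟨b₂, hb₂, hbb₂⟩ := claim2 k _ hbb₁
      refine ⟨b₁ + b₂, B''.add_mem hb₁ hb₂, ?_⟩
      have : b - (b₁ + b₂) = b - b₁ - b₂ := by ring
      rw [this]
      exact hbb₂
  obtain ⟨n, hn⟩ := hI
  have htop : B'' = ⊤ := by
    rw [eq_top_iff]
    intro b _
    obtain ⟨b', hb', hbb'⟩ := claim3 n b
    rw [hn, Ideal.zero_eq_bot, Ideal.map_bot] at hbb'
    have : b = b' := sub_eq_zero.mp ((Ideal.mem_bot (R := B')).mp hbb')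
    rw [this]
    exact hb'
  show Algebra.FiniteType A' B'
  exact ⟨⟨T, htop⟩⟩

end Groth.Agent.Lib.Helper18.NilBase
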