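import Mathlib
import Groth.Agent.Lib.Helper18.NilBaseRing
import Groth.Agent.Lib.Helper19.DefCI

universe u

open TensorProduct

namespace Groth.Agent.Lib.Helper18.NilBase

open Groth.Agent.Lib.Helper19

/-- If `P'/K'` is flat over `A'`, `𝔞 ⊆ A'` is nilpotent, and the image of `K'` in `P'/𝔞P'` is
finitely generated, then `K'` is finitely generated. -/
theorem fg_of_flat_of_map_fg {A' P' P : Type u} [CommRing A'] [CommRing P'] [CommRing P]
    [Algebra A' P'] (𝔞 : Ideal A') (h𝔞 : IsNilpotent 𝔞) (K' : Ideal P')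
    [Module.Flat A' (P' ⧸ K')] (ρ : P' →+* P) (hρ : Function.Surjective ρ)
    (hker : RingHom.ker ρ = 𝔞.map (algebraMap A' P')) (hfg : (K'.map ρ).FG) : K'.FG := by
  classical
  obtain ⟨t, ht⟩ := hfg
  have hlift : ∀ q : (t : Set P), ∃ k ∈ K', ρ k = q.1 := by
    intro q
    have hq : q.1 ∈ K'.map ρ := by
      rw [← ht]; exact Ideal.subset_span q.2
    exact (Ideal.mem_map_iff_of_surjective ρ hρ).mp hq
  choose a' ha' hρa' using hlift
  have hfin : (Set.range a').Finite := Set.finite_range a'
  set I'' : Ideal P' := Ideal.span (Set.range a') with hI''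
  have hI''fg : I''.FG := ⟨hfin.toFinset, by rw [hI'']; simp⟩
  have h1 : I'' ≤ K' := Ideal.span_le.mpr (by rintro _ ⟨q, rfl⟩; exact ha' q)
  have hKnil : IsNilpotent (RingHom.ker ρ) := by
    obtain ⟨n, hn⟩ := h𝔞
    refine ⟨n, ?_⟩
    rw [hker, ← Ideal.map_pow, hn, Ideal.zero_eq_bot, Ideal.map_bot, Ideal.zero_eq_bot]
  have hmap : K'.map ρ ≤ I''.map ρ := by
    rw [← ht, Ideal.span_le]
    intro q hq
    have : ρ (a' ⟨q, hq⟩) = q := hρa' ⟨q, hq⟩
    rw [← this]
    exact Ideal.mem_map_of_mem ρ (Ideal.subset_span ⟨⟨q, hq⟩, rfl⟩)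
  have h2 : K' ≤ I'' ⊔ RingHom.ker ρ * K' := by
    intro x hx
    have hx' : ρ x ∈ I''.map ρ := hmap (Ideal.mem_map_of_mem ρ hx)
    obtain ⟨y, hy, hyx⟩ := (Ideal.mem_map_iff_of_surjective ρ hρ).mp hx'
    have hxy : x - y ∈ RingHom.ker ρ := by
      rw [RingHom.mem_ker, map_sub, hyx, sub_self]
    have hxy' : x - y ∈ K' := K'.sub_mem hx (h1 hy)
    have := DefCI.inf_map_le_mul K' 𝔞 ⟨hxy', hker ▸ hxy⟩
    rw [← hker] at this
    have hx2 : x = y + (x - y) := by ring
    rw [hx2]
    exact Ideal.add_mem _ (Ideal.mem_sup_left hy) (Ideal.mem_sup_right this)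
  rw [DefCI.eq_of_le_sup_mul (RingHom.ker ρ) K' I'' hKnil h1 h2]
  exact hI''fg

end Groth.Agent.Lib.Helper18.NilBase

namespace Groth.Agent.Lib.Helper18.NilBase

/-- Finite presentation lifts along a nilpotent thickening of the base (relative version):
`A' → B' → C'` with `C'` flat over `A'`, `I ⊆ A'` nilpotent; if `C'/IC'` is of finite
presentation over `B'/IB'` then `C'` is of finite presentation over `B'`. -/
theorem finitePresentation_of_thickening_base {A' B' C' B C : Type u} [CommRing A'] [CommRing B']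
    [CommRing C'] [CommRing B] [CommRing C]
    (φ : A' →+* B') (ψ : B' →+* C') (πB : B' →+* B) (πC : C' →+* C) (β : B →+* C)
    (hcomm : πC.comp ψ = β.comp πB) (I : Ideal A') (hI : IsNilpotent I)
    (hB : Function.Surjective πB) (hkB : RingHom.ker πB = I.map φ)
    (hC : Function.Surjective πC) (hkC : RingHom.ker πC = I.map (ψ.comp φ))
    (hflat : (ψ.comp φ).Flat) (hβ : β.FinitePresentation) : ψ.FinitePresentation := by
  -- finite type
  have hJnil : IsNilpotent (I.map φ) := by
    obtain ⟨n, hn⟩ := hI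
    refine ⟨n, ?_⟩
    rw [← Ideal.map_pow, hn, Ideal.zero_eq_bot, Ideal.map_bot, Ideal.zero_eq_bot]
  have hft : ψ.FiniteType := by
    refine finiteType_of_comp_surjective_nilpotent_base ψ πC hC (I.map φ) hJnil ?_ ?_
    · rw [hkC, Ideal.map_map]
    · rw [hcomm]
      exact (RingHom.FiniteType.of_finitePresentation hβ).comp (RingHom.FiniteType.of_surjective _ hB)
  let _ : Algebra A' B' := φ.toAlgebra
  let _ : Algebra B' C' := ψ.toAlgebra
  let _ : Algebra A' C' := (ψ.comp φ).toAlgebra
  have : IsScalarTower A' B' C' := IsScalarTower.of_algebraMap_eq fun _ => rfl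
  let _ : Algebra B C := β.toAlgebra
  have : Module.Flat A' C' := hflat
  have : Algebra.FinitePresentation B C := hβ
  have : Algebra.FiniteType B' C' := hft
  obtain ⟨n, f, hf⟩ := Algebra.FiniteType.iff_quotient_mvPolynomial''.mp this
  -- the reduction of the polynomial ring
  let ρ : MvPolynomial (Fin n) B' →+* MvPolynomial (Fin n) B := MvPolynomial.map πB
  have hρ : Function.Surjective ρ := MvPolynomial.map_surjective πB hB
  have hkρ : RingHom.ker ρ = I.map (algebraMap A' (MvPolynomial (Fin n) B')) := by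
    rw [MvPolynomial.ker_map, hkB, Ideal.map_map]
    rfl
  let γ : MvPolynomial (Fin n) B →ₐ[B] C := MvPolynomial.aeval (fun i => πC (f (MvPolynomial.X i)))
  have hγρ : (γ : MvPolynomial (Fin n) B →+* C).comp ρ = πC.comp (f : MvPolynomial (Fin n) B' →+* C') := by
    apply MvPolynomial.ringHom_ext
    · intro b'
      simp only [RingHom.comp_apply, ρ, MvPolynomial.map_C, γ]
      rw [RingHom.coe_coe, MvPolynomial.aeval_C, RingHom.coe_coe]
      have h1 : f (MvPolynomial.C b') = ψ b' := f.commutes b'
      rw [h1]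
      exact (congr($hcomm b')).symm
    · intro i
      simp only [RingHom.comp_apply, ρ, MvPolynomial.map_X, γ]
      rw [RingHom.coe_coe, MvPolynomial.aeval_X, RingHom.coe_coe]
  have hγ : Function.Surjective γ := by
    intro c
    obtain ⟨c', rfl⟩ := hC c
    obtain ⟨p', rfl⟩ := hf c'
    exact ⟨ρ p', congr($hγρ p')⟩
  have hkγ : (RingHom.ker γ.toRingHom).FG := Algebra.FinitePresentation.ker_fG_of_surjective γ hγ
  let K' : Ideal (MvPolynomial (Fin n) B') := RingHom.ker f.toRingHom
  have hKmap : K'.map ρ = RingHom.ker γ.toRingHom := by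
    apply le_antisymm
    · rw [Ideal.map_le_iff_le_comap]
      intro x hx
      rw [Ideal.mem_comap, RingHom.mem_ker]
      have := congr($hγρ x)
      simp only [RingHom.comp_apply] at this
      rw [AlgHom.toRingHom_eq_coe, this]
      have hx0 : f x = 0 := hx
      rw [RingHom.coe_coe, hx0, map_zero]
    · intro q hq
      obtain ⟨p', rfl⟩ := hρ q
      have h1 : πC (f p') = 0 := by
        have := congr($hγρ p')
        simp only [RingHom.comp_apply] at this
        exact this.symm.trans hq
      have h2 : f p' ∈ (I.map (algebraMap A' (MvPolynomial (Fin n) B'))).map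
          (f : MvPolynomial (Fin n) B' →+* C') := by
        rw [Ideal.map_map]
        have : (f : MvPolynomial (Fin n) B' →+* C').comp (algebraMap A' (MvPolynomial (Fin n) B')) =
            ψ.comp φ := by
          ext a
          simp only [RingHom.comp_apply]
          rw [IsScalarTower.algebraMap_apply A' B' (MvPolynomial (Fin n) B'), RingHom.coe_coe,
            f.commutes]
          rfl
        rw [this, ← hkC]
        exact h1
      obtain ⟨j, hj, hjp⟩ := (Ideal.mem_map_iff_of_surjective _ hf).mp h2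
      have hj' : ρ j = 0 := by
        rw [← RingHom.mem_ker, hkρ]; exact hj
      have h3 : p' - j ∈ K' := by
        show f.toRingHom (p' - j) = 0
        rw [map_sub, sub_eq_zero]
        exact hjp.symm
      have h4 : ρ p' = ρ (p' - j) := by rw [map_sub, hj', sub_zero]
      rw [h4]
      exact Ideal.mem_map_of_mem ρ h3
  -- flatness of the quotient
  have hflatQ : Module.Flat A' (MvPolynomial (Fin n) B' ⧸ K') := by
    let e : (MvPolynomial (Fin n) B' ⧸ K') ≃ₐ[B'] C' := Ideal.quotientKerAlgEquivOfSurjective hf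
    exact Module.Flat.of_linearEquiv (e.toLinearEquiv.restrictScalars A')
  have hK'fg : K'.FG := fg_of_flat_of_map_fg I hI K' ρ hρ hkρ (hKmap ▸ hkγ)
  show Algebra.FinitePresentation B' C'
  exact Algebra.FinitePresentation.of_surjective hf hK'fg

end Groth.Agent.Lib.Helper18.NilBase
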