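import Mathlib
import Groth.Agent.Lib.Helper8.LocalFlat

universe u

open TensorProduct

namespace Groth.Agent.Lib.Helper18.NilBase

open Groth.Agent.Lib.helper8

/-- Flatness lifts along a nilpotent thickening of the base (relative version): `A' → B' → C'`
with `C'` flat over `A'`, `I ⊆ A'` nilpotent; if `C'/IC'` is flat over `B'/IB'` then `C'` is flat
over `B'`. -/
theorem flat_of_thickening_base {A' B' C' B C : Type u} [CommRing A'] [CommRing B'] [CommRing C']
    [CommRing B] [CommRing C]
    (φ : A' →+* B') (ψ : B' →+* C') (πB : B' →+* B) (πC : C' →+* C) (β : B →+* C)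
    (hcomm : πC.comp ψ = β.comp πB) (I : Ideal A') (hI : IsNilpotent I)
    (hB : Function.Surjective πB) (hkB : RingHom.ker πB = I.map φ)
    (hC : Function.Surjective πC) (hkC : RingHom.ker πC = I.map (ψ.comp φ))
    (hflat : (ψ.comp φ).Flat) (hβ : β.Flat) : ψ.Flat := by
  let _ : Algebra A' B' := φ.toAlgebra
  let _ : Algebra B' C' := ψ.toAlgebra
  let _ : Algebra A' C' := (ψ.comp φ).toAlgebra
  have : IsScalarTower A' B' C' := IsScalarTower.of_algebraMap_eq fun _ => rfl
  let _ : Algebra B' B := πB.toAlgebra
  let _ : Algebra C' C := πC.toAlgebra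
  let _ : Algebra B C := β.toAlgebra
  let _ : Algebra B' C := (πC.comp ψ).toAlgebra
  have : IsScalarTower B' C' C := IsScalarTower.of_algebraMap_eq fun _ => rfl
  have : IsScalarTower B' B C := IsScalarTower.of_algebraMap_eq fun r => congr($hcomm r)
  have : Module.Flat A' C' := hflat
  have : Module.Flat B C := hβ
  let J : Ideal B' := RingHom.ker (algebraMap B' B)
  have hJ : J = I.map (algebraMap A' B') := hkB
  have hJnil : IsNilpotent J := by
    obtain ⟨n, hn⟩ := hI
    refine ⟨n, ?_⟩
    rw [hJ, ← Ideal.map_pow, hn, Ideal.zero_eq_bot, Ideal.map_bot]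
    rfl
  have hJI : RingHom.ker (algebraMap C' C) = J.map (algebraMap B' C') := by
    rw [hJ, Ideal.map_map]
    exact hkC
  have h1 : Function.Injective (I.subtype.rTensor C') :=
    Module.Flat.rTensor_preserves_injective_linearMap _ I.injective_subtype
  have h2 : Function.Injective ((I.map (algebraMap A' B')).subtype.rTensor C') :=
    LocalFlat.map_subtype_rTensor_injective (S := B') I C' h1
  have hinj : Function.Injective (J.subtype.baseChange C') := by
    rw [LinearMap.baseChange_eq_ltensor, LinearMap.lTensor_inj_iff_rTensor_inj]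
    rw [hJ]
    exact h2
  exact LocalFlat.flat_of_surjective_of_isNilpotent (A' := B') (A := B) (B' := C') (B := C) hB hC
    hJI hJnil hinj

end Groth.Agent.Lib.Helper18.NilBase
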