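import Mathlib
import Groth.Agent.Lib.Helper18.NilBaseRing
import Groth.Agent.Lib.Helper18.RelSmoothFiberScheme

universe u

open AlgebraicGeometry CategoryTheory Limits TensorProduct

namespace Groth.Agent.Lib.Helper18.NilBase

open Groth.Agent.Lib.Helper18.RelSmoothFiber

/-- A nilpotent ideal sheaf is uniformly nilpotent on affine opens. -/
theorem isNilpotent_ideal_of_isNilpotent {S' : Scheme.{u}} (I : S'.IdealSheafData)
    (hn : IsNilpotent I) (U : S'.affineOpens) : IsNilpotent (I.ideal U) := by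
  obtain ⟨n, hn⟩ := hn
  refine ⟨n, ?_⟩
  have := congr(($hn).ideal U)
  rw [Scheme.IdealSheafData.ideal_pow] at this
  exact this

/-- Ring-level: categorical pushout square with one leg surjective. -/
theorem surjective_and_ker_of_isPushout_cat {A' B' A B : CommRingCat.{u}} {φ : A' ⟶ B'}
    {γ : A' ⟶ A} {α : B' ⟶ B} {β : A ⟶ B} (hPO : IsPushout φ γ α β)
    (hs : Function.Surjective γ.hom) :
    Function.Surjective α.hom ∧ RingHom.ker α.hom = (RingHom.ker γ.hom).map φ.hom := by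
  let _ : Algebra A' B' := φ.hom.toAlgebra
  let _ : Algebra A' A := γ.hom.toAlgebra
  let _ : Algebra B' B := α.hom.toAlgebra
  let _ : Algebra A B := β.hom.toAlgebra
  let _ : Algebra A' B := (α.hom.comp φ.hom).toAlgebra
  have : IsScalarTower A' B' B := IsScalarTower.of_algebraMap_eq fun _ => rfl
  have : IsScalarTower A' A B := IsScalarTower.of_algebraMap_eq fun r => congr($(hPO.w).hom r)
  have : Algebra.IsPushout A' B' A B := CommRingCat.isPushout_iff_isPushout.mp hPO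
  exact surjective_and_ker_of_isPushout A' B' A B hs

/-- Chart of a cartesian square over a closed immersion `iS : S ⟶ S'` of the base: for affine
opens `U' ⊆ S'`, `V' ⊆ X'` with `V' ≤ f'⁻¹ U'`, the open `W = iX⁻¹ V'` is affine, and
`Γ(X', V') → Γ(X, W)` is surjective with kernel generated by the kernel of
`Γ(S', U') → Γ(S, iS⁻¹ U')`. -/
theorem chart_thickening {X X' S S' : Scheme.{u}} {iX : X ⟶ X'} {iS : S ⟶ S'} {f : X ⟶ S}
    {f' : X' ⟶ S'} [IsClosedImmersion iS] (hc : IsPullback iX f f' iS) {U' : S'.Opens}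
    {V' : X'.Opens} (hU' : IsAffineOpen U') (hV' : IsAffineOpen V') (hVU : V' ≤ f' ⁻¹ᵁ U') :
    ∃ (hWU : iX ⁻¹ᵁ V' ≤ f ⁻¹ᵁ (iS ⁻¹ᵁ U')),
      IsAffineOpen (iS ⁻¹ᵁ U') ∧ IsAffineOpen (iX ⁻¹ᵁ V') ∧
      IsPushout (f'.appLE U' V' hVU) (iS.app U') (iX.app V') (f.appLE (iS ⁻¹ᵁ U') (iX ⁻¹ᵁ V') hWU) ∧
      Function.Surjective (iS.app U').hom ∧
      Function.Surjective (iX.app V').hom ∧
      RingHom.ker (iX.app V').hom =
        (RingHom.ker (iS.app U').hom).map (f'.appLE U' V' hVU).hom := by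
  have hUS : IsAffineOpen (iS ⁻¹ᵁ U') := hU'.preimage iS
  obtain ⟨hW, hPO⟩ := chart_of_isPullback hc hU' hV' hUS hVU le_rfl
  have hWU : iX ⁻¹ᵁ V' ≤ f ⁻¹ᵁ (iS ⁻¹ᵁ U') := by
    intro x hx
    have h1 : f' (iX x) ∈ U' := hVU hx
    have h2 : f' (iX x) = iS (f x) := by
      rw [← Scheme.Hom.comp_apply, ← Scheme.Hom.comp_apply, hc.w]
    rw [h2] at h1
    exact h1
  have hWeq : iX ⁻¹ᵁ V' ⊓ f ⁻¹ᵁ (iS ⁻¹ᵁ U') = iX ⁻¹ᵁ V' := inf_eq_left.mpr hWU
  have hsurj : Function.Surjective (iS.app U').hom := iS.app_surjective U' hU'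
  have aux : ∀ (W : X.Opens) (hWeq : W = iX ⁻¹ᵁ V') (hW : IsAffineOpen W) (p1 : W ≤ iX ⁻¹ᵁ V')
      (p2 : W ≤ f ⁻¹ᵁ (iS ⁻¹ᵁ U')),
      IsPushout (f'.appLE U' V' hVU) (iS.appLE U' (iS ⁻¹ᵁ U') le_rfl) (iX.appLE V' W p1)
        (f.appLE (iS ⁻¹ᵁ U') W p2) →
      IsAffineOpen (iX ⁻¹ᵁ V') ∧ IsPushout (f'.appLE U' V' hVU) (iS.app U') (iX.app V')
        (f.appLE (iS ⁻¹ᵁ U') (iX ⁻¹ᵁ V') hWU) := by
    rintro W rfl hW p1 p2 h
    rw [Scheme.Hom.appLE_eq_app, Scheme.Hom.appLE_eq_app] at h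
    exact ⟨hW, h⟩
  obtain ⟨hW', hPO'⟩ := aux _ hWeq hW _ _ hPO
  refine ⟨hWU, hUS, hW', ?_⟩
  obtain ⟨h1, h2⟩ := surjective_and_ker_of_isPushout_cat hPO' hsurj
  exact ⟨hPO', hsurj, h1, h2⟩

end Groth.Agent.Lib.Helper18.NilBase

namespace Groth.Agent.Lib.Helper18.NilBase

open Groth.Agent.Lib.Helper18.RelSmoothFiber

/-- Locally of finite type lifts along a nilpotent thickening of the base. -/
theorem locallyOfFiniteType_of_thickening_base {X X' S S' : Scheme.{u}} {iX : X ⟶ X'}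
    {iS : S ⟶ S'} {f : X ⟶ S} {f' : X' ⟶ S'} [IsClosedImmersion iS] (hn : IsNilpotent iS.ker)
    (hc : IsPullback iX f f' iS) [LocallyOfFiniteType f] : LocallyOfFiniteType f' := by
  rw [HasRingHomProperty.iff_appLE (P := @LocallyOfFiniteType)]
  intro U' V' e
  obtain ⟨hWU, hUS, hW, hPO, hs, hsX, hker⟩ := chart_thickening hc U'.2 V'.2 e
  have hft := f.finiteType_appLE hUS hW hWU
  have hnil : IsNilpotent (RingHom.ker (iS.app U'.1).hom) := by
    have := isNilpotent_ideal_of_isNilpotent _ hn U'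
    rwa [Scheme.Hom.ker_apply] at this
  refine finiteType_of_comp_surjective_nilpotent_base _ _ hsX _ hnil hker ?_
  have hw : (iX.app V'.1).hom.comp (f'.appLE U'.1 V'.1 e).hom =
      (f.appLE (iS ⁻¹ᵁ U'.1) (iX ⁻¹ᵁ V'.1) hWU).hom.comp (iS.app U'.1).hom := by
    rw [← CommRingCat.hom_comp, ← CommRingCat.hom_comp, hPO.w]
  rw [hw]
  exact hft.comp (RingHom.FiniteType.of_surjective _ hs)

end Groth.Agent.Lib.Helper18.NilBase
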