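import Mathlib
import Groth.Agent.Lib.Helper18.NilBaseScheme
import Groth.Agent.Lib.Helper18.NilBaseFlat

universe u

open AlgebraicGeometry CategoryTheory Limits TensorProduct

namespace Groth.Agent.Lib.Helper18.NilBase

theorem stableUnderCompositionWithLocalizationAwaySource_flat :
    RingHom.StableUnderCompositionWithLocalizationAwaySource RingHom.Flat :=
  fun _ S _ _ _ _ _ r _ _ hf => RingHom.Flat.comp (RingHom.Flat.holdsForLocalizationAway S r) hf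

/-- Local charts adapted to a tower `X' ⟶ Y' ⟶ S'` around a point of `X'`. -/
theorem exists_affine_tower {X' Y' S' : Scheme.{u}} (f' : X' ⟶ Y') (g' : Y' ⟶ S') (x' : X') :
    ∃ (T' : S'.Opens) (U' : Y'.Opens) (V' : X'.Opens), IsAffineOpen T' ∧ IsAffineOpen U' ∧
      IsAffineOpen V' ∧ x' ∈ V' ∧ V' ≤ f' ⁻¹ᵁ U' ∧ U' ≤ g' ⁻¹ᵁ T' := by
  obtain ⟨_, ⟨T', hT', rfl⟩, hxT, -⟩ := S'.isBasis_affineOpens.exists_subset_of_mem_open
    (Set.mem_univ (g' (f' x'))) isOpen_univ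
  obtain ⟨_, ⟨U', hU', rfl⟩, hxU, hUT⟩ := Y'.isBasis_affineOpens.exists_subset_of_mem_open
    (a := f' x') hxT (T'.2.preimage g'.continuous)
  obtain ⟨_, ⟨V', hV', rfl⟩, hxV, hVU⟩ := X'.isBasis_affineOpens.exists_subset_of_mem_open
    (a := x') hxU (U'.2.preimage f'.continuous)
  exact ⟨T', U', V', hT', hU', hV', hxV, hVU, hUT⟩

/-- The data of compatible charts for a base change of a tower along a closed immersion. -/
theorem chart_tower {X X' Y Y' S S' : Scheme.{u}} {iX : X ⟶ X'} {iY : Y ⟶ Y'}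
    {iS : S ⟶ S'} {f : X ⟶ Y} {f' : X' ⟶ Y'} {g : Y ⟶ S} {g' : Y' ⟶ S'} [IsClosedImmersion iS]
    (hcX : IsPullback iX (f ≫ g) (f' ≫ g') iS) (hcY : IsPullback iY g g' iS)
    (w : iX ≫ f' = f ≫ iY) {T' : S'.Opens} {U' : Y'.Opens} {V' : X'.Opens}
    (hT' : IsAffineOpen T') (hU' : IsAffineOpen U') (hV' : IsAffineOpen V')
    (hVU : V' ≤ f' ⁻¹ᵁ U') (hUT : U' ≤ g' ⁻¹ᵁ T') :
    ∃ (hXY : iX ⁻¹ᵁ V' ≤ f ⁻¹ᵁ (iY ⁻¹ᵁ U')),
      IsAffineOpen (iY ⁻¹ᵁ U') ∧ IsAffineOpen (iX ⁻¹ᵁ V') ∧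
      (iX.app V').hom.comp (f'.appLE U' V' hVU).hom =
        (f.appLE (iY ⁻¹ᵁ U') (iX ⁻¹ᵁ V') hXY).hom.comp (iY.app U').hom ∧
      Function.Surjective (iS.app T').hom ∧
      Function.Surjective (iY.app U').hom ∧
      RingHom.ker (iY.app U').hom =
        (RingHom.ker (iS.app T').hom).map (g'.appLE T' U' hUT).hom ∧
      Function.Surjective (iX.app V').hom ∧
      RingHom.ker (iX.app V').hom = (RingHom.ker (iS.app T').hom).map
        ((f'.appLE U' V' hVU).hom.comp (g'.appLE T' U' hUT).hom) := by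
  have hVT : V' ≤ (f' ≫ g') ⁻¹ᵁ T' := fun x hx => hUT (hVU hx)
  obtain ⟨hWU_Y, hTS, hWY, hPOY, hsS, hsY, hkerY⟩ := chart_thickening hcY hT' hU' hUT
  obtain ⟨hWU_X, _, hWX, hPOX, _, hsX, hkerX⟩ := chart_thickening hcX hT' hV' hVT
  have hXY : iX ⁻¹ᵁ V' ≤ f ⁻¹ᵁ (iY ⁻¹ᵁ U') := by
    intro x hx
    have h1 : f' (iX x) ∈ U' := hVU hx
    have h2 : f' (iX x) = iY (f x) := by
      rw [← Scheme.Hom.comp_apply, ← Scheme.Hom.comp_apply, w]
    rw [h2] at h1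
    exact h1
  refine ⟨hXY, hWY, hWX, ?_, hsS, hsY, hkerY, hsX, ?_⟩
  · rw [← CommRingCat.hom_comp, ← CommRingCat.hom_comp]
    congr 1
    rw [Scheme.Hom.app_eq_appLE, Scheme.Hom.appLE_comp_appLE, ← Scheme.Hom.comp_appLE]
    have : ∀ (h₁ h₂ : X ⟶ Y') (e1) (e2) (_ : h₁ = h₂),
        h₁.appLE U' (iX ⁻¹ᵁ V') e1 = h₂.appLE U' (iX ⁻¹ᵁ V') e2 := by
      rintro h₁ h₂ e1 e2 rfl; rfl
    exact this _ _ _ _ w
  · rw [← CommRingCat.hom_comp, Scheme.Hom.appLE_comp_appLE]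
    exact hkerX

/-- Flatness lifts along a nilpotent thickening of the base (relative version). -/
theorem flat_of_thickening_base_scheme {X X' Y Y' S S' : Scheme.{u}} {iX : X ⟶ X'} {iY : Y ⟶ Y'}
    {iS : S ⟶ S'} {f : X ⟶ Y} {f' : X' ⟶ Y'} {g : Y ⟶ S} {g' : Y' ⟶ S'} [IsClosedImmersion iS]
    (hn : IsNilpotent iS.ker)
    (hcX : IsPullback iX (f ≫ g) (f' ≫ g') iS) (hcY : IsPullback iY g g' iS)
    (w : iX ≫ f' = f ≫ iY) [Flat (f' ≫ g')] [Flat f] : Flat f' := by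
  rw [HasRingHomProperty.iff_exists_appLE (P := @Flat)
    stableUnderCompositionWithLocalizationAwaySource_flat]
  intro x'
  obtain ⟨T', U', V', hT', hU', hV', hxV, hVU, hUT⟩ := exists_affine_tower f' g' x'
  refine ⟨⟨U', hU'⟩, ⟨V', hV'⟩, hxV, hVU, ?_⟩
  obtain ⟨hXY, hWY, hWX, hcomm, hsS, hsY, hkerY, hsX, hkerX⟩ :=
    chart_tower hcX hcY w hT' hU' hV' hVU hUT
  have hβ := f.flat_appLE hWY hWX hXY
  have hVT : V' ≤ (f' ≫ g') ⁻¹ᵁ T' := fun x hx => hUT (hVU hx)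
  have hfl := (f' ≫ g').flat_appLE hT' hV' hVT
  have hnil : IsNilpotent (RingHom.ker (iS.app T').hom) := by
    have := isNilpotent_ideal_of_isNilpotent _ hn ⟨T', hT'⟩
    rwa [Scheme.Hom.ker_apply] at this
  refine flat_of_thickening_base (g'.appLE T' U' hUT).hom (f'.appLE U' V' hVU).hom
    (iY.app U').hom (iX.app V').hom (f.appLE _ _ hXY).hom hcomm _ hnil hsY hkerY hsX hkerX ?_ hβ
  rw [← CommRingCat.hom_comp, Scheme.Hom.appLE_comp_appLE]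
  exact hfl

end Groth.Agent.Lib.Helper18.NilBase
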