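import Mathlib
import Groth.Agent.Lib.Helper18.NilBaseFlatScheme
import Groth.Agent.Lib.Helper18.NilBaseFP

universe u

open AlgebraicGeometry CategoryTheory Limits TensorProduct

namespace Groth.Agent.Lib.Helper18.NilBase

/-- Locally of finite presentation lifts along a nilpotent thickening of the base (relative
version, source flat over the base). -/
theorem locallyOfFinitePresentation_of_thickening_base_scheme {X X' Y Y' S S' : Scheme.{u}}
    {iX : X ⟶ X'} {iY : Y ⟶ Y'}
    {iS : S ⟶ S'} {f : X ⟶ Y} {f' : X' ⟶ Y'} {g : Y ⟶ S} {g' : Y' ⟶ S'} [IsClosedImmersion iS]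
    (hn : IsNilpotent iS.ker)
    (hcX : IsPullback iX (f ≫ g) (f' ≫ g') iS) (hcY : IsPullback iY g g' iS)
    (w : iX ≫ f' = f ≫ iY) [Flat (f' ≫ g')] [LocallyOfFinitePresentation f] :
    LocallyOfFinitePresentation f' := by
  rw [HasRingHomProperty.iff_exists_appLE (P := @LocallyOfFinitePresentation)
    (RingHom.finitePresentation_stableUnderComposition.stableUnderCompositionWithLocalizationAway
      RingHom.finitePresentation_holdsForLocalizationAway).left]
  intro x'
  obtain ⟨T', U', V', hT', hU', hV', hxV, hVU, hUT⟩ := exists_affine_tower f' g' x'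
  refine ⟨⟨U', hU'⟩, ⟨V', hV'⟩, hxV, hVU, ?_⟩
  obtain ⟨hXY, hWY, hWX, hcomm, hsS, hsY, hkerY, hsX, hkerX⟩ :=
    chart_tower hcX hcY w hT' hU' hV' hVU hUT
  have hβ := f.finitePresentation_appLE hWY hWX hXY
  have hVT : V' ≤ (f' ≫ g') ⁻¹ᵁ T' := fun x hx => hUT (hVU hx)
  have hfl := (f' ≫ g').flat_appLE hT' hV' hVT
  have hnil : IsNilpotent (RingHom.ker (iS.app T').hom) := by
    have := isNilpotent_ideal_of_isNilpotent _ hn ⟨T', hT'⟩
    rwa [Scheme.Hom.ker_apply] at this
  refine finitePresentation_of_thickening_base (g'.appLE T' U' hUT).hom (f'.appLE U' V' hVU).hom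
    (iY.app U').hom (iX.app V').hom (f.appLE _ _ hXY).hom hcomm _ hnil hsY hkerY hsX hkerX ?_ hβ
  rw [← CommRingCat.hom_comp, Scheme.Hom.appLE_comp_appLE]
  exact hfl

end Groth.Agent.Lib.Helper18.NilBase
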