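import Mathlib
import Groth.Agent.Lib.Helper18.ThickeningFiber
import Groth.Agent.Lib.Helper18.FiberUnram
import Groth.Agent.Lib.Helper18.NilBaseFPScheme

universe u

open AlgebraicGeometry CategoryTheory Limits

namespace Groth.Agent.Lib.Helper18.NilBase

open Groth.Agent.Lib.Helper18.RelSmoothFiber Groth.Agent.Lib.Helper18.SmoothFiber

/-- Fibre criterion for smoothness: flat, locally of finite presentation, with smooth fibres. -/
theorem smooth_of_flat_of_fiber {X Y : Scheme.{u}} (f : X ⟶ Y) [LocallyOfFinitePresentation f]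
    [Flat f] (H : ∀ y : Y, Smooth (f.fiberToSpecResidueField y)) : Smooth f := by
  rw [← Scheme.Hom.smoothLocus_eq_top_iff, ← top_le_iff]
  rintro x -
  have key : ∀ (y : Y) (x' : f.fiber y), (f.stalkMap (f.fiberι y x')).hom.FormallySmooth := by
    intro y x'
    have HP : IsPullback (f.fiberι y) (f.fiberToSpecResidueField y) f
        (Y.fromSpecResidueField y) := IsPullback.of_hasPullback _ _
    have := H y
    exact formallySmooth_stalk_of_isPullback_field HP x' (Flat.stalkMap f _)
      ((Scheme.Hom.smoothLocus_eq_top (f.fiberToSpecResidueField y)).ge (Set.mem_univ x'))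
  have h := key (f x) (f.asFiber x)
  rw [f.fiberι_asFiber x] at h
  exact h

/-- The fibres of `f'` inherit every base-change-stable property of the restriction of `f'` to a
thickening of the target. -/
theorem fiber_of_thickening (P : MorphismProperty Scheme.{u}) [P.IsStableUnderBaseChange]
    {X X' Y Y' : Scheme.{u}} {iX : X ⟶ X'} {iY : Y ⟶ Y'}
    {f : X ⟶ Y} {f' : X' ⟶ Y'} [IsClosedImmersion iY] [Surjective iY]
    (H : IsPullback iX f f' iY) (hf : P f) (y' : Y') : P (f'.fiberToSpecResidueField y') := by
  obtain ⟨θ, hθ⟩ := exists_factor_of_isReduced iY (Y'.fromSpecResidueField y')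
  exact snd_of_factor P H hf _ θ hθ

/-- The base change of a thickening is a thickening. -/
theorem thickening_of_isPullback {Y Y' S S' : Scheme.{u}} {iY : Y ⟶ Y'} {iS : S ⟶ S'} {g : Y ⟶ S}
    {g' : Y' ⟶ S'} [IsClosedImmersion iS] [Surjective iS] (hcY : IsPullback iY g g' iS) :
    IsClosedImmersion iY ∧ Surjective iY :=
  ⟨MorphismProperty.of_isPullback hcY.flip inferInstance,
    MorphismProperty.of_isPullback (P := @Surjective) hcY.flip inferInstance⟩

/-- Smoothness lifts along a nilpotent thickening of the base. -/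
theorem smooth_of_thickening_base_scheme {X X' Y Y' S S' : Scheme.{u}}
    {iX : X ⟶ X'} {iY : Y ⟶ Y'}
    {iS : S ⟶ S'} {f : X ⟶ Y} {f' : X' ⟶ Y'} {g : Y ⟶ S} {g' : Y' ⟶ S'} [IsClosedImmersion iS]
    [Surjective iS] (hn : IsNilpotent iS.ker)
    (hcX : IsPullback iX (f ≫ g) (f' ≫ g') iS) (hcY : IsPullback iY g g' iS)
    (w : iX ≫ f' = f ≫ iY) [Flat (f' ≫ g')] [Smooth f] : Smooth f' := by
  have H : IsPullback iX f f' iY := IsPullback.of_bot hcX w hcY
  have := locallyOfFinitePresentation_of_thickening_base_scheme hn hcX hcY w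
  have := flat_of_thickening_base_scheme hn hcX hcY w
  obtain ⟨_, _⟩ := thickening_of_isPullback hcY
  exact smooth_of_flat_of_fiber f' fun y' => fiber_of_thickening @Smooth H inferInstance y'

/-- Étaleness lifts along a nilpotent thickening of the base. -/
theorem etale_of_thickening_base_scheme {X X' Y Y' S S' : Scheme.{u}}
    {iX : X ⟶ X'} {iY : Y ⟶ Y'}
    {iS : S ⟶ S'} {f : X ⟶ Y} {f' : X' ⟶ Y'} {g : Y ⟶ S} {g' : Y' ⟶ S'} [IsClosedImmersion iS]
    [Surjective iS] (hn : IsNilpotent iS.ker)
    (hcX : IsPullback iX (f ≫ g) (f' ≫ g') iS) (hcY : IsPullback iY g g' iS)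
    (w : iX ≫ f' = f ≫ iY) [Flat (f' ≫ g')] [Etale f] : Etale f' := by
  have H : IsPullback iX f f' iY := IsPullback.of_bot hcX w hcY
  have hfp : LocallyOfFinitePresentation f := inferInstance
  have hfl : Flat f := inferInstance
  have hun : FormallyUnramified f := inferInstance
  have := locallyOfFinitePresentation_of_thickening_base_scheme hn hcX hcY w
  have := flat_of_thickening_base_scheme hn hcX hcY w
  obtain ⟨_, _⟩ := thickening_of_isPullback hcY
  have : FormallyUnramified f' := FiberUnram.formallyUnramified_of_fibers f' fun y' =>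
    fiber_of_thickening @FormallyUnramified H hun y'
  exact Etale.of_formallyUnramified_of_flat f'

end Groth.Agent.Lib.Helper18.NilBase
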