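import Mathlib
import Groth.Agent.Lib.Helper18.DegCalc
import Groth.Agent.Lib.Lead.DimOneAffine
import Groth.Agent.S1571
import Groth.Agent.Lib.Helper16.FLFTensor
import Groth.Agent.Lib.Helper9.CurveTwist
import Groth.Agent.Lib.Helper17.ZeroDim

/-!
# Effective Cartier divisors on proper schemes of dimension `≤ 1` (helper18)

* `isClosed_singleton_of_mem_support`: on a Noetherian scheme of dimension `≤ 1`, points of an effective Cartier
  divisor are closed points.
* `isFinLocFreeOfRank_tensor`, `isFinLocFreeOfRank_one_of_isInvertible`.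
* `isAffine_subscheme_of_finite`: a closed subscheme supported on finitely many closed points is affine.
* `euler_tensor_of_open`: `χ(F ⊗ E) = n h⁰(F)` for punctual `F` (open-set form of S1558).
* `deg_tensor_effCartier` (= S1604): `deg(E ⊗ O(D)) = n h⁰(O_D) + deg E`.
-/

set_option autoImplicit false
set_option linter.style.haveILetI false
universe u
open CategoryTheory CategoryTheory.Limits AlgebraicGeometry Opposite TopologicalSpace Module
open Scheme.Modules

namespace Groth.Agent.Lib.Helper18.EffCartierCurve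

open Groth.Agent.Lib.Lead.ModTensor Groth.Agent.Lib.Helper18.Punctual

variable {X : Scheme.{u}}

/-- on a Noetherian scheme of dimension `≤ 1`, the points of an effective Cartier divisor are closed -/
theorem isClosed_singleton_of_mem_support [IsNoetherian X] (hdim : topologicalKrullDim X ≤ 1)
    (D : X.IdealSheafData) (hD : BlowUp.IsEffCartierIdeal D) (x : X)
    (hx : x ∈ (D.support : Set X)) : IsClosed ({x} : Set X) := by
  refine Groth.Agent.Lib.Lead.DimOneAffine.isClosed_singleton_of_dim_le_one X hdim x ?_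
  intro hgen
  obtain ⟨o, ho, hne, hsub⟩ :=
    NoetherianSpace.exists_isOpen_nonempty_subset_irreducibleComponent _ hgen
  obtain ⟨haff, hdom⟩ := Groth.Agent.S1571.result X D hD
  haveI := haff
  haveI := hdom
  have hdense : DenseRange (Scheme.Opens.ι (X := X) D.support.compl) :=
    (isDominant_iff _).mp inferInstance
  obtain ⟨z, hz⟩ := hdense.exists_mem_open ho hne
  have hy1 : (Scheme.Opens.ι (X := X) D.support.compl) z ∈ (D.support : Set X) := by
    have : closure ({x} : Set X) ⊆ (D.support : Set X) :=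
      D.support.isClosed.closure_subset_iff.mpr (Set.singleton_subset_iff.mpr hx)
    exact this (hsub hz)
  exact z.2 hy1

theorem isFinLocFreeOfRank_tensor {W V : X.Modules} {n m : ℕ}
    (hW : FlatMod.IsFinLocFreeOfRank n W) (hV : FlatMod.IsFinLocFreeOfRank m V) :
    FlatMod.IsFinLocFreeOfRank (n * m) (CohB1.tensorMod W V) := by
  intro x
  obtain ⟨U1, hx1, ⟨i1⟩⟩ := hW x
  obtain ⟨U2, hx2, ⟨i2⟩⟩ := hV x
  obtain ⟨j1⟩ := Groth.Agent.Lib.helper16.FLF.restrict_iso_freeMod_of_le W
    (inf_le_left : U1 ⊓ U2 ≤ U1) n i1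
  obtain ⟨j2⟩ := Groth.Agent.Lib.helper16.FLF.restrict_iso_freeMod_of_le V
    (inf_le_right : U1 ⊓ U2 ≤ U2) m i2
  obtain ⟨j3⟩ := Groth.Agent.Lib.helper16.FLFTensor.tensor_free (X := (U1 ⊓ U2 : X.Opens)) n m
  refine ⟨U1 ⊓ U2, ⟨hx1, hx2⟩, ⟨?_⟩⟩
  exact Groth.Agent.Lib.helper12.TensorRestrict.restrictTensorIso (U1 ⊓ U2).ι W V ≪≫
    tensorIso j1 j2 ≪≫ j3

theorem isFinLocFreeOfRank_one_of_isInvertible {L : X.Modules} (hL : PicF.IsInvertible L) :
    FlatMod.IsFinLocFreeOfRank 1 L := by
  intro x
  obtain ⟨U, hxU, ⟨e⟩⟩ := hL x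
  exact ⟨U, hxU, ⟨e ≪≫ (Groth.Agent.Lib.helper16.FLF.freeModOneIso (↑U : Scheme.{u})).symm⟩⟩

/-- a closed subscheme whose support consists of finitely many closed points is affine -/
theorem isAffine_subscheme_of_finite (D : X.IdealSheafData)
    (hfin : (D.support : Set X).Finite) (hcl : ∀ x ∈ (D.support : Set X), IsClosed ({x} : Set X)) :
    IsAffine D.subscheme := by
  have hinj : Function.Injective D.subschemeι := D.subschemeι.isClosedEmbedding.injective
  have hrange : ∀ z : D.subscheme, D.subschemeι z ∈ (D.support : Set X) := fun z => by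
    rw [← D.range_subschemeι]
    exact ⟨z, rfl⟩
  haveI : Finite D.subscheme := by
    haveI : Finite (D.support : Set X) := hfin
    exact Finite.of_injective (fun z : D.subscheme => (⟨D.subschemeι z, hrange z⟩ : (D.support : Set X)))
      (fun a b h => hinj (congrArg Subtype.val h))
  haveI : T1Space D.subscheme := ⟨fun z => by
    have h1 : ({z} : Set D.subscheme) = D.subschemeι ⁻¹' {D.subschemeι z} := by
      ext w
      simp only [Set.mem_singleton_iff, Set.mem_preimage]
      exact ⟨fun h => by rw [h], fun h => hinj h⟩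
    rw [h1]
    exact (hcl _ (hrange z)).preimage D.subschemeι.continuous⟩
  haveI : DiscreteTopology D.subscheme := inferInstance
  have hdim : topologicalKrullDim D.subscheme ≤ 0 :=
    topologicalKrullDim_zero_of_discreteTopology D.subscheme
  haveI : QuasiSeparatedSpace D.subscheme := inferInstance
  have := Groth.Agent.Lib.helper17.isAffineOpen_of_isCompact hdim (⊤ : D.subscheme.Opens)
    isCompact_univ
  haveI : IsAffine (↑(⊤ : D.subscheme.Opens) : Scheme.{u}) := this
  exact IsAffine.of_isIso (Scheme.topIso D.subscheme).inv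

section Curve

variable (k : Type u) [Field k] (X : Scheme.{u}) [X.Over (Spec (CommRingCat.of k))]
  [IsProper (X ↘ (Spec (CommRingCat.of k)))]

/-- `χ(F ⊗ E) = n χ(F) = n h⁰(F)` for a module without sections off a finite set of closed points -/
theorem euler_tensor_of_open (F : X.Modules) (hF : Coh.IsCoh F) (W : X.Opens)
    (hFW : ∀ P : X.Opens, P ≤ W → Subsingleton Γ(F, P))
    (hfin : ((W : Set X)ᶜ).Finite) (hcl : ∀ x, x ∉ W → IsClosed ({x} : Set X))
    (n : ℕ) (E : X.Modules) (hE : FlatMod.IsFinLocFreeOfRank n E) :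
    Curv2.euler k X (CohB1.tensorMod F E) = n * (finrank k (Coh.HH X F 0) : ℤ) := by
  haveI := Groth.Agent.Lib.Lead.CurveEuler.isNoetherian k X
  have h2 := euler_eq_finrank_H0 k (CohB1.tensorMod F E) W
    (fun P hP => subsingleton_sections_tensor F E P (fun Q hQ => hFW Q (hQ.trans hP))) hcl
  obtain ⟨θ⟩ := nonempty_sections_tensor_equiv F E n hE W hFW hfin hcl
  have h3 := Groth.Agent.Lib.helper9.CurveTwist.finrank_H0_eq_of_sections_equiv k _ _ θ
  have h4 := Groth.Agent.Lib.helper9.CurveTwist.finrank_HH_eq_of_iso k (tensorFreeIso F n) 0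
  have h5 := finrank_HH_sigma k X F hF n 0
  rw [h2, h3, h4, h5]
  push_cast
  ring

/-- **S1604** (degree part): `deg(E ⊗ O(D)) = n h⁰(O_D) + deg E` -/
theorem deg_tensor_effCartier (hdim : topologicalKrullDim X ≤ 1)
    (D : X.IdealSheafData) (hD : BlowUp.IsEffCartierIdeal D)
    (L : X.Modules) (hL : PicF.IsInvertible L) (hLD : ClSub.IsInverseOf L (ClSub.idealMod D))
    (n : ℕ) (E : X.Modules) (hE : FlatMod.IsFinLocFreeOfRank n E) :
    Curv2.deg k X (CohB1.tensorMod E L) n =
      n * Module.finrank k (Coh.HH X (ClSub.quotMod D) 0) + Curv2.deg k X E n := by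
  haveI := Groth.Agent.Lib.Lead.CurveEuler.isNoetherian k X
  let W : X.Opens := D.support.compl
  have hmem : ∀ x, x ∉ W → x ∈ (D.support : Set X) := fun x hx => by
    by_contra h
    exact hx h
  have hcl : ∀ x, x ∉ W → IsClosed ({x} : Set X) := fun x hx =>
    isClosed_singleton_of_mem_support hdim D hD x (hmem x hx)
  have hfin : ((W : Set X)ᶜ).Finite :=
    Groth.Agent.Lib.helper9.CurveTwist.finite_of_forall_isClosed_singleton _
      W.isOpen.isClosed_compl (fun x hx => hcl x hx)
  have hQW : ∀ P : X.Opens, P ≤ W → Subsingleton Γ(ClSub.quotMod D, P) := fun P hP =>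
    Groth.Agent.Lib.helper11.TwistH1.subsingleton_quotMod_of_disjoint D P
      (Set.disjoint_left.mpr fun x hxP hxD => hP hxP hxD)
  have hM : FlatMod.IsFinLocFreeOfRank n (CohB1.tensorMod E L) := by
    have := isFinLocFreeOfRank_tensor hE (isFinLocFreeOfRank_one_of_isInvertible hL)
    rwa [mul_one] at this
  have hOc : Coh.IsCoh (Coh.structureModule X) :=
    Groth.Agent.Lib.helper8.Dev.isCoh_structureModule X
  have hQc : Coh.IsCoh (ClSub.quotMod D) :=
    Groth.Agent.Lib.helper8.Dev.isCoh_push_structureModule D.subschemeι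
  have hIc : Coh.IsCoh (ClSub.idealMod D) :=
    Groth.Agent.Lib.helper7.CohKer.isCoh_kernel hOc hQc (ClSub.toSubscheme D)
  have hS := Groth.Agent.Lib.helper7.IdealMod.idealSeq_shortExact D
  have h1 := Groth.Agent.Lib.Helper18.DegCalc.euler_tensor_additive k X
    (Groth.Agent.Lib.helper7.IdealMod.idealSeq D) hS hIc hQc hM
  change Curv2.euler k X (CohB1.tensorMod (Coh.structureModule X) (CohB1.tensorMod E L)) =
    Curv2.euler k X (CohB1.tensorMod (ClSub.idealMod D) (CohB1.tensorMod E L)) +
      Curv2.euler k X (CohB1.tensorMod (ClSub.quotMod D) (CohB1.tensorMod E L)) at h1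
  have h2 : Curv2.euler k X (CohB1.tensorMod (Coh.structureModule X) (CohB1.tensorMod E L)) =
      Curv2.euler k X (CohB1.tensorMod E L) :=
    Groth.Agent.Lib.Lead.CurveEuler.euler_eq_of_iso k X (leftUnitor _)
  have h3 := euler_tensor_of_open k X (ClSub.quotMod D) hQc W hQW hfin hcl n _ hM
  obtain ⟨eLD⟩ := hLD
  have h4 : Curv2.euler k X (CohB1.tensorMod (ClSub.idealMod D) (CohB1.tensorMod E L)) =
      Curv2.euler k X E :=
    Groth.Agent.Lib.Lead.CurveEuler.euler_eq_of_iso k X
      (braid _ _ ≪≫ assoc E L (ClSub.idealMod D) ≪≫ tensorIso (Iso.refl E) eLD ≪≫ rightUnitor E)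
  unfold Curv2.deg
  rw [← h2, h1, h3, h4]
  ring

end Curve

end Groth.Agent.Lib.Helper18.EffCartierCurve
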