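import Mathlib
import Groth.Agent.S0843
import Groth.Agent.S0844
import Groth.Agent.Lib.Helper28.TwistPn
import Groth.Agent.Lib.Helper18.HHPush
import Groth.Agent.Lib.Helper11.PullUnit
import Groth.Agent.Lib.Helper9.CurveTwist
import Groth.Agent.Lib.Helper12.ProjUP3
import Groth.Agent.Lib.Helper11.IsoLocus

set_option autoImplicit false
set_option linter.style.haveILetI false
universe u
open CategoryTheory CategoryTheory.Limits AlgebraicGeometry Opposite TopologicalSpace Module
open Scheme.Modules

namespace Groth.Agent.Lib.Helper18.P1Euler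

open Groth.Agent.Lib.Helper18

/-- isomorphic modules have equivalent cohomology -/
noncomputable def hhEquivOfIso {X : Scheme.{u}} {F G : X.Modules} (e : F ≅ G) (i : ℕ) :
    Coh.HH X F i ≃ Coh.HH X G i where
  toFun := HH.map e.hom i
  invFun := HH.map e.inv i
  left_inv x := by
    rw [← HH.map_comp_apply, e.hom_inv_id, HH.map_id]
    rfl
  right_inv x := by
    rw [← HH.map_comp_apply, e.inv_hom_id, HH.map_id]
    rfl

variable (k : Type u) [Field k]

/-- `h⁰(P^n_k, O) = 1` -/
theorem finrank_H0_projSpace (n : ℕ) :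
    finrank k (Coh.HH (CohB1.ProjSpace n k) (Coh.structureModule (CohB1.ProjSpace n k)) 0) = 1 := by
  rw [Groth.Agent.Lib.helper9.CurveTwist.finrank_HH_eq_of_iso k
    (Groth.Agent.Lib.helper28.TwistPn.zeroIso n k) 0]
  obtain ⟨e⟩ := Groth.Agent.S0843.result k n 0
  have h := e.finrank_eq
  rw [Nat.cast_zero] at h
  rw [h, MvPolynomial.homogeneousSubmodule_zero, Submodule.one_eq_span]
  exact finrank_span_singleton (K := k) (one_ne_zero (α := MvPolynomial (Fin (n + 1)) k))

/-- `H^q(P^n_k, O) = 0` for `q ≥ 1` -/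
theorem subsingleton_HH_projSpace (n q : ℕ) (hq : 1 ≤ q) :
    Subsingleton (Coh.HH (CohB1.ProjSpace n k) (Coh.structureModule (CohB1.ProjSpace n k)) q) := by
  have h := Groth.Agent.S0844.result k n 0 q (by omega) (by
    rintro ⟨-, h⟩
    have : (0 : ℤ) ≤ (n : ℤ) := Int.natCast_nonneg n
    linarith)
  exact (hhEquivOfIso (Groth.Agent.Lib.helper28.TwistPn.zeroIso n k) q).subsingleton

/-- cohomology of the structure sheaf is invariant under isomorphisms of `k`-schemes -/
theorem finrank_HH_structureModule_of_isIso {X P : Scheme.{u}} [X.Over (Spec (CommRingCat.of k))]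
    [P.Over (Spec (CommRingCat.of k))] (f : X ⟶ P) [IsIso f] [f.IsOver (Spec (CommRingCat.of k))]
    (p : ℕ) :
    finrank k (Coh.HH X (Coh.structureModule X) p) =
      finrank k (Coh.HH P (Coh.structureModule P) p) := by
  haveI : (Coh.structureModule X).IsQuasicoherent := inferInstance
  haveI := Groth.Agent.Lib.helper11.PullUnit.isIso_unitToPush f (fun U => by
    haveI : IsIso (f.app U) := inferInstance
    exact (ConcreteCategory.isIso_iff_bijective (f.app U)).mp inferInstance)
  rw [← HH.finrank_push f (Coh.structureModule X) k p]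
  exact (Groth.Agent.Lib.helper9.CurveTwist.finrank_HH_eq_of_iso k
    (asIso (Groth.Agent.Lib.helper11.InvPullback.unitToPush f)) p).symm

theorem subsingleton_HH_structureModule_of_isIso {X P : Scheme.{u}} (f : X ⟶ P) [IsIso f]
    (p : ℕ) (h : Subsingleton (Coh.HH P (Coh.structureModule P) p)) :
    Subsingleton (Coh.HH X (Coh.structureModule X) p) := by
  haveI : (Coh.structureModule X).IsQuasicoherent := inferInstance
  haveI := Groth.Agent.Lib.helper11.PullUnit.isIso_unitToPush f (fun U => by
    haveI : IsIso (f.app U) := inferInstance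
    exact (ConcreteCategory.isIso_iff_bijective (f.app U)).mp inferInstance)
  rw [HH.subsingleton_iff_push f]
  exact (hhEquivOfIso (asIso (Groth.Agent.Lib.helper11.InvPullback.unitToPush f)) p).symm.subsingleton

/-- a `k`-rational point of `P¹_k` -/
theorem exists_ratPoint_projSpace_one :
    ∃ r : Spec (CommRingCat.of k) ⟶ CohB1.ProjSpace 1 k, r ≫ CohB1.ProjSpace.toSpec 1 k = 𝟙 _ := by
  let σ : Fin (1 + 1) → (Coh.structureModule (Spec (CommRingCat.of k)) ⟶
      Coh.structureModule (Spec (CommRingCat.of k))) := fun i => if i = 0 then 𝟙 _ else 0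
  have hcov : ⨆ i, Groth.Agent.Lib.helper12.ProjUP3.gU σ i = ⊤ := by
    rw [eq_top_iff]
    refine le_trans ?_ (le_iSup _ (0 : Fin (1 + 1)))
    have h1 : Groth.Agent.Lib.helper12.ProjUP3.gU σ 0 = ⊤ := by
      unfold Groth.Agent.Lib.helper12.ProjUP3.gU
      rw [Groth.Agent.Lib.helper11.IsoLocus.genLocus_eq_top_iff]
      simp only [σ, if_true]
      infer_instance
    rw [h1]
  obtain ⟨r, hr⟩ := Groth.Agent.Lib.helper12.ProjUP3.exists_toProj (𝟙 (Spec (CommRingCat.of k))) σ hcov
  exact ⟨r, Groth.Agent.Lib.helper12.ProjUP3.toProj_toSpec (𝟙 (Spec (CommRingCat.of k))) σ hcov r hr⟩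

end Groth.Agent.Lib.Helper18.P1Euler
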