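import Mathlib
import Groth.Agent.Lib.Helper9.CurveGG
import Groth.Agent.Lib.Helper4.ClosureProper

set_option autoImplicit false
set_option linter.style.haveILetI false
universe u
open CategoryTheory CategoryTheory.Limits AlgebraicGeometry Opposite TopologicalSpace Module
open Scheme.Modules

namespace Groth.Agent.Lib.Helper18.CurvePt

open Groth.Agent.Lib.Helper18 

section point

variable (k : Type u) [Field k] [IsAlgClosed k] (X : Scheme.{u}) [X.Over (Spec (CommRingCat.of k))]
  [IsProper (X ↘ Spec (CommRingCat.of k))]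

theorem isIntegral_subscheme_point {y : X} (hy : IsClosed ({y} : Set X)) :
    IsIntegral (Scheme.IdealSheafData.vanishingIdeal ⟨{y}, hy⟩).subscheme := by
  set Z := Scheme.IdealSheafData.vanishingIdeal ⟨{y}, hy⟩ with hZdef
  haveI := Groth.Agent.Lib.helper4.ClosureProper.isReduced_subscheme_vanishingIdeal
    (⟨{y}, hy⟩ : Closeds X)
  haveI : IrreducibleSpace Z.subscheme := by
    have h1 : IrreducibleSpace ↥((Z.support : Closeds X) : Set X) := by
      rw [Scheme.IdealSheafData.coe_support_vanishingIdeal]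
      exact Subtype.irreducibleSpace isIrreducible_singleton
    exact h1
  exact isIntegral_of_irreducibleSpace_of_isReduced _

/-- `h⁰(O_y) = 1` for a closed point over an algebraically closed field -/
theorem finrank_H0_quotMod_point {y : X} (hy : IsClosed ({y} : Set X)) :
    finrank k (Coh.HH X (ClSub.quotMod (Scheme.IdealSheafData.vanishingIdeal ⟨{y}, hy⟩)) 0) = 1 := by
  set Z := Scheme.IdealSheafData.vanishingIdeal ⟨{y}, hy⟩ with hZdef
  haveI := Groth.Agent.Lib.Lead.CurveEuler.isNoetherian k X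
  haveI := isIntegral_subscheme_point X hy
  have hQc : Coh.IsCoh (ClSub.quotMod Z) :=
    Groth.Agent.Lib.helper8.Dev.isCoh_push_structureModule Z.subschemeι
  haveI : Module.Finite k (Coh.HH X (ClSub.quotMod Z) 0) :=
    Groth.Agent.Lib.Lead.ProperEuler.finite_HH k X _ hQc 0
  have hsupp : ((Z.support : Closeds X) : Set X) = {y} :=
    Scheme.IdealSheafData.coe_support_vanishingIdeal _
  have hyr : y ∈ Set.range Z.subschemeι := by
    rw [Z.range_subschemeι, hsupp]
    rfl
  obtain ⟨z, hz⟩ := hyr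
  haveI : Nonempty (Z.subschemeι ⁻¹ᵁ (⊤ : X.Opens)) := ⟨⟨z, trivial⟩⟩
  haveI hdom : IsDomain Γ(Z.subscheme, Z.subschemeι ⁻¹ᵁ (⊤ : X.Opens)) :=
    IsIntegral.component_integral (X := Z.subscheme) (Z.subschemeι ⁻¹ᵁ (⊤ : X.Opens))
  let R : Type u := Γ(Z.subscheme, Z.subschemeι ⁻¹ᵁ (⊤ : X.Opens))
  letI : CommRing R := inferInstanceAs (CommRing Γ(Z.subscheme, Z.subschemeι ⁻¹ᵁ (⊤ : X.Opens)))
  haveI : IsDomain R := hdom
  letI modR : Module k R := HH.sectionsModuleOver k (ClSub.quotMod Z)
  letI : Algebra k R := Algebra.ofModule (fun a x y => by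
      show ((Z.subschemeι.app ⊤).hom (Coh.toGlobal (X ↘ Spec (CommRingCat.of k)) a) * x) * y =
        (Z.subschemeι.app ⊤).hom (Coh.toGlobal (X ↘ Spec (CommRingCat.of k)) a) * (x * y)
      exact mul_assoc _ _ _) (fun a x y => by
      show x * ((Z.subschemeι.app ⊤).hom (Coh.toGlobal (X ↘ Spec (CommRingCat.of k)) a) * y) =
        (Z.subschemeι.app ⊤).hom (Coh.toGlobal (X ↘ Spec (CommRingCat.of k)) a) * (x * y)
      exact mul_left_comm _ _ _)
  let e : Coh.HH X (ClSub.quotMod Z) 0 ≃ₗ[k] R := HH.equiv₀Over k (ClSub.quotMod Z)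
  have hfin : @Module.Finite k R _ _ modR := Module.Finite.equiv e
  haveI : @Module.Finite k R _ _ Algebra.toModule := hfin
  haveI : Algebra.IsIntegral k R := Algebra.IsIntegral.of_finite k R
  have hbij : Function.Bijective (algebraMap k R) := IsAlgClosed.algebraMap_bijective_of_isIntegral
  have e2 : k ≃ₗ[k] R := LinearEquiv.ofBijective (Algebra.linearMap k R) hbij
  rw [e.finrank_eq, ← e2.finrank_eq, finrank_self]

end point

end Groth.Agent.Lib.Helper18.CurvePt
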