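import Mathlib
import Groth.Agent.Lib.Helper18.CurvePt

set_option autoImplicit false
set_option linter.style.haveILetI false
universe u
open CategoryTheory CategoryTheory.Limits AlgebraicGeometry Opposite TopologicalSpace Module
open Scheme.Modules

namespace Groth.Agent.Lib.Helper18.CurvePt

open Groth.Agent.Lib.Helper18 Groth.Agent.Lib.helper11.IsoLocus Groth.Agent.Lib.helper11.InvMod
open Groth.Agent.Lib.Lead.ModTensor Groth.Agent.Lib.helper9.CurvePunctual
open Groth.Agent.Lib.helper9.CurveVanish Groth.Agent.Lib.helper9.CurveTwist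
open Groth.Agent.Lib.helper7 Groth.Agent.Lib.helper11.TwistH1
open Groth.Agent.Lib.Helper20.SplitH1

section twist

variable (k : Type u) [Field k] (X : Scheme.{u}) [X.Over (Spec (CommRingCat.of k))]
  [IsProper (X ↘ Spec (CommRingCat.of k))] [IsIntegral X]

/-- the inclusion `I_Z ⊗ L ⟶ L` -/
noncomputable def twistι (Z : X.IdealSheafData) (L : X.Modules) :
    CohB1.tensorMod (ClSub.idealMod Z) L ⟶ L :=
  tensorMap (ClSub.idealModι Z) (𝟙 L) ≫ (leftUnitor L).hom

/-- **Twisting down by a closed point not in the base locus**: `h⁰` drops by one and `h¹` is unchanged. -/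
theorem twist_down (hdim : topologicalKrullDim X ≤ 1) {L : X.Modules} (hL : PicF.IsInvertible L)
    (s : Coh.structureModule X ⟶ L) {y : X} (hy : IsClosed ({y} : Set X)) (hys : y ∈ isoLocus s)
    (h1 : finrank k (Coh.HH X (ClSub.quotMod (Scheme.IdealSheafData.vanishingIdeal ⟨{y}, hy⟩)) 0) = 1) :
    finrank k (Coh.HH X (CohB1.tensorMod
        (ClSub.idealMod (Scheme.IdealSheafData.vanishingIdeal ⟨{y}, hy⟩)) L) 0) + 1 =
      finrank k (Coh.HH X L 0) ∧
    finrank k (Coh.HH X (CohB1.tensorMod
        (ClSub.idealMod (Scheme.IdealSheafData.vanishingIdeal ⟨{y}, hy⟩)) L) 1) =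
      finrank k (Coh.HH X L 1) := by
  haveI := Groth.Agent.Lib.Lead.CurveEuler.isNoetherian k X
  set Z := Scheme.IdealSheafData.vanishingIdeal ⟨{y}, hy⟩ with hZdef
  have hZ : topologicalKrullDim (Z.support : Set X) ≤ 0 :=
    Groth.Agent.Lib.helper9.CurveGG.dim_support_vanishingIdeal_le X hy
  obtain ⟨hFc, heul, -⟩ := idealTwist_main k X hdim L hL Z hZ
  set F := CohB1.tensorMod (ClSub.idealMod Z) L with hFdef
  let ι : ClSub.idealMod Z ⟶ Coh.structureModule X := ClSub.idealModι Z
  let φ : F ⟶ CohB1.tensorMod (Coh.structureModule X) L := tensorMap ι (𝟙 L)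
  haveI : Mono ι := IdealMod.mono_idealModι Z
  haveI hφmono : Mono φ := mono_tensorMap_left ι hL
  let lam : CohB1.tensorMod (Coh.structureModule X) L ≅ L := leftUnitor L
  let j : F ⟶ L := φ ≫ lam.hom
  haveI : Mono j := mono_comp φ lam.hom
  have hsupp : ((Z.support : Closeds X) : Set X) = {y} :=
    Scheme.IdealSheafData.coe_support_vanishingIdeal _
  let W : X.Opens := ⟨((Z.support : Closeds X) : Set X)ᶜ, Z.support.isClosed.isOpen_compl⟩
  have hWι : W ≤ isoLocus ι :=
    le_isoLocus_kernel_ι (ClSub.toSubscheme Z) W (fun V hV =>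
      subsingleton_quotMod_of_disjoint Z V (Set.disjoint_left.mpr fun x hxV hxZ => hV hxV hxZ))
  have hWφ : W ≤ isoLocus φ := hWι.trans (isoLocus_le_tensorMap ι L hL)
  have hjφ : isoLocus j = isoLocus φ := isoLocus_comp_of_isIso_right φ lam.hom
  have hWj : W ≤ isoLocus j := hjφ ▸ hWφ
  have hcl : ∀ x, x ∉ W → IsClosed ({x} : Set X) := fun x hx => by
    have hx' : x ∈ ((Z.support : Closeds X) : Set X) := by
      by_contra h
      exact hx h
    rw [hsupp] at hx'
    rw [Set.mem_singleton_iff.mp hx']
    exact hy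
  have hLc := Groth.Agent.Lib.Lead.CurveInv.isCoh_of_isInvertible X hL
  have hS : (ShortComplex.mk j (cokernel.π j) (cokernel.condition j)).ShortExact :=
    { exact := ShortComplex.exact_cokernel j
      mono_f := inferInstance
      epi_g := inferInstanceAs (Epi (cokernel.π j)) }
  -- `H¹(j)` is surjective
  have h3 : Subsingleton (Coh.HH X (cokernel j) 1) :=
    Groth.Agent.Lib.Lead.DimOneVanish.subsingleton_HH_of_sections_vanish (cokernel j) W hcl
      (fun P hP => ⟨fun a b => (eq_zero_of_le_isoLocus j (hP.trans hWj) a).trans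
        (eq_zero_of_le_isoLocus j (hP.trans hWj) b).symm⟩) 0
  have hsurj1 := HH.surjective_map_f hS 1 h3
  have hinj0 := HH.injective_map_f_zero hS
  -- `H⁰(j)` is not surjective
  have hnsurj0 : ¬ Function.Surjective (HH.map j 0) := by
    intro hsurj
    let x : Coh.HH X L 0 := (HH.equiv₀ L).symm ((s.val.app (op ⊤)).hom (1 : X.ringCatSheaf.obj.obj (op ⊤)))
    obtain ⟨x', hx'⟩ := hsurj x
    let s' : Coh.structureModule X ⟶ F := secHom F x'
    have hfac : s' ≫ j = s := by
      apply hom_ext_top
      change (j.val.app (op ⊤)).hom (((secHom F x').val.app (op ⊤)).hom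
        (1 : X.ringCatSheaf.obj.obj (op ⊤))) = _
      rw [secHom_top, ← HH.equiv₀_naturality, hx', LinearEquiv.apply_symm_apply]
    -- `j` is an isomorphism on `isoLocus s`
    have hU : isoLocus s ≤ isoLocus j := by
      rw [le_isoLocus_iff]
      set U := isoLocus s with hUdef
      haveI : Mono ((restrictFunctor U.ι).map j) := mono_restrict j U
      haveI hcomp : IsIso ((restrictFunctor U.ι).map s' ≫ (restrictFunctor U.ι).map j) := by
        rw [← Functor.map_comp, hfac]
        exact isIso_restrict_isoLocus s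
      haveI := isIso_of_isIso_comp_mono ((restrictFunctor U.ι).map s') ((restrictFunctor U.ι).map j)
      exact IsIso.of_isIso_comp_left ((restrictFunctor U.ι).map s') ((restrictFunctor U.ι).map j)
    have htop : isoLocus j = ⊤ := by
      rw [eq_top_iff]
      intro x _
      by_cases hx : x ∈ W
      · exact hWj hx
      · have hx' : x ∈ ((Z.support : Closeds X) : Set X) := by
          by_contra h
          exact hx h
        rw [hsupp] at hx'
        rw [Set.mem_singleton_iff.mp hx']
        exact hU hys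
    haveI : IsIso j := (isoLocus_eq_top_iff j).mp htop
    have e1 : Curv2.euler k X F = Curv2.euler k X L :=
      Groth.Agent.Lib.Lead.CurveEuler.euler_eq_of_iso k X (asIso j)
    rw [e1, h1] at heul
    push_cast at heul
    omega
  -- numerics
  have hFq : F.IsQuasicoherent := hFc.1
  have e1 := Groth.Agent.Lib.Lead.CurveEuler.euler_eq k X hdim F hFc.1
  have e2 := Groth.Agent.Lib.Lead.CurveEuler.euler_eq k X hdim L hLc.1
  haveI : Module.Finite k (Coh.HH X F 0) := Groth.Agent.Lib.Lead.ProperEuler.finite_HH k X _ hFc 0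
  haveI : Module.Finite k (Coh.HH X F 1) := Groth.Agent.Lib.Lead.ProperEuler.finite_HH k X _ hFc 1
  haveI : Module.Finite k (Coh.HH X L 0) := Groth.Agent.Lib.Lead.ProperEuler.finite_HH k X _ hLc 0
  haveI : Module.Finite k (Coh.HH X L 1) := Groth.Agent.Lib.Lead.ProperEuler.finite_HH k X _ hLc 1
  have hle0 : finrank k (Coh.HH X F 0) ≤ finrank k (Coh.HH X L 0) :=
    LinearMap.finrank_le_finrank_of_injective (f := HH.mapOver k j 0) hinj0
  have hne0 : finrank k (Coh.HH X F 0) ≠ finrank k (Coh.HH X L 0) := by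
    intro heq
    exact hnsurj0 ((LinearMap.injective_iff_surjective_of_finrank_eq_finrank
      (f := HH.mapOver k j 0) heq).mp hinj0)
  have hge1 : finrank k (Coh.HH X L 1) ≤ finrank k (Coh.HH X F 1) :=
    LinearMap.finrank_le_finrank_of_surjective (f := HH.mapOver k j 1) hsurj1
  rw [e1, e2, h1] at heul
  push_cast at heul
  constructor <;> omega

end twist

end Groth.Agent.Lib.Helper18.CurvePt
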