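import Mathlib
import Groth.Prelude.Def_BlowUp2

set_option autoImplicit false
universe u
open CategoryTheory CategoryTheory.Limits AlgebraicGeometry TopologicalSpace Opposite

namespace Groth.Agent.Lib.Helper18.RegPoint

/-- spreading out a local generator of a finitely generated prime ideal -/
theorem exists_notMem_mul_mem_span {R : Type*} [CommRing R] (p : Ideal R) [p.IsPrime] (hfg : p.FG)
    (S : Type*) [CommRing S] [Algebra R S] [IsLocalization.AtPrime S p] (a : R)
    (h : Ideal.map (algebraMap R S) p ≤ Ideal.span {algebraMap R S a}) :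
    ∃ h : R, h ∉ p ∧ ∀ x ∈ p, h * x ∈ Ideal.span {a} := by
  classical
  obtain ⟨s, hs⟩ := hfg
  have key : ∀ f ∈ p, ∃ u : R, u ∉ p ∧ u * f ∈ Ideal.span {a} := by
    intro f hf
    have h1 : algebraMap R S f ∈ Ideal.map (algebraMap R S) (Ideal.span {a}) := by
      rw [Ideal.map_span, Set.image_singleton]
      exact h (Ideal.mem_map_of_mem _ hf)
    rw [IsLocalization.mem_map_algebraMap_iff p.primeCompl] at h1
    obtain ⟨⟨i, m⟩, h2⟩ := h1
    rw [← map_mul, IsLocalization.eq_iff_exists p.primeCompl] at h2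
    obtain ⟨c, hc⟩ := h2
    refine ⟨c * m, ?_, ?_⟩
    · exact (c * m).2
    · have : (c : R) * (m : R) * f = c * (i : R) := by
        rw [← hc]; ring
      rw [this]
      exact Ideal.mul_mem_left _ _ i.2
  choose! u hu1 hu2 using key
  refine ⟨∏ f ∈ s, u f, ?_, ?_⟩
  · intro hmem
    rw [Ideal.IsPrime.prod_mem_iff] at hmem
    obtain ⟨f, hf, hmem⟩ := hmem
    have hfp : f ∈ p := by
      rw [← hs]; exact Submodule.subset_span hf
    exact hu1 f hfp hmem
  · intro x hx
    rw [← hs] at hx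
    induction hx using Submodule.span_induction with
    | mem f hf =>
      have hfp : f ∈ p := by
        rw [← hs]; exact Submodule.subset_span hf
      rw [← Finset.mul_prod_erase s u hf]
      have : (u f * ∏ x ∈ s.erase f, u x) * f = (∏ x ∈ s.erase f, u x) * (u f * f) := by ring
      rw [this]
      exact Ideal.mul_mem_left _ _ (hu2 f hfp)
    | zero => simp
    | add x y _ _ hx hy =>
      rw [mul_add]; exact Ideal.add_mem _ hx hy
    | smul r x _ hx =>
      rw [smul_eq_mul, mul_left_comm]; exact Ideal.mul_mem_left _ _ hx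

/-- after inverting `h`, the ideal becomes principal -/
theorem map_eq_span_of_mul_mem {R : Type*} [CommRing R] (p : Ideal R) (a h : R) (ha : a ∈ p)
    (hh : ∀ x ∈ p, h * x ∈ Ideal.span {a})
    {T : Type*} [CommRing T] (φ : R →+* T) (hu : IsUnit (φ h)) :
    Ideal.map φ p = Ideal.span {φ a} := by
  apply le_antisymm
  · rw [Ideal.map_le_iff_le_comap]
    intro x hx
    rw [Ideal.mem_comap]
    have h1 := hh x hx
    rw [Ideal.mem_span_singleton'] at h1
    obtain ⟨c, hc⟩ := h1
    have h2 : φ h * φ x ∈ Ideal.span {φ a} := by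
      rw [← map_mul, ← hc, map_mul]
      exact Ideal.mul_mem_left _ _ (Ideal.mem_span_singleton_self _)
    exact (Ideal.unit_mul_mem_iff_mem _ hu).mp h2
  · rw [Ideal.span_le, Set.singleton_subset_iff]
    exact Ideal.mem_map_of_mem _ ha

variable {X : Scheme.{u}}

/-- the ideal of the reduced point on an affine open containing it -/
theorem vanishingIdeal_singleton_ideal_of_mem {x : X} (hx : IsClosed ({x} : Set X))
    (U : X.affineOpens) (hxU : x ∈ U.1) :
    (Scheme.IdealSheafData.vanishingIdeal ⟨{x}, hx⟩).ideal U = (U.2.primeIdealOf ⟨x, hxU⟩).asIdeal := by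
  rw [Scheme.IdealSheafData.vanishingIdeal_ideal]
  have hU : IsAffineOpen U.1 := U.2
  have h1 : (hU.fromSpec ⁻¹' ((⟨{x}, hx⟩ : Closeds X) : Set X)) = {hU.primeIdealOf ⟨x, hxU⟩} := by
    ext q
    simp only [Closeds.coe_mk, Set.mem_preimage, Set.mem_singleton_iff]
    constructor
    · intro h
      apply hU.fromSpec.isOpenEmbedding.injective
      rw [h, hU.fromSpec_primeIdealOf ⟨x, hxU⟩]
    · intro h
      rw [h, hU.fromSpec_primeIdealOf ⟨x, hxU⟩]
  exact (congrArg PrimeSpectrum.vanishingIdeal h1).trans (PrimeSpectrum.vanishingIdeal_singleton _)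

theorem vanishingIdeal_singleton_ideal_of_notMem {x : X} (hx : IsClosed ({x} : Set X))
    (U : X.affineOpens) (hxU : x ∉ U.1) :
    (Scheme.IdealSheafData.vanishingIdeal ⟨{x}, hx⟩).ideal U = ⊤ := by
  rw [Scheme.IdealSheafData.vanishingIdeal_ideal]
  have hU : IsAffineOpen U.1 := U.2
  have h1 : (hU.fromSpec ⁻¹' ((⟨{x}, hx⟩ : Closeds X) : Set X)) = ∅ := by
    ext q
    simp only [Closeds.coe_mk, Set.mem_preimage, Set.mem_singleton_iff, Set.mem_empty_iff_false,
      iff_false]
    intro h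
    apply hxU
    rw [← h]
    exact hU.range_fromSpec.subset ⟨q, rfl⟩
  exact (congrArg PrimeSpectrum.vanishingIdeal h1).trans PrimeSpectrum.vanishingIdeal_empty

/-- **A closed point with principal maximal ideal is an effective Cartier divisor** -/
theorem isEffCartier_vanishingIdeal_singleton [IsIntegral X] [IsLocallyNoetherian X] {x : X}
    (hx : IsClosed ({x} : Set X)) (t : X.presheaf.stalk x) (ht0 : t ≠ 0)
    (ht : IsLocalRing.maximalIdeal (X.presheaf.stalk x) = Ideal.span {t}) :
    BlowUp.IsEffCartierIdeal (Scheme.IdealSheafData.vanishingIdeal ⟨{x}, hx⟩) := by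
  intro y
  by_cases hy : y = x
  · subst hy
    obtain ⟨U, hU, hyU, -⟩ := exists_isAffineOpen_mem_and_subset (x := y) (U := ⊤) trivial
    let U' : X.affineOpens := ⟨U, hU⟩
    set 𝔭 := hU.primeIdealOf ⟨y, hyU⟩ with h𝔭
    let _ := X.presheaf.algebra_section_stalk ⟨y, hyU⟩
    haveI : IsLocalization.AtPrime (X.presheaf.stalk y) 𝔭.asIdeal := hU.isLocalization_stalk ⟨y, hyU⟩
    haveI : IsNoetherianRing Γ(X, U) := IsLocallyNoetherian.component_noetherian U'
    haveI : Nonempty U := ⟨⟨y, hyU⟩⟩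
    haveI : IsDomain Γ(X, U) := inferInstance
    obtain ⟨a, s, hts⟩ := IsLocalization.exists_mk'_eq 𝔭.asIdeal.primeCompl t
    have hmax : Ideal.map (algebraMap Γ(X, U) (X.presheaf.stalk y)) 𝔭.asIdeal =
        IsLocalRing.maximalIdeal (X.presheaf.stalk y) :=
      IsLocalization.AtPrime.map_eq_maximalIdeal 𝔭.asIdeal (X.presheaf.stalk y)
    have hta : algebraMap Γ(X, U) (X.presheaf.stalk y) a = t * algebraMap Γ(X, U) (X.presheaf.stalk y) s := by
      rw [← hts, IsLocalization.mk'_spec]
    have hsu : IsUnit (algebraMap Γ(X, U) (X.presheaf.stalk y) s) :=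
      IsLocalization.map_units (X.presheaf.stalk y) s
    have ha : a ∈ 𝔭.asIdeal := by
      rw [← IsLocalization.AtPrime.to_map_mem_maximal_iff (X.presheaf.stalk y) 𝔭.asIdeal a, hta, ht]
      exact Ideal.mul_mem_right _ _ (Ideal.mem_span_singleton_self t)
    have ha0 : a ≠ 0 := by
      intro h0
      rw [h0, map_zero] at hta
      exact ht0 ((hsu.mul_left_eq_zero).mp hta.symm)
    have hle : Ideal.map (algebraMap Γ(X, U) (X.presheaf.stalk y)) 𝔭.asIdeal ≤
        Ideal.span {algebraMap Γ(X, U) (X.presheaf.stalk y) a} := by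
      rw [hmax, ht, Ideal.span_le, Set.singleton_subset_iff, SetLike.mem_coe]
      have h1 : t * algebraMap Γ(X, U) (X.presheaf.stalk y) s ∈
          Ideal.span {algebraMap Γ(X, U) (X.presheaf.stalk y) a} := by
        rw [← hta]; exact Ideal.mem_span_singleton_self _
      exact (Ideal.mul_unit_mem_iff_mem _ hsu).mp h1
    obtain ⟨h, hh1, hh2⟩ := exists_notMem_mul_mem_span 𝔭.asIdeal
      ((isNoetherianRing_iff_ideal_fg Γ(X, U)).mp inferInstance _) (X.presheaf.stalk y) a hle
    have hyh : y ∈ X.basicOpen h := by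
      have h1 : 𝔭 ∈ hU.fromSpec ⁻¹ᵁ X.basicOpen h := by
        rw [hU.fromSpec_preimage_basicOpen]
        exact hh1
      have h2 : hU.fromSpec 𝔭 = y := hU.fromSpec_primeIdealOf ⟨y, hyU⟩
      rw [← h2]
      exact h1
    let ρ := (X.presheaf.map (homOfLE (X.basicOpen_le h)).op).hom
    refine ⟨X.affineBasicOpen (U := U') h, hyh, ρ a, ?_, ?_⟩
    · haveI : Nonempty (X.basicOpen h) := ⟨⟨y, hyh⟩⟩
      haveI : IsDomain Γ(X, X.basicOpen h) := inferInstance
      have hinj : Function.Injective ρ :=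
        map_injective_of_isIntegral (X := X) (homOfLE (X.basicOpen_le h))
      have hne : ρ a ≠ 0 := fun h0 => ha0 (hinj (h0.trans (map_zero ρ).symm))
      exact (mem_nonZeroDivisors_of_ne_zero (M₀ := Γ(X, X.basicOpen h)) hne :)
    · rw [← Scheme.IdealSheafData.map_ideal_basicOpen _ U' h,
        vanishingIdeal_singleton_ideal_of_mem hx U' hyU]
      refine map_eq_span_of_mul_mem 𝔭.asIdeal a h ha hh2 ρ ?_
      exact X.toRingedSpace.isUnit_res_basicOpen h
  · obtain ⟨U, hU, hyU, hUsub⟩ := exists_isAffineOpen_mem_and_subset (x := y)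
      (U := ⟨({x} : Set X)ᶜ, hx.isOpen_compl⟩) hy
    refine ⟨⟨U, hU⟩, hyU, 1, one_mem _, ?_⟩
    rw [vanishingIdeal_singleton_ideal_of_notMem hx ⟨U, hU⟩ (fun h => hUsub h rfl)]
    rw [Ideal.span_singleton_one]

/-- the prime of a closed non-generic point is nonzero -/
theorem primeIdealOf_ne_bot [IsIntegral X] {U : X.Opens} (hU : IsAffineOpen U) {x : X} (hxU : x ∈ U)
    (hx : IsClosed ({x} : Set X)) (hne : x ≠ genericPoint X) :
    (hU.primeIdealOf ⟨x, hxU⟩).asIdeal ≠ ⊥ := by
  intro h0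
  have hηU : genericPoint X ∈ U :=
    ((genericPoint_spec X).mem_open_set_iff U.isOpen).mpr ⟨x, trivial, hxU⟩
  have h1 : hU.primeIdealOf ⟨x, hxU⟩ ≤ hU.primeIdealOf ⟨genericPoint X, hηU⟩ := by
    show (hU.primeIdealOf ⟨x, hxU⟩).asIdeal ≤ _
    rw [h0]
    exact bot_le
  have h2 : hU.primeIdealOf ⟨x, hxU⟩ ⤳ hU.primeIdealOf ⟨genericPoint X, hηU⟩ :=
    (PrimeSpectrum.le_iff_specializes _ _).mp h1
  have h3 := h2.map hU.fromSpec.continuous
  rw [hU.fromSpec_primeIdealOf, hU.fromSpec_primeIdealOf] at h3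
  have h4 : genericPoint X ∈ ({x} : Set X) := h3.mem_closed hx rfl
  exact hne h4.symm

/-- the maximal ideal of the local ring at a closed non-generic point of an integral scheme is nonzero -/
theorem maximalIdeal_stalk_ne_bot [IsIntegral X] {x : X}
    (hx : IsClosed ({x} : Set X)) (hne : x ≠ genericPoint X) :
    IsLocalRing.maximalIdeal (X.presheaf.stalk x) ≠ ⊥ := by
  obtain ⟨U, hU, hxU, -⟩ := exists_isAffineOpen_mem_and_subset (x := x) (U := ⊤) trivial
  have h1 := primeIdealOf_ne_bot hU hxU hx hne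
  set 𝔭 := hU.primeIdealOf ⟨x, hxU⟩ with h𝔭
  letI := X.presheaf.algebra_section_stalk ⟨x, hxU⟩
  haveI : IsLocalization.AtPrime (X.presheaf.stalk x) 𝔭.asIdeal := hU.isLocalization_stalk ⟨x, hxU⟩
  haveI : Nonempty U := ⟨⟨x, hxU⟩⟩
  haveI : IsDomain Γ(X, U) := inferInstance
  have hmax : Ideal.map (algebraMap Γ(X, U) (X.presheaf.stalk x)) 𝔭.asIdeal =
      IsLocalRing.maximalIdeal (X.presheaf.stalk x) :=
    IsLocalization.AtPrime.map_eq_maximalIdeal 𝔭.asIdeal (X.presheaf.stalk x)
  have hinj : Function.Injective (algebraMap Γ(X, U) (X.presheaf.stalk x)) :=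
    IsLocalization.injective (X.presheaf.stalk x) 𝔭.asIdeal.primeCompl_le_nonZeroDivisors
  intro h0
  rw [← hmax, Ideal.map_eq_bot_iff_of_injective hinj] at h0
  exact h1 h0

/-- a regular local ring of dimension `≤ 1` has principal maximal ideal -/
theorem exists_generator_of_isRegularLocalRing (R : Type*) [CommRing R] [IsRegularLocalRing R]
    (hdim : ringKrullDim R ≤ 1) :
    ∃ t : R, IsLocalRing.maximalIdeal R = Ideal.span {t} := by
  have h1 : ((IsLocalRing.maximalIdeal R).spanFinrank : WithBot ℕ∞) ≤ 1 := by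
    rw [IsRegularLocalRing.spanFinrank_maximalIdeal]; exact hdim
  have h2 : (IsLocalRing.maximalIdeal R).spanFinrank ≤ 1 := by exact_mod_cast h1
  have hfg : (IsLocalRing.maximalIdeal R).FG := (isNoetherianRing_iff_ideal_fg R).mp inferInstance _
  have h3 := Submodule.FG.generators_ncard hfg
  have hfin := Submodule.FG.finite_generators hfg
  have h4 : (IsLocalRing.maximalIdeal R).generators.ncard ≤ 1 := h3 ▸ h2
  haveI : Finite ↑(Submodule.generators (IsLocalRing.maximalIdeal R)) := hfin.to_subtype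
  rw [Set.ncard_le_one_iff_subset_singleton] at h4
  obtain ⟨t, ht⟩ := h4
  have h5 := Submodule.span_generators (IsLocalRing.maximalIdeal R)
  rcases Set.subset_singleton_iff_eq.mp ht with h | h
  · refine ⟨0, ?_⟩
    rw [← h5, h]
    simp
  · refine ⟨t, ?_⟩
    rw [← h5, h]

theorem ringKrullDim_sections_le {U : X.Opens} (hU : IsAffineOpen U) :
    ringKrullDim Γ(X, U) ≤ topologicalKrullDim X := by
  rw [← PrimeSpectrum.topologicalKrullDim_eq_ringKrullDim]
  exact hU.fromSpec.isOpenEmbedding.isInducing.topologicalKrullDim_le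

theorem ringKrullDim_stalk_le (x : X) :
    ringKrullDim (X.presheaf.stalk x) ≤ topologicalKrullDim X := by
  obtain ⟨U, hU, hxU, -⟩ := exists_isAffineOpen_mem_and_subset (x := x) (U := ⊤) trivial
  set 𝔭 := hU.primeIdealOf ⟨x, hxU⟩ with h𝔭
  letI := X.presheaf.algebra_section_stalk ⟨x, hxU⟩
  haveI : IsLocalization.AtPrime (X.presheaf.stalk x) 𝔭.asIdeal := hU.isLocalization_stalk ⟨x, hxU⟩
  rw [IsLocalization.AtPrime.ringKrullDim_eq_height 𝔭.asIdeal (X.presheaf.stalk x)]
  exact (Ideal.height_le_ringKrullDim_of_ne_top 𝔭.2.ne_top).trans (ringKrullDim_sections_le hU)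

/-- **regular closed points of an integral curve have a uniformizer** -/
theorem exists_uniformizer_of_isRegularLocalRing [IsIntegral X] (hdim : topologicalKrullDim X ≤ 1)
    {x : X} (hx : IsClosed ({x} : Set X)) (hne : x ≠ genericPoint X)
    (hreg : IsRegularLocalRing (X.presheaf.stalk x)) :
    ∃ t : X.presheaf.stalk x, t ≠ 0 ∧ IsLocalRing.maximalIdeal (X.presheaf.stalk x) = Ideal.span {t} := by
  obtain ⟨t, ht⟩ := exists_generator_of_isRegularLocalRing (X.presheaf.stalk x)
    ((ringKrullDim_stalk_le x).trans hdim)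
  refine ⟨t, ?_, ht⟩
  rintro rfl
  apply maximalIdeal_stalk_ne_bot hx hne
  rw [ht]
  simp

end Groth.Agent.Lib.Helper18.RegPoint
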