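import Mathlib
import Groth.Agent.Lib.Helper18.RegPoint
import Groth.Agent.Lib.Helper13.PIns3

/-!
# Regular closed points on integral curves over a field (helper18)

* `exists_open_uniformizer`: an integral scheme of dimension `≤ 1`, locally of finite type over a field,
  has a nonempty open `V` all of whose closed (non-generic) points have a DVR as local ring
  (we record a uniformizer).
-/

set_option autoImplicit false
set_option linter.style.haveILetI false
universe u
open CategoryTheory CategoryTheory.Limits AlgebraicGeometry TopologicalSpace Opposite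

namespace Groth.Agent.Lib.Helper18.RegPoint

open Groth.Agent.Lib.helper13.PIns

theorem exists_open_uniformizer (k : Type u) [Field k] {X : Scheme.{u}}
    (f : X ⟶ Spec (CommRingCat.of k)) [LocallyOfFiniteType f] [IsIntegral X]
    (hdim : topologicalKrullDim X ≤ 1) :
    ∃ V : X.Opens, (V : Set X).Nonempty ∧ ∀ x ∈ V, IsClosed ({x} : Set X) → x ≠ genericPoint X →
      ∃ t : X.presheaf.stalk x, t ≠ 0 ∧
        IsLocalRing.maximalIdeal (X.presheaf.stalk x) = Ideal.span {t} := by
  haveI : IsLocallyNoetherian X := LocallyOfFiniteType.isLocallyNoetherian f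
  obtain ⟨U, hU, hηU, -⟩ :=
    exists_isAffineOpen_mem_and_subset (X := X) (x := genericPoint X) (U := ⊤) trivial
  haveI hne : Nonempty U := ⟨⟨genericPoint X, hηU⟩⟩
  haveI : IsDomain Γ(X, U) := inferInstance
  obtain ⟨ρ, hρ⟩ := exists_finiteType_sections k f U hU
  letI : Algebra k Γ(X, U) := ρ.toAlgebra
  haveI : Algebra.FiniteType k Γ(X, U) := hρ
  have hN1 := isN1_of_finiteType_field k Γ(X, U)
  obtain ⟨g, hg0, hg⟩ := exists_away_isIntegrallyClosed_of_isN1.{u, u} hN1
  have hV : IsAffineOpen (X.basicOpen g) := hU.basicOpen g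
  haveI : IsLocalization.Away g Γ(X, X.basicOpen g) := hU.isLocalization_basicOpen g
  have hic : IsIntegrallyClosed Γ(X, X.basicOpen g) := hg _
  have hVne : (X.basicOpen g : Set X).Nonempty := by
    by_contra hempty
    rw [Set.not_nonempty_iff_eq_empty] at hempty
    have : X.basicOpen g = ⊥ := TopologicalSpace.Opens.ext hempty
    rw [basicOpen_eq_bot_iff] at this
    exact hg0 this
  refine ⟨X.basicOpen g, hVne, ?_⟩
  haveI : Nonempty (X.basicOpen g) := hVne.to_subtype
  haveI : IsDomain Γ(X, X.basicOpen g) := inferInstance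
  haveI : IsNoetherianRing Γ(X, X.basicOpen g) :=
    IsLocallyNoetherian.component_noetherian ⟨X.basicOpen g, hV⟩
  have hd1 : Ring.KrullDimLE 1 Γ(X, X.basicOpen g) :=
    Ring.krullDimLE_iff.mpr ((ringKrullDim_sections_le hV).trans hdim)
  haveI : Ring.DimensionLEOne Γ(X, X.basicOpen g) :=
    ⟨fun {p} hp hpp => Ring.krullDimLE_one_iff_of_noZeroDivisors.mp hd1 p hp hpp⟩
  haveI : IsDedekindDomain Γ(X, X.basicOpen g) := { }
  intro x hxV hx hxne
  have h𝔭 := primeIdealOf_ne_bot hV hxV hx hxne
  set 𝔭 := hV.primeIdealOf ⟨x, hxV⟩ with h𝔭def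
  letI := X.presheaf.algebra_section_stalk ⟨x, hxV⟩
  haveI : IsLocalization.AtPrime (X.presheaf.stalk x) 𝔭.asIdeal := hV.isLocalization_stalk ⟨x, hxV⟩
  haveI : IsDomain (X.presheaf.stalk x) := inferInstance
  haveI hdvr : IsDiscreteValuationRing (X.presheaf.stalk x) :=
    IsLocalization.AtPrime.isDiscreteValuationRing_of_dedekind_domain Γ(X, X.basicOpen g) h𝔭
      (X.presheaf.stalk x)
  obtain ⟨t, ht⟩ := IsDiscreteValuationRing.exists_irreducible (X.presheaf.stalk x)
  exact ⟨t, ht.ne_zero, ht.maximalIdeal_eq⟩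

end Groth.Agent.Lib.Helper18.RegPoint
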