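import Mathlib
import Groth.Agent.Lib.Helper18.CurvePt2
import Groth.Agent.Lib.Helper18.RegPoint2
import Groth.Agent.Lib.Helper7.IdealCartier
import Groth.Agent.Lib.Helper12.InvDual2
import Groth.Agent.Lib.Helper12.TensorInv
import Groth.Agent.Lib.Lead.VBCurve15

set_option autoImplicit false
set_option linter.style.haveILetI false
universe u
open CategoryTheory CategoryTheory.Limits AlgebraicGeometry Opposite TopologicalSpace Module
open Scheme.Modules

namespace Groth.Agent.Lib.Helper18.CurvePt

open Groth.Agent.Lib.Helper18 Groth.Agent.Lib.helper11.IsoLocus Groth.Agent.Lib.helper11.InvMod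
open Groth.Agent.Lib.Lead.ModTensor Groth.Agent.Lib.helper9.CurvePunctual
open Groth.Agent.Lib.helper9.CurveVanish Groth.Agent.Lib.helper9.CurveTwist
open Groth.Agent.Lib.helper7 Groth.Agent.Lib.helper11.TwistH1
open Groth.Agent.Lib.Helper20.SplitH1

section good

variable {X : Scheme.{u}}

/-- a closed point whose ideal sheaf is invertible -/
def GoodPt (y : X) : Prop :=
  ∃ hy : IsClosed ({y} : Set X),
    PicF.IsInvertible (ClSub.idealMod (Scheme.IdealSheafData.vanishingIdeal ⟨{y}, hy⟩))

theorem ne_genericPoint_of_isClosed [IsIntegral X] (hdim : topologicalKrullDim X = 1) {y : X}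
    (hy : IsClosed ({y} : Set X)) : y ≠ genericPoint X := by
  intro h
  have h1 : closure ({y} : Set X) = Set.univ := by
    rw [h]; exact (genericPoint_spec X).def
  rw [hy.closure_eq] at h1
  haveI : Subsingleton X := ⟨fun a b => by
    have ha : a ∈ ({y} : Set X) := h1 ▸ Set.mem_univ a
    have hb : b ∈ ({y} : Set X) := h1 ▸ Set.mem_univ b
    rw [Set.mem_singleton_iff] at ha hb
    rw [ha, hb]⟩
  have h2 : topologicalKrullDim X ≤ 0 := topologicalKrullDim_zero_of_discreteTopology X
  rw [hdim] at h2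
  exact absurd h2 (by decide)

theorem goodPt_of_uniformizer [IsIntegral X] [IsLocallyNoetherian X] {y : X}
    (hy : IsClosed ({y} : Set X)) (t : X.presheaf.stalk y) (ht0 : t ≠ 0)
    (ht : IsLocalRing.maximalIdeal (X.presheaf.stalk y) = Ideal.span {t}) : GoodPt y :=
  ⟨hy, Groth.Agent.Lib.helper7.IdealCartier.invertible_of_effCartier _
    (Groth.Agent.Lib.Helper18.RegPoint.isEffCartier_vanishingIdeal_singleton hy t ht0 ht)⟩

end good

section curve

variable (k : Type u) [Field k] [IsAlgClosed k] (X : Scheme.{u}) [X.Over (Spec (CommRingCat.of k))]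
  [IsProper (X ↘ Spec (CommRingCat.of k))] [IsIntegral X]

include k in
theorem exists_isClosed_mem (U : X.Opens) (hU : (U : Set X).Nonempty) :
    ∃ y ∈ U, IsClosed ({y} : Set X) := by
  haveI : JacobsonSpace X := LocallyOfFiniteType.jacobsonSpace (X ↘ Spec (CommRingCat.of k))
  obtain ⟨y, hyU, hy⟩ := nonempty_inter_closedPoints hU U.isOpen.isLocallyClosed
  exact ⟨y, hyU, hy⟩

include k in
/-- good points are dense in an integral proper curve over an algebraically closed field -/
theorem exists_goodPt_mem (hdim : topologicalKrullDim X = 1) (U : X.Opens)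
    (hU : (U : Set X).Nonempty) : ∃ y ∈ U, GoodPt y := by
  haveI := Groth.Agent.Lib.Lead.CurveEuler.isNoetherian k X
  obtain ⟨V, hVne, hV⟩ := Groth.Agent.Lib.Helper18.RegPoint.exists_open_uniformizer k
    (X ↘ Spec (CommRingCat.of k)) hdim.le
  have hne : ((U ⊓ V : X.Opens) : Set X).Nonempty :=
    nonempty_preirreducible_inter U.isOpen V.isOpen hU hVne
  obtain ⟨y, hyUV, hy⟩ := exists_isClosed_mem k X (U ⊓ V) hne
  obtain ⟨t, ht0, ht⟩ := hV y hyUV.2 hy (ne_genericPoint_of_isClosed hdim hy)
  exact ⟨y, hyUV.1, goodPt_of_uniformizer hy t ht0 ht⟩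

/-- **descent step**: twisting an invertible module with a nonzero section down by a good point
outside the zero locus of the section lowers `h⁰` by one and keeps `h¹` -/
theorem descend_step (hdim : topologicalKrullDim X = 1) {L : X.Modules} (hL : PicF.IsInvertible L)
    (hpos : 0 < finrank k (Coh.HH X L 0)) :
    ∃ L' : X.Modules, PicF.IsInvertible L' ∧
      finrank k (Coh.HH X L' 0) + 1 = finrank k (Coh.HH X L 0) ∧
      finrank k (Coh.HH X L' 1) = finrank k (Coh.HH X L 1) := by
  obtain ⟨s, hs⟩ := Groth.Agent.Lib.Lead.CurveSec.exists_hom_ne_zero_of_finrank_pos k X L hpos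
  have hne := Groth.Agent.Lib.Lead.CurveInv.isoLocus_nonempty X (isInvertible_structureModule X) hL s hs
  obtain ⟨y, hys, hy, hyinv⟩ := exists_goodPt_mem k X hdim (isoLocus s) hne
  exact ⟨_, Groth.Agent.Lib.helper12.TensorInv.isInvertible_tensorMod hyinv hL,
    twist_down k X hdim.le hL s hy hys (finrank_H0_quotMod_point k X hy)⟩

/-- iterating the descent step -/
theorem exists_finrank_H0_eq (hdim : topologicalKrullDim X = 1) (m d : ℕ) :
    ∀ {L : X.Modules}, PicF.IsInvertible L → finrank k (Coh.HH X L 0) = m + d →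
    ∃ L' : X.Modules, PicF.IsInvertible L' ∧ finrank k (Coh.HH X L' 0) = m ∧
      finrank k (Coh.HH X L' 1) = finrank k (Coh.HH X L 1) := by
  induction d with
  | zero => intro L hL h; exact ⟨L, hL, h, rfl⟩
  | succ d ih =>
    intro L hL h
    obtain ⟨L₁, hL₁, h0, h1⟩ := descend_step k X hdim hL (by omega)
    obtain ⟨L', hL', h0', h1'⟩ := ih hL₁ (by omega)
    exact ⟨L', hL', h0', h1'.trans h1⟩

/-- an invertible module with `H¹ = 0` and a nonzero section -/
theorem exists_start (hdim : topologicalKrullDim X = 1) :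
    ∃ M : X.Modules, PicF.IsInvertible M ∧ finrank k (Coh.HH X M 1) = 0 ∧
      0 < finrank k (Coh.HH X M 0) := by
  haveI := Groth.Agent.Lib.Lead.CurveEuler.isNoetherian k X
  have h0 := finrank_H0_structureModule_eq_one k X
  obtain ⟨y, -, hy, hyinv⟩ := exists_goodPt_mem k X hdim ⊤ ⟨genericPoint X, trivial⟩
  set Z := Scheme.IdealSheafData.vanishingIdeal ⟨{y}, hy⟩ with hZdef
  have hO := isInvertible_structureModule X
  have hZ : topologicalKrullDim (Z.support : Set X) ≤ 0 :=
    Groth.Agent.Lib.helper9.CurveGG.dim_support_vanishingIdeal_le X hy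
  -- `deg I = -1`
  obtain ⟨-, heul, -⟩ := idealTwist_main k X hdim.le (Coh.structureModule X) hO Z hZ
  rw [finrank_H0_quotMod_point k X hy] at heul
  have hdegI : Curv2.deg k X (ClSub.idealMod Z) 1 = -1 := by
    have h1 := Groth.Agent.Lib.helper9.CurveDegAdd.deg_tensorMod k X hdim.le hyinv hO
    rw [Groth.Agent.Lib.Lead.CurveEuler.deg_structureModule k X, add_zero] at h1
    rw [← h1]
    unfold Curv2.deg
    rw [heul]
    push_cast
    ring
  obtain ⟨J, hJ, -, hJI⟩ := Groth.Agent.Lib.helper12.InvDual.exists_inverse hyinv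
  have hdegJ : Curv2.deg k X J 1 = 1 := by
    have := Groth.Agent.Lib.Lead.VBCurve.deg_add_deg_of_isInverseOf k X hdim.le hyinv hJ hJI
    rw [hdegI] at this
    linarith
  set g := Curv2.genus k X with hg
  let n : ℕ := 2 * g + 1
  let M := CohB1.tensorPow J n
  have hM : PicF.IsInvertible M := Groth.Agent.Lib.helper12.TensorInv.isInvertible_tensorPow hJ n
  have hdegM : Curv2.deg k X M 1 = n := by
    rw [Groth.Agent.Lib.helper9.CurveDegAdd.deg_tensorPow k X hdim.le hJ n, hdegJ, mul_one]
  have hH1 : Subsingleton (Coh.HH X M 1) :=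
    subsingleton_H1_of_deg_ge k X hdim.le h0 hM (by rw [hdegM]; push_cast; omega)
  have hMc := Groth.Agent.Lib.Lead.CurveInv.isCoh_of_isInvertible X hM
  have hrr := Groth.Agent.Lib.Lead.CurveEuler.riemann_roch' k X hdim.le h0 M hMc.1 1
  have hH1' : finrank k (Coh.HH X M 1) = 0 := finrank_zero_of_subsingleton
  rw [hdegM, hH1'] at hrr
  push_cast at hrr
  refine ⟨M, hM, hH1', ?_⟩
  have : (0 : ℤ) < (finrank k (Coh.HH X M 0) : ℤ) := by
    have hn : (n : ℤ) = 2 * (g : ℤ) + 1 := by
      show ((2 * g + 1 : ℕ) : ℤ) = _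
      push_cast; ring
    have hg' : (Curv2.genus k X : ℤ) = (g : ℤ) := rfl
    have hgnn : (0 : ℤ) ≤ (g : ℤ) := Int.natCast_nonneg _
    rw [hg'] at hrr
    linarith
  exact_mod_cast this

end curve

end Groth.Agent.Lib.Helper18.CurvePt
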