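import Mathlib
import Groth.Agent.Lib.Helper18.CurvePt3

set_option autoImplicit false
set_option linter.style.haveILetI false
universe u
open CategoryTheory CategoryTheory.Limits AlgebraicGeometry Opposite TopologicalSpace Module
open Scheme.Modules

namespace Groth.Agent.Lib.Helper18.CurvePt

open Groth.Agent.Lib.Helper18 Groth.Agent.Lib.helper11.IsoLocus Groth.Agent.Lib.helper11.InvMod
open Groth.Agent.Lib.Lead.ModTensor Groth.Agent.Lib.helper9.CurvePunctual
open Groth.Agent.Lib.helper9.CurveVanish Groth.Agent.Lib.helper9.CurveTwist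
open Groth.Agent.Lib.helper7 Groth.Agent.Lib.helper11.TwistH1
open Groth.Agent.Lib.Helper20.SplitH1

section curve

variable (k : Type u) [Field k] (X : Scheme.{u}) [X.Over (Spec (CommRingCat.of k))]
  [IsProper (X ↘ Spec (CommRingCat.of k))] [IsIntegral X]

/-- the ideal of a good point of degree one has degree `-1` -/
theorem deg_idealMod_point (hdim : topologicalKrullDim X ≤ 1) {y : X} (hy : IsClosed ({y} : Set X))
    (hinv : PicF.IsInvertible (ClSub.idealMod (Scheme.IdealSheafData.vanishingIdeal ⟨{y}, hy⟩)))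
    (h1 : finrank k (Coh.HH X (ClSub.quotMod (Scheme.IdealSheafData.vanishingIdeal ⟨{y}, hy⟩)) 0) = 1) :
    Curv2.deg k X (ClSub.idealMod (Scheme.IdealSheafData.vanishingIdeal ⟨{y}, hy⟩)) 1 = -1 := by
  haveI := Groth.Agent.Lib.Lead.CurveEuler.isNoetherian k X
  set Z := Scheme.IdealSheafData.vanishingIdeal ⟨{y}, hy⟩ with hZdef
  have hO := isInvertible_structureModule X
  have hZ : topologicalKrullDim (Z.support : Set X) ≤ 0 :=
    Groth.Agent.Lib.helper9.CurveGG.dim_support_vanishingIdeal_le X hy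
  obtain ⟨-, heul, -⟩ := idealTwist_main k X hdim (Coh.structureModule X) hO Z hZ
  rw [h1] at heul
  have h2 := Groth.Agent.Lib.helper9.CurveDegAdd.deg_tensorMod k X hdim hinv hO
  rw [Groth.Agent.Lib.Lead.CurveEuler.deg_structureModule k X, add_zero] at h2
  rw [← h2]
  unfold Curv2.deg
  rw [heul]
  push_cast
  ring

/-- `h⁰(I_Z ⊗ L) ≤ h⁰(L)` -/
theorem finrank_H0_idealTwist_le (hdim : topologicalKrullDim X ≤ 1) {L : X.Modules}
    (hL : PicF.IsInvertible L) (Z : X.IdealSheafData)
    (hZ : topologicalKrullDim (Z.support : Set X) ≤ 0) :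
    finrank k (Coh.HH X (CohB1.tensorMod (ClSub.idealMod Z) L) 0) ≤ finrank k (Coh.HH X L 0) := by
  haveI := Groth.Agent.Lib.Lead.CurveEuler.isNoetherian k X
  obtain ⟨hFc, -, -⟩ := idealTwist_main k X hdim L hL Z hZ
  let ι : ClSub.idealMod Z ⟶ Coh.structureModule X := ClSub.idealModι Z
  let φ : CohB1.tensorMod (ClSub.idealMod Z) L ⟶ CohB1.tensorMod (Coh.structureModule X) L :=
    tensorMap ι (𝟙 L)
  haveI : Mono ι := IdealMod.mono_idealModι Z
  haveI hφmono : Mono φ := mono_tensorMap_left ι hL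
  let lam : CohB1.tensorMod (Coh.structureModule X) L ≅ L := leftUnitor L
  let j : CohB1.tensorMod (ClSub.idealMod Z) L ⟶ L := φ ≫ lam.hom
  haveI : Mono j := mono_comp φ lam.hom
  have hS : (ShortComplex.mk j (cokernel.π j) (cokernel.condition j)).ShortExact :=
    { exact := ShortComplex.exact_cokernel j
      mono_f := inferInstance
      epi_g := inferInstanceAs (Epi (cokernel.π j)) }
  have hinj0 := HH.injective_map_f_zero hS
  have hLc := Groth.Agent.Lib.Lead.CurveInv.isCoh_of_isInvertible X hL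
  haveI : Module.Finite k (Coh.HH X L 0) := Groth.Agent.Lib.Lead.ProperEuler.finite_HH k X _ hLc 0
  exact LinearMap.finrank_le_finrank_of_injective (f := HH.mapOver k j 0) hinj0

/-- a nonzero section vanishing at the closed point `y` gives a nonzero section of `I_y ⊗ L` -/
theorem finrank_H0_idealTwist_pos (hdim : topologicalKrullDim X ≤ 1) {L : X.Modules}
    (hL : PicF.IsInvertible L) (s : Coh.structureModule X ⟶ L) (hs : s ≠ 0) {y : X}
    (hy : IsClosed ({y} : Set X)) (hys : y ∉ isoLocus s) :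
    0 < finrank k (Coh.HH X (CohB1.tensorMod
      (ClSub.idealMod (Scheme.IdealSheafData.vanishingIdeal ⟨{y}, hy⟩)) L) 0) := by
  haveI := Groth.Agent.Lib.Lead.CurveEuler.isNoetherian k X
  set Z := Scheme.IdealSheafData.vanishingIdeal ⟨{y}, hy⟩ with hZdef
  have hZ : topologicalKrullDim (Z.support : Set X) ≤ 0 :=
    Groth.Agent.Lib.helper9.CurveGG.dim_support_vanishingIdeal_le X hy
  obtain ⟨hFc, -, -⟩ := idealTwist_main k X hdim L hL Z hZ
  let lam : CohB1.tensorMod (Coh.structureModule X) L ≅ L := leftUnitor L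
  let s₁ : Coh.structureModule X ⟶ CohB1.tensorMod (Coh.structureModule X) L := s ≫ lam.inv
  let x' : (CohB1.tensorMod (Coh.structureModule X) L).val.obj (op ⊤) :=
    (s₁.val.app (op ⊤)).hom (1 : X.ringCatSheaf.obj.obj (op ⊤))
  have hs₁ : homOfGlobal (CohB1.tensorMod (Coh.structureModule X) L) x' = s₁ := by
    apply hom_ext_top
    rw [homOfGlobal_top]
  have hiso : isoLocus s₁ = isoLocus s := isoLocus_comp_of_isIso_right s lam.inv
  have hx : y ∉ isoLocus (homOfGlobal (CohB1.tensorMod (Coh.structureModule X) L) x') := by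
    rw [hs₁, hiso]; exact hys
  obtain ⟨a, ha⟩ := Groth.Agent.Lib.helper9.CurveGG.exists_preimage_of_not_mem_isoLocus hL hy x' hx
  have hx0 : x' ≠ 0 := by
    intro h0
    apply hs
    have h2 : s₁ = 0 := by
      rw [← hs₁, h0]
      apply hom_ext_top
      rw [homOfGlobal_top]
      rfl
    have h3 : s = s₁ ≫ lam.hom := by
      simp [s₁]
    rw [h3, h2, zero_comp]
  have ha0 : a ≠ 0 := by
    intro h0
    apply hx0
    rw [← ha, h0, map_zero]
    rfl
  haveI : Nontrivial (Coh.HH X (CohB1.tensorMod (ClSub.idealMod Z) L) 0) := by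
    refine ⟨⟨(HH.equiv₀ _).symm a, 0, ?_⟩⟩
    intro h
    apply ha0
    have := congrArg (HH.equiv₀ (CohB1.tensorMod (ClSub.idealMod Z) L)) h
    rw [LinearEquiv.apply_symm_apply, map_zero] at this
    exact this
  haveI : Module.Finite k (Coh.HH X (CohB1.tensorMod (ClSub.idealMod Z) L) 0) :=
    Groth.Agent.Lib.Lead.ProperEuler.finite_HH k X _ hFc 0
  exact Module.finrank_pos

end curve

section algClosed

variable (k : Type u) [Field k] [IsAlgClosed k] (X : Scheme.{u}) [X.Over (Spec (CommRingCat.of k))]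
  [IsProper (X ↘ Spec (CommRingCat.of k))] [IsIntegral X]

/-- **degree descent**: if all closed points are good, an invertible module of degree `d + 1` with
`h⁰ = 1` contains an invertible submodule of degree `d` with `h⁰ = 1` -/
theorem degree_descend (hdim : topologicalKrullDim X = 1)
    (hgood : ∀ y : X, IsClosed ({y} : Set X) → GoodPt y) {L : X.Modules} (hL : PicF.IsInvertible L)
    (h0L : finrank k (Coh.HH X L 0) = 1) (d : ℕ) (hd : Curv2.deg k X L 1 = (d : ℤ) + 1) :
    ∃ L' : X.Modules, PicF.IsInvertible L' ∧ finrank k (Coh.HH X L' 0) = 1 ∧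
      Curv2.deg k X L' 1 = (d : ℤ) := by
  haveI := Groth.Agent.Lib.Lead.CurveEuler.isNoetherian k X
  obtain ⟨s, hs⟩ := Groth.Agent.Lib.Lead.CurveSec.exists_hom_ne_zero_of_finrank_pos k X L (by omega)
  have hne := Groth.Agent.Lib.Lead.CurveInv.isoLocus_nonempty X (isInvertible_structureModule X) hL s hs
  have hntop : isoLocus s ≠ ⊤ := by
    intro htop
    haveI : IsIso s := (isoLocus_eq_top_iff s).mp htop
    have h1 := Groth.Agent.Lib.Lead.CurveEuler.deg_eq_of_iso k X (asIso s) 1
    rw [Groth.Agent.Lib.Lead.CurveEuler.deg_structureModule k X, hd] at h1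
    have : (0 : ℤ) ≤ (d : ℤ) := Int.natCast_nonneg _
    omega
  obtain ⟨y, hy⟩ : ∃ y : X, y ∉ isoLocus s := by
    by_contra h
    push Not at h
    exact hntop (eq_top_iff.mpr fun x _ => h x)
  have hyc : IsClosed ({y} : Set X) :=
    Groth.Agent.Lib.Lead.CurveInv.isClosed_singleton_of_not_mem hdim.le (isoLocus s) hne y hy
  obtain ⟨hyc', hinv⟩ := hgood y hyc
  set Z := Scheme.IdealSheafData.vanishingIdeal ⟨{y}, hyc'⟩ with hZdef
  have hZ : topologicalKrullDim (Z.support : Set X) ≤ 0 :=
    Groth.Agent.Lib.helper9.CurveGG.dim_support_vanishingIdeal_le X hyc'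
  refine ⟨CohB1.tensorMod (ClSub.idealMod Z) L,
    Groth.Agent.Lib.helper12.TensorInv.isInvertible_tensorMod hinv hL, ?_, ?_⟩
  · have h1 := finrank_H0_idealTwist_le k X hdim.le hL Z hZ
    have h2 := finrank_H0_idealTwist_pos k X hdim.le hL s hs hyc' hy
    rw [h0L] at h1
    exact le_antisymm h1 h2
  · rw [Groth.Agent.Lib.helper9.CurveDegAdd.deg_tensorMod k X hdim.le hinv hL,
      deg_idealMod_point k X hdim.le hyc' hinv (finrank_H0_quotMod_point k X hyc'), hd]
    ring

/-- iterated degree descent -/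
theorem exists_deg_eq_of_le (hdim : topologicalKrullDim X = 1)
    (hgood : ∀ y : X, IsClosed ({y} : Set X) → GoodPt y) (r e : ℕ) :
    ∀ {L : X.Modules}, PicF.IsInvertible L → finrank k (Coh.HH X L 0) = 1 →
      Curv2.deg k X L 1 = ((r + e : ℕ) : ℤ) →
      ∃ L' : X.Modules, PicF.IsInvertible L' ∧ finrank k (Coh.HH X L' 0) = 1 ∧
        Curv2.deg k X L' 1 = (r : ℤ) := by
  induction e with
  | zero => intro L hL h0 hd; exact ⟨L, hL, h0, by simpa using hd⟩
  | succ e ih =>
    intro L hL h0 hd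
    obtain ⟨L₁, hL₁, h0₁, hd₁⟩ := degree_descend k X hdim hgood hL h0 (r + e) (by
      rw [hd]; push_cast; ring)
    exact ih hL₁ h0₁ hd₁

/-- an invertible module of degree `g` with `h⁰ = 1` and `h¹ = 0` -/
theorem exists_deg_genus (hdim : topologicalKrullDim X = 1) :
    ∃ L : X.Modules, PicF.IsInvertible L ∧ finrank k (Coh.HH X L 0) = 1 ∧
      Curv2.deg k X L 1 = (Curv2.genus k X : ℤ) := by
  haveI := Groth.Agent.Lib.Lead.CurveEuler.isNoetherian k X
  obtain ⟨M, hM, hM1, hM0⟩ := exists_start k X hdim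
  obtain ⟨L, hL, hL0, hL1⟩ := exists_finrank_H0_eq k X hdim 1 (finrank k (Coh.HH X M 0) - 1) hM
    (by omega)
  refine ⟨L, hL, hL0, ?_⟩
  have h0 := finrank_H0_structureModule_eq_one k X
  have hLc := Groth.Agent.Lib.Lead.CurveInv.isCoh_of_isInvertible X hL
  have hrr := Groth.Agent.Lib.Lead.CurveEuler.riemann_roch' k X hdim.le h0 L hLc.1 1
  rw [hL0, hL1, hM1] at hrr
  push_cast at hrr
  linarith

end algClosed

end Groth.Agent.Lib.Helper18.CurvePt
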