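import Mathlib
import Groth.Agent.Lib.Helper9.CurveGG2

set_option autoImplicit false
set_option linter.style.haveILetI false
universe u
open CategoryTheory CategoryTheory.Limits AlgebraicGeometry Opposite TopologicalSpace Module
open Scheme.Modules

namespace Groth.Agent.Lib.Helper18.H0One

open Groth.Agent.Lib.Helper18 Groth.Agent.Lib.helper11.InvMod Groth.Agent.Lib.Lead.CurveInv

variable (k : Type u) [Field k] (X : Scheme.{u}) [X.Over (Spec (CommRingCat.of k))]
  [IsProper (X ↘ Spec (CommRingCat.of k))] [IsIntegral X]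

/-- on an integral proper `k`-scheme, if some cohomology group of some module is one-dimensional over `k`
then `H⁰(O) = k` (the field `H⁰(O)` acts on it). -/
theorem finrank_H0_eq_one_of_finrank_HH_eq_one (M : X.Modules) (n : ℕ)
    (hg : finrank k (Coh.HH X M n) = 1) :
    finrank k (Coh.HH X (Coh.structureModule X) 0) = 1 := by
  let φ : k →+* Γ(X, ⊤) := Coh.toGlobal (X ↘ Spec (CommRingCat.of k))
  letI alg : Algebra k Γ(X, ⊤) := φ.toAlgebra
  have hOc : Coh.IsCoh (Coh.structureModule X) :=
    isCoh_of_isInvertible X (isInvertible_structureModule X)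
  haveI : Module.Finite k (Coh.HH X (Coh.structureModule X) 0) :=
    Groth.Agent.Lib.Lead.ProperEuler.finite_HH k X _ hOc 0
  let e' : Coh.HH X (Coh.structureModule X) 0 ≃ₗ[k] Γ(X, ⊤) :=
    { (HH.equiv₀ (Coh.structureModule X)).toAddEquiv with
      map_smul' := fun a x => (HH.equiv₀ (Coh.structureModule X)).map_smul (φ a) x }
  haveI : Module.Finite k Γ(X, ⊤) := Module.Finite.equiv e'
  haveI : Nonempty (⊤ : X.Opens) := ⟨⟨Classical.arbitrary X, trivial⟩⟩
  haveI : IsDomain Γ(X, ⊤) := inferInstance
  haveI : Algebra.IsIntegral k Γ(X, ⊤) := Algebra.IsIntegral.of_finite k _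
  haveI : Module.Finite k (Coh.HH X M n) := Module.finite_of_finrank_pos (by omega)
  haveI : Nontrivial (Coh.HH X M n) := by
    by_contra h
    rw [not_nontrivial_iff_subsingleton] at h
    rw [finrank_zero_of_subsingleton] at hg
    exact absurd hg (by norm_num)
  obtain ⟨v, hv⟩ := exists_ne (0 : Coh.HH X M n)
  let ψ : Γ(X, ⊤) →ₗ[k] Coh.HH X M n :=
    { toFun := fun r => (show Coh.Γtop X from r) • v
      map_add' := fun r r' => add_smul (show Coh.Γtop X from r) (show Coh.Γtop X from r') v
      map_smul' := fun a r => by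
        change (show Coh.Γtop X from (φ a * r)) • v = (show Coh.Γtop X from φ a) • ((show Coh.Γtop X from r) • v)
        exact mul_smul (show Coh.Γtop X from φ a) (show Coh.Γtop X from r) v }
  have hψ : Function.Injective ψ := by
    rw [injective_iff_map_eq_zero]
    intro r hr
    by_contra hr0
    have hu : IsUnit r := (Algebra.IsIntegral.isIntegral (R := k) r).isUnit hr0
    obtain ⟨u, rfl⟩ := hu
    apply hv
    have h1 : (show Coh.Γtop X from (↑u⁻¹ : Γ(X, ⊤))) • ((show Coh.Γtop X from (↑u : Γ(X, ⊤))) • v) = v := by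
      rw [← mul_smul]
      have : (show Coh.Γtop X from (↑u⁻¹ : Γ(X, ⊤))) * (show Coh.Γtop X from (↑u : Γ(X, ⊤))) = 1 :=
        Units.inv_mul u
      rw [this, one_smul]
    rw [← h1]
    have h2 : (show Coh.Γtop X from (↑u : Γ(X, ⊤))) • v = 0 := hr
    rw [h2, smul_zero]
  have h1 := LinearMap.finrank_le_finrank_of_injective hψ
  have h2 : 0 < finrank k Γ(X, ⊤) := Module.finrank_pos
  rw [e'.finrank_eq]
  omega

end Groth.Agent.Lib.Helper18.H0One
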