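import Mathlib
import Groth.Agent.Lib.Helper18.CurvePt
import Groth.Agent.Lib.Helper28.QCohSupport

set_option autoImplicit false
set_option linter.style.haveILetI false
universe u
open CategoryTheory CategoryTheory.Limits AlgebraicGeometry Opposite TopologicalSpace Module
open Scheme.Modules

namespace Groth.Agent.Lib.Helper18.RatPt

open Groth.Agent.Lib.Helper18

section ker

variable {k : Type u} [Field k] {X : Scheme.{u}}

/-- the vanishing ideal of the image point of a `k`-point lies in the kernel of the `k`-point -/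
theorem vanishingIdeal_le_ker (s : Spec (CommRingCat.of k) ⟶ X) [QuasiCompact s] {y : X}
    (hy : IsClosed ({y} : Set X)) (hsy : ∀ p, s p = y) :
    Scheme.IdealSheafData.vanishingIdeal ⟨{y}, hy⟩ ≤ s.ker := by
  rw [Scheme.IdealSheafData.le_def]
  intro U f hf
  rw [Scheme.Hom.ker_apply, RingHom.mem_ker]
  rw [Scheme.IdealSheafData.vanishingIdeal_ideal, PrimeSpectrum.mem_vanishingIdeal] at hf
  rw [← basicOpen_eq_bot_iff, ← Scheme.preimage_basicOpen]
  ext p
  simp only [Opens.coe_bot, Set.mem_empty_iff_false, iff_false]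
  intro hp
  have hp' : y ∈ X.basicOpen f := by rw [← hsy p]; exact hp
  have hyU : y ∈ U.1 := X.basicOpen_le f hp'
  rw [Groth.Agent.Lib.helper28.mem_basicOpen_iff U.2 y hyU f] at hp'
  apply hp'
  apply hf
  rw [Set.mem_preimage, U.2.fromSpec_primeIdealOf ⟨y, hyU⟩]
  rfl

end ker

section point

variable (k : Type u) [Field k] (X : Scheme.{u}) [X.Over (Spec (CommRingCat.of k))]
  [IsProper (X ↘ Spec (CommRingCat.of k))]

/-- `h⁰(O_y) = 1` for the image point of a `k`-rational point -/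
theorem finrank_H0_quotMod_ratPoint (s : Spec (CommRingCat.of k) ⟶ X)
    (hs : s ≫ (X ↘ Spec (CommRingCat.of k)) = 𝟙 _) {y : X} (hy : IsClosed ({y} : Set X))
    (hsy : ∀ p, s p = y) :
    finrank k (Coh.HH X (ClSub.quotMod (Scheme.IdealSheafData.vanishingIdeal ⟨{y}, hy⟩)) 0) = 1 := by
  set Z := Scheme.IdealSheafData.vanishingIdeal ⟨{y}, hy⟩ with hZdef
  haveI := Groth.Agent.Lib.Lead.CurveEuler.isNoetherian k X
  haveI := Groth.Agent.Lib.Helper18.CurvePt.isIntegral_subscheme_point X hy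
  have hQc : Coh.IsCoh (ClSub.quotMod Z) :=
    Groth.Agent.Lib.helper8.Dev.isCoh_push_structureModule Z.subschemeι
  haveI : Module.Finite k (Coh.HH X (ClSub.quotMod Z) 0) :=
    Groth.Agent.Lib.Lead.ProperEuler.finite_HH k X _ hQc 0
  have hsupp : ((Z.support : Closeds X) : Set X) = {y} :=
    Scheme.IdealSheafData.coe_support_vanishingIdeal _
  have hyr : y ∈ Set.range Z.subschemeι := by
    rw [Z.range_subschemeι, hsupp]
    rfl
  obtain ⟨z, hz⟩ := hyr
  haveI : Nonempty (Z.subschemeι ⁻¹ᵁ (⊤ : X.Opens)) := ⟨⟨z, trivial⟩⟩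
  haveI hdom : IsDomain Γ(Z.subscheme, Z.subschemeι ⁻¹ᵁ (⊤ : X.Opens)) :=
    IsIntegral.component_integral (X := Z.subscheme) (Z.subschemeι ⁻¹ᵁ (⊤ : X.Opens))
  let R : Type u := Γ(Z.subscheme, Z.subschemeι ⁻¹ᵁ (⊤ : X.Opens))
  letI : CommRing R := inferInstanceAs (CommRing Γ(Z.subscheme, Z.subschemeι ⁻¹ᵁ (⊤ : X.Opens)))
  haveI : IsDomain R := hdom
  letI modR : Module k R := HH.sectionsModuleOver k (ClSub.quotMod Z)
  letI : Algebra k R := Algebra.ofModule (fun a x y => by
      show ((Z.subschemeι.app ⊤).hom (Coh.toGlobal (X ↘ Spec (CommRingCat.of k)) a) * x) * y =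
        (Z.subschemeι.app ⊤).hom (Coh.toGlobal (X ↘ Spec (CommRingCat.of k)) a) * (x * y)
      exact mul_assoc _ _ _) (fun a x y => by
      show x * ((Z.subschemeι.app ⊤).hom (Coh.toGlobal (X ↘ Spec (CommRingCat.of k)) a) * y) =
        (Z.subschemeι.app ⊤).hom (Coh.toGlobal (X ↘ Spec (CommRingCat.of k)) a) * (x * y)
      exact mul_left_comm _ _ _)
  let e : Coh.HH X (ClSub.quotMod Z) 0 ≃ₗ[k] R := HH.equiv₀Over k (ClSub.quotMod Z)
  have hfin : @Module.Finite k R _ _ modR := Module.Finite.equiv e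
  haveI : @Module.Finite k R _ _ Algebra.toModule := hfin
  haveI : Algebra.IsIntegral k R := Algebra.IsIntegral.of_finite k R
  -- the lift of `s` to the reduced point
  haveI : IsProper s := by
    haveI : IsProper (s ≫ (X ↘ Spec (CommRingCat.of k))) := by rw [hs]; infer_instance
    exact IsProper.of_comp s (X ↘ Spec (CommRingCat.of k))
  have hker : Z.subschemeι.ker ≤ s.ker := by
    rw [Scheme.IdealSheafData.ker_subschemeι]
    exact vanishingIdeal_le_ker s hy hsy
  let s' : Spec (CommRingCat.of k) ⟶ Z.subscheme := IsClosedImmersion.lift Z.subschemeι s hker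
  have hs' : s' ≫ Z.subschemeι = s := IsClosedImmersion.lift_fac _ _ _
  let φ : R →+* Γ(Spec (CommRingCat.of k), ⊤) := (s'.app (Z.subschemeι ⁻¹ᵁ (⊤ : X.Opens))).hom
  have hφ : ∀ a : k, φ (algebraMap k R a) = (Scheme.ΓSpecIso (CommRingCat.of k)).inv.hom a := by
    intro a
    have h1 : algebraMap k R a =
        (Z.subschemeι.appTop).hom (Coh.toGlobal (X ↘ Spec (CommRingCat.of k)) a) := by
      change (Z.subschemeι.app ⊤).hom (Coh.toGlobal (X ↘ Spec (CommRingCat.of k)) a) * 1 = _
      exact mul_one _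
    have h2 : (X ↘ Spec (CommRingCat.of k)).appTop ≫ Z.subschemeι.appTop ≫ s'.appTop = 𝟙 _ := by
      rw [← Scheme.Hom.comp_appTop, hs', ← Scheme.Hom.comp_appTop, hs]
      rfl
    rw [h1]
    change (s'.appTop).hom ((Z.subschemeι.appTop).hom ((X ↘ Spec (CommRingCat.of k)).appTop.hom
      ((Scheme.ΓSpecIso (CommRingCat.of k)).inv.hom a))) = _
    exact congrArg (fun f => f.hom ((Scheme.ΓSpecIso (CommRingCat.of k)).inv.hom a)) h2
  have hinj : Function.Injective φ := by
    rw [injective_iff_map_eq_zero]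
    intro r hr
    by_contra hr0
    have hu : IsUnit r := (Algebra.IsIntegral.isIntegral (R := k) r).isUnit hr0
    have h1 : IsUnit (φ r) := hu.map φ
    rw [hr] at h1
    exact not_isUnit_zero h1
  have hbij : Function.Bijective (algebraMap k R) := by
    refine ⟨(algebraMap k R).injective, fun r => ?_⟩
    refine ⟨(Scheme.ΓSpecIso (CommRingCat.of k)).hom.hom (φ r), ?_⟩
    apply hinj
    rw [hφ]
    exact congrArg (fun f => f.hom (φ r)) (Scheme.ΓSpecIso (CommRingCat.of k)).hom_inv_id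
  have e2 : k ≃ₗ[k] R := LinearEquiv.ofBijective (Algebra.linearMap k R) hbij
  rw [e.finrank_eq, ← e2.finrank_eq, finrank_self]

end point

end Groth.Agent.Lib.Helper18.RatPt
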