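import Mathlib
import Groth.Agent.Lib.Lead.DimOneAffine
import Groth.Agent.Lib.Helper20.ZeroDimSupp

/-!
# A nonconstant closed morphism of integral curves is finite (helper18)

`X`, `Y` integral schemes of dimension one, `f : X ⟶ Y` with `f ξ_X = ξ_Y`:

* `isClosed_singleton_of_ne_genericPoint` : every point other than the generic point is closed;
* `not_isClosed_singleton_genericPoint` : the generic point of a one-dimensional integral scheme is
  not closed;
* `eq_genericPoint_of_map_eq` : if `f` is a closed map, `ξ_X` is the only point over `ξ_Y`;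
* `finite_fibre` : all fibres of `f` are finite (`X` Noetherian);
* `isFinite_of_map_genericPoint` : `f` proper ⟹ `f` finite.
-/

set_option autoImplicit false
universe u

open CategoryTheory AlgebraicGeometry Opposite TopologicalSpace CategoryTheory.Limits

namespace Groth.Agent.Lib.Helper18.CurveMapFinite

theorem isClosed_singleton_of_ne_genericPoint (X : Scheme.{u}) [IsIntegral X]
    (hdim : topologicalKrullDim X ≤ 1) (x : X) (hx : x ≠ genericPoint X) :
    IsClosed ({x} : Set X) := by
  refine Groth.Agent.Lib.Lead.DimOneAffine.isClosed_singleton_of_dim_le_one X hdim x ?_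
  intro hgen
  apply hx
  unfold Groth.Agent.Lib.Lead.DimOneAffine.IsGen at hgen
  rw [irreducibleComponents_eq_singleton, Set.mem_singleton_iff] at hgen
  have h1 : IsGenericPoint x (Set.univ : Set X) := hgen
  exact h1.eq (genericPoint_spec X)

theorem not_isClosed_singleton_genericPoint (Y : Scheme.{u}) [IsIntegral Y]
    (hdim : topologicalKrullDim Y = 1) : ¬ IsClosed ({genericPoint Y} : Set Y) := by
  intro hcl
  have h1 : (Set.univ : Set Y) = {genericPoint Y} := by
    rw [← (genericPoint_spec Y).def, hcl.closure_eq]
  haveI : Subsingleton Y := by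
    refine ⟨fun a b => ?_⟩
    have ha : a ∈ ({genericPoint Y} : Set Y) := h1 ▸ Set.mem_univ a
    have hb : b ∈ ({genericPoint Y} : Set Y) := h1 ▸ Set.mem_univ b
    rw [Set.mem_singleton_iff] at ha hb
    rw [ha, hb]
  haveI : Subsingleton (IrreducibleCloseds Y) := by
    refine ⟨fun a b => ?_⟩
    apply IrreducibleCloseds.ext
    obtain ⟨p, hp⟩ := a.isIrreducible'.nonempty
    obtain ⟨q, hq⟩ := b.isIrreducible'.nonempty
    ext z
    constructor
    · intro _
      rw [Subsingleton.elim z q]; exact hq
    · intro _
      rw [Subsingleton.elim z p]; exact hp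
  have h2 : topologicalKrullDim Y ≤ 0 := Order.krullDim_nonpos_of_subsingleton
  rw [hdim] at h2
  exact absurd h2 (by decide)

variable {X Y : Scheme.{u}} [IsIntegral X] [IsIntegral Y] (f : X ⟶ Y)
  (hX : topologicalKrullDim X = 1) (hY : topologicalKrullDim Y = 1)
  (hξ : f (genericPoint X) = genericPoint Y)

include hX hY hξ in
theorem eq_genericPoint_of_map_eq (hcl : IsClosedMap f.base) (a : X)
    (ha : f a = f (genericPoint X)) : a = genericPoint X := by
  by_contra hne
  have h1 : IsClosed ({a} : Set X) := isClosed_singleton_of_ne_genericPoint X hX.le a hne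
  have h2 : IsClosed (f.base '' ({a} : Set X)) := hcl _ h1
  rw [Set.image_singleton] at h2
  have h3 : f.base a = genericPoint Y := ha.trans hξ
  rw [h3] at h2
  exact not_isClosed_singleton_genericPoint Y hY h2

include hX hY hξ in
theorem finite_fibre [IsNoetherian X] (hcl : IsClosedMap f.base) (y : Y) :
    (f.base ⁻¹' {y}).Finite := by
  by_cases hy : y = f (genericPoint X)
  · apply Set.Subsingleton.finite
    intro a ha b hb
    rw [Set.mem_preimage, Set.mem_singleton_iff] at ha hb
    rw [eq_genericPoint_of_map_eq f hX hY hξ hcl a (ha.trans hy),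
      eq_genericPoint_of_map_eq f hX hY hξ hcl b (hb.trans hy)]
  · have hC : IsClosed (f.base ⁻¹' (closure {y})) := isClosed_closure.preimage f.continuous
    have hnot : genericPoint X ∉ f.base ⁻¹' (closure {y}) := by
      intro hmem
      apply hy
      have h1 : genericPoint Y ∈ closure ({y} : Set Y) := hξ ▸ hmem
      have h2 : closure ({genericPoint Y} : Set Y) ⊆ closure {y} :=
        isClosed_closure.closure_subset_iff.mpr (Set.singleton_subset_iff.mpr h1)
      rw [(genericPoint_spec Y).def] at h2
      have h3 : IsGenericPoint y (Set.univ : Set Y) := Set.eq_univ_of_univ_subset h2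
      rw [hξ]
      exact h3.eq (genericPoint_spec Y)
    have hfin : (f.base ⁻¹' (closure {y})).Finite :=
      Groth.Agent.Lib.Helper20.ZeroDimSupp.finite_of_isClosed_of_closed_points _ hC
        (fun a ha => isClosed_singleton_of_ne_genericPoint X hX.le a
          (fun h => hnot (h ▸ ha)))
    exact hfin.subset (Set.preimage_mono subset_closure)

include hX hY hξ in
theorem isFinite_of_map_genericPoint [IsNoetherian X] [IsProper f] : IsFinite f := by
  have hcl : IsClosedMap f.base := f.isClosedMap
  choose W hxW hW using fun y =>
    exists_isFinite_morphismRestrict_of_finite_preimage_singleton f y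
      (finite_fibre f hX hY hξ hcl y)
  refine IsZariskiLocalAtTarget.of_iSup_eq_top (P := @IsFinite) W ?_ hW
  exact top_le_iff.mp fun y _ => Opens.mem_iSup.mpr ⟨y, hxW y⟩

end Groth.Agent.Lib.Helper18.CurveMapFinite
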