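import Mathlib
import Groth.Prelude.Def_Coh
import Groth.Agent.Lib.Helper16.QCohAss

/-!
# Stalks of a direct image along a closed map with a one-point fibre (helper18)

For `f : X ⟶ Y`, `M : X.Modules` and `x : X`:

* `stalkPush f M x : (f_* M)_{f x} →+ M_x`, the canonical comparison map (Mathlib's
  `TopCat.Presheaf.stalkPushforward`), with `stalkPush_germ`, `stalkPush_smul` (semilinear over
  `f.stalkMap x`);
* if `f` is a closed map and `x` is the only point of its fibre, `stalkPush` is bijective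
  (`stalkPush_bijective`), hence `finrank_stalk_push`:
  `finrank_{O_{Y,f x}} (f_* M)_{f x} = finrank_{O_{Y, f x}} M_x` (module structure through
  `f.stalkMap x`).
-/

set_option autoImplicit false
universe u

open CategoryTheory AlgebraicGeometry Opposite TopologicalSpace CategoryTheory.Limits

namespace Groth.Agent.Lib.Helper18.StalkPushClosed

open Scheme.Modules

variable {X Y : Scheme.{u}} (f : X ⟶ Y) (M : X.Modules) (x : X)

/-- the comparison map `(f_* M)_{f x} → M_x` -/
noncomputable def stalkPush :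
    ((pushforward f).obj M).presheaf.stalk (f x) →+ M.presheaf.stalk x :=
  (TopCat.Presheaf.stalkPushforward Ab.{u} f.base M.presheaf x).hom

theorem stalkPush_germ (V : Y.Opens) (hx : f x ∈ V) (s : Γ(M, f ⁻¹ᵁ V)) :
    stalkPush f M x ((((pushforward f).obj M).presheaf.germ V (f x) hx).hom s) =
      (M.presheaf.germ (f ⁻¹ᵁ V) x hx).hom s := by
  have := TopCat.Presheaf.stalkPushforward_germ Ab.{u} f.base M.presheaf V x hx
  exact congrArg (fun φ => φ.hom s) this

open Groth.Agent.Lib.helper16.QCohAss in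
theorem stalkPush_smul (r : Y.presheaf.stalk (f x))
    (m : ((pushforward f).obj M).presheaf.stalk (f x)) :
    stalkPush f M x (r • m) = (f.stalkMap x).hom r • stalkPush f M x m := by
  obtain ⟨U₁, hx₁, a, rfl⟩ := Y.presheaf.exists_germ_eq r
  obtain ⟨U₂, hx₂, s, rfl⟩ := ((pushforward f).obj M).presheaf.exists_germ_eq m
  have hx : f x ∈ U₁ ⊓ U₂ := ⟨hx₁, hx₂⟩
  have e1 : (Y.presheaf.germ U₁ (f x) hx₁).hom a =
      (Y.presheaf.germ (U₁ ⊓ U₂) (f x) hx).hom (Y.presheaf.map (homOfLE inf_le_left).op a) :=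
    (TopCat.Presheaf.germ_res_apply Y.presheaf (homOfLE inf_le_left) (f x) hx a).symm
  have e2 : (((pushforward f).obj M).presheaf.germ U₂ (f x) hx₂).hom s =
      (((pushforward f).obj M).presheaf.germ (U₁ ⊓ U₂) (f x) hx).hom
        (((pushforward f).obj M).presheaf.map (homOfLE inf_le_right).op s) :=
    (TopCat.Presheaf.germ_res_apply ((pushforward f).obj M).presheaf (homOfLE inf_le_right)
      (f x) hx s).symm
  rw [e1, e2, ← germ_smul', stalkPush_germ, stalkPush_germ]
  set a' := (Y.presheaf.map (homOfLE (inf_le_left : U₁ ⊓ U₂ ≤ U₁)).op).hom a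
  set s' := (((pushforward f).obj M).presheaf.map (homOfLE (inf_le_right : U₁ ⊓ U₂ ≤ U₂)).op).hom s
  have h3 : (a' • s' : Γ((pushforward f).obj M, U₁ ⊓ U₂)) =
      ((f.app (U₁ ⊓ U₂)).hom a' • (show Γ(M, f ⁻¹ᵁ (U₁ ⊓ U₂)) from s') :
        Γ(M, f ⁻¹ᵁ (U₁ ⊓ U₂))) := rfl
  rw [h3, germ_smul']
  congr 1
  exact (Scheme.Hom.germ_stalkMap_apply f (U₁ ⊓ U₂) x hx a').symm

section Closed

variable (hcl : IsClosedMap f.base) (hfib : ∀ a : X, f a = f x → a = x)

include hcl hfib in
theorem exists_open_preimage_le (W : X.Opens) (hxW : x ∈ W) :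
    ∃ V : Y.Opens, f x ∈ V ∧ f ⁻¹ᵁ V ≤ W := by
  refine ⟨⟨(f.base '' (W : Set X)ᶜ)ᶜ, (hcl _ W.isOpen.isClosed_compl).isOpen_compl⟩, ?_, ?_⟩
  · rintro ⟨a, ha, hax⟩
    exact ha (hfib a hax ▸ hxW)
  · intro a ha
    by_contra hn
    exact ha ⟨a, hn, rfl⟩

include hcl hfib in
theorem stalkPush_surjective : Function.Surjective (stalkPush f M x) := by
  intro m
  obtain ⟨W, hxW, s, rfl⟩ := M.presheaf.exists_germ_eq m
  obtain ⟨V, hV, hVW⟩ := exists_open_preimage_le f x hcl hfib W hxW
  refine ⟨(((pushforward f).obj M).presheaf.germ V (f x) hV).hom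
    ((M.presheaf.map (homOfLE hVW).op).hom s), ?_⟩
  rw [stalkPush_germ]
  exact TopCat.Presheaf.germ_res_apply M.presheaf (homOfLE hVW) x hV s

include hcl hfib in
theorem stalkPush_injective : Function.Injective (stalkPush f M x) := by
  rw [injective_iff_map_eq_zero]
  intro m hm
  obtain ⟨V, hV, s, rfl⟩ := ((pushforward f).obj M).presheaf.exists_germ_eq m
  rw [stalkPush_germ] at hm
  have h0 : (M.presheaf.germ (f ⁻¹ᵁ V) x hV).hom s =
      (M.presheaf.germ (f ⁻¹ᵁ V) x hV).hom (0 : Γ(M, f ⁻¹ᵁ V)) := by rw [hm, map_zero]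
  obtain ⟨W, hxW, iU, iV, hs⟩ := M.presheaf.germ_eq x hV hV s 0 h0
  obtain ⟨V', hV', hV'W⟩ := exists_open_preimage_le f x hcl hfib W hxW
  have hle : V ⊓ V' ≤ V := inf_le_left
  have hx2 : f x ∈ V ⊓ V' := ⟨hV, hV'⟩
  have e2 : (((pushforward f).obj M).presheaf.germ V (f x) hV).hom s =
      (((pushforward f).obj M).presheaf.germ (V ⊓ V') (f x) hx2).hom
        (((pushforward f).obj M).presheaf.map (homOfLE hle).op s) :=
    (TopCat.Presheaf.germ_res_apply ((pushforward f).obj M).presheaf (homOfLE hle)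
      (f x) hx2 s).symm
  rw [e2]
  have hle2 : f ⁻¹ᵁ (V ⊓ V') ≤ W := fun a ha => hV'W ha.2
  have h1 : f ⁻¹ᵁ (V ⊓ V') ≤ f ⁻¹ᵁ V := fun a ha => ha.1
  have hcomp : M.presheaf.map (homOfLE h1).op =
      M.presheaf.map iU.op ≫ M.presheaf.map (homOfLE hle2).op := by
    rw [← Functor.map_comp]
    rfl
  have e3 : (((pushforward f).obj M).presheaf.map (homOfLE hle).op).hom s =
      (M.presheaf.map (homOfLE hle2).op).hom ((M.presheaf.map iU.op).hom s) := by
    change (M.presheaf.map (homOfLE h1).op).hom s = _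
    rw [hcomp]
    rfl
  have hs' : (M.presheaf.map iU.op).hom s = 0 := by
    have := hs
    rw [map_zero] at this
    exact this
  have e4 : (((pushforward f).obj M).presheaf.map (homOfLE hle).op) s = 0 := by
    change (((pushforward f).obj M).presheaf.map (homOfLE hle).op).hom s = 0
    rw [e3, hs']
    exact map_zero _
  change (((pushforward f).obj M).presheaf.germ (V ⊓ V') (f x) hx2).hom
    ((((pushforward f).obj M).presheaf.map (homOfLE hle).op) s) = 0
  rw [e4, map_zero]

include hcl hfib in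
theorem stalkPush_bijective : Function.Bijective (stalkPush f M x) :=
  ⟨stalkPush_injective f M x hcl hfib, stalkPush_surjective f M x hcl hfib⟩

include hcl hfib in
/-- the rank of `(f_* M)_{f x}` over `O_{Y, f x}` is the rank of `M_x` over `O_{Y, f x}` (acting
through `f.stalkMap x`) -/
theorem finrank_stalk_push :
    Module.finrank (Y.presheaf.stalk (f x)) (((pushforward f).obj M).presheaf.stalk (f x)) =
      @Module.finrank (Y.presheaf.stalk (f x)) (M.presheaf.stalk x) _ _
        (Module.compHom (M.presheaf.stalk x) (f.stalkMap x).hom) := by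
  letI : Module (Y.presheaf.stalk (f x)) (M.presheaf.stalk x) :=
    Module.compHom (M.presheaf.stalk x) (f.stalkMap x).hom
  let e : ((pushforward f).obj M).presheaf.stalk (f x) ≃ₗ[Y.presheaf.stalk (f x)]
      M.presheaf.stalk x :=
    { AddEquiv.ofBijective (stalkPush f M x) (stalkPush_bijective f M x hcl hfib) with
      map_smul' := fun r m => stalkPush_smul f M x r m }
  exact e.finrank_eq

end Closed

end Groth.Agent.Lib.Helper18.StalkPushClosed
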