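import Mathlib
import Groth.Agent.Lib.Helper18.StalkPushClosed
import Groth.Agent.Lib.Helper16.FLF5

/-!
# Generic rank of `f_* O_X` (helper18)

* `finrank_residueField_map` : for a local homomorphism `σ : R → S` of local rings which are fields,
  `finrank_R S = finrank_{κ(R)} κ(S)`.
* `finrank_stalk_push_structureModule` : for `f : X ⟶ Y` a closed map, `x : X` the only point of its
  fibre, with both local rings `O_{Y, f x}` and `O_{X,x}` fields:
  `finrank_{O_{Y, f x}} (f_* O_X)_{f x} = f.residueDegree x`.
-/

set_option autoImplicit false
universe u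

open CategoryTheory AlgebraicGeometry Opposite TopologicalSpace CategoryTheory.Limits

namespace Groth.Agent.Lib.Helper18.GenericRankPush

open Scheme.Modules

section Algebra

variable {R S : Type*} [CommRing R] [CommRing S] [IsLocalRing R] [IsLocalRing S]

theorem residue_bijective_of_isField (hR : IsField R) :
    Function.Bijective (IsLocalRing.residue R) := by
  refine ⟨?_, IsLocalRing.residue_surjective⟩
  rw [injective_iff_map_eq_zero]
  intro a ha
  have h1 : a ∈ IsLocalRing.maximalIdeal R := by
    rwa [← IsLocalRing.residue_eq_zero_iff]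
  rw [IsLocalRing.isField_iff_maximalIdeal_eq.mp hR] at h1
  exact h1

theorem finrank_residueField_map (hR : IsField R) (hS : IsField S) (σ : R →+* S) [IsLocalHom σ] :
    @Module.finrank R S _ _ (Module.compHom S σ) =
      @Module.finrank (IsLocalRing.ResidueField R) (IsLocalRing.ResidueField S) _ _
        (IsLocalRing.ResidueField.map σ).toAlgebra.toModule := by
  letI : Algebra R S := σ.toAlgebra
  letI : Algebra (IsLocalRing.ResidueField R) (IsLocalRing.ResidueField S) :=
    (IsLocalRing.ResidueField.map σ).toAlgebra
  have h1 : Module.compHom S σ = (Algebra.toModule : Module R S) :=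
    Module.ext' _ _ (fun _ _ => rfl)
  rw [h1]
  refine Algebra.finrank_eq_of_equiv_equiv
    (RingEquiv.ofBijective (IsLocalRing.residue R) (residue_bijective_of_isField hR))
    (RingEquiv.ofBijective (IsLocalRing.residue S) (residue_bijective_of_isField hS)) ?_
  ext a
  exact IsLocalRing.ResidueField.map_residue σ a

end Algebra

variable {X Y : Scheme.{u}} (f : X ⟶ Y) (x : X)

open Groth.Agent.Lib.Helper18.StalkPushClosed in
theorem finrank_stalk_push_structureModule (hcl : IsClosedMap f.base)
    (hfib : ∀ a : X, f a = f x → a = x)
    (hY : IsField (Y.presheaf.stalk (f x))) (hX : IsField (X.presheaf.stalk x)) :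
    Module.finrank (Y.presheaf.stalk (f x))
      (((pushforward f).obj (Coh.structureModule X)).presheaf.stalk (f x)) =
      f.residueDegree x := by
  rw [finrank_stalk_push f (Coh.structureModule X) x hcl hfib]
  haveI hfree := (Groth.Agent.Lib.helper16.FLF.free_stalk_of_isFinLocFree _
    (Groth.Agent.Lib.helper16.FLF.isFinLocFree_structureModule X) x).1
  have hrk := Groth.Agent.Lib.helper16.FLF.finrank_stalk_of_isFinLocFreeOfRank _
    (Groth.Agent.Lib.helper16.FLF.isFinLocFreeOfRank_structureModule X) x
  obtain ⟨e⟩ := Module.nonempty_linearEquiv_of_finrank_eq_one hrk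
  have h2 : @Module.finrank (Y.presheaf.stalk (f x))
      ((Coh.structureModule X).presheaf.stalk x) _ _
        (Module.compHom ((Coh.structureModule X).presheaf.stalk x) (f.stalkMap x).hom) =
      @Module.finrank (Y.presheaf.stalk (f x)) (X.presheaf.stalk x) _ _
        (Module.compHom (X.presheaf.stalk x) (f.stalkMap x).hom) := by
    letI : Module (Y.presheaf.stalk (f x)) ((Coh.structureModule X).presheaf.stalk x) :=
      Module.compHom _ (f.stalkMap x).hom
    letI : Module (Y.presheaf.stalk (f x)) (X.presheaf.stalk x) :=
      Module.compHom _ (f.stalkMap x).hom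
    let e' : X.presheaf.stalk x ≃ₗ[Y.presheaf.stalk (f x)]
        (Coh.structureModule X).presheaf.stalk x :=
      { e.toAddEquiv with
        map_smul' := fun r m => e.map_smul ((f.stalkMap x).hom r) m }
    exact e'.finrank_eq.symm
  rw [h2, finrank_residueField_map hY hX (f.stalkMap x).hom]
  rfl

end Groth.Agent.Lib.Helper18.GenericRankPush
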