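import Mathlib
import Groth.Prelude.Def_CohB1

set_option autoImplicit false
universe u

open MvPolynomial HomogeneousLocalization

namespace Groth.Agent.Lib.Helper18.ProjChart

variable (n : ℕ) (R : Type u) [CommRing R] (i : Fin (n + 1))

theorem X_mem (j : Fin (n + 1)) :
    (X j : MvPolynomial (Fin (n + 1)) R) ∈ CohB1.polyGrading n R 1 :=
  MvPolynomial.isHomogeneous_X R j

theorem X_mem' (j : Fin (n + 1)) :
    (X j : MvPolynomial (Fin (n + 1)) R) ∈ CohB1.polyGrading n R (1 • 1) :=
  MvPolynomial.isHomogeneous_X R j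

/-- the index set of the affine coordinates on `D₊(X i)` -/
abbrev Idx : Type := {j : Fin (n + 1) // j ≠ i}

/-- `X j / X i` -/
noncomputable def ratio (j : Fin (n + 1)) : Away (CohB1.polyGrading n R) (X i : MvPolynomial (Fin (n + 1)) R) :=
  Away.mk (CohB1.polyGrading n R) (X_mem n R i) 1 (X j) (X_mem' n R j)

theorem val_ratio (j : Fin (n + 1)) :
    (ratio n R i j).val = Localization.mk (X j)
      (⟨(X i) ^ 1, ⟨1, rfl⟩⟩ : Submonoid.powers (X i : MvPolynomial (Fin (n + 1)) R)) := rfl

theorem ratio_self : ratio n R i i = 1 := by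
  apply HomogeneousLocalization.val_injective
  rw [val_ratio, HomogeneousLocalization.val_one]
  simp only [pow_one]
  exact Localization.mk_self ⟨X i, _⟩

/-- constants -/
noncomputable def cHom : R →+* Away (CohB1.polyGrading n R) (X i : MvPolynomial (Fin (n + 1)) R) :=
  (fromZeroRingHom (CohB1.polyGrading n R) _).comp (algebraMap R (CohB1.polyGrading n R 0))

theorem val_cHom (r : R) : (cHom n R i r).val = algebraMap _ _ (C r : MvPolynomial (Fin (n + 1)) R) := by
  unfold cHom
  simp only [RingHom.comp_apply, fromZeroRingHom, RingHom.coe_mk, MonoidHom.coe_mk, OneHom.coe_mk,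
    HomogeneousLocalization.val_mk]
  change Localization.mk (C r : MvPolynomial (Fin (n + 1)) R) 1 = _
  rw [Localization.mk_one_eq_algebraMap]

/-- `Φ : R[Y_j, j ≠ i] → A_(X i)`, `Y_j ↦ X_j / X_i`. -/
noncomputable def Φ : MvPolynomial (Idx n i) R →+* Away (CohB1.polyGrading n R) (X i : MvPolynomial (Fin (n + 1)) R) :=
  eval₂Hom (cHom n R i) (fun j => ratio n R i j.1)

/-- dehomogenisation `X_i ↦ 1`, `X_j ↦ Y_j` -/
noncomputable def ψ : MvPolynomial (Fin (n + 1)) R →+* MvPolynomial (Idx n i) R :=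
  eval₂Hom C (fun j => if h : j = i then 1 else X ⟨j, h⟩)

theorem ψ_X_self : ψ n R i (X i) = 1 := by
  simp [ψ]

theorem ψ_X_ne (j : Idx n i) : ψ n R i (X j.1) = X j := by
  simp [ψ, j.2]

theorem ψ_C (r : R) : ψ n R i (C r) = C r := by
  simp [ψ]

noncomputable def ψL : Localization.Away (X i : MvPolynomial (Fin (n + 1)) R) →+* MvPolynomial (Idx n i) R :=
  IsLocalization.Away.lift (X i : MvPolynomial (Fin (n + 1)) R) (g := ψ n R i)
    (by rw [ψ_X_self]; exact isUnit_one)

theorem ψL_mk (a : MvPolynomial (Fin (n + 1)) R) (m : ℕ) :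
    ψL n R i (Localization.mk a
      (⟨(X i) ^ m, ⟨m, rfl⟩⟩ : Submonoid.powers (X i : MvPolynomial (Fin (n + 1)) R))) = ψ n R i a := by
  have h1 : Localization.mk a
      (⟨(X i) ^ m, ⟨m, rfl⟩⟩ : Submonoid.powers (X i : MvPolynomial (Fin (n + 1)) R)) *
      algebraMap _ _ ((X i : MvPolynomial (Fin (n + 1)) R) ^ m) = algebraMap _ _ a := by
    rw [← Localization.mk_one_eq_algebraMap, ← Localization.mk_one_eq_algebraMap,
      Localization.mk_mul, Localization.mk_eq_mk_iff, Localization.r_iff_exists]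
    exact ⟨1, by simp; ring⟩
  have h2 := congrArg (ψL n R i) h1
  rw [map_mul] at h2
  unfold ψL at h2
  rw [IsLocalization.Away.lift_eq, IsLocalization.Away.lift_eq, map_pow, ψ_X_self, one_pow,
    mul_one] at h2
  exact h2

/-- `Ψ : A_(X i) → R[Y_j]` -/
noncomputable def Ψ : Away (CohB1.polyGrading n R) (X i : MvPolynomial (Fin (n + 1)) R) →+* MvPolynomial (Idx n i) R :=
  (ψL n R i).comp (algebraMap _ (Localization.Away (X i : MvPolynomial (Fin (n + 1)) R)))

theorem Ψ_Φ : (Ψ n R i).comp (Φ n R i) = RingHom.id _ := by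
  apply MvPolynomial.ringHom_ext
  · intro r
    simp only [RingHom.comp_apply, RingHom.id_apply, Φ, Ψ, eval₂Hom_C,
      HomogeneousLocalization.algebraMap_apply]
    rw [val_cHom]
    unfold ψL
    rw [IsLocalization.Away.lift_eq, ψ_C]
  · intro j
    simp only [RingHom.comp_apply, RingHom.id_apply, Φ, Ψ, eval₂Hom_X',
      HomogeneousLocalization.algebraMap_apply]
    rw [val_ratio, ψL_mk, ψ_X_ne]

theorem adjoin_X :
    Algebra.adjoin (CohB1.polyGrading n R 0)
      (Set.range (X : Fin (n + 1) → MvPolynomial (Fin (n + 1)) R)) = ⊤ := by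
  rw [eq_top_iff]
  rintro x -
  have hx : x ∈ Algebra.adjoin R (Set.range (X : Fin (n + 1) → MvPolynomial (Fin (n + 1)) R)) := by
    rw [MvPolynomial.adjoin_range_X]; exact Algebra.mem_top
  induction hx using Algebra.adjoin_induction with
  | mem x hx => exact Algebra.subset_adjoin hx
  | algebraMap r => exact Subalgebra.algebraMap_mem _ (algebraMap R (CohB1.polyGrading n R 0) r)
  | add x y _ _ hx hy => exact add_mem hx hy
  | mul x y _ _ hx hy => exact mul_mem hx hy

theorem ratio_mem_range (j : Fin (n + 1)) : ratio n R i j ∈ (Φ n R i).range := by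
  by_cases h : j = i
  · subst h
    rw [ratio_self]
    exact one_mem _
  · exact ⟨X ⟨j, h⟩, by simp [Φ]⟩

theorem fromZero_mem_range (z : CohB1.polyGrading n R 0) :
    fromZeroRingHom (CohB1.polyGrading n R) _ z ∈ (Φ n R i).range := by
  obtain ⟨z, hz⟩ := z
  have hz' : z ∈ (1 : Submodule R (MvPolynomial (Fin (n + 1)) R)) := by
    have := MvPolynomial.homogeneousSubmodule_zero (σ := Fin (n + 1)) (R := R)
    rw [← this]
    exact hz
  rw [Submodule.mem_one] at hz'
  obtain ⟨r, rfl⟩ := hz'
  refine ⟨C r, ?_⟩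
  simp only [Φ, eval₂Hom_C]
  rfl

theorem mk_prod_eq (a : ℕ) (ai : Fin (n + 1) → ℕ) (hai : ∑ j, ai j • (1 : ℕ) = a • 1)
    (h : (∏ j, (X j : MvPolynomial (Fin (n + 1)) R) ^ ai j) ∈ CohB1.polyGrading n R (a • 1)) :
    Away.mk (CohB1.polyGrading n R) (X_mem n R i) a (∏ j, X j ^ ai j) h =
      ∏ j, ratio n R i j ^ ai j := by
  apply HomogeneousLocalization.val_injective
  rw [Away.val_mk]
  have h1 : (∏ j, ratio n R i j ^ ai j).val =
      ∏ j, ((ratio n R i j).val) ^ ai j := by
    rw [← HomogeneousLocalization.algebraMap_apply, map_prod]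
    simp only [map_pow, HomogeneousLocalization.algebraMap_apply]
  rw [h1]
  simp only [val_ratio, Localization.mk_pow]
  rw [Localization.mk_prod]
  congr 1
  ext
  simp only [pow_one, Submonoid.coe_finsetProd, SubmonoidClass.mk_pow]
  rw [Finset.prod_pow_eq_pow_sum]
  have : a = ∑ j, ai j := by simpa using hai.symm
  rw [this]

theorem Φ_surjective : Function.Surjective (Φ n R i) := by
  intro x
  have hx : x ∈ (⊤ : Submodule (CohB1.polyGrading n R 0) (Away (CohB1.polyGrading n R) (X i : MvPolynomial (Fin (n + 1)) R))) := trivial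
  rw [← Away.span_mk_prod_pow_eq_top (X_mem n R i) (X : Fin (n + 1) → MvPolynomial (Fin (n + 1)) R)
    (adjoin_X n R) (fun _ => 1) (fun j => X_mem n R j)] at hx
  change x ∈ (Φ n R i).range
  induction hx using Submodule.span_induction with
  | mem x hx =>
    obtain ⟨a, ai, hai, rfl⟩ := hx
    rw [mk_prod_eq n R i a ai hai]
    exact prod_mem fun j _ => pow_mem (ratio_mem_range n R i j) _
  | zero => exact zero_mem _
  | add x y _ _ hx hy => exact add_mem hx hy
  | smul z x _ hx =>
    rw [Algebra.smul_def, HomogeneousLocalization.algebraMap_eq]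
    exact mul_mem (fromZero_mem_range n R i z) hx

/-- the affine chart `A_(X i) ≃ R[Y_j, j ≠ i]` -/
noncomputable def chartEquiv :
    MvPolynomial (Idx n i) R ≃+* Away (CohB1.polyGrading n R) (X i : MvPolynomial (Fin (n + 1)) R) :=
  RingEquiv.ofBijective (Φ n R i)
    ⟨Function.LeftInverse.injective (g := Ψ n R i) (fun x => by
      have := congrArg (fun f => f x) (Ψ_Φ n R i)
      simpa using this), Φ_surjective n R i⟩

end Groth.Agent.Lib.Helper18.ProjChart
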