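import Mathlib
import Groth.Agent.Lib.Helper18.ProjChart
import Groth.Agent.Lib.Helper20.ProjGamma
import Groth.Agent.Lib.Helper13.Normal1
import Groth.Agent.Lib.Lead.ProjIntegralG
import Groth.Agent.Lib.Helper3.TopDim

set_option autoImplicit false
universe u

open MvPolynomial HomogeneousLocalization AlgebraicGeometry CategoryTheory TopologicalSpace

namespace Groth.Agent.Lib.Helper18.ProjBasic

open Groth.Agent.Lib.Helper18.ProjChart

variable (n : ℕ) (k : Type u) [Field k]

instance isIntegral_projSpace : IsIntegral (CohB1.ProjSpace n k) := by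
  unfold CohB1.ProjSpace
  rw [Groth.Agent.Lib.Lead.ProjIntegralG.isIntegral_proj_iff (CohB1.polyGrading n k)
    (fun f _ hf => hf.eq_zero)]
  refine ⟨⟨X 0, ?_, X_ne_zero 0⟩, fun f _ g _ h => mul_eq_zero.mp h⟩
  exact HomogeneousIdeal.mem_irrelevant_of_mem _ one_pos (ProjChart.X_mem n k 0)

theorem isNormalDomain_away (i : Fin (n + 1)) :
    Groth.Agent.Lib.helper13.Normal.IsNormalDomain
      (Away (CohB1.polyGrading n k) (X i : MvPolynomial (Fin (n + 1)) k)) :=
  Groth.Agent.Lib.helper13.Normal.IsNormalDomain.of_ringEquiv (chartEquiv n k i)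
    ⟨inferInstance, inferInstance⟩

theorem isNormalScheme_projSpace : Pi1.IsNormalScheme (CohB1.ProjSpace n k) := by
  refine Groth.Agent.Lib.helper13.Normal.of_openCover
    (Groth.Agent.Lib.Helper20.ProjGamma.cover n k).openCover (fun i => ?_)
  exact Groth.Agent.Lib.helper13.Normal.Spec_of_isNormalDomain _ (isNormalDomain_away n k i)

theorem ringKrullDim_away (i : Fin (n + 1)) :
    ringKrullDim (Away (CohB1.polyGrading n k) (X i : MvPolynomial (Fin (n + 1)) k)) = n := by
  rw [← ringKrullDim_eq_of_ringEquiv (chartEquiv n k i),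
    MvPolynomial.ringKrullDim_of_isNoetherianRing, ringKrullDim_eq_zero_of_field, zero_add]
  congr 1
  rw [Nat.card_eq_fintype_card, Fintype.card_subtype_compl, Fintype.card_fin]
  simp

theorem topologicalKrullDim_projSpace : topologicalKrullDim (CohB1.ProjSpace n k) = n := by
  change topologicalKrullDim (Proj (CohB1.polyGrading n k)) = n
  let U : Fin (n + 1) → Set (Proj (CohB1.polyGrading n k)) := fun i =>
    (Proj.basicOpen (CohB1.polyGrading n k) (X i : MvPolynomial (Fin (n + 1)) k)).1
  have hcov : ⋃ i, U i = Set.univ := by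
    have h := Proj.iSup_basicOpen_eq_top (CohB1.polyGrading n k)
      (X : Fin (n + 1) → MvPolynomial (Fin (n + 1)) k)
      (Groth.Agent.Lib.Helper20.ProjGamma.irrelevant_le n k)
    have h2 := congrArg (fun V : (Proj (CohB1.polyGrading n k)).Opens => V.1) h
    simpa [U] using h2
  rw [Groth.Agent.Lib.helper3.TopDim.dim_eq_iSup_of_open_cover U (fun i => Opens.isOpen _) hcov]
  have hU : ∀ i, topologicalKrullDim (U i) = n := by
    intro i
    have hi := (Proj.basicOpenIsoSpec (CohB1.polyGrading n k) (X i : MvPolynomial (Fin (n + 1)) k)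
      (ProjChart.X_mem n k i) one_pos).hom.homeomorph.isHomeomorph
    have h1 := IsHomeomorph.topologicalKrullDim_eq _ hi
    rw [show topologicalKrullDim (U i) = topologicalKrullDim
      ((Proj.basicOpen (CohB1.polyGrading n k) (X i : MvPolynomial (Fin (n + 1)) k)).toScheme) from rfl,
      h1]
    exact (PrimeSpectrum.topologicalKrullDim_eq_ringKrullDim _).trans (ringKrullDim_away n k i)
  simp only [hU]
  exact ciSup_const

end Groth.Agent.Lib.Helper18.ProjBasic
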