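import Mathlib
import Groth.Agent.Lib.Helper18.ProjFormulaLF
import Groth.Agent.Lib.Helper18.HHPush
import Groth.Agent.Lib.Lead.CurveEuler
import Groth.Agent.Lib.Lead.ModTensor
import Groth.Agent.Lib.Helper16.FLF5

/-!
# Euler characteristic of a pullback along an affine morphism (helper18)

For an affine morphism `f : X ⟶ Y` of `k`-schemes:

* `euler_push` : `χ(Y, f_* M) = χ(X, M)` for `M` quasi-coherent;
* `euler_pullback` : `χ(X, f^* E) = χ(Y, f_* O_X ⊗ E)` for `E` finite locally free on `Y`
  (projection formula `ProjFormulaLF.projIso`).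
-/

set_option autoImplicit false
universe u

open CategoryTheory AlgebraicGeometry Opposite TopologicalSpace CategoryTheory.Limits

namespace Groth.Agent.Lib.Helper18.PullEuler

open Groth.Agent.Lib.Lead.ModTensor Groth.Agent.Lib.Helper18.ProjFormulaLF

variable (k : Type u) [Field k] {X Y : Scheme.{u}} [X.Over (Spec (CommRingCat.of k))]
  [Y.Over (Spec (CommRingCat.of k))] (f : X ⟶ Y)
  (hf : f ≫ (Y ↘ Spec (CommRingCat.of k)) = X ↘ Spec (CommRingCat.of k)) [IsAffineHom f]

include hf in
/-- `χ(Y, f_* M) = χ(X, M)` for an affine morphism `f` over `k` and `M` quasi-coherent -/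
theorem euler_push (M : X.Modules) [M.IsQuasicoherent] :
    Curv2.euler k Y ((Scheme.Modules.pushforward f).obj M) = Curv2.euler k X M := by
  haveI : f.IsOver (Spec (CommRingCat.of k)) := ⟨hf⟩
  unfold Curv2.euler
  congr 1
  funext i
  congr 2
  exact Groth.Agent.Lib.Helper18.HH.finrank_push f M k i

include hf in
/-- `χ(X, f^* E) = χ(Y, f_* O_X ⊗ E)` for an affine morphism `f` over `k` and `E` finite locally
free on `Y` -/
theorem euler_pullback (E : Y.Modules) (hE : FlatMod.IsFinLocFree E) :
    Curv2.euler k X ((Scheme.Modules.pullback f).obj E) =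
      Curv2.euler k Y (CohB1.tensorMod
        ((Scheme.Modules.pushforward f).obj (Coh.structureModule X)) E) := by
  haveI hq : ((Scheme.Modules.pullback f).obj E).IsQuasicoherent :=
    Groth.Agent.Lib.helper16.FLF.isQuasicoherent_of_isFinLocFree _
      (Groth.Agent.Lib.helper16.FLF.isFinLocFree_pullback f hE)
  rw [← euler_push k f hf ((Scheme.Modules.pullback f).obj E)]
  apply Groth.Agent.Lib.Lead.CurveEuler.euler_eq_of_iso k Y
  exact (Scheme.Modules.pushforward f).mapIso (leftUnitor _).symm ≪≫
    (projIso f (Coh.structureModule X) E hE).symm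

end Groth.Agent.Lib.Helper18.PullEuler
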