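import Mathlib
import Groth.Agent.Lib.Helper12.ProjUP6
import Groth.Agent.Lib.Helper12.AmpleCoprod
import Groth.Agent.Lib.Helper18.ProjBasic
import Groth.Agent.Lib.Helper18.CurveMapFinite
import Groth.Agent.Lib.Helper18.GenericRankPush
import Groth.Agent.Lib.Helper19.ProjSpaceProper
import Groth.Agent.Lib.Lead.CurveEuler
import Groth.Agent.S7640
import Groth.Agent.S5950

set_option autoImplicit false
universe u

open CategoryTheory CategoryTheory.Limits AlgebraicGeometry TopologicalSpace

namespace Groth.Agent.Lib.Helper18.P1Iso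

open Groth.Agent.Lib.helper12.ProjUP3 Groth.Agent.Lib.helper12.ProjUP4 Groth.Agent.Lib.helper12.ProjUP5
  Groth.Agent.Lib.helper12.ProjUP6

/-- a ring hom of fields making the target one-dimensional is bijective -/
theorem bijective_of_finrank_eq_one {R S : Type*} [CommRing R] [CommRing S] (hR : IsField R)
    (hS : IsField S) (σ : R →+* S)
    (h : @Module.finrank R S _ _ (Module.compHom S σ) = 1) : Function.Bijective σ := by
  letI := hR.toField
  letI := hS.toField
  letI : Algebra R S := σ.toAlgebra
  have h' : Module.finrank R S = 1 := h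
  haveI : Module.Finite R S := Module.finite_of_finrank_pos (by omega)
  let ψ : R →ₗ[R] S := Algebra.linearMap R S
  have hinj : Function.Injective ψ := σ.injective
  have hsurj : Function.Surjective ψ :=
    (LinearMap.injective_iff_surjective_of_finrank_eq_finrank (by rw [h', Module.finrank_self])).mp hinj
  exact ⟨σ.injective, hsurj⟩

variable (k : Type u) [Field k] (X : Scheme.{u}) [X.Over (Spec (CommRingCat.of k))]
  [IsIntegral X] [IsProper (X ↘ Spec (CommRingCat.of k))]

theorem exists_iso_projSpace_one (hdim : topologicalKrullDim X = 1)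
    (L : X.Modules) (hdeg : Curv2.deg k X L 1 = 1)
    (σ : Fin (1 + 1) → (Coh.structureModule X ⟶ L)) (hcov : ⨆ i, gU σ i = ⊤) :
    ∃ e : X ≅ CohB1.ProjSpace 1 k,
      e.hom ≫ CohB1.ProjSpace.toSpec 1 k = X ↘ Spec (CommRingCat.of k) := by
  obtain ⟨r, hr⟩ := exists_toProj (X ↘ Spec (CommRingCat.of k)) σ hcov
  obtain ⟨τ, hτ⟩ := exists_iso_nu (X ↘ Spec (CommRingCat.of k)) σ r hr hcov
  have hrq := toProj_toSpec (X ↘ Spec (CommRingCat.of k)) σ hcov r hr
  -- view `r` as a map to `P = P¹_k`
  let P : Scheme.{u} := CohB1.ProjSpace 1 k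
  let r' : X ⟶ P := r
  have hPdim : topologicalKrullDim P = 1 := by
    have := Groth.Agent.Lib.Helper18.ProjBasic.topologicalKrullDim_projSpace 1 k
    simpa using this
  haveI : IsIntegral P := Groth.Agent.Lib.Helper18.ProjBasic.isIntegral_projSpace 1 k
  haveI : IsProper (P ↘ Spec (CommRingCat.of k)) :=
    Groth.Agent.Lib.helper19.ProjSpaceProper.proper_toSpec 1 k
  have hrq' : r' ≫ (P ↘ Spec (CommRingCat.of k)) = X ↘ Spec (CommRingCat.of k) := hrq
  -- the generic point goes to the generic point
  have hξ : r'.base (genericPoint X) = genericPoint P := by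
    by_contra hne
    have hcl : IsClosed ({r' (genericPoint X)} : Set P) :=
      Groth.Agent.Lib.Helper18.CurveMapFinite.isClosed_singleton_of_ne_genericPoint P hPdim.le _ hne
    have hall : ∀ x : X, r' x = r' (genericPoint X) := by
      intro x
      have h1 : IsClosed (r'.base ⁻¹' {r' (genericPoint X)}) := hcl.preimage r'.continuous
      have h2 : closure {genericPoint X} ⊆ r'.base ⁻¹' {r' (genericPoint X)} :=
        h1.closure_subset_iff.mpr (by simp)
      have h3 : x ∈ closure {genericPoint X} := by
        rw [(genericPoint_spec X).def]; trivial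
      exact h2 h3
    obtain ⟨i, hi⟩ := Groth.Agent.Lib.helper28.TwistPn.exists_X_notMem 1 k (r' (genericPoint X))
    have htop : r ⁻¹ᵁ Dp k 1 i = ⊤ := by
      ext x
      simp only [Opens.coe_top, Set.mem_univ, iff_true]
      change r' x ∈ Dp k 1 i
      rw [hall x]
      exact hi
    have h4 : (⊤ : X.Opens) ≤ CohB1.genLocus L (σ i) := by
      rw [← hτ i, Groth.Agent.Lib.helper11.IsoLocus.genLocus_comp_iso, ← htop, ← genLocus_tP k 1 i]
      exact le_genLocus_pullHom r isInvertible_twist_one (tP k 1 i)
    haveI h5 : IsIso (σ i) :=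
      (Groth.Agent.Lib.helper11.IsoLocus.genLocus_eq_top_iff L (σ i)).mp (top_le_iff.mp h4)
    have h6 := Groth.Agent.Lib.Lead.CurveEuler.deg_eq_of_iso k X (asIso (σ i)) 1
    rw [Groth.Agent.Lib.Lead.CurveEuler.deg_structureModule, hdeg] at h6
    exact absurd h6 (by norm_num)
  haveI := Groth.Agent.Lib.Lead.CurveEuler.isNoetherian k X
  haveI : IsProper r' := by
    haveI : IsProper (r' ≫ (P ↘ Spec (CommRingCat.of k))) := by rw [hrq']; infer_instance
    exact IsProper.of_comp r' (P ↘ Spec (CommRingCat.of k))
  haveI hfin : IsFinite r' :=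
    Groth.Agent.Lib.Helper18.CurveMapFinite.isFinite_of_map_genericPoint r' hdim hPdim hξ
  -- the degree of `r`
  have hE : FlatMod.IsFinLocFreeOfRank 1 (Twist.twist (CohB1.polyGrading 1 k) ((1 : ℕ) : ℤ)) :=
    (Groth.Agent.Lib.helper16.FLF.isInvertible_iff_isFinLocFreeOfRank_one _).mp isInvertible_twist_one
  have hd := Groth.Agent.S7640.result k X P hdim hPdim r' hrq' hξ 1 _ hE
  have hτd : Curv2.deg k X ((Scheme.Modules.pullback r').obj
      (Twist.twist (CohB1.polyGrading 1 k) ((1 : ℕ) : ℤ))) 1 = 1 :=
    (Groth.Agent.Lib.Lead.CurveEuler.deg_eq_of_iso k X τ 1).trans hdeg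
  rw [hτd] at hd
  have hres : r'.residueDegree (genericPoint X) = 1 := by
    have h1 := Int.eq_one_or_neg_one_of_mul_eq_one hd.symm
    omega
  -- the stalk map at the generic point is an isomorphism
  have hXf : IsField (X.presheaf.stalk (genericPoint X)) := Field.toIsField X.functionField
  have hYf : IsField (P.presheaf.stalk (r' (genericPoint X))) := by
    rw [hξ]
    exact Field.toIsField P.functionField
  have hfr := Groth.Agent.Lib.Helper18.GenericRankPush.finrank_residueField_map hYf hXf
    (r'.stalkMap (genericPoint X)).hom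
  have hbij := bijective_of_finrank_eq_one hYf hXf (r'.stalkMap (genericPoint X)).hom
    (hfr.trans hres)
  haveI : IsIso (r'.stalkMap (genericPoint X)) :=
    (ConcreteCategory.isIso_iff_bijective _).mpr hbij
  haveI : IsIso r' := Groth.Agent.S5950.isIso_of_integral_birational
    (Groth.Agent.Lib.Helper18.ProjBasic.isNormalScheme_projSpace 1 k) r' hξ inferInstance
  exact ⟨asIso r', hrq⟩

end Groth.Agent.Lib.Helper18.P1Iso
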