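import Mathlib
import Groth.Prelude.Def_Coh

/-!
# The reduced induced structure on an irreducible component (helper18)

For a Noetherian scheme `X` and `Z ∈ irreducibleComponents X`:
`Cr Z = (X.irreducibleComponentIdeal Z).radical.subscheme` with `ιr Z : Cr Z ⟶ X`.

* `isIntegral_Cr`, `range_ιr`, `ιr_genericPoint`, `dim_Cr`.
-/

set_option autoImplicit false
universe u

open CategoryTheory AlgebraicGeometry Opposite TopologicalSpace CategoryTheory.Limits

namespace Groth.Agent.Lib.Helper18.CompRed

variable (X : Scheme.{u}) [IsNoetherian X]

/-- the radical of the ideal of an irreducible component -/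
noncomputable abbrev J (Z : irreducibleComponents (X : Type u)) : X.IdealSheafData :=
  (X.irreducibleComponentIdeal Z.1 Z.2).radical

/-- the irreducible component with its reduced induced structure -/
noncomputable abbrev Cr (Z : irreducibleComponents (X : Type u)) : Scheme.{u} := (J X Z).subscheme

/-- the inclusion of the reduced component -/
noncomputable abbrev ιr (Z : irreducibleComponents (X : Type u)) : Cr X Z ⟶ X :=
  (J X Z).subschemeι

omit [AlgebraicGeometry.IsNoetherian X] in
theorem isReduced_radical_subscheme (I : X.IdealSheafData) : IsReduced I.radical.subscheme := by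
  rw [IsReduced.iff_of_openCover (X := I.radical.subscheme) I.radical.subschemeCover.openCover]
  intro (U : X.affineOpens)
  change IsReduced (Spec (.of (Γ(X, U.1) ⧸ I.radical.ideal U)))
  rw [affine_isReduced_iff, ← Ideal.isRadical_iff_quotient_reduced]
  change ((I.ideal U).radical).IsRadical
  exact Ideal.radical_isRadical _

instance (Z : irreducibleComponents (X : Type u)) : IsReduced (Cr X Z) :=
  isReduced_radical_subscheme X _

theorem range_ιr (Z : irreducibleComponents (X : Type u)) : Set.range (ιr X Z) = Z.1 := by
  rw [Scheme.IdealSheafData.range_subschemeι]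
  rfl

instance (Z : irreducibleComponents (X : Type u)) : IrreducibleSpace (Cr X Z) :=
  Subtype.irreducibleSpace Z.2.1

instance isIntegral_Cr (Z : irreducibleComponents (X : Type u)) : IsIntegral (Cr X Z) :=
  isIntegral_of_irreducibleSpace_of_isReduced _

theorem ιr_genericPoint (Z : irreducibleComponents (X : Type u)) :
    ιr X Z (genericPoint (Cr X Z)) = IsIrreducible.genericPoint (S := Z.1) Z.2.1 := by
  have h1 : IsGenericPoint (ιr X Z (genericPoint (Cr X Z))) Z.1 := by
    have h2 : closure ({genericPoint (Cr X Z)} : Set (Cr X Z)) = Set.univ :=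
      genericPoint_spec (Cr X Z)
    change closure {ιr X Z (genericPoint (Cr X Z))} = Z.1
    rw [← Set.image_singleton, (ιr X Z).isClosedEmbedding.closure_image_eq, h2, Set.image_univ,
      range_ιr]
  have h3 : IsGenericPoint (IsIrreducible.genericPoint (S := Z.1) Z.2.1) Z.1 :=
    IsIrreducible.isGenericPoint_genericPoint (S := Z.1) Z.2.1
      (isClosed_of_mem_irreducibleComponents Z.1 Z.2)
  exact h1.eq h3

theorem dim_Cr (Z : irreducibleComponents (X : Type u)) :
    topologicalKrullDim (Cr X Z) = topologicalKrullDim Z.1 := by
  have e : Cr X Z ≃ₜ ↥(Set.range (ιr X Z)) := (ιr X Z).isClosedEmbedding.isEmbedding.toHomeomorph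
  rw [IsHomeomorph.topologicalKrullDim_eq e e.isHomeomorph, range_ιr]

end Groth.Agent.Lib.Helper18.CompRed
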