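import Mathlib
import Groth.Agent.Lib.Helper18.DegCalc
import Groth.Agent.Lib.Helper18.PullEuler
import Groth.Agent.Lib.Helper18.EffCartierCurve
import Groth.Agent.Lib.Helper2.TensorSupp

/-!
# `deg(E ⊗ V) = n deg V + m deg E` on a proper scheme of dimension `≤ 1` (helper18)

For `E`, `V` finite locally free of ranks `n`, `m` and `F` coherent on a proper `k`-scheme `X` of
dimension `≤ 1`:  `χ((F ⊗ V) ⊗ E) − n χ(F ⊗ V) = m (χ(F ⊗ E) − n χ(F))` (`delta_tensor`), by
dévissage; on an integral closed curve `i : Z ⟶ X` this is `delta_tensor_curve` (three uses of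
`DegCalc.pform_main`) transported by the projection formula (`euler_push_tensor`).
-/

set_option autoImplicit false
universe u

open CategoryTheory AlgebraicGeometry Opposite TopologicalSpace CategoryTheory.Limits

namespace Groth.Agent.Lib.Helper18.DegTensor

open Groth.Agent.Lib.Lead.ModTensor Groth.Agent.Lib.Helper18.DegCalc
open Groth.Agent.Lib.Helper18.ProjFormulaLF

theorem le_zero_of_le_one_of_ne_one (a : WithBot ℕ∞) (h : a ≤ 1) (h1 : a ≠ 1) : a ≤ 0 := by
  induction a with
  | bot => exact bot_le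
  | coe a =>
    induction a with
    | top =>
      exfalso
      have : ((⊤ : ℕ∞) : WithBot ℕ∞) ≤ ((1 : ℕ∞) : WithBot ℕ∞) := h
      rw [WithBot.coe_le_coe] at this
      simp at this
    | coe m =>
      have hm : m ≤ 1 := by exact_mod_cast h
      have hm1 : m ≠ 1 := by
        intro hm1
        apply h1
        rw [hm1]
        rfl
      have : m = 0 := by omega
      subst this
      exact le_refl _

section Curve

variable (k : Type u) [Field k] (Z : Scheme.{u}) [Z.Over (Spec (CommRingCat.of k))]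
  [IsIntegral Z] [IsProper (Z ↘ (Spec (CommRingCat.of k)))]

/-- the formula on an integral proper curve -/
theorem delta_tensor_curve (hdim : topologicalKrullDim Z = 1) {n m : ℕ} {E V : Z.Modules}
    (hE : FlatMod.IsFinLocFreeOfRank n E) (hV : FlatMod.IsFinLocFreeOfRank m V)
    (G : Z.Modules) (hG : Coh.IsCoh G) :
    Curv2.euler k Z (CohB1.tensorMod (CohB1.tensorMod G V) E) -
        n * Curv2.euler k Z (CohB1.tensorMod G V) =
      m * (Curv2.euler k Z (CohB1.tensorMod G E) - n * Curv2.euler k Z G) := by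
  have p1 := pform_main k Z hdim hE G hG
  have p2 := pform_main k Z hdim hV G hG
  have hVE : FlatMod.IsFinLocFreeOfRank (m * n) (CohB1.tensorMod V E) :=
    Groth.Agent.Lib.Helper18.EffCartierCurve.isFinLocFreeOfRank_tensor hV hE
  have p3 := pform_main k Z hdim hVE G hG
  have hVc : Coh.IsCoh V := Groth.Agent.Lib.Lead.RankAdd.isCoh_of_isFinLocFreeOfRank hV
  have p4 := pform_main k Z hdim hE V hVc
  have hrk : grk V = m :=
    Groth.Agent.Lib.helper16.FLF.finrank_stalk_of_isFinLocFreeOfRank _ hV (genericPoint Z)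
  unfold Pform at p1 p2 p3 p4
  rw [hrk] at p4
  rw [Groth.Agent.Lib.Lead.CurveEuler.euler_eq_of_iso k Z (assoc G V E)]
  unfold Curv2.deg at p1 p2 p3 p4
  push_cast at p3
  linear_combination p3 - (n : ℤ) * p2 - (m : ℤ) * p1 + (grk G : ℤ) * p4

end Curve

section Transfer

variable (k : Type u) [Field k] {X Z : Scheme.{u}} [X.Over (Spec (CommRingCat.of k))]
  [Z.Over (Spec (CommRingCat.of k))] (i : Z ⟶ X)
  (hi : i ≫ (X ↘ Spec (CommRingCat.of k)) = Z ↘ Spec (CommRingCat.of k)) [IsAffineHom i]

include hi in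
/-- `χ(X, i_* G ⊗ E) = χ(Z, G ⊗ i^* E)` -/
theorem euler_push_tensor (G : Z.Modules) [G.IsQuasicoherent] (E : X.Modules)
    (hE : FlatMod.IsFinLocFree E) :
    Curv2.euler k X (CohB1.tensorMod ((Scheme.Modules.pushforward i).obj G) E) =
      Curv2.euler k Z (CohB1.tensorMod G ((Scheme.Modules.pullback i).obj E)) := by
  haveI hq : ((Scheme.Modules.pullback i).obj E).IsQuasicoherent :=
    Groth.Agent.Lib.helper16.FLF.isQuasicoherent_of_isFinLocFree _
      (Groth.Agent.Lib.helper16.FLF.isFinLocFree_pullback i hE)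
  haveI := Groth.Agent.Lib.helper2.TensorQCoh.isQuasicoherent_tensorMod G
    ((Scheme.Modules.pullback i).obj E)
  rw [Groth.Agent.Lib.Lead.CurveEuler.euler_eq_of_iso k X (projIso i G E hE)]
  exact Groth.Agent.Lib.Helper18.PullEuler.euler_push k i hi _

end Transfer

section Main

variable (k : Type u) [Field k] (X : Scheme.{u}) [X.Over (Spec (CommRingCat.of k))]
  [IsProper (X ↘ (Spec (CommRingCat.of k)))]

/-- the property proved by dévissage -/
def Q (n m : ℕ) (E V F : X.Modules) : Prop :=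
  Curv2.euler k X (CohB1.tensorMod (CohB1.tensorMod F V) E) -
      n * Curv2.euler k X (CohB1.tensorMod F V) =
    m * (Curv2.euler k X (CohB1.tensorMod F E) - n * Curv2.euler k X F)

theorem q_of_iso {n m : ℕ} {E V M N : X.Modules} (e : M ≅ N) (h : Q k X n m E V M) :
    Q k X n m E V N := by
  unfold Q at *
  rw [← Groth.Agent.Lib.Lead.CurveEuler.euler_eq_of_iso k X
      (tensorIso (tensorIso e (Iso.refl V)) (Iso.refl E)),
    ← Groth.Agent.Lib.Lead.CurveEuler.euler_eq_of_iso k X (tensorIso e (Iso.refl V)),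
    ← Groth.Agent.Lib.Lead.CurveEuler.euler_eq_of_iso k X (tensorIso e (Iso.refl E)),
    ← Groth.Agent.Lib.Lead.CurveEuler.euler_eq_of_iso k X e]
  exact h

theorem q_of_isZero {n m : ℕ} {E V N : X.Modules} (hN : IsZero N) : Q k X n m E V N := by
  unfold Q
  have h1 := Groth.Agent.Lib.Helper18.Punctual.isZero_tensorMod_left hN V
  rw [euler_eq_zero_of_isZero k X hN, euler_eq_zero_of_isZero k X h1,
    euler_eq_zero_of_isZero k X (Groth.Agent.Lib.Helper18.Punctual.isZero_tensorMod_left hN E),
    euler_eq_zero_of_isZero k X (Groth.Agent.Lib.Helper18.Punctual.isZero_tensorMod_left h1 E)]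
  simp

theorem q_ses {n m : ℕ} {E V : X.Modules} (hE : FlatMod.IsFinLocFreeOfRank n E)
    (hV : FlatMod.IsFinLocFreeOfRank m V)
    (S : ShortComplex X.Modules) (hS : S.ShortExact)
    (h₁ : Coh.IsCoh S.X₁) (h₃ : Coh.IsCoh S.X₃) :
    (Q k X n m E V S.X₁ → Q k X n m E V S.X₂ → Q k X n m E V S.X₃) ∧
    (Q k X n m E V S.X₁ → Q k X n m E V S.X₃ → Q k X n m E V S.X₂) ∧
    (Q k X n m E V S.X₂ → Q k X n m E V S.X₃ → Q k X n m E V S.X₁) := by
  have hVc : Coh.IsCoh V := Groth.Agent.Lib.Lead.RankAdd.isCoh_of_isFinLocFreeOfRank hV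
  have e1 := euler_tensor_additive k X S hS h₁ h₃ hE
  have e2 := euler_tensor_additive k X S hS h₁ h₃ hV
  have e3 := Groth.Agent.Lib.Lead.ProperEuler.euler_additive k hS h₁ h₃
  obtain ⟨w, hw⟩ := shortExact_tensor S hS hV
  have e4 := euler_tensor_additive k X _ hw (isCoh_tensorMod h₁ hVc) (isCoh_tensorMod h₃ hVc) hE
  change Curv2.euler k X (CohB1.tensorMod (CohB1.tensorMod S.X₂ V) E) =
    Curv2.euler k X (CohB1.tensorMod (CohB1.tensorMod S.X₁ V) E) +
      Curv2.euler k X (CohB1.tensorMod (CohB1.tensorMod S.X₃ V) E) at e4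
  unfold Q
  rw [e1, e2, e3, e4]
  refine ⟨fun a b => ?_, fun a b => ?_, fun a b => ?_⟩ <;> linarith

/-- the formula for the direct image of a coherent module on an integral closed subscheme -/
theorem q_push (hdim : topologicalKrullDim X ≤ 1) {n m : ℕ} {E V : X.Modules}
    (hE : FlatMod.IsFinLocFreeOfRank n E) (hV : FlatMod.IsFinLocFreeOfRank m V)
    (Z : Scheme.{u}) (i : Z ⟶ X) [IsClosedImmersion i] [IsIntegral Z]
    (G : Z.Modules) (hG : Coh.IsCoh G) :
    Q k X n m E V ((Scheme.Modules.pushforward i).obj G) := by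
  haveI := Groth.Agent.Lib.Lead.CurveEuler.isNoetherian k X
  letI : Z.Over (Spec (CommRingCat.of k)) := ⟨i ≫ (X ↘ Spec (CommRingCat.of k))⟩
  haveI : IsProper (Z ↘ Spec (CommRingCat.of k)) := by
    show IsProper (i ≫ (X ↘ Spec (CommRingCat.of k)))
    infer_instance
  have hi : i ≫ (X ↘ Spec (CommRingCat.of k)) = Z ↘ Spec (CommRingCat.of k) := rfl
  haveI : G.IsQuasicoherent := hG.1
  have hEf := Groth.Agent.Lib.helper16.FLF.isFinLocFree_of_isFinLocFreeOfRank hE
  have hVf := Groth.Agent.Lib.helper16.FLF.isFinLocFree_of_isFinLocFreeOfRank hV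
  have hPc : Coh.IsCoh ((Scheme.Modules.pushforward i).obj G) :=
    Groth.Agent.Lib.helper8.Dev.isCoh_push_of_isCoh i G hG
  have hVc : Coh.IsCoh V := Groth.Agent.Lib.Lead.RankAdd.isCoh_of_isFinLocFreeOfRank hV
  have hdZ : topologicalKrullDim Z ≤ 1 :=
    (i.isClosedEmbedding.topologicalKrullDim_le).trans hdim
  by_cases h1 : topologicalKrullDim Z = 1
  · -- curve case
    have hE' := Groth.Agent.Lib.helper16.FLF.isFinLocFreeOfRank_pullback i hE
    have hV' := Groth.Agent.Lib.helper16.FLF.isFinLocFreeOfRank_pullback i hV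
    have A := delta_tensor_curve k Z h1 hE' hV' G hG
    have T1 := euler_push_tensor k i hi G E hEf
    have T2 := Groth.Agent.Lib.Helper18.PullEuler.euler_push k i hi G
    have T3 := euler_push_tensor k i hi G V hVf
    haveI hqV' : ((Scheme.Modules.pullback i).obj V).IsQuasicoherent :=
      Groth.Agent.Lib.helper16.FLF.isQuasicoherent_of_isFinLocFree _
        (Groth.Agent.Lib.helper16.FLF.isFinLocFree_pullback i hVf)
    haveI := Groth.Agent.Lib.helper2.TensorQCoh.isQuasicoherent_tensorMod G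
      ((Scheme.Modules.pullback i).obj V)
    have T4 := euler_push_tensor k i hi
      (CohB1.tensorMod G ((Scheme.Modules.pullback i).obj V)) E hEf
    have T5 := Groth.Agent.Lib.Lead.CurveEuler.euler_eq_of_iso k X
      (tensorIso (projIso i G V hVf) (Iso.refl E))
    unfold Q
    rw [T5, T4, T3, T1, T2]
    exact A
  · -- point case
    have hZ0 : topologicalKrullDim Z ≤ 0 := le_zero_of_le_one_of_ne_one _ hdZ h1
    have hs : CohB1.support ((Scheme.Modules.pushforward i).obj G) ⊆ Set.range i :=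
      Groth.Agent.Lib.helper8.SchemeSupport.support_subset_range_of_iso _ i G (Iso.refl _)
    have hr0 : topologicalKrullDim ↥(Set.range i) ≤ 0 := by
      have e : Z ≃ₜ ↥(Set.range i) := i.isClosedEmbedding.isEmbedding.toHomeomorph
      rw [← IsHomeomorph.topologicalKrullDim_eq e e.isHomeomorph]
      exact hZ0
    have hd0 : topologicalKrullDim ↥(CohB1.support ((Scheme.Modules.pushforward i).obj G)) ≤ 0 :=
      (Groth.Agent.Lib.helper8.DimLt.topologicalKrullDim_le_of_subset hs).trans hr0
    haveI : ((Scheme.Modules.pushforward i).obj G).IsQuasicoherent := hPc.1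
    haveI : V.IsQuasicoherent := hVc.1
    have hs2 : CohB1.support (CohB1.tensorMod ((Scheme.Modules.pushforward i).obj G) V) ⊆
        CohB1.support ((Scheme.Modules.pushforward i).obj G) := by
      rw [Groth.Agent.Lib.helper2.TensorSupp.support_tensorMod _ _ hPc.2 hVc.2]
      exact Set.inter_subset_left
    have hd1 : topologicalKrullDim
        ↥(CohB1.support (CohB1.tensorMod ((Scheme.Modules.pushforward i).obj G) V)) ≤ 0 :=
      (Groth.Agent.Lib.helper8.DimLt.topologicalKrullDim_le_of_subset hs2).trans hd0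
    have B1 := Groth.Agent.Lib.Helper18.Punctual.euler_tensor_of_support_dim_le_zero k X _ hPc hd0
      n E hE
    have B2 := Groth.Agent.Lib.Helper18.Punctual.euler_tensor_of_support_dim_le_zero k X _
      (isCoh_tensorMod hPc hVc) hd1 n E hE
    unfold Q
    rw [B1, B2]
    ring

/-- **dévissage**: `χ((F ⊗ V) ⊗ E) − n χ(F ⊗ V) = m (χ(F ⊗ E) − n χ(F))` -/
theorem delta_tensor (hdim : topologicalKrullDim X ≤ 1) {n m : ℕ} {E V : X.Modules}
    (hE : FlatMod.IsFinLocFreeOfRank n E) (hV : FlatMod.IsFinLocFreeOfRank m V)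
    (F : X.Modules) (hF : Coh.IsCoh F) : Q k X n m E V F := by
  haveI := Groth.Agent.Lib.Lead.CurveEuler.isNoetherian k X
  refine Groth.Agent.Lib.helper8.Dev.devissage_master (Q k X n m E V) ?_ Set.univ ?_ ?_ ?_ F hF
    (Set.subset_univ _)
  · rintro M N ⟨e⟩ hM
    exact q_of_iso k X e hM
  · intro N hN
    exact q_of_isZero k X hN
  · intro S hS h1 _ h3 _
    exact q_ses k X hE hV S hS h1 h3
  · intro Z i _ _ _
    left
    intro I ι hι hIq
    haveI : IsLocallyNoetherian Z := LocallyOfFiniteType.isLocallyNoetherian i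
    have hIc : Coh.IsCoh I := Groth.Agent.S0046.result Z (Coh.structureModule Z) I ι
      (Groth.Agent.Lib.helper8.Dev.isCoh_structureModule Z) hIq
    exact q_push k X hdim hE hV Z i I hIc

/-- **S7637**: `deg(E ⊗ V) = n deg V + m deg E` -/
theorem deg_tensor (hdim : topologicalKrullDim X ≤ 1) {n m : ℕ} {E V : X.Modules}
    (hE : FlatMod.IsFinLocFreeOfRank n E) (hV : FlatMod.IsFinLocFreeOfRank m V) :
    Curv2.deg k X (CohB1.tensorMod E V) (n * m) =
      n * Curv2.deg k X V m + m * Curv2.deg k X E n := by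
  haveI := Groth.Agent.Lib.Lead.CurveEuler.isNoetherian k X
  have h := delta_tensor k X hdim hE hV (Coh.structureModule X)
    (Groth.Agent.Lib.helper8.Dev.isCoh_structureModule X)
  unfold Q at h
  have e1 := Groth.Agent.Lib.Lead.CurveEuler.euler_eq_of_iso k X (leftUnitor V)
  have e2 := Groth.Agent.Lib.Lead.CurveEuler.euler_eq_of_iso k X (leftUnitor E)
  have e3 := Groth.Agent.Lib.Lead.CurveEuler.euler_eq_of_iso k X
    (tensorIso (leftUnitor V) (Iso.refl E) ≪≫ braid V E)
  rw [e1, e2, e3] at h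
  unfold Curv2.deg
  push_cast
  linear_combination h

end Main

end Groth.Agent.Lib.Helper18.DegTensor
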