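import Mathlib
import Groth.Agent.Lib.Helper18.StalkPushClosed
import Groth.Agent.Lib.Helper16.FLF5

/-!
# The stalk of `ι_* O_C` at a point whose local ring on `C` is a field (helper18)

`nonempty_stalk_push_equiv_residueField` : for a closed immersion `ι : C ⟶ X` and `c : C` with
`O_{C,c}` a field, `(ι_* O_C)_{ι c} ≃ₗ[O_{X, ι c}] κ(ι c)`.
-/

set_option autoImplicit false
universe u

open CategoryTheory AlgebraicGeometry Opposite TopologicalSpace CategoryTheory.Limits

namespace Groth.Agent.Lib.Helper18.StalkPushResidue

open Scheme.Modules Groth.Agent.Lib.Helper18.StalkPushClosed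

section Algebra

variable {R S : Type*} [CommRing R] [CommRing S] [IsLocalRing R]

/-- a surjective local homomorphism from a local ring onto a field identifies the field with the
residue field, linearly -/
theorem nonempty_linearEquiv_residueField (hS : IsField S) (σ : R →+* S) [IsLocalHom σ]
    (hσ : Function.Surjective σ) :
    Nonempty (@LinearEquiv R R _ _ (RingHom.id R) (RingHom.id R) _ _ S (IsLocalRing.ResidueField R)
      _ _ (Module.compHom S σ) _) := by
  letI : Field S := hS.toField
  letI : Module R S := Module.compHom S σ
  let g : IsLocalRing.ResidueField R →+* S := IsLocalRing.ResidueField.lift σ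
  have hg : Function.Bijective g := by
    refine ⟨g.injective, fun s => ?_⟩
    obtain ⟨r, rfl⟩ := hσ s
    exact ⟨IsLocalRing.residue R r, rfl⟩
  let e : IsLocalRing.ResidueField R ≃ₗ[R] S :=
    { AddEquiv.ofBijective g.toAddMonoidHom hg with
      map_smul' := fun r x => by
        obtain ⟨y, rfl⟩ := IsLocalRing.residue_surjective x
        change g (r • IsLocalRing.residue R y) = σ r * g (IsLocalRing.residue R y)
        rw [Algebra.smul_def, map_mul]
        rfl }
  exact ⟨e.symm⟩

end Algebra

variable {X C : Scheme.{u}} (ι : C ⟶ X) [IsClosedImmersion ι] (c : C)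

theorem nonempty_stalk_push_equiv_residueField (hc : IsField (C.presheaf.stalk c)) :
    Nonempty (((pushforward ι).obj (Coh.structureModule C)).presheaf.stalk (ι c)
      ≃ₗ[X.presheaf.stalk (ι c)] IsLocalRing.ResidueField (X.presheaf.stalk (ι c))) := by
  have hcl : IsClosedMap ι.base := ι.isClosedEmbedding.isClosedMap
  have hfib : ∀ a : C, ι a = ι c → a = c := fun a ha => ι.isClosedEmbedding.injective ha
  letI m1 : Module (X.presheaf.stalk (ι c)) ((Coh.structureModule C).presheaf.stalk c) :=
    Module.compHom _ (ι.stalkMap c).hom
  letI m2 : Module (X.presheaf.stalk (ι c)) (C.presheaf.stalk c) :=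
    Module.compHom _ (ι.stalkMap c).hom
  -- step 0: the stalk of the pushforward
  let e0 : ((pushforward ι).obj (Coh.structureModule C)).presheaf.stalk (ι c)
      ≃ₗ[X.presheaf.stalk (ι c)] (Coh.structureModule C).presheaf.stalk c :=
    { AddEquiv.ofBijective (stalkPush ι (Coh.structureModule C) c)
        (stalkPush_bijective ι (Coh.structureModule C) c hcl hfib) with
      map_smul' := fun r m => stalkPush_smul ι (Coh.structureModule C) c r m }
  -- step 1: the structure module has free stalks of rank one
  haveI hfree := (Groth.Agent.Lib.helper16.FLF.free_stalk_of_isFinLocFree _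
    (Groth.Agent.Lib.helper16.FLF.isFinLocFree_structureModule C) c).1
  have hrk := Groth.Agent.Lib.helper16.FLF.finrank_stalk_of_isFinLocFreeOfRank _
    (Groth.Agent.Lib.helper16.FLF.isFinLocFreeOfRank_structureModule C) c
  obtain ⟨e⟩ := Module.nonempty_linearEquiv_of_finrank_eq_one hrk
  let e1 : (Coh.structureModule C).presheaf.stalk c ≃ₗ[X.presheaf.stalk (ι c)]
      C.presheaf.stalk c :=
    { e.symm.toAddEquiv with
      map_smul' := fun r m => e.symm.map_smul ((ι.stalkMap c).hom r) m }
  -- step 2: the residue field
  obtain ⟨e2⟩ := nonempty_linearEquiv_residueField hc (ι.stalkMap c).hom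
    (ι.stalkMap_surjective c)
  exact ⟨e0.trans (e1.trans e2)⟩

end Groth.Agent.Lib.Helper18.StalkPushResidue
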