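import Mathlib
import Groth.Agent.Lib.Helper18.DegTensor
import Groth.Agent.Lib.Helper18.CompRed
import Groth.Agent.Lib.Helper18.StalkPushResidue
import Groth.Agent.Lib.Helper3.TopDim

/-!
# `χ(F ⊗ E) − n χ(F) = Σ_C length(F_{ξ_C}) · deg(E|_{C_red})` (helper18)

`X` proper over `k` of dimension `≤ 1`, `E` finite locally free of rank `n`, `F` coherent; the sum is
over the irreducible components `C` of dimension one (Stacks 0AYV/0AYW; S1641, S17659).
-/

set_option autoImplicit false
universe u

open CategoryTheory AlgebraicGeometry Opposite TopologicalSpace CategoryTheory.Limits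

namespace Groth.Agent.Lib.Helper18.DegComponents

open Groth.Agent.Lib.Lead.ModTensor Groth.Agent.Lib.Helper18.DegCalc
open Groth.Agent.Lib.Helper18.CompRed Groth.Agent.Lib.Helper18.DegTensor
open Groth.Agent.Lib.helper17.FlatOver7 Groth.Agent.Lib.helper8.StalkLen

section Defs

variable (X : Scheme.{u})

/-- the generic point of an irreducible component -/
noncomputable abbrev gp (Z : irreducibleComponents (X : Type u)) : X :=
  IsIrreducible.genericPoint (S := Z.1) Z.2.1

theorem gp_spec (Z : irreducibleComponents (X : Type u)) : IsGenericPoint (gp X Z) Z.1 :=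
  IsIrreducible.isGenericPoint_genericPoint (S := Z.1) Z.2.1
    (isClosed_of_mem_irreducibleComponents Z.1 Z.2)

/-- the length of the stalk of `F` at the generic point of a component -/
noncomputable def lenAt (F : X.Modules) (Z : irreducibleComponents (X : Type u)) : ℕ∞ :=
  Module.length (X.presheaf.stalk (gp X Z)) (F.presheaf.stalk (gp X Z))

variable {X}

theorem lenAt_eq_of_iso {F G : X.Modules} (e : F ≅ G) (Z : irreducibleComponents (X : Type u)) :
    lenAt X F Z = lenAt X G Z :=
  LinearEquiv.length_eq (stalkLinEquiv e (gp X Z))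

theorem subsingleton_stalk_of_isZero {N : X.Modules} (hN : IsZero N) (x : X) :
    Subsingleton (N.presheaf.stalk x) := by
  refine ⟨fun a b => ?_⟩
  obtain ⟨U, hxU, s, rfl⟩ := N.presheaf.exists_germ_eq a
  obtain ⟨V, hxV, t, rfl⟩ := N.presheaf.exists_germ_eq b
  haveI := Groth.Agent.Lib.Lead.DimOneVanish.subsingleton_sections_of_isZero hN U
  haveI := Groth.Agent.Lib.Lead.DimOneVanish.subsingleton_sections_of_isZero hN V
  rw [Subsingleton.elim s 0, Subsingleton.elim t 0, map_zero, map_zero]

theorem lenAt_eq_zero_of_subsingleton {F : X.Modules} (Z : irreducibleComponents (X : Type u))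
    (h : Subsingleton (F.presheaf.stalk (gp X Z))) : lenAt X F Z = 0 :=
  Module.length_eq_zero

theorem lenAt_add (S : ShortComplex X.Modules) (hS : S.ShortExact)
    (h₂ : Coh.IsCoh S.X₂) (h₃ : Coh.IsCoh S.X₃) (Z : irreducibleComponents (X : Type u)) :
    lenAt X S.X₂ Z = lenAt X S.X₁ Z + lenAt X S.X₃ Z := by
  haveI : S.X₂.IsQuasicoherent := h₂.1
  haveI : S.X₃.IsQuasicoherent := h₃.1
  haveI := hS.mono_f
  haveI := hS.epi_g
  have hinj := stalkAdd_injective_of_mono S.f (gp X Z)
  have hex := stalkAdd_exact S.f S.g S.zero hS.exact (gp X Z)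
  have hsurj := stalkAdd_surjective_of_epi S.g (gp X Z)
  exact Module.length_eq_add_of_exact (stalkLin S.f (gp X Z)) (stalkLin S.g (gp X Z)) hinj hsurj hex

end Defs

section Main

variable (k : Type u) [Field k] (X : Scheme.{u}) [X.Over (Spec (CommRingCat.of k))]
  [IsProper (X ↘ (Spec (CommRingCat.of k)))] [IsNoetherian X]

/-- the degree of `E` on a component with its reduced structure -/
noncomputable def dC (n : ℕ) (E : X.Modules) (Z : irreducibleComponents (X : Type u)) : ℤ :=
  @Curv2.deg k _ (Cr X Z) ⟨ιr X Z ≫ (X ↘ (Spec (CommRingCat.of k)))⟩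
    ((Scheme.Modules.pullback (ιr X Z)).obj E) n

/-- the right hand side of the formula -/
noncomputable def rhs (n : ℕ) (E F : X.Modules) : ℤ :=
  ∑ᶠ Z : irreducibleComponents (X : Type u),
    (if topologicalKrullDim (Z.1 : Set X) = 1 then
      ((lenAt X F Z).toNat : ℤ) * dC k X n E Z else 0)

/-- the property proved by dévissage -/
def P (n : ℕ) (E F : X.Modules) : Prop :=
  (∀ Z : irreducibleComponents (X : Type u), topologicalKrullDim (Z.1 : Set X) = 1 →
    lenAt X F Z ≠ ⊤) ∧
  Curv2.euler k X (CohB1.tensorMod F E) - n * Curv2.euler k X F = rhs k X n E F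

instance : Finite (irreducibleComponents (X : Type u)) :=
  (NoetherianSpace.finite_irreducibleComponents (α := X)).to_subtype

theorem rhs_congr {n : ℕ} {E F G : X.Modules}
    (h : ∀ Z : irreducibleComponents (X : Type u), topologicalKrullDim (Z.1 : Set X) = 1 →
      lenAt X F Z = lenAt X G Z) : rhs k X n E F = rhs k X n E G := by
  unfold rhs
  refine finsum_congr fun Z => ?_
  by_cases hZ : topologicalKrullDim (Z.1 : Set X) = 1
  · rw [if_pos hZ, if_pos hZ, h Z hZ]
  · rw [if_neg hZ, if_neg hZ]

theorem rhs_eq_zero {n : ℕ} {E F : X.Modules}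
    (h : ∀ Z : irreducibleComponents (X : Type u), topologicalKrullDim (Z.1 : Set X) = 1 →
      lenAt X F Z = 0) : rhs k X n E F = 0 := by
  unfold rhs
  refine finsum_eq_zero_of_forall_eq_zero fun Z => ?_
  by_cases hZ : topologicalKrullDim (Z.1 : Set X) = 1
  · rw [if_pos hZ, h Z hZ]; simp
  · rw [if_neg hZ]

theorem rhs_add {n : ℕ} {E F G H : X.Modules}
    (h : ∀ Z : irreducibleComponents (X : Type u), topologicalKrullDim (Z.1 : Set X) = 1 →
      lenAt X G Z = lenAt X F Z + lenAt X H Z)
    (hF : ∀ Z : irreducibleComponents (X : Type u), topologicalKrullDim (Z.1 : Set X) = 1 →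
      lenAt X F Z ≠ ⊤)
    (hH : ∀ Z : irreducibleComponents (X : Type u), topologicalKrullDim (Z.1 : Set X) = 1 →
      lenAt X H Z ≠ ⊤) :
    rhs k X n E G = rhs k X n E F + rhs k X n E H := by
  unfold rhs
  rw [← finsum_add_distrib (Set.toFinite _) (Set.toFinite _)]
  refine finsum_congr fun Z => ?_
  by_cases hZ : topologicalKrullDim (Z.1 : Set X) = 1
  · rw [if_pos hZ, if_pos hZ, if_pos hZ, h Z hZ, ENat.toNat_add (hF Z hZ) (hH Z hZ)]
    push_cast
    ring
  · rw [if_neg hZ, if_neg hZ, if_neg hZ, add_zero]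

theorem p_of_iso {n : ℕ} {E M N : X.Modules} (e : M ≅ N) (h : P k X n E M) : P k X n E N := by
  obtain ⟨h1, h2⟩ := h
  refine ⟨fun Z hZ => by rw [← lenAt_eq_of_iso e Z]; exact h1 Z hZ, ?_⟩
  rw [← Groth.Agent.Lib.Lead.CurveEuler.euler_eq_of_iso k X (tensorIso e (Iso.refl E)),
    ← Groth.Agent.Lib.Lead.CurveEuler.euler_eq_of_iso k X e, h2]
  exact rhs_congr k X (fun Z _ => lenAt_eq_of_iso e Z)

theorem p_of_isZero {n : ℕ} {E N : X.Modules} (hN : IsZero N) : P k X n E N := by
  have h0 : ∀ Z : irreducibleComponents (X : Type u), lenAt X N Z = 0 := fun Z =>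
    lenAt_eq_zero_of_subsingleton Z (subsingleton_stalk_of_isZero hN _)
  refine ⟨fun Z _ => by rw [h0 Z]; simp, ?_⟩
  rw [euler_eq_zero_of_isZero k X hN,
    euler_eq_zero_of_isZero k X (Groth.Agent.Lib.Helper18.Punctual.isZero_tensorMod_left hN E),
    rhs_eq_zero k X (fun Z _ => h0 Z)]
  simp

theorem p_ses {n : ℕ} {E : X.Modules} (hE : FlatMod.IsFinLocFreeOfRank n E)
    (S : ShortComplex X.Modules) (hS : S.ShortExact)
    (h₁ : Coh.IsCoh S.X₁) (h₂ : Coh.IsCoh S.X₂) (h₃ : Coh.IsCoh S.X₃) :
    (P k X n E S.X₁ → P k X n E S.X₂ → P k X n E S.X₃) ∧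
    (P k X n E S.X₁ → P k X n E S.X₃ → P k X n E S.X₂) ∧
    (P k X n E S.X₂ → P k X n E S.X₃ → P k X n E S.X₁) := by
  have e1 := euler_tensor_additive k X S hS h₁ h₃ hE
  have e3 := Groth.Agent.Lib.Lead.ProperEuler.euler_additive k hS h₁ h₃
  have hl := fun Z : irreducibleComponents (X : Type u) => lenAt_add S hS h₂ h₃ Z
  have fin1 : (∀ Z : irreducibleComponents (X : Type u), topologicalKrullDim (Z.1 : Set X) = 1 →
      lenAt X S.X₂ Z ≠ ⊤) → ∀ Z : irreducibleComponents (X : Type u),
      topologicalKrullDim (Z.1 : Set X) = 1 → lenAt X S.X₁ Z ≠ ⊤ := by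
    intro h Z hZ hcon
    apply h Z hZ
    rw [hl Z, hcon]
    simp
  have fin3 : (∀ Z : irreducibleComponents (X : Type u), topologicalKrullDim (Z.1 : Set X) = 1 →
      lenAt X S.X₂ Z ≠ ⊤) → ∀ Z : irreducibleComponents (X : Type u),
      topologicalKrullDim (Z.1 : Set X) = 1 → lenAt X S.X₃ Z ≠ ⊤ := by
    intro h Z hZ hcon
    apply h Z hZ
    rw [hl Z, hcon]
    simp
  have fin2 : (∀ Z : irreducibleComponents (X : Type u), topologicalKrullDim (Z.1 : Set X) = 1 →
      lenAt X S.X₁ Z ≠ ⊤) → (∀ Z : irreducibleComponents (X : Type u),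
      topologicalKrullDim (Z.1 : Set X) = 1 → lenAt X S.X₃ Z ≠ ⊤) →
      ∀ Z : irreducibleComponents (X : Type u),
      topologicalKrullDim (Z.1 : Set X) = 1 → lenAt X S.X₂ Z ≠ ⊤ := by
    intro h h' Z hZ
    rw [hl Z]
    exact WithTop.add_ne_top.mpr ⟨h Z hZ, h' Z hZ⟩
  refine ⟨fun a b => ?_, fun a b => ?_, fun a b => ?_⟩
  · have f1 := a.1
    have f3 := fin3 b.1
    refine ⟨f3, ?_⟩
    have hr := rhs_add k X (n := n) (E := E) (fun Z _ => hl Z) f1 f3
    have ha := a.2
    have hb := b.2
    rw [e1, e3, hr] at hb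
    linarith
  · have f1 := a.1
    have f3 := b.1
    refine ⟨fin2 f1 f3, ?_⟩
    have hr := rhs_add k X (n := n) (E := E) (fun Z _ => hl Z) f1 f3
    have ha := a.2
    have hb := b.2
    rw [e1, e3, hr]
    linarith
  · have f1 := fin1 a.1
    have f3 := b.1
    refine ⟨f1, ?_⟩
    have hr := rhs_add k X (n := n) (E := E) (fun Z _ => hl Z) f1 f3
    have ha := a.2
    have hb := b.2
    rw [e1, e3, hr] at ha
    linarith

/-- the image of an integral closed curve in a scheme of dimension `≤ 1` is an irreducible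
component -/
theorem range_mem_irreducibleComponents (hdim : topologicalKrullDim X ≤ 1) {Z' : Scheme.{u}}
    (i : Z' ⟶ X) [IsClosedImmersion i] [IrreducibleSpace Z'] (h1 : topologicalKrullDim Z' = 1) :
    Set.range i ∈ irreducibleComponents (X : Type u) := by
  have hirr : IsIrreducible (Set.range i) := by
    rw [← Set.image_univ]
    exact (IrreducibleSpace.isIrreducible_univ Z').image i i.continuous.continuousOn
  have hcl : IsClosed (Set.range i) := i.isClosedEmbedding.isClosed_range
  have hd : topologicalKrullDim ↥(Set.range i) = 1 := by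
    have e : Z' ≃ₜ ↥(Set.range i) := i.isClosedEmbedding.isEmbedding.toHomeomorph
    rw [← IsHomeomorph.topologicalKrullDim_eq e e.isHomeomorph]
    exact h1
  refine ⟨hirr, fun T hT hle => ?_⟩
  have hB : IsIrreducible (closure T) := hT.closure
  have hsub : Set.range i ⊆ closure T := hle.trans subset_closure
  by_cases hne : Set.range i = closure T
  · rw [hne]
    exact subset_closure
  · exfalso
    have h2 := Groth.Agent.Lib.helper8.DimLt.topologicalKrullDim_add_one_le hsub hcl hB hne
    have h3 : topologicalKrullDim ↥(closure T) ≤ 1 :=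
      (topologicalKrullDim_subspace_le X (closure T)).trans hdim
    rw [hd] at h2
    have h4 : (1 : WithBot ℕ∞) + 1 ≤ 1 := h2.trans h3
    have h5 : ((2 : ℕ) : WithBot ℕ∞) ≤ ((1 : ℕ) : WithBot ℕ∞) := by
      have : ((2 : ℕ) : WithBot ℕ∞) = 1 + 1 := by norm_num
      rw [this]
      exact_mod_cast h4
    have h6 : (2 : ℕ) ≤ 1 := by exact_mod_cast h5
    omega

omit [X.Over (Spec (CommRingCat.of k))] [IsProper (X ↘ (Spec (CommRingCat.of k)))] in
/-- the length of the residue field is one -/
theorem length_residueField (R : Type*) [CommRing R] [IsLocalRing R] :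
    Module.length R (IsLocalRing.ResidueField R) = 1 := by
  rw [Module.length_eq_of_surjective (S := R) (R := IsLocalRing.ResidueField R)
    (M := IsLocalRing.ResidueField R) IsLocalRing.residue_surjective,
    Module.length_eq_finrank, Module.finrank_self]
  rfl

omit [X.Over (Spec (CommRingCat.of k))] [IsProper (X ↘ (Spec (CommRingCat.of k)))] in
/-- the generic point of a component `Z ≠ Z₀` does not lie on `Z₀` -/
theorem gp_not_mem (Z Z₀ : irreducibleComponents (X : Type u)) (hne : Z ≠ Z₀) :
    gp X Z ∉ Z₀.1 := by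
  intro hmem
  apply hne
  have h1 : Z.1 ⊆ Z₀.1 := by
    rw [← (gp_spec X Z).def]
    exact (isClosed_of_mem_irreducibleComponents Z₀.1 Z₀.2).closure_subset_iff.mpr
      (Set.singleton_subset_iff.mpr hmem)
  have h2 : Z₀.1 ⊆ Z.1 := Z.2.2 Z₀.2.1 h1
  exact Subtype.ext (Set.Subset.antisymm h1 h2)

omit [X.Over (Spec (CommRingCat.of k))] [IsProper (X ↘ (Spec (CommRingCat.of k)))] in
/-- a module pushed forward from a closed subscheme has zero stalks off the subscheme -/
theorem subsingleton_stalk_push {Z' : Scheme.{u}} (i : Z' ⟶ X) [IsClosedImmersion i]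
    (G : Z'.Modules) (x : X) (hx : x ∉ Set.range i) :
    Subsingleton (((Scheme.Modules.pushforward i).obj G).presheaf.stalk x) := by
  by_contra hn
  exact hx (Groth.Agent.Lib.helper8.SchemeSupport.support_subset_range_of_iso _ i G (Iso.refl _) hn)

/-- the formula for the structure sheaf of a reduced component of dimension one -/
theorem p_component {n : ℕ} {E : X.Modules} (hE : FlatMod.IsFinLocFreeOfRank n E)
    (Z₀ : irreducibleComponents (X : Type u)) (hZ₀ : topologicalKrullDim (Z₀.1 : Set X) = 1) :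
    P k X n E ((Scheme.Modules.pushforward (ιr X Z₀)).obj (Coh.structureModule (Cr X Z₀))) := by
  letI : (Cr X Z₀).Over (Spec (CommRingCat.of k)) :=
    ⟨ιr X Z₀ ≫ (X ↘ Spec (CommRingCat.of k))⟩
  have hi : ιr X Z₀ ≫ (X ↘ Spec (CommRingCat.of k)) = (Cr X Z₀) ↘ Spec (CommRingCat.of k) := rfl
  have hEf := Groth.Agent.Lib.helper16.FLF.isFinLocFree_of_isFinLocFreeOfRank hE
  set G := (Scheme.Modules.pushforward (ιr X Z₀)).obj (Coh.structureModule (Cr X Z₀)) with hG
  -- lengths
  have hlen0 : ∀ Z : irreducibleComponents (X : Type u), Z ≠ Z₀ → lenAt X G Z = 0 := by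
    intro Z hne
    apply lenAt_eq_zero_of_subsingleton
    apply subsingleton_stalk_push X (ιr X Z₀) _ _
    rw [range_ιr]
    exact gp_not_mem X Z Z₀ hne
  have hlen1 : lenAt X G Z₀ = 1 := by
    have key : ∀ x : X, x = ιr X Z₀ (genericPoint (Cr X Z₀)) →
        Module.length (X.presheaf.stalk x) (G.presheaf.stalk x) = 1 := by
      intro x hx
      subst hx
      obtain ⟨e⟩ := Groth.Agent.Lib.Helper18.StalkPushResidue.nonempty_stalk_push_equiv_residueField
        (ιr X Z₀) (genericPoint (Cr X Z₀)) (Field.toIsField (Cr X Z₀).functionField)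
      rw [LinearEquiv.length_eq e]
      exact length_residueField _
    exact key _ (ιr_genericPoint X Z₀).symm
  refine ⟨fun Z _ => ?_, ?_⟩
  · by_cases hZ : Z = Z₀
    · rw [hZ, hlen1]; simp
    · rw [hlen0 Z hZ]; simp
  · have hr : rhs k X n E G = dC k X n E Z₀ := by
      unfold rhs
      rw [finsum_eq_single _ Z₀ (fun Z hZ => by rw [hlen0 Z hZ]; simp)]
      rw [if_pos hZ₀, hlen1]
      simp
    rw [hr]
    have T1 := euler_push_tensor k (ιr X Z₀) hi (Coh.structureModule (Cr X Z₀)) E hEf
    have T2 := Groth.Agent.Lib.Helper18.PullEuler.euler_push k (ιr X Z₀) hi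
      (Coh.structureModule (Cr X Z₀))
    have T3 := Groth.Agent.Lib.Lead.CurveEuler.euler_eq_of_iso k (Cr X Z₀)
      (leftUnitor ((Scheme.Modules.pullback (ιr X Z₀)).obj E))
    rw [T1, T2, T3]
    rfl

/-- the formula for a coherent module supported at a closed point -/
theorem p_push_point {n : ℕ} {E : X.Modules}
    (hE : FlatMod.IsFinLocFreeOfRank n E) (Z' : Scheme.{u}) (i : Z' ⟶ X) [IsClosedImmersion i]
    (h0 : topologicalKrullDim Z' ≤ 0) (G : Z'.Modules) (hG : Coh.IsCoh G) :
    P k X n E ((Scheme.Modules.pushforward i).obj G) := by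
  have hPc : Coh.IsCoh ((Scheme.Modules.pushforward i).obj G) :=
    Groth.Agent.Lib.helper8.Dev.isCoh_push_of_isCoh i G hG
  have hr0 : topologicalKrullDim ↥(Set.range i) ≤ 0 := by
    have e : Z' ≃ₜ ↥(Set.range i) := i.isClosedEmbedding.isEmbedding.toHomeomorph
    rw [← IsHomeomorph.topologicalKrullDim_eq e e.isHomeomorph]
    exact h0
  have hlen0 : ∀ Z : irreducibleComponents (X : Type u), topologicalKrullDim (Z.1 : Set X) = 1 →
      lenAt X ((Scheme.Modules.pushforward i).obj G) Z = 0 := by
    intro Z hZ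
    apply lenAt_eq_zero_of_subsingleton
    apply subsingleton_stalk_push X i
    intro hmem
    have h1 : Z.1 ⊆ Set.range i := by
      rw [← (gp_spec X Z).def]
      exact i.isClosedEmbedding.isClosed_range.closure_subset_iff.mpr
        (Set.singleton_subset_iff.mpr hmem)
    have h2 := (Groth.Agent.Lib.helper8.DimLt.topologicalKrullDim_le_of_subset h1).trans hr0
    rw [hZ] at h2
    exact absurd h2 (by decide)
  refine ⟨fun Z hZ => by rw [hlen0 Z hZ]; simp, ?_⟩
  rw [rhs_eq_zero k X hlen0]
  have hs : CohB1.support ((Scheme.Modules.pushforward i).obj G) ⊆ Set.range i :=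
    Groth.Agent.Lib.helper8.SchemeSupport.support_subset_range_of_iso _ i G (Iso.refl _)
  have hd0 : topologicalKrullDim ↥(CohB1.support ((Scheme.Modules.pushforward i).obj G)) ≤ 0 :=
    (Groth.Agent.Lib.helper8.DimLt.topologicalKrullDim_le_of_subset hs).trans hr0
  rw [Groth.Agent.Lib.Helper18.Punctual.euler_tensor_of_support_dim_le_zero k X _ hPc hd0 n E hE]
  ring

/-- **main theorem**: `χ(F ⊗ E) − n χ(F) = Σ_C length(F_{ξ_C}) deg(E|_{C_red})` -/
theorem main (hdim : topologicalKrullDim X ≤ 1) {n : ℕ} {E : X.Modules}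
    (hE : FlatMod.IsFinLocFreeOfRank n E) (F : X.Modules) (hF : Coh.IsCoh F) : P k X n E F := by
  refine Groth.Agent.Lib.helper8.Dev.devissage_master (P k X n E) ?_ Set.univ ?_ ?_ ?_ F hF
    (Set.subset_univ _)
  · rintro M N ⟨e⟩ hM
    exact p_of_iso k X e hM
  · intro N hN
    exact p_of_isZero k X hN
  · intro S hS h1 h2 h3 _
    exact p_ses k X hE S hS h1 h2 h3
  · intro Z' i _ _ _
    have hdZ : topologicalKrullDim Z' ≤ 1 :=
      (i.isClosedEmbedding.topologicalKrullDim_le).trans hdim
    by_cases h1 : topologicalKrullDim Z' = 1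
    · right
      obtain ⟨Z₀, hZ₀def⟩ : ∃ Z₀ : irreducibleComponents (X : Type u), Z₀.1 = Set.range i :=
        ⟨⟨Set.range i, range_mem_irreducibleComponents X hdim i h1⟩, rfl⟩
      have hZ₀ : topologicalKrullDim (Z₀.1 : Set X) = 1 := by
        have e : Z' ≃ₜ ↥(Set.range i) := i.isClosedEmbedding.isEmbedding.toHomeomorph
        rw [hZ₀def, ← IsHomeomorph.topologicalKrullDim_eq e e.isHomeomorph]
        exact h1
      have hgp : i (genericPoint Z') = gp X Z₀ := by
        have h2 : closure ({genericPoint Z'} : Set Z') = Set.univ := genericPoint_spec Z'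
        have h3 : IsGenericPoint (i (genericPoint Z')) Z₀.1 := by
          change closure {i (genericPoint Z')} = Z₀.1
          rw [← Set.image_singleton, i.isClosedEmbedding.closure_image_eq, h2, Set.image_univ,
            hZ₀def]
        exact h3.eq (gp_spec X Z₀)
      haveI : IsLocallyNoetherian (Cr X Z₀) :=
        LocallyOfFiniteType.isLocallyNoetherian (ιr X Z₀)
      refine ⟨(Scheme.Modules.pushforward (ιr X Z₀)).obj (Coh.structureModule (Cr X Z₀)),
        Groth.Agent.Lib.helper8.Dev.isCoh_push_of_isCoh (ιr X Z₀) _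
          (Groth.Agent.Lib.helper8.Dev.isCoh_structureModule (Cr X Z₀)), ?_, ?_,
        p_component k X hE Z₀ hZ₀⟩
      · have := Groth.Agent.Lib.helper8.SchemeSupport.support_subset_range_of_iso _ (ιr X Z₀)
          (Coh.structureModule (Cr X Z₀)) (Iso.refl _)
        rw [range_ιr, hZ₀def] at this
        exact this
      · have key : ∀ x : X, x = ιr X Z₀ (genericPoint (Cr X Z₀)) →
            Nonempty (↑(((Scheme.Modules.pushforward (ιr X Z₀)).obj
              (Coh.structureModule (Cr X Z₀))).presheaf.stalk x) ≃ₗ[X.presheaf.stalk x]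
              IsLocalRing.ResidueField (X.presheaf.stalk x)) := by
          intro x hx
          subst hx
          exact Groth.Agent.Lib.Helper18.StalkPushResidue.nonempty_stalk_push_equiv_residueField
            (ιr X Z₀) (genericPoint (Cr X Z₀)) (Field.toIsField (Cr X Z₀).functionField)
        exact key _ (hgp.trans (ιr_genericPoint X Z₀).symm)
    · left
      intro I ι hι hIq
      haveI : IsLocallyNoetherian Z' := LocallyOfFiniteType.isLocallyNoetherian i
      have hIc : Coh.IsCoh I := Groth.Agent.S0046.result Z' (Coh.structureModule Z') I ι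
        (Groth.Agent.Lib.helper8.Dev.isCoh_structureModule Z') hIq
      exact p_push_point k X hE Z' i (le_zero_of_le_one_of_ne_one _ hdZ h1) I hIc

omit [X.Over (Spec (CommRingCat.of k))] [IsProper (X ↘ (Spec (CommRingCat.of k)))]
  [AlgebraicGeometry.IsNoetherian X] in
theorem lenAt_structureModule (Z : irreducibleComponents (X : Type u)) :
    lenAt X (Coh.structureModule X) Z =
      Module.length (X.presheaf.stalk (gp X Z)) (X.presheaf.stalk (gp X Z)) := by
  haveI hfree := (Groth.Agent.Lib.helper16.FLF.free_stalk_of_isFinLocFree _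
    (Groth.Agent.Lib.helper16.FLF.isFinLocFree_structureModule X) (gp X Z)).1
  have hrk := Groth.Agent.Lib.helper16.FLF.finrank_stalk_of_isFinLocFreeOfRank _
    (Groth.Agent.Lib.helper16.FLF.isFinLocFreeOfRank_structureModule X) (gp X Z)
  obtain ⟨e⟩ := Module.nonempty_linearEquiv_of_finrank_eq_one hrk
  exact LinearEquiv.length_eq e.symm

/-- **S1641**: `deg E = Σ_C m_C deg(E|_{C_red})` -/
theorem deg_eq_sum (hdim : topologicalKrullDim X ≤ 1) {n : ℕ} {E : X.Modules}
    (hE : FlatMod.IsFinLocFreeOfRank n E) :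
    Curv2.deg k X E n = ∑ᶠ Z : irreducibleComponents (X : Type u),
      (if topologicalKrullDim (Z.1 : Set X) = 1 then
        ((Module.length (X.presheaf.stalk (gp X Z)) (X.presheaf.stalk (gp X Z))).toNat : ℤ) *
          dC k X n E Z else 0) := by
  have h := (main k X hdim hE (Coh.structureModule X)
    (Groth.Agent.Lib.helper8.Dev.isCoh_structureModule X)).2
  rw [Groth.Agent.Lib.Lead.CurveEuler.euler_eq_of_iso k X (leftUnitor E)] at h
  unfold Curv2.deg
  rw [h]
  unfold rhs
  refine finsum_congr fun Z => ?_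
  rw [lenAt_structureModule]

omit [X.Over (Spec (CommRingCat.of k))] [IsProper (X ↘ (Spec (CommRingCat.of k)))] in
theorem dim_le_one_of_components
    (hdim : ∀ Z ∈ irreducibleComponents (X : Type u), topologicalKrullDim Z = 1) :
    topologicalKrullDim X ≤ 1 := by
  rw [Groth.Agent.Lib.helper3.TopDim.dim_eq_iSup_of_locallyFinite_closed_cover
    (fun Z : irreducibleComponents (X : Type u) => (Z.1 : Set X))
    (fun Z => isClosed_of_mem_irreducibleComponents Z.1 Z.2) (locallyFinite_of_finite _)
    (by rw [← Set.sUnion_eq_iUnion]; exact sUnion_irreducibleComponents)]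
  exact iSup_le fun Z => (hdim Z.1 Z.2).le

/-- **S17659**: `χ(E ⊗ F) = Σ_C length(F_{ξ_C}) deg(E|_{C_red}) + n χ(F)` -/
theorem euler_tensor_eq_sum
    (hdim : ∀ Z ∈ irreducibleComponents (X : Type u), topologicalKrullDim Z = 1)
    {n : ℕ} {E : X.Modules} (hE : FlatMod.IsFinLocFreeOfRank n E) (F : X.Modules)
    (hF : Coh.IsCoh F) :
    Curv2.euler k X (CohB1.tensorMod E F) =
      (∑ᶠ Z : irreducibleComponents (X : Type u),
        ((Module.length (X.presheaf.stalk (gp X Z)) (F.presheaf.stalk (gp X Z))).toNat : ℤ) *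
          dC k X n E Z) + (n : ℤ) * Curv2.euler k X F := by
  have h := (main k X (dim_le_one_of_components X hdim) hE F hF).2
  rw [Groth.Agent.Lib.Lead.CurveEuler.euler_eq_of_iso k X (braid E F)]
  have h2 : rhs k X n E F = ∑ᶠ Z : irreducibleComponents (X : Type u),
      ((Module.length (X.presheaf.stalk (gp X Z)) (F.presheaf.stalk (gp X Z))).toNat : ℤ) *
        dC k X n E Z := by
    unfold rhs
    refine finsum_congr fun Z => ?_
    rw [if_pos (hdim Z.1 Z.2)]
    rfl
  rw [← h2, ← h]
  ring

end Main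

end Groth.Agent.Lib.Helper18.DegComponents
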