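import Mathlib
import Groth.Agent.Lib.Helper11.IdealOfMono
import Groth.Agent.Lib.Helper7.IdealMod
import Groth.Agent.Lib.Helper7.CohKer
import Groth.Agent.Lib.Lead.ModTensor
import Groth.Agent.Lib.Helper12.TensorCocont
import Groth.Agent.Lib.Helper2.TensorQCoh
import Groth.Agent.Lib.Helper12.GGTensor
import Groth.Agent.Lib.Helper12.InvDual2
import Groth.Agent.Lib.Helper18.DegComponents
import Groth.Agent.Lib.Helper8.DevAnn
import Groth.Agent.Lib.Helper9.CurveVanish
import Groth.Agent.Lib.Helper7.SnapperQuot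
import Groth.Agent.Lib.Helper16.FLF5
import Groth.Agent.Lib.Lead.CurveInv

/-!
# Nef invertible modules on one-dimensional proper schemes with `H¹(O_X) = 0` (helper18)

`X` proper over a field `k`, `dim X ≤ 1`, `H¹(X, O_X) = 0`, `L` invertible and nef (degree `≥ 0` on every
integral one-dimensional closed subscheme).  Then `H¹(X, L) = 0` and `L` is globally generated
(S16295, S16296, S14092).

General (any scheme):
* `exists_quotMod_iso`: every quasi-coherent quotient `φ : O_X ⟶ Q` is `O_X/I` (compatibly with `φ`);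
* `le_of_idealModι_comp_eq_zero`: `I ≤ I'` if `I ⟶ O_X ⟶ O_X/I'` is zero;
* `exists_iso_quot_tensor`: a quasi-coherent quotient of `P ⊗ L` (`P` a quotient of `O_X`, `L` with a tensor
  inverse) is `(O_X/I') ⊗ L`, with `I ≤ I'` whenever `I` dies in `P`.
Curves:
* `subsingleton_H1_of_epi_unit`, `euler_quot`, `euler_le_euler_tensor` (nef ⇒ `χ(F) ≤ χ(F ⊗ L)`, from
  `DegComponents.main`);
* `subsingleton_H1_quot_tensor`: `H¹((O_X/I) ⊗ L) = 0` for all `I` (Noetherian induction on `I`);
* `subsingleton_H1_of_nef`, `epi_of_sections_factor`, `gg_of_nef`.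
-/

set_option autoImplicit false
set_option linter.style.haveILetI false
universe u
open CategoryTheory CategoryTheory.Limits AlgebraicGeometry Opposite TopologicalSpace

namespace Groth.Agent.Lib.Helper18.NefH1Zero

open Groth.Agent.Lib.Lead.ModTensor Groth.Agent.Lib.helper7.IdealMod
open Groth.Agent.Lib.helper11.IdealOfMono

section General

variable {X : Scheme.{u}}

/-- every quasi-coherent quotient of `O_X` is `O_X / I` -/
theorem exists_quotMod_iso {Q : X.Modules} [Q.IsQuasicoherent] (φ : Coh.structureModule X ⟶ Q)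
    [Epi φ] : ∃ (I : X.IdealSheafData) (e : ClSub.quotMod I ≅ Q), ClSub.toSubscheme I ≫ e.hom = φ := by
  haveI : (kernel φ).IsQuasicoherent := Groth.Agent.Lib.helper7.CohKer.isQuasicoherent_kernel φ
  let I : X.IdealSheafData := idealOfHom (kernel φ) (kernel.ι φ)
  obtain ⟨e, he⟩ : ∃ e : kernel φ ≅ ClSub.idealMod I, e.hom ≫ ClSub.idealModι I = kernel.ι φ :=
    ⟨idealModIso (kernel φ) (kernel.ι φ), idealModIso_hom_ι (kernel φ) (kernel.ι φ)⟩
  have key : ClSub.idealModι I = e.inv ≫ kernel.ι φ := by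
    rw [Iso.eq_inv_comp]; exact he
  have hc : ClSub.idealModι I ≫ ClSub.toSubscheme I = 0 := kernel.condition _
  have h1 : kernel.ι (ClSub.toSubscheme I) ≫ φ = 0 := by
    change ClSub.idealModι I ≫ φ = 0
    rw [key, Category.assoc, kernel.condition, comp_zero]
  have h2 : kernel.ι φ ≫ ClSub.toSubscheme I = 0 := by
    rw [← he, Category.assoc, hc, comp_zero]
  let a : ClSub.quotMod I ⟶ Q := Abelian.epiDesc (ClSub.toSubscheme I) φ h1
  let b : Q ⟶ ClSub.quotMod I := Abelian.epiDesc φ (ClSub.toSubscheme I) h2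
  have ha : ClSub.toSubscheme I ≫ a = φ := Abelian.comp_epiDesc _ _ _
  have hb : φ ≫ b = ClSub.toSubscheme I := Abelian.comp_epiDesc _ _ _
  refine ⟨I, ⟨a, b, ?_, ?_⟩, ha⟩
  · rw [← cancel_epi (ClSub.toSubscheme I), ← Category.assoc, ha, hb, Category.comp_id]
  · rw [← cancel_epi φ, ← Category.assoc, hb, ha, Category.comp_id]

/-- `I ≤ I'` if the sections of `I` die in `O_X / I'` -/
theorem le_of_idealModι_comp_eq_zero (I I' : X.IdealSheafData)
    (h : ClSub.idealModι I ≫ ClSub.toSubscheme I' = 0) : I ≤ I' := by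
  intro U a ha
  obtain ⟨t, ht⟩ := (mem_range_idealModι_iff_of_affine I U a).mpr ha
  have h1 := congrArg (fun ψ => (Scheme.Modules.Hom.app ψ U.1).hom t) h
  simp only [Scheme.Modules.Hom.comp_app, AddCommGrpCat.hom_comp, AddMonoidHom.coe_comp,
    Function.comp_apply] at h1
  rw [ht] at h1
  rw [← I'.ker_subschemeι_app U, RingHom.mem_ker]
  exact h1

/-- a quotient of `P ⊗ L`, where `P` is a quotient of `O_X` and `L` is invertible, is `(O_X/I') ⊗ L` -/
theorem exists_iso_quot_tensor {L M : X.Modules}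
    (θ : CohB1.tensorMod L M ≅ Coh.structureModule X)
    (θ' : CohB1.tensorMod M L ≅ Coh.structureModule X) [M.IsQuasicoherent]
    {P T : X.Modules} [T.IsQuasicoherent] (p : Coh.structureModule X ⟶ P) [Epi p]
    (ρ : CohB1.tensorMod P L ⟶ T) [Epi ρ] :
    ∃ I' : X.IdealSheafData, Nonempty (T ≅ CohB1.tensorMod (ClSub.quotMod I') L) ∧
      ∀ I : X.IdealSheafData, ClSub.idealModι I ≫ p = 0 → I ≤ I' := by
  let eP : P ≅ CohB1.tensorMod (CohB1.tensorMod P L) M :=
    (rightUnitor P).symm ≪≫ tensorIso (Iso.refl P) θ.symm ≪≫ (assoc P L M).symm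
  let eT : T ≅ CohB1.tensorMod (CohB1.tensorMod T M) L :=
    (rightUnitor T).symm ≪≫ tensorIso (Iso.refl T) θ'.symm ≪≫ (assoc T M L).symm
  haveI : Epi (tensorMap ρ (𝟙 M)) := Groth.Agent.Lib.helper12.TensorCocont.epi_tensorMap_right M ρ
  let φ : Coh.structureModule X ⟶ CohB1.tensorMod T M := p ≫ eP.hom ≫ tensorMap ρ (𝟙 M)
  haveI : Epi φ := epi_comp _ _
  haveI : (CohB1.tensorMod T M).IsQuasicoherent :=
    Groth.Agent.Lib.helper2.TensorQCoh.isQuasicoherent_tensorMod _ _
  obtain ⟨I', e, he⟩ := exists_quotMod_iso φ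
  refine ⟨I', ⟨eT ≪≫ tensorIso e.symm (Iso.refl L)⟩, fun I hI => ?_⟩
  apply le_of_idealModι_comp_eq_zero
  have h0 : ClSub.idealModι I ≫ φ = 0 := by
    change ClSub.idealModι I ≫ p ≫ _ = 0
    rw [← Category.assoc, hI, zero_comp]
  rw [← he, ← Category.assoc] at h0
  rw [← cancel_mono e.hom, zero_comp]
  exact h0

end General

section Curve

open Groth.Agent.Lib.Helper18 Groth.Agent.Lib.Helper20.SplitH1 Module

variable (k : Type u) [Field k] (X : Scheme.{u}) [X.Over (Spec (CommRingCat.of k))]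
  [IsProper (X ↘ (Spec (CommRingCat.of k)))]

omit [X.Over (Spec (CommRingCat.of k))] [IsProper (X ↘ (Spec (CommRingCat.of k)))] in
theorem gg_unit : Curv2.IsGloballyGenerated (Coh.structureModule X) :=
  ⟨PUnit.{u + 1},
    (coproductUniqueIso (fun _ : PUnit.{u + 1} => SheafOfModules.unit X.ringCatSheaf)).hom,
    inferInstance⟩

include k in
/-- quotients of `O_X` have no `H¹` if `O_X` has none (dimension `≤ 1`) -/
theorem subsingleton_H1_of_epi_unit (hdim : topologicalKrullDim X ≤ 1)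
    (h1 : Subsingleton (Coh.HH X (Coh.structureModule X) 1)) {Q : X.Modules}
    (ψ : Coh.structureModule X ⟶ Q) [Epi ψ] : Subsingleton (Coh.HH X Q 1) := by
  haveI := Groth.Agent.Lib.Lead.ProperEuler.compactSpace k X
  haveI := Groth.Agent.Lib.Lead.ProperEuler.quasiSeparatedSpace k X
  exact Groth.Agent.Lib.helper12.GGTensor.subsingleton_H1_of_gg hdim h1
    (Groth.Agent.Lib.helper12.GGTensor.gg_of_epi ψ (gg_unit X))

omit [X.Over (Spec (CommRingCat.of k))] [IsProper (X ↘ (Spec (CommRingCat.of k)))] in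
/-- a nonzero map `O_X ⟶ Q` gives a nonzero class in `H⁰` -/
theorem nontrivial_H0_of_hom_ne_zero {Q : X.Modules} (ψ : Coh.structureModule X ⟶ Q) (hψ : ψ ≠ 0) :
    Nontrivial (Coh.HH X Q 0) := by
  have ht : (ψ.val.app (op ⊤)).hom (1 : X.ringCatSheaf.obj.obj (op ⊤)) ≠ 0 := by
    intro h0
    apply hψ
    apply hom_ext_top
    rw [h0]
    rfl
  refine ⟨⟨(HH.equiv₀ Q).symm ((ψ.val.app (op ⊤)).hom (1 : X.ringCatSheaf.obj.obj (op ⊤))), 0, ?_⟩⟩
  intro h
  apply ht
  have := congrArg (HH.equiv₀ Q) h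
  rwa [LinearEquiv.apply_symm_apply, map_zero] at this

/-- `χ(Q) = h⁰(Q) ≥ 0` for a coherent quotient of `O_X`, and `≥ 1` if `Q ≠ 0` -/
theorem euler_quot (hdim : topologicalKrullDim X ≤ 1)
    (h1 : Subsingleton (Coh.HH X (Coh.structureModule X) 1)) {Q : X.Modules} (hQ : Coh.IsCoh Q)
    (ψ : Coh.structureModule X ⟶ Q) [Epi ψ] :
    0 ≤ Curv2.euler k X Q ∧ (ψ ≠ 0 → 1 ≤ Curv2.euler k X Q) := by
  have hQ1 := subsingleton_H1_of_epi_unit k X hdim h1 ψ
  have he := Groth.Agent.Lib.Lead.CurveEuler.euler_eq k X hdim Q hQ.1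
  have hz : finrank k (Coh.HH X Q 1) = 0 := Module.finrank_zero_of_subsingleton
  rw [hz] at he
  refine ⟨by rw [he]; simp, fun hψ => ?_⟩
  haveI := nontrivial_H0_of_hom_ne_zero X ψ hψ
  haveI : Module.Finite k (Coh.HH X Q 0) := Groth.Agent.Lib.Lead.ProperEuler.finite_HH k X _ hQ 0
  have hpos : 0 < finrank k (Coh.HH X Q 0) := Module.finrank_pos
  rw [he]
  have : (1 : ℤ) ≤ (finrank k (Coh.HH X Q 0) : ℤ) := by exact_mod_cast hpos
  simpa using this

/-- nef ⇒ `χ(F) ≤ χ(F ⊗ L)` -/
theorem euler_le_euler_tensor (hdim : topologicalKrullDim X ≤ 1) {L : X.Modules}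
    (hL : PicF.IsInvertible L)
    (hnef : ∀ J : X.IdealSheafData, IsIntegral J.subscheme → topologicalKrullDim J.subscheme = 1 →
      0 ≤ @Curv2.deg k _ J.subscheme ⟨J.subschemeι ≫ (X ↘ (Spec (CommRingCat.of k)))⟩
        ((Scheme.Modules.pullback J.subschemeι).obj L) 1)
    (F : X.Modules) (hF : Coh.IsCoh F) :
    Curv2.euler k X F ≤ Curv2.euler k X (CohB1.tensorMod F L) := by
  haveI := Groth.Agent.Lib.Lead.CurveEuler.isNoetherian k X
  have hE : FlatMod.IsFinLocFreeOfRank 1 L :=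
    (Groth.Agent.Lib.helper16.FLF.isInvertible_iff_isFinLocFreeOfRank_one L).mp hL
  obtain ⟨-, h⟩ := DegComponents.main k X hdim hE F hF
  have hr : 0 ≤ DegComponents.rhs k X 1 L F := by
    unfold DegComponents.rhs
    refine finsum_nonneg fun Z => ?_
    by_cases hZ : topologicalKrullDim (Z.1 : Set X) = 1
    · rw [if_pos hZ]
      refine mul_nonneg (Int.natCast_nonneg _) ?_
      exact hnef (CompRed.J X Z) (CompRed.isIntegral_Cr X Z) ((CompRed.dim_Cr X Z).trans hZ)
    · rw [if_neg hZ]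
  rw [← h] at hr
  push_cast at hr
  linarith

/-- the image sequence `0 → im σ → G → coker σ → 0` -/
theorem image_shortExact {A B : X.Modules} (σ : A ⟶ B) :
    (ShortComplex.mk (Abelian.image.ι σ) (cokernel.π σ) (kernel.condition _)).ShortExact :=
  { exact := ShortComplex.exact_of_f_is_kernel _ (kernelIsKernel (cokernel.π σ))
    mono_f := inferInstanceAs (Mono (kernel.ι (cokernel.π σ)))
    epi_g := inferInstanceAs (Epi (cokernel.π σ)) }

/-- **key vanishing**: `H¹((O_X/I) ⊗ L) = 0` for every ideal `I`, `L` nef on a one-dimensional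
proper `X` with `H¹(O_X) = 0` -/
theorem subsingleton_H1_quot_tensor (hdim : topologicalKrullDim X ≤ 1)
    (h1 : Subsingleton (Coh.HH X (Coh.structureModule X) 1)) {L : X.Modules}
    (hL : PicF.IsInvertible L)
    (hnef : ∀ J : X.IdealSheafData, IsIntegral J.subscheme → topologicalKrullDim J.subscheme = 1 →
      0 ≤ @Curv2.deg k _ J.subscheme ⟨J.subschemeι ≫ (X ↘ (Spec (CommRingCat.of k)))⟩
        ((Scheme.Modules.pullback J.subschemeι).obj L) 1)
    (I : X.IdealSheafData) :
    Subsingleton (Coh.HH X (CohB1.tensorMod (ClSub.quotMod I) L) 1) := by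
  haveI := Groth.Agent.Lib.Lead.CurveEuler.isNoetherian k X
  haveI : WellFoundedGT X.IdealSheafData := Groth.Agent.Lib.helper8.Dev.wellFoundedGT_idealSheafData
  obtain ⟨M, hM, ⟨θ⟩, ⟨θ'⟩⟩ := Groth.Agent.Lib.helper12.InvDual.exists_inverse hL
  have hLc : Coh.IsCoh L := Groth.Agent.Lib.Lead.CurveInv.isCoh_of_isInvertible X hL
  have hMc : Coh.IsCoh M := Groth.Agent.Lib.Lead.CurveInv.isCoh_of_isInvertible X hM
  haveI : M.IsQuasicoherent := hMc.1
  induction I using WellFoundedGT.induction with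
  | ind I ih =>
  by_contra hne
  rw [not_subsingleton_iff_nontrivial] at hne
  have hQc : Coh.IsCoh (ClSub.quotMod I) := Groth.Agent.Lib.helper7.SnapperQuot.isCoh_quotMod I
  have hGc : Coh.IsCoh (CohB1.tensorMod (ClSub.quotMod I) L) := DegCalc.isCoh_tensorMod hQc hLc
  -- `h⁰(G) > 0`
  have hχ := euler_le_euler_tensor k X hdim hL hnef _ hQc
  have hQ0 := (euler_quot k X hdim h1 hQc (ClSub.toSubscheme I)).1
  have heG := Groth.Agent.Lib.Lead.CurveEuler.euler_eq k X hdim _ hGc.1
  haveI : Module.Finite k (Coh.HH X (CohB1.tensorMod (ClSub.quotMod I) L) 1) :=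
    Groth.Agent.Lib.Lead.ProperEuler.finite_HH k X _ hGc 1
  have hpos1 : 0 < finrank k (Coh.HH X (CohB1.tensorMod (ClSub.quotMod I) L) 1) :=
    Module.finrank_pos
  have hpos0 : 0 < finrank k (Coh.HH X (CohB1.tensorMod (ClSub.quotMod I) L) 0) := by
    have : (0 : ℤ) < (finrank k (Coh.HH X (CohB1.tensorMod (ClSub.quotMod I) L) 0) : ℤ) := by
      have : (0 : ℤ) < (finrank k (Coh.HH X (CohB1.tensorMod (ClSub.quotMod I) L) 1) : ℤ) := by
        exact_mod_cast hpos1
      linarith
    exact_mod_cast this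
  haveI : Nontrivial (Coh.HH X (CohB1.tensorMod (ClSub.quotMod I) L) 0) :=
    Module.nontrivial_of_finrank_pos (R := k) hpos0
  obtain ⟨x, hx⟩ := exists_ne (0 : Coh.HH X (CohB1.tensorMod (ClSub.quotMod I) L) 0)
  set σ := Groth.Agent.Lib.helper9.CurveVanish.secHom _ x with hσdef
  have hσ : σ ≠ 0 := fun h =>
    hx ((Groth.Agent.Lib.helper9.CurveVanish.secHom_eq_zero_iff _ x).mp h)
  -- the image and the cokernel
  have hS := image_shortExact X σ
  have hK1 : Subsingleton (Coh.HH X (Abelian.image σ) 1) :=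
    subsingleton_H1_of_epi_unit k X hdim h1 (Abelian.factorThruImage σ)
  have hinj : Function.Injective (HH.map (cokernel.π σ) 1) := HH.injective_map_g hS 1 hK1
  have hT1 : ¬ Subsingleton (Coh.HH X (cokernel σ) 1) := by
    intro hsub
    obtain ⟨a, b, hab⟩ := hne
    exact hab (hinj (Subsingleton.elim _ _))
  have hOc : Coh.IsCoh (Coh.structureModule X) :=
    Groth.Agent.Lib.helper8.Dev.isCoh_structureModule X
  have hTc : Coh.IsCoh (cokernel σ) := Groth.Agent.Lib.helper7.CohKer.isCoh_cokernel hOc hGc σ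
  haveI : (cokernel σ).IsQuasicoherent := hTc.1
  obtain ⟨I', ⟨eT⟩, hI'⟩ := exists_iso_quot_tensor θ θ' (ClSub.toSubscheme I) (cokernel.π σ)
  have hle : I ≤ I' := hI' I (kernel.condition _)
  rcases hle.lt_or_eq with hlt | heq
  · exact hT1 (Groth.Agent.Lib.helper11.RelSerre.subsingleton_HH_of_iso eT.symm 1 (ih I' hlt))
  · subst heq
    have hKc : Coh.IsCoh (Abelian.image σ) :=
      Groth.Agent.Lib.helper7.CohKer.isCoh_kernel hGc hTc (cokernel.π σ)
    have hadd := Groth.Agent.Lib.Lead.ProperEuler.euler_additive k hS hKc hTc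
    have hiso := Groth.Agent.Lib.Lead.CurveEuler.euler_eq_of_iso k X eT
    have hne0 : Abelian.factorThruImage σ ≠ 0 := by
      intro h0
      apply hσ
      rw [← Abelian.image.fac σ, h0, zero_comp]
    have hge := (euler_quot k X hdim h1 hKc (Abelian.factorThruImage σ)).2 hne0
    simp only at hadd
    linarith

/-- **H¹ vanishing** for nef invertible modules -/
theorem subsingleton_H1_of_nef (hdim : topologicalKrullDim X ≤ 1)
    (h1 : Subsingleton (Coh.HH X (Coh.structureModule X) 1)) {L : X.Modules}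
    (hL : PicF.IsInvertible L)
    (hnef : ∀ J : X.IdealSheafData, IsIntegral J.subscheme → topologicalKrullDim J.subscheme = 1 →
      0 ≤ @Curv2.deg k _ J.subscheme ⟨J.subschemeι ≫ (X ↘ (Spec (CommRingCat.of k)))⟩
        ((Scheme.Modules.pullback J.subschemeι).obj L) 1) :
    Subsingleton (Coh.HH X L 1) := by
  obtain ⟨M, hM, ⟨θ⟩, ⟨θ'⟩⟩ := Groth.Agent.Lib.helper12.InvDual.exists_inverse hL
  have hLc : Coh.IsCoh L := Groth.Agent.Lib.Lead.CurveInv.isCoh_of_isInvertible X hL
  have hMc : Coh.IsCoh M := Groth.Agent.Lib.Lead.CurveInv.isCoh_of_isInvertible X hM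
  haveI : M.IsQuasicoherent := hMc.1
  haveI : L.IsQuasicoherent := hLc.1
  obtain ⟨I', ⟨eT⟩, -⟩ := exists_iso_quot_tensor θ θ' (𝟙 (Coh.structureModule X)) (leftUnitor L).hom
  exact Groth.Agent.Lib.helper11.RelSerre.subsingleton_HH_of_iso eT.symm 1
    (subsingleton_H1_quot_tensor k X hdim h1 hL hnef I')

/-- a map `ev : F ⟶ L` from a globally generated `F` through which every section of `L` factors is
an epimorphism (`L` nef invertible) -/
theorem epi_of_sections_factor (hdim : topologicalKrullDim X ≤ 1)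
    (h1 : Subsingleton (Coh.HH X (Coh.structureModule X) 1)) {L : X.Modules}
    (hL : PicF.IsInvertible L)
    (hnef : ∀ J : X.IdealSheafData, IsIntegral J.subscheme → topologicalKrullDim J.subscheme = 1 →
      0 ≤ @Curv2.deg k _ J.subscheme ⟨J.subschemeι ≫ (X ↘ (Spec (CommRingCat.of k)))⟩
        ((Scheme.Modules.pullback J.subschemeι).obj L) 1)
    {F : X.Modules} [F.IsQuasicoherent] (hF : Curv2.IsGloballyGenerated F) (ev : F ⟶ L)
    (hev : ∀ s : Coh.structureModule X ⟶ L, ∃ c : Coh.structureModule X ⟶ F, c ≫ ev = s) :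
    Epi ev := by
  haveI := Groth.Agent.Lib.Lead.CurveEuler.isNoetherian k X
  haveI := Groth.Agent.Lib.Lead.ProperEuler.compactSpace k X
  haveI := Groth.Agent.Lib.Lead.ProperEuler.quasiSeparatedSpace k X
  obtain ⟨M, hM, ⟨θ⟩, ⟨θ'⟩⟩ := Groth.Agent.Lib.helper12.InvDual.exists_inverse hL
  have hLc : Coh.IsCoh L := Groth.Agent.Lib.Lead.CurveInv.isCoh_of_isInvertible X hL
  have hMc : Coh.IsCoh M := Groth.Agent.Lib.Lead.CurveInv.isCoh_of_isInvertible X hM
  haveI : M.IsQuasicoherent := hMc.1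
  haveI : L.IsQuasicoherent := hLc.1
  by_contra hepi
  have hπ : cokernel.π ev ≠ 0 := fun h => hepi (Abelian.epi_of_cokernel_π_eq_zero ev h)
  -- the image of `ev` has no `H¹`
  have hS := image_shortExact X ev
  have hK1 : Subsingleton (Coh.HH X (Abelian.image ev) 1) :=
    Groth.Agent.Lib.helper12.GGTensor.subsingleton_H1_of_gg hdim h1
      (Groth.Agent.Lib.helper12.GGTensor.gg_of_epi (Abelian.factorThruImage ev) hF)
  -- the cokernel is `(O/I') ⊗ L`
  haveI : (cokernel ev).IsQuasicoherent :=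
    Groth.Agent.Lib.helper7.CohKer.isQuasicoherent_cokernel ev
  haveI : Epi ((leftUnitor L).hom ≫ cokernel.π ev) := epi_comp _ _
  obtain ⟨I', ⟨eT⟩, -⟩ := exists_iso_quot_tensor θ θ' (𝟙 (Coh.structureModule X))
    ((leftUnitor L).hom ≫ cokernel.π ev)
  have hQc : Coh.IsCoh (ClSub.quotMod I') := Groth.Agent.Lib.helper7.SnapperQuot.isCoh_quotMod I'
  have hGc : Coh.IsCoh (CohB1.tensorMod (ClSub.quotMod I') L) := DegCalc.isCoh_tensorMod hQc hLc
  have hG1 := subsingleton_H1_quot_tensor k X hdim h1 hL hnef I'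
  -- `O/I' ≠ 0`
  have hQne : ClSub.toSubscheme I' ≠ 0 := by
    intro h0
    have hz : IsZero (ClSub.quotMod I') := by
      rw [IsZero.iff_id_eq_zero, ← cancel_epi (ClSub.toSubscheme I'), Category.comp_id, comp_zero]
      exact h0
    have hz2 : IsZero (CohB1.tensorMod (ClSub.quotMod I') L) :=
      (Groth.Agent.Lib.Helper20.TensorEquiv.tensorRight L).map_isZero hz
    apply hπ
    exact (hz2.of_iso eT).eq_of_tgt _ _
  have hχ := euler_le_euler_tensor k X hdim hL hnef _ hQc
  have hQ1 := (euler_quot k X hdim h1 hQc (ClSub.toSubscheme I')).2 hQne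
  have heG := Groth.Agent.Lib.Lead.CurveEuler.euler_eq k X hdim _ hGc.1
  have hz : finrank k (Coh.HH X (CohB1.tensorMod (ClSub.quotMod I') L) 1) = 0 :=
    Module.finrank_zero_of_subsingleton
  have hpos0 : 0 < finrank k (Coh.HH X (CohB1.tensorMod (ClSub.quotMod I') L) 0) := by
    have : (0 : ℤ) < (finrank k (Coh.HH X (CohB1.tensorMod (ClSub.quotMod I') L) 0) : ℤ) := by
      rw [hz] at heG
      push_cast at heG
      linarith
    exact_mod_cast this
  haveI : Nontrivial (Coh.HH X (CohB1.tensorMod (ClSub.quotMod I') L) 0) :=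
    Module.nontrivial_of_finrank_pos (R := k) hpos0
  -- a nonzero global section of the cokernel
  obtain ⟨x, hx⟩ := exists_ne (0 : Coh.HH X (CohB1.tensorMod (ClSub.quotMod I') L) 0)
  let τ : Coh.structureModule X ⟶ cokernel ev :=
    Groth.Agent.Lib.helper9.CurveVanish.secHom _ x ≫ eT.inv
  have hτ : τ ≠ 0 := by
    intro h0
    apply hx
    apply (Groth.Agent.Lib.helper9.CurveVanish.secHom_eq_zero_iff _ x).mp
    rw [← cancel_mono eT.inv, zero_comp]
    exact h0
  -- lift it to `L`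
  obtain ⟨t, ht⟩ := exists_lift_top hS hK1
    ((τ.val.app (op ⊤)).hom (1 : X.ringCatSheaf.obj.obj (op ⊤)))
  have hlift : homOfGlobal L t ≫ cokernel.π ev = τ := by
    apply hom_ext_top
    change ((cokernel.π ev).val.app (op ⊤)).hom
      (((homOfGlobal L t).val.app (op ⊤)).hom (1 : X.ringCatSheaf.obj.obj (op ⊤))) = _
    rw [homOfGlobal_top]
    exact ht
  obtain ⟨c, hc⟩ := hev (homOfGlobal L t)
  apply hτ
  rw [← hlift, ← hc, Category.assoc, cokernel.condition, comp_zero]

set_option backward.isDefEq.respectTransparency false in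
/-- **global generation** of nef invertible modules -/
theorem gg_of_nef (hdim : topologicalKrullDim X ≤ 1)
    (h1 : Subsingleton (Coh.HH X (Coh.structureModule X) 1)) {L : X.Modules}
    (hL : PicF.IsInvertible L)
    (hnef : ∀ J : X.IdealSheafData, IsIntegral J.subscheme → topologicalKrullDim J.subscheme = 1 →
      0 ≤ @Curv2.deg k _ J.subscheme ⟨J.subschemeι ≫ (X ↘ (Spec (CommRingCat.of k)))⟩
        ((Scheme.Modules.pullback J.subschemeι).obj L) 1) :
    Curv2.IsGloballyGenerated L := by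
  let ev : (SheafOfModules.free (Coh.structureModule X ⟶ L) : X.Modules) ⟶ L :=
    Sigma.desc (fun s : (Coh.structureModule X ⟶ L) => s)
  haveI : (SheafOfModules.free (Coh.structureModule X ⟶ L) : X.Modules).IsQuasicoherent :=
    inferInstance
  refine ⟨_, ev, epi_of_sections_factor k X hdim h1 hL hnef
    (Groth.Agent.Lib.helper12.GGTensor.gg_free _) ev (fun s => ?_)⟩
  exact ⟨Sigma.ι (fun _ : (Coh.structureModule X ⟶ L) => SheafOfModules.unit X.ringCatSheaf) s,
    Sigma.ι_desc _ _⟩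

end Curve

end Groth.Agent.Lib.Helper18.NefH1Zero
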