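import Mathlib
import Groth.Prelude.Def_PicF2
import Groth.Prelude.Def_SecTwist
import Groth.Prelude.Def_MeroDiv
import Groth.Agent.Lib.Helper7.QCohAffine
import Groth.Agent.Lib.Helper16.FLF8
import Groth.Agent.Lib.Helper18.InvGen

set_option autoImplicit false
universe u
open CategoryTheory CategoryTheory.Limits AlgebraicGeometry TopologicalSpace Opposite

namespace Groth.Agent.Lib.Helper18.ZeroSchemeIdeal

open Groth.Agent.Lib.helper7 Groth.Agent.Lib.Helper18.InvGen

variable {X : Scheme.{u}}

/-- the value of a global section over an open, as an element of `Γ(L, U)` -/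
noncomputable abbrev sv (L : X.Modules) (s : Coh.structureModule X ⟶ L) (U : X.Opens) : Γ(L, U) :=
  PicF2.secVal L s U

theorem map_sv (L : X.Modules) (s : Coh.structureModule X ⟶ L) {U V : X.Opens} (h : V ≤ U) :
    L.presheaf.map (homOfLE h).op (sv L s U) = sv L s V :=
  SecTwist.map_val s (homOfLE h)

theorem mem_zeroIdealOn_iff (L : X.Modules) (s : Coh.structureModule X ⟶ L) (U : X.Opens)
    (a : Γ(X, U)) :
    a ∈ (show Ideal Γ(X, U) from PicF2.zeroIdealOn L s U) ↔
      ∀ m : Γ(L, U), ∃ b : Γ(X, U), a • m = b • sv L s U := Iff.rfl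

/-- compatibility of the colon ideals `(O·s : L)` with localization -/
theorem map_zeroIdealOn_basicOpen (L : X.Modules) [L.IsQuasicoherent]
    (s : Coh.structureModule X ⟶ L) {U : X.Opens} (hU : IsAffineOpen U)
    [hfin : Module.Finite Γ(X, U) Γ(L, U)] (f : Γ(X, U)) :
    (show Ideal Γ(X, U) from PicF2.zeroIdealOn L s U).map
        (X.presheaf.map (homOfLE (X.basicOpen_le f)).op).hom =
      (show Ideal Γ(X, X.basicOpen f) from PicF2.zeroIdealOn L s (X.basicOpen f)) := by
  set fD : Γ(X, X.basicOpen f) := X.presheaf.map (homOfLE (X.basicOpen_le f)).op f with hfD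
  have hfDu : IsUnit fD := RingedSpace.isUnit_res_basicOpen X.toRingedSpace f
  apply le_antisymm
  · rw [Ideal.map_le_iff_le_comap]
    intro a ha
    show X.presheaf.map (homOfLE (X.basicOpen_le f)).op a ∈
      (show Ideal Γ(X, X.basicOpen f) from PicF2.zeroIdealOn L s (X.basicOpen f))
    rw [mem_zeroIdealOn_iff]
    intro m'
    obtain ⟨j, m₀, hm₀⟩ := exists_pow_smul_eq_map_of_isAffineOpen hU L f m'
    obtain ⟨b, hb⟩ := (mem_zeroIdealOn_iff L s U a).1 ha m₀
    have h1 := congrArg (L.presheaf.map (homOfLE (X.basicOpen_le f)).op) hb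
    rw [Scheme.Modules.map_smul, Scheme.Modules.map_smul, hm₀, map_sv] at h1
    obtain ⟨v, hv⟩ := hfDu.pow j
    refine ⟨↑v⁻¹ * X.presheaf.map (homOfLE (X.basicOpen_le f)).op b, ?_⟩
    rw [mul_smul, ← h1, ← hfD, ← hv, smul_comm _ (v : Γ(X, X.basicOpen f)) m', smul_smul,
      Units.inv_mul, one_smul]
  · intro a' ha'
    haveI := hU.isLocalization_basicOpen f
    obtain ⟨⟨a₀, ⟨_, k, rfl⟩⟩, ha₀⟩ := IsLocalization.surj (Submonoid.powers f) a'
    have ha₀' : a' * fD ^ k = X.presheaf.map (homOfLE (X.basicOpen_le f)).op a₀ := by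
      have := ha₀
      simp only [map_pow] at this
      exact this
    have hp : ∀ p : Γ(L, U), ∃ (n : ℕ) (c : Γ(X, U)), (f ^ n * a₀) • p = c • sv L s U := by
      intro p
      obtain ⟨b', hb'⟩ := (mem_zeroIdealOn_iff L s _ a').1 ha'
        (L.presheaf.map (homOfLE (X.basicOpen_le f)).op p)
      obtain ⟨⟨b₀, ⟨_, k', rfl⟩⟩, hb₀⟩ := IsLocalization.surj (Submonoid.powers f) b'
      have hb₀' : b' * fD ^ k' = X.presheaf.map (homOfLE (X.basicOpen_le f)).op b₀ := by
        have := hb₀
        simp only [map_pow] at this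
        exact this
      have hres : L.presheaf.map (homOfLE (X.basicOpen_le f)).op
          ((f ^ k' * a₀) • p - (f ^ k * b₀) • sv L s U) = 0 := by
        rw [map_sub, Scheme.Modules.map_smul, Scheme.Modules.map_smul, map_sv, map_mul, map_mul,
          map_pow, map_pow, ← hfD, ← ha₀', ← hb₀', sub_eq_zero]
        have e1 : fD ^ k' * (a' * fD ^ k) = (fD ^ k' * fD ^ k) * a' := by ring
        have e2 : fD ^ k * (b' * fD ^ k') = (fD ^ k' * fD ^ k) * b' := by ring
        rw [e1, e2, mul_smul, mul_smul, hb', smul_smul, smul_smul]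
      obtain ⟨n, hn⟩ := exists_pow_smul_eq_zero_of_isAffineOpen hU L f _ hres
      refine ⟨n + k', f ^ n * (f ^ k * b₀), ?_⟩
      rw [smul_sub, sub_eq_zero, ← mul_smul, ← mul_smul] at hn
      rw [← hn, pow_add, mul_assoc]
    choose n c hnc using hp
    obtain ⟨S, hS⟩ := hfin.fg_top
    have hmem : f ^ (S.sup n) * a₀ ∈ (show Ideal Γ(X, U) from PicF2.zeroIdealOn L s U) := by
      rw [mem_zeroIdealOn_iff]
      intro m
      have hm : m ∈ Submodule.span Γ(X, U) (S : Set Γ(L, U)) := by rw [hS]; trivial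
      induction hm using Submodule.span_induction with
      | mem p hp =>
        refine ⟨f ^ (S.sup n - n p) * c p, ?_⟩
        have hle : n p ≤ S.sup n := Finset.le_sup hp
        rw [mul_smul (f ^ (S.sup n - n p)) (c p), ← hnc p, ← mul_smul, ← mul_assoc, ← pow_add,
          Nat.sub_add_cancel hle]
      | zero => exact ⟨0, by rw [smul_zero, zero_smul]⟩
      | add x y _ _ hx hy =>
        obtain ⟨b, hb⟩ := hx
        obtain ⟨b', hb'⟩ := hy
        exact ⟨b + b', by rw [smul_add, hb, hb', add_smul]⟩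
      | smul r x _ hx =>
        obtain ⟨b, hb⟩ := hx
        exact ⟨r * b, by rw [smul_comm, hb, mul_smul]⟩
    have hmap : (X.presheaf.map (homOfLE (X.basicOpen_le f)).op).hom (f ^ (S.sup n) * a₀) ∈
        (show Ideal Γ(X, U) from PicF2.zeroIdealOn L s U).map
          (X.presheaf.map (homOfLE (X.basicOpen_le f)).op).hom :=
      Ideal.mem_map_of_mem _ hmem
    have heq : (X.presheaf.map (homOfLE (X.basicOpen_le f)).op).hom (f ^ (S.sup n) * a₀) =
        a' * fD ^ (S.sup n + k) := by
      show X.presheaf.map (homOfLE (X.basicOpen_le f)).op (f ^ (S.sup n) * a₀) = _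
      rw [map_mul, map_pow, ← ha₀', ← hfD]
      ring
    rw [heq] at hmap
    exact (Ideal.mul_unit_mem_iff_mem _ (hfDu.pow _)).mp hmap

open Groth.Agent.Lib.helper16.FLF in
/-- the zero scheme of a section of a finite locally free module has the colon ideals as its
ideals over the affine opens -/
theorem zeroScheme_ideal (L : X.Modules) (hL : FlatMod.IsFinLocFree L)
    (s : Coh.structureModule X ⟶ L) (U : X.affineOpens) :
    (PicF2.zeroScheme L s).ideal U = (show Ideal Γ(X, U.1) from PicF2.zeroIdealOn L s U.1) := by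
  haveI := isQuasicoherent_of_isFinLocFree L hL
  let J : X.IdealSheafData :=
    { ideal := fun U => (show Ideal Γ(X, U.1) from PicF2.zeroIdealOn L s U.1)
      map_ideal_basicOpen := fun U f => by
        haveI := (projective_sections_of_isFinLocFree L hL U.2).1
        exact map_zeroIdealOn_basicOpen L s U.2 f }
  have h : PicF2.zeroScheme L s = J := Scheme.IdealSheafData.ofIdeals_ideal J
  rw [h]

/-- the colon ideal over an open with a generator -/
theorem zeroIdealOn_eq_span {L : X.Modules} (s : Coh.structureModule X ⟶ L) {U : X.Opens}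
    {ℓ : Γ(L, U)} (hℓ : IsGen L U ℓ) (h : Γ(X, U)) (hh : h • ℓ = sv L s U) :
    (show Ideal Γ(X, U) from PicF2.zeroIdealOn L s U) = Ideal.span {h} := by
  have hres : L.presheaf.map (homOfLE (le_refl U)).op ℓ = ℓ := by
    have : (homOfLE (le_refl U)).op = 𝟙 (op U) := rfl
    rw [this, L.presheaf.map_id]
    rfl
  ext a
  rw [mem_zeroIdealOn_iff, Ideal.mem_span_singleton']
  constructor
  · intro ha
    obtain ⟨b, hb⟩ := ha ℓ
    refine ⟨b, ?_⟩
    apply hℓ.smul_injective le_rfl
    rw [hres, mul_smul, hh, hb]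
  · rintro ⟨b, rfl⟩ m
    obtain ⟨g, hg⟩ := hℓ.exists_smul_eq le_rfl m
    rw [hres] at hg
    refine ⟨b * g, ?_⟩
    rw [← hg, ← hh, ← mul_smul, ← mul_smul]
    congr 1
    ring

end Groth.Agent.Lib.Helper18.ZeroSchemeIdeal
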