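import Mathlib
import Groth.Agent.S9560
import Groth.Agent.Lib.Helper18.StalkEtale

/-!
# Étale in a neighbourhood iff stalk map flat and unramified (helper18)
-/

set_option autoImplicit false
universe u

open AlgebraicGeometry CategoryTheory IsLocalRing

namespace H18Stalk

variable {X Y : Scheme.{u}}

set_option backward.defeqAttrib.useBackward true in
set_option backward.isDefEq.respectTransparency false in
theorem exists_etale_nhd_iff (f : X ⟶ Y) [LocallyOfFiniteType f] [IsLocallyNoetherian Y] (x : X) :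
    (∃ U : X.Opens, x ∈ U ∧ Etale (U.ι ≫ f)) ↔
      (f.stalkMap x).hom.Flat ∧ (f.stalkMap x).hom.FormallyUnramified := by
  constructor
  · rintro ⟨U, hxU, hU⟩
    have h1 := Flat.stalkMap (U.ι ≫ f) (⟨x, hxU⟩ : U.toScheme)
    have h2 := FormallyUnramified.stalkMap (U.ι ≫ f) (⟨x, hxU⟩ : U.toScheme)
    exact ⟨(stalkMap_ι_comp_iff RingHom.Flat.respectsIso f U ⟨x, hxU⟩).mp h1,
      (stalkMap_ι_comp_iff RingHom.FormallyUnramified.respectsIso f U ⟨x, hxU⟩).mp h2⟩
  · rintro ⟨H1, H2⟩
    obtain ⟨_, ⟨U, hU, rfl⟩, hxU, -⟩ :=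
      Y.isBasis_affineOpens.exists_subset_of_mem_open (Set.mem_univ (f x)) isOpen_univ
    obtain ⟨_, ⟨V, hV, rfl⟩, hxV, hVU⟩ :=
      X.isBasis_affineOpens.exists_subset_of_mem_open hxU (U.2.preimage f.continuous)
    have := f.finiteType_appLE hU hV hVU
    have : IsNoetherianRing Γ(Y, U) := IsLocallyNoetherian.component_noetherian ⟨U, hU⟩
    algebraize [(f.appLE U V hVU).hom]
    have hunr : Algebra.IsUnramifiedAt _ _ :=
      (formallyUnramified_stalkMap_iff U hU V hV hVU hxV).mp H2
    let p := (hU.primeIdealOf ⟨f x, hVU hxV⟩).asIdeal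
    let q := (hV.primeIdealOf ⟨x, hxV⟩).asIdeal
    have : q.LiesOver p :=
      ⟨congr($(IsAffineOpen.comap_primeIdealOf_appLE U hU V hV hVU hxV).1).symm⟩
    let := Localization.AtPrime.algebraOfLiesOver p q
    have hflat : Module.Flat (Localization.AtPrime p) (Localization.AtPrime q) :=
      (flat_stalkMap_iff U hU V hV hVU hxV).mp H1
    have hE : Algebra.IsEtaleAt Γ(Y, U) q := Groth.Agent.S9560.isEtaleAt_of Γ(Y, U) Γ(X, V) p q
    have : Algebra.FinitePresentation Γ(Y, U) Γ(X, V) :=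
      Algebra.FinitePresentation.of_finiteType.mp inferInstance
    obtain ⟨r, hrx, hr⟩ := Algebra.exists_etale_of_isEtaleAt (R := Γ(Y, U)) q
    refine ⟨X.basicOpen r, ?_, ?_⟩
    · rwa [← PrimeSpectrum.mem_basicOpen, IsAffineOpen.primeIdealOf,
        ← hV.fromSpec_preimage_basicOpen, Scheme.Hom.mem_preimage, ← Scheme.Hom.comp_apply,
        IsAffineOpen.isoSpec_hom, IsAffineOpen.toSpecΓ_fromSpec] at hrx
    · refine comp_ι_of_appLE (P := @Etale) (fun g _ ↦ inferInstance) f U hU _
        (hV.basicOpen r) ((X.basicOpen_le r).trans hVU) ?_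
      refine appLE_basicOpen_of_away RingHom.Etale.respectsIso f U V hV hVU r ?_
      rw [← RingHom.etale_algebraMap] at hr
      convert hr using 1
      rw [IsScalarTower.algebraMap_eq Γ(Y, U) Γ(X, V) (Localization.Away r)]
      rfl

end H18Stalk
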