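import Mathlib
import Groth.Agent.Lib.Helper18.NilBaseRing

universe u

open TensorProduct

namespace Groth.Agent.Lib.Helper18.NilBase

theorem subsingleton_of_tensor_quotient_nilpotent {R M : Type*} [CommRing R] [AddCommGroup M]
    [Module R M] (J : Ideal R) (hJ : IsNilpotent J) (h : Subsingleton ((R ⧸ J) ⊗[R] M)) :
    Subsingleton M := by
  have e := TensorProduct.quotTensorEquivQuotSMul M J
  have h1 : Subsingleton (M ⧸ J • (⊤ : Submodule R M)) := e.symm.toEquiv.subsingleton
  have h2 : J • (⊤ : Submodule R M) = ⊤ := Submodule.Quotient.subsingleton_iff.mp h1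
  have h3 : ∀ k : ℕ, J ^ k • (⊤ : Submodule R M) = ⊤ := by
    intro k
    induction k with
    | zero => simp
    | succ k ih => rw [pow_succ, mul_smul, h2, ih]
  obtain ⟨n, hn⟩ := hJ
  have h4 := h3 n
  rw [hn, Ideal.zero_eq_bot, Submodule.bot_smul] at h4
  exact subsingleton_of_bot_eq_top (α := Submodule R M) h4 |> fun _ =>
    ⟨fun a b => by
      have ha : a ∈ (⊥ : Submodule R M) := h4 ▸ Submodule.mem_top
      have hb : b ∈ (⊥ : Submodule R M) := h4 ▸ Submodule.mem_top
      rw [Submodule.mem_bot] at ha hb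
      rw [ha, hb]⟩

/-- Formal unramifiedness lifts along a nilpotent thickening of the base. -/
theorem formallyUnramified_of_isPushout_nilpotent (A' B' A B : Type u) [CommRing A'] [CommRing B']
    [CommRing A] [CommRing B] [Algebra A' B'] [Algebra A' A] [Algebra B' B] [Algebra A B]
    [Algebra A' B] [IsScalarTower A' B' B] [IsScalarTower A' A B] [Algebra.IsPushout A' B' A B]
    (hs : Function.Surjective (algebraMap A' A))
    (hn : IsNilpotent (RingHom.ker (algebraMap A' A))) [Algebra.FormallyUnramified A B] :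
    Algebra.FormallyUnramified A' B' := by
  rw [Algebra.formallyUnramified_iff]
  obtain ⟨hsB, hker⟩ := surjective_and_ker_of_isPushout A' B' A B hs
  have : Algebra.IsPushout A' A B' B := .symm inferInstance
  have e := KaehlerDifferential.tensorKaehlerEquiv A' A B' B
  have h0 : Subsingleton (Ω[B⁄A]) := inferInstance
  have h1 : Subsingleton (B ⊗[B'] Ω[B'⁄A']) := e.toEquiv.subsingleton
  let J := RingHom.ker (algebraMap B' B)
  have hJ : IsNilpotent J := by
    obtain ⟨n, hn⟩ := hn
    refine ⟨n, ?_⟩
    show J ^ n = 0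
    rw [show J = _ from hker, ← Ideal.map_pow, hn, Ideal.zero_eq_bot, Ideal.map_bot]
    rfl
  let e₀ : (B' ⧸ J) ≃ₐ[B'] B := Ideal.quotientKerAlgEquivOfSurjective (f := Algebra.ofId B' B) hsB
  have h2 : Subsingleton ((B' ⧸ J) ⊗[B'] Ω[B'⁄A']) :=
    (TensorProduct.congr e₀.toLinearEquiv (LinearEquiv.refl B' _)).toEquiv.subsingleton
  exact subsingleton_of_tensor_quotient_nilpotent J hJ h2

theorem _root_.RingHom.FormallyUnramified.of_isPushout_nilpotent {A' B' A B : CommRingCat.{u}}
    {φ : A' ⟶ B'} {γ : A' ⟶ A} {α : B' ⟶ B} {β : A ⟶ B}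
    (hPO : CategoryTheory.IsPushout φ γ α β)
    (hs : Function.Surjective γ.hom) (hn : IsNilpotent (RingHom.ker γ.hom))
    (hβ : β.hom.FormallyUnramified) : φ.hom.FormallyUnramified := by
  let _ : Algebra A' B' := φ.hom.toAlgebra
  let _ : Algebra A' A := γ.hom.toAlgebra
  let _ : Algebra B' B := α.hom.toAlgebra
  let _ : Algebra A B := β.hom.toAlgebra
  let _ : Algebra A' B := (α.hom.comp φ.hom).toAlgebra
  have : IsScalarTower A' B' B := IsScalarTower.of_algebraMap_eq fun _ => rfl
  have : IsScalarTower A' A B := IsScalarTower.of_algebraMap_eq fun r => congr($(hPO.w).hom r)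
  have : Algebra.IsPushout A' B' A B := CommRingCat.isPushout_iff_isPushout.mp hPO
  have : Algebra.FormallyUnramified A B := hβ
  exact formallyUnramified_of_isPushout_nilpotent A' B' A B hs hn

end Groth.Agent.Lib.Helper18.NilBase
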