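import Mathlib
import Groth.Agent.Lib.Helper18.NilBaseScheme
import Groth.Agent.Lib.Helper18.NilBaseUnram

universe u

open AlgebraicGeometry CategoryTheory Limits

namespace Groth.Agent.Lib.Helper18.NilBase

/-- On an affine scheme, nilpotency of an ideal sheaf can be checked on global sections. -/
theorem isNilpotent_of_isAffine {T : Scheme.{u}} [IsAffine T] (I : T.IdealSheafData)
    (h : IsNilpotent (I.ideal ⟨⊤, isAffineOpen_top T⟩)) : IsNilpotent I := by
  obtain ⟨n, hn⟩ := h
  refine ⟨n, ?_⟩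
  apply Scheme.IdealSheafData.ext_of_isAffine
  rw [Scheme.IdealSheafData.ideal_pow]
  exact hn

/-- Formal unramifiedness lifts along a nilpotent thickening of the base. -/
theorem formallyUnramified_of_thickening_base {X X' S S' : Scheme.{u}} {iX : X ⟶ X'}
    {iS : S ⟶ S'} {f : X ⟶ S} {f' : X' ⟶ S'} [IsClosedImmersion iS] (hn : IsNilpotent iS.ker)
    (hc : IsPullback iX f f' iS) [FormallyUnramified f] : FormallyUnramified f' := by
  rw [HasRingHomProperty.iff_appLE (P := @FormallyUnramified)]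
  intro U' V' e
  obtain ⟨hWU, hUS, hW, hPO, hs, hsX, hker⟩ := chart_thickening hc U'.2 V'.2 e
  have hβ := f.formallyUnramified_appLE hUS hW hWU
  have hnil : IsNilpotent (RingHom.ker (iS.app U'.1).hom) := by
    have := isNilpotent_ideal_of_isNilpotent _ hn U'
    rwa [Scheme.Hom.ker_apply] at this
  exact RingHom.FormallyUnramified.of_isPushout_nilpotent hPO hs hnil hβ

/-- The base change of a nilpotent closed immersion to an affine scheme mapping into an affine
open is nilpotent. -/
theorem isNilpotent_ker_fst_of_affine {T S S' : Scheme.{u}} (iS : S ⟶ S') [IsClosedImmersion iS]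
    (hn : IsNilpotent iS.ker) [IsAffine T] (φ : T ⟶ S') {U' : S'.Opens} (hU' : IsAffineOpen U')
    (hφ : ⊤ ≤ φ ⁻¹ᵁ U') : IsNilpotent (pullback.fst φ iS).ker := by
  apply isNilpotent_of_isAffine
  have hsq : IsPullback (pullback.fst φ iS) (pullback.snd φ iS) φ iS := IsPullback.of_hasPullback _ _
  obtain ⟨hWU, hUS, hW, hPO, hs, hsX, hker⟩ :=
    chart_thickening hsq hU' (isAffineOpen_top T) hφ
  rw [Scheme.Hom.ker_apply, hker]
  obtain ⟨n, hn'⟩ := isNilpotent_ideal_of_isNilpotent _ hn ⟨U', hU'⟩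
  rw [Scheme.Hom.ker_apply] at hn'
  refine ⟨n, ?_⟩
  rw [← Ideal.map_pow, hn', Ideal.zero_eq_bot, Ideal.map_bot, Ideal.zero_eq_bot]

/-- Monomorphisms lift along a nilpotent thickening of the base. -/
theorem mono_of_thickening_base {X X' S S' : Scheme.{u}} {iX : X ⟶ X'}
    {iS : S ⟶ S'} {f : X ⟶ S} {f' : X' ⟶ S'} [IsClosedImmersion iS] (hn : IsNilpotent iS.ker)
    (hc : IsPullback iX f f' iS) [Mono f] : Mono f' := by
  have : FormallyUnramified f' := formallyUnramified_of_thickening_base hn hc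
  refine ⟨fun {T} a b hab => ?_⟩
  refine Scheme.hom_ext_of_forall _ _ fun x => ?_
  obtain ⟨_, ⟨U', hU', rfl⟩, hxU, -⟩ := S'.isBasis_affineOpens.exists_subset_of_mem_open
    (Set.mem_univ ((a ≫ f') x)) isOpen_univ
  obtain ⟨_, ⟨W, hW, rfl⟩, hxW, hWU⟩ := T.isBasis_affineOpens.exists_subset_of_mem_open
    (a := x) hxU (U'.2.preimage (a ≫ f').continuous)
  refine ⟨W, hxW, ?_⟩
  have : IsAffine W := hW
  let φ : (W : Scheme) ⟶ S' := (Scheme.Opens.ι (X := T) W) ≫ a ≫ f'
  have hφ : ⊤ ≤ φ ⁻¹ᵁ U' := by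
    intro y _
    exact hWU y.2
  have hnil := isNilpotent_ker_fst_of_affine iS hn φ hU' hφ
  let i := pullback.fst φ iS
  let α : pullback φ iS ⟶ X := hc.lift (i ≫ (Scheme.Opens.ι (X := T) W) ≫ a) (pullback.snd φ iS) (by
    simp only [Category.assoc]
    exact pullback.condition)
  let β : pullback φ iS ⟶ X := hc.lift (i ≫ (Scheme.Opens.ι (X := T) W) ≫ b) (pullback.snd φ iS) (by
    simp only [Category.assoc, ← hab]
    exact pullback.condition)
  have hαβ : α = β := by
    rw [← cancel_mono f]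
    simp only [α, β, IsPullback.lift_snd]
  have hig : i ≫ (Scheme.Opens.ι (X := T) W) ≫ a = i ≫ (Scheme.Opens.ι (X := T) W) ≫ b := by
    have := congr($hαβ ≫ iX)
    simpa only [α, β, IsPullback.lift_fst] using this
  exact FormallyUnramified.hom_ext i hnil f' hig (by simp only [Category.assoc, hab])

end Groth.Agent.Lib.Helper18.NilBase
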