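import Mathlib
import Groth.Agent.Lib.Helper18.NilBaseScheme
import Groth.Agent.Lib.Helper18.NilBaseFinite

universe u

open AlgebraicGeometry CategoryTheory Limits

namespace Groth.Agent.Lib.Helper18.NilBase

/-- Locally of finite type lifts along a locally nilpotent thickening of the base. -/
theorem locallyOfFiniteType_of_thickening_base' {X X' S S' : Scheme.{u}} {iX : X ⟶ X'}
    {iS : S ⟶ S'} {f : X ⟶ S} {f' : X' ⟶ S'} [IsClosedImmersion iS]
    (hn : ∀ U : S'.affineOpens, IsNilpotent (iS.ker.ideal U))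
    (hc : IsPullback iX f f' iS) [LocallyOfFiniteType f] : LocallyOfFiniteType f' := by
  rw [HasRingHomProperty.iff_appLE (P := @LocallyOfFiniteType)]
  intro U' V' e
  obtain ⟨hWU, hUS, hW, hPO, hs, hsX, hker⟩ := chart_thickening hc U'.2 V'.2 e
  have hft := f.finiteType_appLE hUS hW hWU
  have hnil : IsNilpotent (RingHom.ker (iS.app U'.1).hom) := by
    have := hn U'
    rwa [Scheme.Hom.ker_apply] at this
  refine finiteType_of_comp_surjective_nilpotent_base _ _ hsX _ hnil hker ?_
  have hw : (iX.app V'.1).hom.comp (f'.appLE U'.1 V'.1 e).hom =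
      (f.appLE (iS ⁻¹ᵁ U'.1) (iX ⁻¹ᵁ V'.1) hWU).hom.comp (iS.app U'.1).hom := by
    rw [← CommRingCat.hom_comp, ← CommRingCat.hom_comp, hPO.w]
  rw [hw]
  exact hft.comp (RingHom.FiniteType.of_surjective _ hs)

/-- Finiteness lifts along a locally nilpotent thickening of the base. -/
theorem isFinite_of_thickening_base' {X X' S S' : Scheme.{u}} {iX : X ⟶ X'}
    {iS : S ⟶ S'} {f : X ⟶ S} {f' : X' ⟶ S'} [IsClosedImmersion iS] [Surjective iS]
    (hn : ∀ U : S'.affineOpens, IsNilpotent (iS.ker.ideal U))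
    (hc : IsPullback iX f f' iS) [IsFinite f] : IsFinite f' := by
  have := locallyOfFiniteType_of_thickening_base' hn hc
  exact isFinite_of_thickening hc

end Groth.Agent.Lib.Helper18.NilBase
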