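import Mathlib
import Groth.Agent.Lib.Helper18.NilBaseFinite2

universe u

open AlgebraicGeometry CategoryTheory Limits

namespace Groth.Agent.Lib.Helper18.NilBase

open Groth.Agent.Lib.Helper18.RelSmoothFiber

/-- Properness ascends along a thickening of the base (finite type case). -/
theorem isProper_of_thickening {X X' Y Y' : Scheme.{u}} {iX : X ⟶ X'} {iY : Y ⟶ Y'}
    {f : X ⟶ Y} {f' : X' ⟶ Y'} [IsClosedImmersion iY] [Surjective iY]
    (hc : IsPullback iX f f' iY) [LocallyOfFiniteType f'] [IsProper f] : IsProper f' := by
  have : Surjective iX := MorphismProperty.of_isPullback (P := @Surjective) hc.flip ‹_›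
  have : IsSeparated f' := isSeparated_of_thickening hc
  have : UniversallyClosed (iX ≫ f') := by rw [hc.w]; infer_instance
  have : UniversallyClosed f' := UniversallyClosed.of_comp_surjective iX f'
  exact {}

/-- Properness lifts along a locally nilpotent thickening of the base. -/
theorem isProper_of_thickening_base' {X X' S S' : Scheme.{u}} {iX : X ⟶ X'}
    {iS : S ⟶ S'} {f : X ⟶ S} {f' : X' ⟶ S'} [IsClosedImmersion iS] [Surjective iS]
    (hn : ∀ U : S'.affineOpens, IsNilpotent (iS.ker.ideal U))
    (hc : IsPullback iX f f' iS) [IsProper f] : IsProper f' := by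
  have := locallyOfFiniteType_of_thickening_base' hn hc
  exact isProper_of_thickening hc

/-- Closed immersions lift along a locally nilpotent thickening of the base. -/
theorem isClosedImmersion_of_thickening_base' {X X' S S' : Scheme.{u}} {iX : X ⟶ X'}
    {iS : S ⟶ S'} {f : X ⟶ S} {f' : X' ⟶ S'} [IsClosedImmersion iS] [Surjective iS]
    (hn : ∀ U : S'.affineOpens, IsNilpotent (iS.ker.ideal U))
    (hc : IsPullback iX f f' iS) [IsClosedImmersion f] : IsClosedImmersion f' := by
  have := locallyOfFiniteType_of_thickening_base' hn hc
  exact isClosedImmersion_of_thickening iS.surjective hc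

end Groth.Agent.Lib.Helper18.NilBase
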