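import Mathlib
import Groth.Agent.Lib.Helper18.ThickeningClosedImm

universe u
open CategoryTheory CategoryTheory.Limits AlgebraicGeometry

namespace Groth.Agent.Lib.Helper18.RelSmoothFiber

/-- Immersions ascend along a thickening of the base (finite type case). -/
theorem isImmersion_of_thickening {X X' Y Y' : Scheme.{u}} {iX : X ⟶ X'} {iY : Y ⟶ Y'}
    {f : X ⟶ Y} {f' : X' ⟶ Y'} [IsClosedImmersion iY] (hs : Function.Surjective iY)
    (hc : IsPullback iX f f' iY) [LocallyOfFiniteType f'] [IsImmersion f] :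
    IsImmersion f' := by
  have : Surjective iY := ⟨hs⟩
  have : Surjective iX := MorphismProperty.of_isPullback (P := @Surjective) hc.flip ‹_›
  have hcomm : ∀ x, iY (f x) = f' (iX x) := fun x => by
    rw [← Scheme.Hom.comp_apply, ← Scheme.Hom.comp_apply, hc.w]
  -- the range of `f'` is locally closed
  have hrange : Set.range f' = iY '' Set.range f := by
    ext y'
    constructor
    · rintro ⟨x', rfl⟩
      obtain ⟨x, rfl⟩ := iX.surjective x'
      exact ⟨f x, ⟨x, rfl⟩, hcomm x⟩
    · rintro ⟨_, ⟨x, rfl⟩, rfl⟩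
      exact ⟨iX x, (hcomm x).symm⟩
  have hlc : IsLocallyClosed (Set.range f') := by
    rw [hrange]
    exact f.isLocallyClosed_range.image iY.isClosedEmbedding.isInducing
      iY.isClosedEmbedding.isClosed_range.isLocallyClosed
  let U' : Y'.Opens := ⟨coborder (Set.range f'), hlc.isOpen_coborder⟩
  have hU' : Set.range f' ⊆ Set.range U'.ι := by
    rw [Scheme.Opens.range_ι]
    exact subset_coborder
  let f'' : X' ⟶ U' := IsOpenImmersion.lift U'.ι f' hU'
  have hf'' : f'' ≫ U'.ι = f' := IsOpenImmersion.lift_fac _ _ _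
  let V : Y.Opens := iY ⁻¹ᵁ U'
  have hV : Set.range f ⊆ Set.range V.ι := by
    rw [Scheme.Opens.range_ι]
    rintro _ ⟨x, rfl⟩
    show iY (f x) ∈ coborder (Set.range f')
    rw [hcomm]
    exact subset_coborder ⟨_, rfl⟩
  let g : X ⟶ V := IsOpenImmersion.lift V.ι f hV
  have hg : g ≫ V.ι = f := IsOpenImmersion.lift_fac _ _ _
  -- the restricted square is cartesian
  have hp : iX ≫ f'' = g ≫ (iY ∣_ U') := by
    rw [← cancel_mono U'.ι, Category.assoc, Category.assoc, hf'', morphismRestrict_ι,
      ← Category.assoc, hg, hc.w]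
  have hc' : IsPullback iX g f'' (iY ∣_ U') := by
    refine IsPullback.of_bot ?_ hp (isPullback_morphismRestrict iY U')
    rw [hg, hf'']
    exact hc
  have : LocallyOfFiniteType (f'' ≫ U'.ι) := by rw [hf'']; infer_instance
  have : LocallyOfFiniteType f'' := locallyOfFiniteType_of_comp f'' U'.ι
  have hsurj : Function.Surjective (iY ∣_ U') := by
    rintro ⟨y', hy'⟩
    obtain ⟨y, rfl⟩ := hs y'
    refine ⟨⟨y, hy'⟩, ?_⟩
    apply U'.ι.isEmbedding.injective
    rw [← Scheme.Hom.comp_apply, morphismRestrict_ι, Scheme.Hom.comp_apply]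
    rfl
  -- `g` is a closed immersion
  have : IsImmersion (g ≫ V.ι) := by rw [hg]; infer_instance
  have : IsImmersion g := IsImmersion.of_comp g V.ι
  have hcomm' : ∀ x, (iY ∣_ U') (g x) = f'' (iX x) := fun x => by
    rw [← Scheme.Hom.comp_apply, ← Scheme.Hom.comp_apply, hp]
  have hrg : Set.range g = (iY ∣_ U') ⁻¹' (Set.range f'') := by
    ext v
    constructor
    · rintro ⟨x, rfl⟩
      exact ⟨iX x, (hcomm' x).symm⟩
    · rintro ⟨x', hx'⟩
      obtain ⟨x, rfl⟩ := iX.surjective x'
      refine ⟨x, ?_⟩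
      apply (iY ∣_ U').isClosedEmbedding.injective
      rw [hcomm' x, hx']
  have hrf'' : Set.range f'' = U'.ι ⁻¹' (Set.range f') := by
    ext v
    constructor
    · rintro ⟨x', rfl⟩
      exact ⟨x', by rw [← hf'', Scheme.Hom.comp_apply]⟩
    · rintro ⟨x', hx'⟩
      refine ⟨x', ?_⟩
      apply U'.ι.isEmbedding.injective
      rw [← Scheme.Hom.comp_apply, hf'', hx']
  have hclosed : IsClosed (Set.range f'') := by
    rw [hrf'']
    exact isClosed_preimage_val_coborder
  have : IsClosedImmersion g := by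
    refine .of_isPreimmersion g ?_
    rw [hrg]
    exact hclosed.preimage (iY ∣_ U').continuous
  have : IsClosedImmersion f'' := isClosedImmersion_of_thickening hsurj hc'
  rw [← hf'']
  infer_instance

end Groth.Agent.Lib.Helper18.RelSmoothFiber

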