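import Mathlib
import Groth.Prelude.Def_MeroDiv
import Groth.Agent.Lib.Helper2.MeroLib2
import Groth.Agent.S8863

set_option autoImplicit false
universe u
open CategoryTheory CategoryTheory.Limits AlgebraicGeometry TopologicalSpace Opposite

namespace Groth.Agent.Lib.Helper18.AbsCurveDiv

open Mero Groth.Agent.Lib.helper26 Groth.Agent.Lib.helper2.MeroLib

variable {X : Scheme.{u}}

/-- in a Noetherian quasi-sober space, the part in an open set of a closed set is finite as soon as
all its points are closed -/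
theorem finite_inter_of_forall_isClosed_singleton {T : Type*} [TopologicalSpace T]
    [NoetherianSpace T] [QuasiSober T] (Z V : Set T) (hZ : IsClosed Z) (hV : IsOpen V)
    (hcl : ∀ x ∈ Z ∩ V, IsClosed ({x} : Set T)) : (Z ∩ V).Finite := by
  obtain ⟨S, hSfin, hSirr, hS⟩ :=
    NoetherianSpace.exists_finite_set_closeds_irreducible (⟨Z, hZ⟩ : Closeds T)
  have hZeq : Z = ⋃ t ∈ S, (t : Set T) := by
    have h1 := congrArg (fun c : Closeds T => (c : Set T)) hS
    have h2 : closure (⋃ t ∈ S, (t : Set T)) = ⋃ t ∈ S, (t : Set T) :=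
      (hSfin.isClosed_biUnion fun t _ => t.isClosed).closure_eq
    rw [← h2]
    simpa [Closeds.coe_sSup] using h1
  have hsub : Z ∩ V ⊆ ⋃ t ∈ S, ((t : Set T) ∩ V) := by
    rintro x ⟨hxZ, hxV⟩
    rw [hZeq] at hxZ
    obtain ⟨t, ht, hxt⟩ := Set.mem_iUnion₂.mp hxZ
    exact Set.mem_iUnion₂.mpr ⟨t, ht, hxt, hxV⟩
  refine Set.Finite.subset (hSfin.biUnion fun t ht => ?_) hsub
  obtain ⟨η, hη⟩ := QuasiSober.sober (hSirr t ht) t.isClosed
  by_cases hne : ((t : Set T) ∩ V).Nonempty
  · obtain ⟨y, hyt, hyV⟩ := hne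
    have hηy : η ⤳ y := hη.specializes hyt
    have hηV : η ∈ V := hηy.mem_open hV hyV
    have hηZ : η ∈ Z := by
      rw [hZeq]
      exact Set.mem_iUnion₂.mpr ⟨t, ht, hη.mem⟩
    have h1 : (t : Set T) = {η} := by
      rw [← hη.def, (hcl η ⟨hηZ, hηV⟩).closure_eq]
    rw [h1]
    exact (Set.finite_singleton η).subset Set.inter_subset_left
  · rw [Set.not_nonempty_iff_eq_empty.mp hne]
    exact Set.finite_empty

/-- at a point whose local ring has dimension `≤ 0`, all germs of divisors are trivial -/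
theorem germ_eq_one_of_krullDimLE_zero (z : X) [IsNoetherianRing (X.presheaf.stalk z)]
    (hdim : Ring.KrullDimLE 0 (X.presheaf.stalk z)) (d : Mero.Germ X z) : d = 1 := by
  have hart : IsArtinianRing (X.presheaf.stalk z) := isArtinianRing_iff_krullDimLE_zero.mpr hdim
  have hunits : Mero.regStalk X z ≤ IsUnit.submonoid (X.presheaf.stalk z) := by
    intro s hs
    exact IsArtinianRing.isUnit_of_mem_nonZeroDivisors (Mero.regStalk_le_nonZeroDivisors z hs)
  let e : X.presheaf.stalk z ≃ₐ[X.presheaf.stalk z] Mero.KStalk X z :=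
    IsLocalization.atUnits (X.presheaf.stalk z) (Mero.regStalk X z) hunits
  obtain ⟨q, hq⟩ := QuotientGroup.mk_surjective d
  rw [← hq, QuotientGroup.eq_one_iff]
  refine ⟨Units.map (e.symm : Mero.KStalk X z →* X.presheaf.stalk z) q, ?_⟩
  apply Units.ext
  change algebraMap (X.presheaf.stalk z) (Mero.KStalk X z) (e.symm q) = q
  rw [← AlgEquiv.commutes e, Algebra.algebraMap_self, RingHom.id_apply, AlgEquiv.apply_symm_apply]



/-- the stalk dimension as a height -/
theorem ringKrullDim_stalk_eq_height {W : X.Opens} (hW : IsAffineOpen W) (x : X) (hxW : x ∈ W) :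
    ringKrullDim (X.presheaf.stalk x) = ((hW.primeIdealOf ⟨x, hxW⟩).asIdeal.height : WithBot ℕ∞) := by
  letI := TopCat.Presheaf.algebra_section_stalk X.presheaf (⟨x, hxW⟩ : W)
  haveI : IsLocalization.AtPrime (X.presheaf.stalk x) (hW.primeIdealOf ⟨x, hxW⟩).asIdeal :=
    hW.isLocalization_stalk ⟨x, hxW⟩
  exact IsLocalization.AtPrime.ringKrullDim_eq_height (hW.primeIdealOf ⟨x, hxW⟩).asIdeal _

/-- on an absolute curve, the local rings at the non-closed points have dimension zero -/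
theorem krullDimLE_zero_of_not_isClosed [IsNoetherian X]
    (hC : ∀ x : X, IsClosed ({x} : Set X) → ringKrullDim (X.presheaf.stalk x) = 1)
    (x : X) (hx : ¬ IsClosed ({x} : Set X)) : Ring.KrullDimLE 0 (X.presheaf.stalk x) := by
  obtain ⟨c, hc, hcc⟩ := (isClosed_closure (s := ({x} : Set X))).exists_closed_singleton
    ⟨x, subset_closure rfl⟩
  have hxc : x ⤳ c := specializes_iff_mem_closure.mpr hc
  have hne : x ≠ c := by
    rintro rfl
    exact hx hcc
  obtain ⟨_, ⟨W, hW, rfl⟩, hcW, -⟩ :=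
    X.isBasis_affineOpens.exists_subset_of_mem_open (Set.mem_univ c) isOpen_univ
  have hxW : x ∈ W := hxc.mem_open W.2 hcW
  haveI : IsNoetherianRing Γ(X, W) := IsLocallyNoetherian.component_noetherian ⟨W, hW⟩
  set px := hW.primeIdealOf ⟨x, hxW⟩ with hpx
  set pc := hW.primeIdealOf ⟨c, hcW⟩ with hpc
  have e1 : hW.fromSpec px = x := hW.fromSpec_primeIdealOf ⟨x, hxW⟩
  have e2 : hW.fromSpec pc = c := hW.fromSpec_primeIdealOf ⟨c, hcW⟩
  have hspec : px ⤳ pc := by
    have h0 : hW.fromSpec px ⤳ hW.fromSpec pc := by rw [e1, e2]; exact hxc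
    exact hW.fromSpec.isOpenEmbedding.isInducing.specializes_iff.mp h0
  have hle : px ≤ pc := (PrimeSpectrum.le_iff_specializes _ _).mpr hspec
  have hlt : px.asIdeal < pc.asIdeal := by
    refine lt_of_le_of_ne hle ?_
    intro h
    apply hne
    rw [← e1, ← e2, PrimeSpectrum.ext h]
  have h1 : px.asIdeal.height < pc.asIdeal.height := Ideal.height_strict_mono_of_isPrime hlt
  have h2 : ((pc.asIdeal.height : ℕ∞) : WithBot ℕ∞) = 1 := by
    rw [← ringKrullDim_stalk_eq_height hW c hcW]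
    exact hC c hcc
  have h3 : pc.asIdeal.height = 1 := by exact_mod_cast h2
  rw [h3] at h1
  have h4 : px.asIdeal.height = 0 := Order.lt_one_iff.mp h1
  rw [Ring.krullDimLE_iff, ringKrullDim_stalk_eq_height hW x hxW, h4]
  rfl



theorem mem_basicOpen_iff_notMem_primeIdealOf {W : X.Opens} (hW : IsAffineOpen W)
    (x : X) (hxW : x ∈ W) (d : Γ(X, W)) :
    x ∈ X.basicOpen d ↔ d ∉ (hW.primeIdealOf ⟨x, hxW⟩).asIdeal := by
  have hpx : hW.fromSpec (hW.primeIdealOf ⟨x, hxW⟩) = x := hW.fromSpec_primeIdealOf ⟨x, hxW⟩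
  have : (hW.primeIdealOf ⟨x, hxW⟩) ∈ hW.fromSpec ⁻¹ᵁ X.basicOpen d ↔
      d ∉ (hW.primeIdealOf ⟨x, hxW⟩).asIdeal := by
    rw [hW.fromSpec_preimage_basicOpen]
    rfl
  rw [← this]
  show x ∈ X.basicOpen d ↔ hW.fromSpec (hW.primeIdealOf ⟨x, hxW⟩) ∈ X.basicOpen d
  rw [hpx]

/-- the locus where a divisor is trivial is open -/
theorem isOpen_setOf_eq_one (D : Divisor X) : IsOpen {x : X | D.1 x = 1} := by
  rw [isOpen_iff_forall_mem_open]
  intro x hx
  obtain ⟨W, hW, hxW, a, b, hrep⟩ := exists_isRep D x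
  obtain ⟨h1, h2⟩ := (hrep.eq_one_iff ⟨x, hxW⟩).mp hx
  rw [divAt_iff hW] at h1 h2
  obtain ⟨r, hr, hrp⟩ := Set.not_subset.mp h1
  obtain ⟨r', hr', hrp'⟩ := Set.not_subset.mp h2
  refine ⟨X.basicOpen (r * r'), ?_, (X.basicOpen (r * r')).2, ?_⟩
  · intro y hy
    have hyW : y ∈ W := X.basicOpen_le _ hy
    have hy' := (mem_basicOpen_iff_notMem_primeIdealOf hW y hyW _).mp hy
    show D.1 y = 1
    rw [hrep.eq_one_iff ⟨y, hyW⟩, divAt_iff hW, divAt_iff hW]
    constructor
    · intro hle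
      exact hy' (Ideal.mul_mem_right _ _ (hle hr))
    · intro hle
      exact hy' (Ideal.mul_mem_left _ _ (hle hr'))
  · exact (mem_basicOpen_iff_notMem_primeIdealOf hW x hxW _).mpr
      (fun h => ((hW.primeIdealOf ⟨x, hxW⟩).2.mem_or_mem h).elim hrp hrp')

/-- the fraction `a / b` as a meromorphic function -/
noncomputable def frac {U : X.Opens} (a : Γ(X, U)) (b : regSub X U) : Γ(kmod X, U) :=
  ⟨fun y => LocalizedModule.mk (X.presheaf.germ U y.1 y.2 a) (regGerm y b),
    fun y => ⟨U, y.2, 𝟙 _, a, b, fun _ => rfl⟩⟩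

theorem frac_mul_frac {U : X.Opens} (a b : regSub X U) : frac a.1 b * frac b.1 a = 1 := by
  apply Subtype.ext
  funext y
  show (LocalizedModule.mk (X.presheaf.germ U y.1 y.2 a.1) (regGerm y b) : KStalk X y.1) *
    LocalizedModule.mk (X.presheaf.germ U y.1 y.2 b.1) (regGerm y a) = 1
  refine LocalizedModule.mk_mul_mk.trans ?_
  rw [← mk_self_eq_one (regGerm y b * regGerm y a)]
  exact mk_congr (mul_comm _ _) rfl

/-- the fraction of two regular sections as a unit of `K_X` -/
noncomputable def fracUnit {U : X.Opens} (a b : regSub X U) : (Γ(kmod X, U))ˣ :=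
  ⟨frac a.1 b, frac b.1 a, frac_mul_frac a b, frac_mul_frac b a⟩

theorem evalK_fracUnit {U : X.Opens} (a b : regSub X U) (y : U) :
    evalK X U y (fracUnit a b : Γ(kmod X, U)) =
      LocalizedModule.mk (X.presheaf.germ U y.1 y.2 a.1) (regGerm y b) := rfl

/-- the germ of `a / b` is trivial where `a` and `b` are invertible -/
theorem germOf_fracUnit_eq_one {U : X.Opens} (a b : regSub X U) (y : U)
    (ha : IsUnit (X.presheaf.germ U y.1 y.2 a.1)) (hb : IsUnit (X.presheaf.germ U y.1 y.2 b.1)) :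
    germOf (fracUnit a b) y = 1 := by
  rw [germOf, QuotientGroup.eq_one_iff]
  obtain ⟨ua, hua⟩ := ha
  obtain ⟨ub, hub⟩ := hb
  refine ⟨ua * ub⁻¹, ?_⟩
  apply Units.ext
  show algebraMap (X.presheaf.stalk y.1) (KStalk X y.1) ((ua * ub⁻¹ : (X.presheaf.stalk y.1)ˣ) : _) =
    LocalizedModule.mk (X.presheaf.germ U y.1 y.2 a.1) (regGerm y b)
  rw [kstalk_algebraMap_eq_mk, kstalk_mk_eq_mk_iff]
  show X.presheaf.germ U y.1 y.2 b.1 * ((ua * ub⁻¹ : (X.presheaf.stalk y.1)ˣ) : _) =
    (1 : X.presheaf.stalk y.1) * X.presheaf.germ U y.1 y.2 a.1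
  rw [← hua, ← hub, Units.val_mul, one_mul, mul_comm (ua : X.presheaf.stalk y.1), ← mul_assoc,
    Units.mul_inv, one_mul]


theorem isClosed_of_finite_of_forall_isClosed_singleton {T : Type*} [TopologicalSpace T]
    (S : Set T) (hS : S.Finite) (h : ∀ z ∈ S, IsClosed ({z} : Set T)) : IsClosed S := by
  rw [← Set.biUnion_of_singleton S]
  exact hS.isClosed_biUnion h

/-- a unit of `K_{X,x}` is a fraction of two regular sections near `x` (locally Noetherian case) -/
theorem exists_frac_rep [IsLocallyNoetherian X] (x : X) (q : (KStalk X x)ˣ) :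
    ∃ (V : X.Opens) (hx : x ∈ V) (a b : regSub X V),
      (q : KStalk X x) = LocalizedModule.mk (X.presheaf.germ V x hx a.1) (regGerm ⟨x, hx⟩ b) := by
  obtain ⟨ax, sx, hq⟩ : ∃ (ax : X.presheaf.stalk x) (sx : regStalk X x),
      (q : KStalk X x) = LocalizedModule.mk ax sx := by
    induction (q : KStalk X x) using LocalizedModule.induction_on with
    | h m s => exact ⟨m, s, rfl⟩
  obtain ⟨cx, tx, hq'⟩ : ∃ (cx : X.presheaf.stalk x) (tx : regStalk X x),
      ((q⁻¹ : (KStalk X x)ˣ) : KStalk X x) = LocalizedModule.mk cx tx := by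
    induction ((q⁻¹ : (KStalk X x)ˣ) : KStalk X x) using LocalizedModule.induction_on with
    | h m s => exact ⟨m, s, rfl⟩
  have hax : ax ∈ regStalk X x := by
    rw [Groth.Agent.S8863.main X x]
    have h1 : (q : KStalk X x) * ((q⁻¹ : (KStalk X x)ˣ) : KStalk X x) = 1 := q.mul_inv
    rw [hq, hq', kstalk_mk_mul_mk, kstalk_one, kstalk_mk_eq_mk_iff] at h1
    simp only [Submonoid.coe_mul, Submonoid.coe_one, one_mul, mul_one] at h1
    have h2 : ax * cx ∈ nonZeroDivisors (X.presheaf.stalk x) := by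
      rw [h1]
      exact Submonoid.mul_mem _ (regStalk_le_nonZeroDivisors x sx.2) (regStalk_le_nonZeroDivisors x tx.2)
    exact (mul_mem_nonZeroDivisors.mp h2).1
  obtain ⟨U1, hxU1, a, ha, hag⟩ := hax
  obtain ⟨U2, hxU2, b, hb, hbg⟩ := sx.2
  refine ⟨U1 ⊓ U2, ⟨hxU1, hxU2⟩, ⟨X.presheaf.map (homOfLE inf_le_left).op a, regSub_res _ ha⟩,
    ⟨X.presheaf.map (homOfLE inf_le_right).op b, regSub_res _ hb⟩, ?_⟩
  rw [hq]
  refine mk_congr ?_ ?_
  · rw [← hag]
    exact (TopCat.Presheaf.germ_res_apply X.presheaf (homOfLE inf_le_left) x _ a).symm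
  · show (sx : X.presheaf.stalk x) = X.presheaf.germ (U1 ⊓ U2) x _ (X.presheaf.map (homOfLE inf_le_right).op b)
    rw [← hbg]
    exact (TopCat.Presheaf.germ_res_apply X.presheaf (homOfLE inf_le_right) x _ b).symm

/-- on an absolute curve the zero locus of a regular section consists of closed points -/
theorem isClosed_singleton_of_not_mem_basicOpen [IsNoetherian X]
    (hC : ∀ x : X, IsClosed ({x} : Set X) → ringKrullDim (X.presheaf.stalk x) = 1)
    {V : X.Opens} (c : regSub X V) (z : X) (hzV : z ∈ V) (hz : z ∉ X.basicOpen c.1) :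
    IsClosed ({z} : Set X) := by
  by_contra hcl
  apply hz
  rw [X.mem_basicOpen c.1 z hzV]
  have hdim := krullDimLE_zero_of_not_isClosed hC z hcl
  have hart : IsArtinianRing (X.presheaf.stalk z) := isArtinianRing_iff_krullDimLE_zero.mpr hdim
  exact IsArtinianRing.isUnit_of_mem_nonZeroDivisors (c.2 ⟨z, hzV⟩)

/-- **Divisors on an absolute curve are the finitely supported families of germs at closed
points.** -/
theorem mem_divisorGroup_iff [IsNoetherian X]
    (hC : ∀ x : X, IsClosed ({x} : Set X) → ringKrullDim (X.presheaf.stalk x) = 1)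
    (g : ∀ x : X, Mero.Germ X x) :
    g ∈ Mero.divisorGroup X ↔
      ({x : X | g x ≠ 1}.Finite ∧ ∀ x : X, ¬ IsClosed ({x} : Set X) → g x = 1) := by
  constructor
  · intro hg
    have htriv : ∀ x : X, ¬ IsClosed ({x} : Set X) → g x = 1 := fun x hx =>
      germ_eq_one_of_krullDimLE_zero x (krullDimLE_zero_of_not_isClosed hC x hx) _
    refine ⟨?_, htriv⟩
    have hopen := isOpen_setOf_eq_one (⟨g, hg⟩ : Divisor X)
    have hclosed : IsClosed {x : X | g x ≠ 1} := by
      rw [← isOpen_compl_iff]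
      convert hopen using 1
      ext x
      simp
    have := finite_inter_of_forall_isClosed_singleton {x : X | g x ≠ 1} Set.univ hclosed isOpen_univ
      (fun x hx => by
        by_contra hcl
        exact hx.1 (htriv x hcl))
    rwa [Set.inter_univ] at this
  · rintro ⟨hfin, htriv⟩ x
    obtain ⟨q, hq⟩ := QuotientGroup.mk_surjective (g x)
    obtain ⟨V0, hxV0, a, b, hab⟩ := exists_frac_rep x q
    have hclT : ∀ z ∈ {x : X | g x ≠ 1}, IsClosed ({z} : Set X) := fun z hz => by
      by_contra hcl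
      exact hz (htriv z hcl)
    have hZcl : ∀ z ∈ ((X.basicOpen (a * b).1 : Set X)ᶜ ∩ V0), IsClosed ({z} : Set X) :=
      fun z hz => isClosed_singleton_of_not_mem_basicOpen hC (a * b) z hz.2 hz.1
    have hZfin := finite_inter_of_forall_isClosed_singleton _ (V0 : Set X)
      (X.basicOpen (a * b).1).2.isClosed_compl V0.2 hZcl
    set E : Set X := ({x : X | g x ≠ 1} ∪ ((X.basicOpen (a * b).1 : Set X)ᶜ ∩ V0)) \ {x} with hE
    have hEfin : E.Finite := (hfin.union hZfin).subset Set.sdiff_subset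
    have hEcl : IsClosed E := isClosed_of_finite_of_forall_isClosed_singleton E hEfin (fun z hz =>
      hz.1.elim (hclT z) (hZcl z))
    set V : X.Opens := V0 ⊓ ⟨Eᶜ, hEcl.isOpen_compl⟩ with hV
    have hxV : x ∈ V := ⟨hxV0, fun h => h.2 rfl⟩
    have hVV0 : V ≤ V0 := inf_le_left
    set a' : regSub X V := ⟨X.presheaf.map (homOfLE hVV0).op a.1, regSub_res _ a.2⟩ with ha'
    set b' : regSub X V := ⟨X.presheaf.map (homOfLE hVV0).op b.1, regSub_res _ b.2⟩ with hb'
    refine ⟨V, hxV, fracUnit a' b', ?_⟩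
    intro y
    by_cases hyx : y.1 = x
    · obtain ⟨y, hy⟩ := y
      obtain rfl : y = x := hyx
      rw [← hq, germOf]
      congr 1
      apply Units.ext
      show (q : KStalk X y) = LocalizedModule.mk (X.presheaf.germ V y hy a'.1) (regGerm ⟨y, hy⟩ b')
      rw [hab]
      refine mk_congr ?_ ?_
      · exact (TopCat.Presheaf.germ_res_apply X.presheaf (homOfLE hVV0) y hy a.1).symm
      · exact (TopCat.Presheaf.germ_res_apply X.presheaf (homOfLE hVV0) y hy b.1).symm
    · have hyE : y.1 ∉ E := y.2.2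
      have hy1 : g y.1 = 1 := by
        by_contra h
        exact hyE ⟨Or.inl h, hyx⟩
      have hy2 : y.1 ∈ X.basicOpen (a * b).1 := by
        by_contra h
        exact hyE ⟨Or.inr ⟨h, hVV0 y.2⟩, hyx⟩
      rw [X.mem_basicOpen _ y.1 (hVV0 y.2)] at hy2
      have hy3 : IsUnit (X.presheaf.germ V0 y.1 (hVV0 y.2) a.1 * X.presheaf.germ V0 y.1 (hVV0 y.2) b.1) := by
        rw [← map_mul]
        exact hy2
      rw [hy1]
      symm
      apply germOf_fracUnit_eq_one
      · show IsUnit (X.presheaf.germ V y.1 y.2 (X.presheaf.map (homOfLE hVV0).op a.1))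
        rw [TopCat.Presheaf.germ_res_apply]
        exact isUnit_of_mul_isUnit_left hy3
      · show IsUnit (X.presheaf.germ V y.1 y.2 (X.presheaf.map (homOfLE hVV0).op b.1))
        rw [TopCat.Presheaf.germ_res_apply]
        exact isUnit_of_mul_isUnit_right hy3

end Groth.Agent.Lib.Helper18.AbsCurveDiv
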