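import Mathlib

set_option autoImplicit false
universe u

open IsLocalRing

namespace H18Loc

variable {A B : Type*} [CommRing A] [CommRing B] [IsLocalRing A] [IsLocalRing B] [Algebra A B]
  [IsLocalHom (algebraMap A B)]

/-- If the residue map is surjective and `m_A B = m_B` then `A → B/m_B^n` is surjective. -/
theorem surj_of_unram
    (hres : Function.Surjective (algebraMap (ResidueField A) (ResidueField B)))
    (hm : (maximalIdeal A).map (algebraMap A B) = maximalIdeal B) (n : ℕ) :
    ∀ b : B, ∃ a : A, b - algebraMap A B a ∈ maximalIdeal B ^ n := by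
  have S1 : ∀ b : B, ∃ a : A, b - algebraMap A B a ∈ maximalIdeal B := by
    intro b
    obtain ⟨a', ha'⟩ := hres (residue B b)
    obtain ⟨a, rfl⟩ := residue_surjective a'
    refine ⟨a, ?_⟩
    rw [← Ideal.Quotient.eq_zero_iff_mem, map_sub, sub_eq_zero]
    exact ha'.symm
  have step : ∀ n : ℕ, ∀ x ∈ maximalIdeal B ^ n,
      ∃ a : A, x - algebraMap A B a ∈ maximalIdeal B ^ (n + 1) := by
    intro n x hx
    have hpow : Ideal.map (algebraMap A B) (maximalIdeal A ^ n) = maximalIdeal B ^ n := by
      rw [Ideal.map_pow, hm]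
    rw [← hpow] at hx
    have hx' : x ∈ Submodule.span B ((algebraMap A B) '' ((maximalIdeal A ^ n : Ideal A) : Set A)) :=
      hx
    have key : x ∈ maximalIdeal B ^ n ∧
        ∃ a : A, x - algebraMap A B a ∈ maximalIdeal B ^ (n + 1) := by
      refine Submodule.span_induction
        (p := fun x _ => x ∈ maximalIdeal B ^ n ∧
          ∃ a : A, x - algebraMap A B a ∈ maximalIdeal B ^ (n + 1)) ?_ ?_ ?_ ?_ hx'
      · rintro _ ⟨c, hc, rfl⟩
        exact ⟨hpow ▸ Ideal.mem_map_of_mem _ hc, c, by simp⟩
      · exact ⟨Ideal.zero_mem _, 0, by simp⟩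
      · rintro x y _ _ ⟨hx1, a₁, h₁⟩ ⟨hy1, a₂, h₂⟩
        refine ⟨Ideal.add_mem _ hx1 hy1, a₁ + a₂, ?_⟩
        rw [map_add]
        have : x + y - (algebraMap A B a₁ + algebraMap A B a₂) =
          (x - algebraMap A B a₁) + (y - algebraMap A B a₂) := by ring
        rw [this]
        exact Ideal.add_mem _ h₁ h₂
      · rintro b x _ ⟨hxn, a, ha⟩
        obtain ⟨a', ha'⟩ := S1 b
        refine ⟨Ideal.mul_mem_left _ _ hxn, a' * a, ?_⟩
        have : b • x - algebraMap A B (a' * a) =
            (b - algebraMap A B a') * x + algebraMap A B a' * (x - algebraMap A B a) := by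
          rw [map_mul, smul_eq_mul]; ring
        rw [this]
        refine Ideal.add_mem _ ?_ (Ideal.mul_mem_left _ _ ha)
        rw [pow_succ']
        exact Ideal.mul_mem_mul ha' hxn
    exact key.2
  induction n with
  | zero => intro b; exact ⟨0, by simp⟩
  | succ n ih =>
    intro b
    obtain ⟨a, ha⟩ := ih b
    obtain ⟨a', ha'⟩ := step n _ ha
    exact ⟨a + a', by rw [map_add, ← sub_sub]; exact ha'⟩

theorem unram_of_surj [IsNoetherianRing B]
    (h : ∀ n : ℕ, ∀ b : B, ∃ a : A, b - algebraMap A B a ∈ maximalIdeal B ^ n) :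
    Function.Surjective (algebraMap (ResidueField A) (ResidueField B)) ∧
    (maximalIdeal A).map (algebraMap A B) = maximalIdeal B := by
  constructor
  · intro x
    obtain ⟨b, rfl⟩ := residue_surjective x
    obtain ⟨a, ha⟩ := h 1 b
    refine ⟨residue A a, ?_⟩
    rw [pow_one, ← Ideal.Quotient.eq_zero_iff_mem, map_sub, sub_eq_zero] at ha
    rw [ResidueField.algebraMap_residue]
    exact ha.symm
  · refine le_antisymm (map_maximalIdeal_le (algebraMap A B)) ?_
    refine Submodule.le_of_le_smul_of_le_jacobson_bot (I := maximalIdeal B)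
      (IsNoetherian.noetherian _) ?_ ?_
    · rw [IsLocalRing.jacobson_eq_maximalIdeal _ bot_ne_top]
    · intro t ht
      obtain ⟨a, ha⟩ := h 2 t
      have hφa : algebraMap A B a ∈ maximalIdeal B := by
        have : algebraMap A B a = t - (t - algebraMap A B a) := by ring
        rw [this]
        exact Ideal.sub_mem _ ht (Ideal.pow_le_self two_ne_zero ha)
      have ham : a ∈ maximalIdeal A := by
        by_contra hcon
        have hu : IsUnit a := by
          rwa [mem_maximalIdeal, mem_nonunits_iff, not_not] at hcon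
        exact (mem_maximalIdeal _).mp hφa (hu.map _)
      have : t = algebraMap A B a + (t - algebraMap A B a) := by ring
      rw [this]
      refine Submodule.add_mem_sup (Ideal.mem_map_of_mem _ ham) ?_
      rw [smul_eq_mul, ← pow_two]
      exact ha

end H18Loc
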