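import Mathlib

universe u

namespace H18CN
open IsLocalRing

theorem mem_smul_top_pi {R : Type*} [CommRing R] (J : Ideal R) (n : ℕ) (v : Fin n → R) :
    v ∈ (J • ⊤ : Submodule R (Fin n → R)) ↔ ∀ i, v i ∈ J := by
  constructor
  · intro hv
    refine Submodule.smul_induction_on hv ?_ ?_
    · intro r hr w _ i
      exact Ideal.mul_mem_right _ _ hr
    · intro x y hx hy i
      exact Ideal.add_mem _ (hx i) (hy i)
  · intro hv
    rw [pi_eq_sum_univ v]
    apply Submodule.sum_mem
    intro i _
    exact Submodule.smul_mem_smul (hv i) trivial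

theorem isPrecomplete_pi {R : Type*} [CommRing R] (I : Ideal R) [IsPrecomplete I R] (n : ℕ) :
    IsPrecomplete I (Fin n → R) := by
  constructor
  intro f hf
  have hcomp : ∀ i : Fin n, ∃ L : R, ∀ k, f k i ≡ L [SMOD (I ^ k • ⊤ : Submodule R R)] := by
    intro i
    apply IsPrecomplete.prec (I := I) inferInstance
    intro m k hmk
    have := hf hmk
    rw [SModEq.sub_mem, mem_smul_top_pi] at this
    rw [SModEq.sub_mem, smul_eq_mul, Ideal.mul_top]
    exact this i
  choose L hL using hcomp
  refine ⟨L, fun k => ?_⟩
  rw [SModEq.sub_mem, mem_smul_top_pi]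
  intro i
  have := hL i k
  rw [SModEq.sub_mem, smul_eq_mul, Ideal.mul_top] at this
  exact this

/-- complete Nakayama for local algebras -/
theorem finite_of_complete (R S : Type u) [CommRing R] [CommRing S] [IsLocalRing R] [IsLocalRing S]
    [Algebra R S] [IsLocalHom (algebraMap R S)]
    [IsPrecomplete (maximalIdeal R) R] [IsHausdorff (maximalIdeal S) S]
    (hm : (maximalIdeal R).map (algebraMap R S) = maximalIdeal S)
    [Module.Finite (ResidueField R) (ResidueField S)] : Module.Finite R S := by
  obtain ⟨n, s, hs⟩ := Module.Finite.exists_fin (R := ResidueField R) (M := ResidueField S)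
  have hb : ∀ i, ∃ b : S, residue S b = s i := fun i => residue_surjective (s i)
  choose b hb using hb
  let f : (Fin n → R) →ₗ[R] S := Fintype.linearCombination R b
  have hf : ∀ c : Fin n → R, f c = ∑ i, c i • b i := fun c => Fintype.linearCombination_apply R b c
  have hHaus : IsHausdorff (maximalIdeal R) S := by
    rw [← IsHausdorff.map_algebraMap_iff (S := S), hm]
    infer_instance
  have hPre : IsPrecomplete (maximalIdeal R) (Fin n → R) := isPrecomplete_pi _ n
  have hsurj : Function.Surjective
      ((Submodule.mkQ (maximalIdeal R • ⊤ : Submodule R S)).comp f) := by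
    intro y
    obtain ⟨y, rfl⟩ := Submodule.mkQ_surjective _ y
    have hy : residue S y ∈ Submodule.span (ResidueField R) (Set.range s) := by rw [hs]; trivial
    obtain ⟨c', hc'⟩ := (Submodule.mem_span_range_iff_exists_fun _).mp hy
    have hc : ∀ i, ∃ c : R, residue R c = c' i := fun i => residue_surjective (c' i)
    choose c hc using hc
    refine ⟨c, ?_⟩
    rw [LinearMap.comp_apply, Submodule.mkQ_apply, Submodule.mkQ_apply, Submodule.Quotient.eq,
      Ideal.smul_top_eq_map, Submodule.restrictScalars_mem, hm, ← residue_eq_zero_iff, map_sub,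
      sub_eq_zero, ← hc', hf, map_sum]
    apply Finset.sum_congr rfl
    intro i _
    rw [Algebra.smul_def, map_mul, Algebra.smul_def, ← hc, ← hb]
    rfl
  have := surjective_of_mkQ_comp_surjective (I := maximalIdeal R) (f := f) hsurj
  exact Module.Finite.of_surjective f this

end H18CN
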