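import Mathlib
import Groth.Agent.S9562
import Groth.Agent.S9232
import Groth.Agent.S3871
import Groth.Agent.Lib.Helper18.LocalUnram

/-!
# Étale local homomorphisms and quotients by powers of maximal ideals (helper18)
-/

set_option autoImplicit false
set_option linter.unusedSectionVars false
universe u

open IsLocalRing

namespace H18Loc

variable (A B : Type u) [CommRing A] [CommRing B] [IsLocalRing A] [IsLocalRing B]
  [IsNoetherianRing A] [IsNoetherianRing B] [Algebra A B] [IsLocalHom (algebraMap A B)]

/-- If `A/m_A^n → B/m_B^n` is bijective for all `n` then `A → B` is an étale local homomorphism. -/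
theorem etale_of_levelwise
    (h : ∀ n : ℕ, (∀ b : B, ∃ a : A, b - algebraMap A B a ∈ maximalIdeal B ^ n) ∧
      (maximalIdeal B ^ n).comap (algebraMap A B) = maximalIdeal A ^ n) :
    Module.Flat A B ∧ (maximalIdeal A).map (algebraMap A B) = maximalIdeal B ∧
      Module.Finite (ResidueField A) (ResidueField B) ∧
      Algebra.IsSeparable (ResidueField A) (ResidueField B) := by
  have hle : (maximalIdeal A).map (algebraMap A B) ≤ maximalIdeal B :=
    map_maximalIdeal_le (algebraMap A B)
  let ψ := FSch.complMap (maximalIdeal A) (maximalIdeal B) (algebraMap A B) hle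
  have hψ : ψ.comp (algebraMap A (AdicCompletion (maximalIdeal A) A)) =
      (algebraMap B (AdicCompletion (maximalIdeal B) B)).comp (algebraMap A B) := by
    refine RingHom.ext fun a => ?_
    exact Groth.Agent.S3871.complMap_of _ _ _ hle a
  have hbij : Function.Bijective ψ := by
    apply Groth.Agent.S9232.complMap_bijective_of_levelwise
    intro k
    constructor
    · apply Ideal.quotientMap_injective'
      rw [(h k).2]
    · intro y
      obtain ⟨b, rfl⟩ := Ideal.Quotient.mk_surjective y
      obtain ⟨a, ha⟩ := (h k).1 b
      refine ⟨Ideal.Quotient.mk _ a, ?_⟩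
      rw [Ideal.quotientMap_mk, eq_comm, Ideal.Quotient.eq]
      exact ha
  exact Groth.Agent.S9562.of_etale A B ψ hψ (RingHom.Etale.of_bijective hbij)

/-- A flat unramified local homomorphism with trivial residue extension induces bijections
`A/m_A^n → B/m_B^n`. -/
theorem levelwise_of_etale [Module.Flat A B]
    (hres : Function.Surjective (algebraMap (ResidueField A) (ResidueField B)))
    (hm : (maximalIdeal A).map (algebraMap A B) = maximalIdeal B) (n : ℕ) :
    (∀ b : B, ∃ a : A, b - algebraMap A B a ∈ maximalIdeal B ^ n) ∧
      (maximalIdeal B ^ n).comap (algebraMap A B) = maximalIdeal A ^ n := by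
  refine ⟨surj_of_unram hres hm n, ?_⟩
  have : Module.FaithfullyFlat A B := Module.FaithfullyFlat.of_flat_of_isLocalHom
  rw [← hm, ← Ideal.map_pow]
  exact Ideal.comap_map_eq_self_of_faithfullyFlat _

end H18Loc
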