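import Mathlib.RingTheory.AdicCompletion.Basic

/-!
Criteria for the adic completion of a module to be adically complete (helper18).
-/

set_option autoImplicit false
universe u v

namespace Groth.Agent.Lib.helper18

open Submodule

variable {R : Type u} [CommRing R] (I : Ideal R) (M : Type v) [AddCommGroup M] [Module R M]

/-- The image of `I ^ n • ⊤` under `of` lies in `I ^ n • ⊤`. -/
theorem of_mem_pow_smul_top {n : ℕ} {y : M} (hy : y ∈ (I ^ n • ⊤ : Submodule R M)) :
    AdicCompletion.of I M y ∈ (I ^ n • ⊤ : Submodule R (AdicCompletion I M)) := by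
  have h1 : AdicCompletion.of I M y ∈
      Submodule.map (AdicCompletion.of I M) (I ^ n • ⊤ : Submodule R M) :=
    Submodule.mem_map_of_mem hy
  rw [Submodule.map_smul''] at h1
  exact Submodule.smul_mono le_rfl le_top h1

/-- If the completion is precomplete then every element is approximated by `M` modulo
`I ^ n • ⊤`. -/
theorem exists_sub_of_mem_of_isPrecomplete (h : IsPrecomplete I (AdicCompletion I M))
    (n : ℕ) (x : AdicCompletion I M) :
    ∃ y : M, x - AdicCompletion.of I M y ∈ (I ^ n • ⊤ : Submodule R (AdicCompletion I M)) := by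
  obtain ⟨f, rfl⟩ := AdicCompletion.mk_surjective I M x
  have hcauchy : ∀ {m n : ℕ}, m ≤ n → AdicCompletion.of I M (f m) ≡ AdicCompletion.of I M (f n)
      [SMOD (I ^ m • ⊤ : Submodule R (AdicCompletion I M))] := by
    intro m n hmn
    rw [SModEq.sub_mem, ← map_sub]
    apply of_mem_pow_smul_top
    rw [← SModEq.sub_mem]
    exact f.property hmn
  obtain ⟨L, hL⟩ := h.prec hcauchy
  have hLx : L = AdicCompletion.mk I M f := by
    apply AdicCompletion.ext
    intro m
    have h1 := hL m
    rw [SModEq.sub_mem] at h1
    have h2 := AdicCompletion.pow_smul_top_le_ker_eval (I := I) (M := M) m h1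
    rw [LinearMap.mem_ker, map_sub, sub_eq_zero, AdicCompletion.eval_of] at h2
    rw [← AdicCompletion.eval_apply, ← h2]
    rfl
  refine ⟨f n, ?_⟩
  have h1 := hL n
  rw [SModEq.sub_mem, hLx] at h1
  have h2 := Submodule.neg_mem _ h1
  rwa [neg_sub] at h2

/-- If every element of the completion is approximated by `M`, the kernel of the `n`-th
projection is `I ^ n • ⊤`. -/
theorem ker_eval_eq_of_exists_sub_of_mem
    (h : ∀ (n : ℕ) (x : AdicCompletion I M), ∃ y : M,
      x - AdicCompletion.of I M y ∈ (I ^ n • ⊤ : Submodule R (AdicCompletion I M))) (n : ℕ) :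
    LinearMap.ker (AdicCompletion.eval I M n) = I ^ n • (⊤ : Submodule R (AdicCompletion I M)) := by
  apply le_antisymm _ (AdicCompletion.pow_smul_top_le_ker_eval (I := I) (M := M) n)
  intro x hx
  obtain ⟨y, hy⟩ := h n x
  have h1 := AdicCompletion.pow_smul_top_le_ker_eval (I := I) (M := M) n hy
  rw [LinearMap.mem_ker] at hx h1
  rw [map_sub, hx, zero_sub, neg_eq_zero, AdicCompletion.eval_of, Submodule.mkQ_apply,
    Submodule.Quotient.mk_eq_zero] at h1
  have h2 := of_mem_pow_smul_top I M h1
  have h3 := Submodule.add_mem _ hy h2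
  rwa [sub_add_cancel] at h3

/-- If the kernels of the projections are `I ^ n • ⊤` (for `n ≥ 1`), the completion is
adically complete. -/
theorem isAdicComplete_of_ker_eval_eq
    (h : ∀ n : ℕ, 1 ≤ n → LinearMap.ker (AdicCompletion.eval I M n) =
      I ^ n • (⊤ : Submodule R (AdicCompletion I M))) :
    IsAdicComplete I (AdicCompletion I M) := by
  have hpre : IsPrecomplete I (AdicCompletion I M) := by
    refine ⟨fun f hf => ?_⟩
    have hcompat : ∀ {m n : ℕ}, m ≤ n →
        AdicCompletion.eval I M m (f n) = AdicCompletion.eval I M m (f m) := by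
      intro m n hmn
      have h1 := hf hmn
      rw [SModEq.sub_mem] at h1
      have h2 := AdicCompletion.pow_smul_top_le_ker_eval (I := I) (M := M) m h1
      rw [LinearMap.mem_ker, map_sub, sub_eq_zero] at h2
      exact h2.symm
    let L : AdicCompletion I M := ⟨fun n => AdicCompletion.eval I M n (f n), by
      intro m n hmn
      show AdicCompletion.transitionMap I M hmn ((f n).val n) = (f m).val m
      rw [AdicCompletion.transitionMap_comp_eval_apply]
      exact hcompat hmn⟩
    refine ⟨L, fun n => ?_⟩
    rw [SModEq.sub_mem]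
    rcases Nat.eq_zero_or_pos n with hn | hn
    · subst hn
      rw [pow_zero, Ideal.one_eq_top, Submodule.top_smul]
      trivial
    · rw [← h n hn, LinearMap.mem_ker, map_sub, sub_eq_zero]
      rfl
  exact { toIsHausdorff := inferInstance, toIsPrecomplete := hpre }

end Groth.Agent.Lib.helper18
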