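import Mathlib
import Groth.Agent.Lib.Helper20.SheafHomExt

set_option autoImplicit false
set_option linter.unusedSectionVars false
set_option linter.unusedVariables false
set_option linter.style.haveILetI false

universe u

open CategoryTheory Limits AlgebraicGeometry Opposite Abelian

namespace Groth.Agent.Lib.Helper18.ExtUnit

open Groth.Agent.Lib.Helper18.HH Groth.Agent.Lib.Helper20.SheafHomExt

variable {X : Scheme.{u}} (k : Type u) [Field k] [X.Over (Spec (CommRingCat.of k))]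

/-- `Hom(O, B) ≃ₗ[k] H^0(X, B)` -/
noncomputable def ρLin (B : X.Modules) : (Coh.structureModule X ⟶ B) ≃ₗ[k] Coh.HH X B 0 :=
  LinearEquiv.ofBijective
    { toFun := ρ B
      map_add' := fun g g' => by
        unfold ρ
        rw [Groth.Agent.Lib.Helper18.HH.map_add]
        rfl
      map_smul' := fun a g => by
        unfold ρ
        rw [KLin.smul_def, map_comp_apply]
        have h2 : map (Formal.smulMod k (Coh.structureModule X) a) 0 (ι₀ X) = a • ι₀ X := rfl
        rw [h2]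
        exact (mapOver k g 0).map_smul a (ι₀ X) }
    (ρ_bijective B)

variable [HasExt.{u} X.Modules]

/-- `Ext^0(O, B) ≃ₗ[k] H^0(X, B)` -/
noncomputable def θ₁ (B : X.Modules) : Ext.{u} (Coh.structureModule X) B 0 ≃ₗ[k] Coh.HH X B 0 :=
  Ext.linearEquiv₀.trans (ρLin k B)

lemma θ₁_natural {B B' : X.Modules} (f : B ⟶ B') (x : Ext.{u} (Coh.structureModule X) B 0) :
    θ₁ k B' (x.comp (Ext.mk₀ f) (add_zero 0)) = mapOver k f 0 (θ₁ k B x) := by
  have hx : x = Ext.mk₀ (Ext.homEquiv₀ x) := (Ext.mk₀_homEquiv₀_apply x).symm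
  generalize Ext.homEquiv₀ x = g at hx
  subst hx
  have e1 : Ext.homEquiv₀ (Ext.mk₀ (g ≫ f)) = g ≫ f := Ext.homEquiv₀.apply_symm_apply (g ≫ f)
  have e2 : Ext.homEquiv₀ (Ext.mk₀ g) = g := Ext.homEquiv₀.apply_symm_apply g
  show ρ B' (Ext.homEquiv₀ ((Ext.mk₀ g).comp (Ext.mk₀ f) (add_zero 0))) =
    map f 0 (ρ B (Ext.homEquiv₀ (Ext.mk₀ g)))
  rw [Ext.mk₀_comp_mk₀, e1, e2, ρ_comp]

/-- **`Ext^p(O_X, B) ≃ₗ[k] H^p(X, B)`** -/
theorem ext_unit_linearEquiv (B : X.Modules) (p : ℕ) :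
    Nonempty (Ext.{u} (Coh.structureModule X) B p ≃ₗ[k] Coh.HH X B p) := by
  have h1 : HasExt.{u} (ModSite.Mod X.sheaf) := ‹HasExt.{u} X.Modules›
  have : EnoughInjectives X.Modules :=
    Groth.Agent.Lib.Helper21.ModGroth.enoughInjectives_mod X.ringCatSheaf
  have hI : ∀ I : X.Modules, Injective I → ∀ p : ℕ,
      Subsingleton (Coh.HH X ((𝟭 X.Modules).obj I) (p + 1)) := by
    intro I hI p
    have : Injective (C := ModSite.Mod X.sheaf) I := hI
    have h3 : Subsingleton (Ext.{u} (ModSite.unit X.sheaf) I (p + 1)) :=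
      Ext.subsingleton_of_injective _ _ _
    obtain ⟨e4⟩ := Groth.Agent.Lib.helper21.InjAcyc.ext_unit_equiv_H (ModSite.ringSh X.sheaf)
      I (p + 1)
    exact (EquivLike.injective e4.symm).subsingleton
  exact Groth.Agent.Lib.Helper20.ExtShift.ext_equiv_HH k (Coh.structureModule X) (𝟭 X.Modules) hI
    (θ₁ k) (fun f x => θ₁_natural k f x) p B

end Groth.Agent.Lib.Helper18.ExtUnit
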