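import Mathlib
import Groth.Agent.Lib.Helper26.Depth7
import Groth.Agent.S5752

/-!
# Cohen–Macaulay local rings of dimension `≤ 1` (helper18)

* `isCohenMacaulayLocalRing_of_dim_le_one`: a Noetherian local ring of dimension `≤ 1` which has dimension `0` or
  whose maximal ideal contains a nonzerodivisor is Cohen–Macaulay (prelude notion).
* `exists_socle_of_forall_not_regular`: if no element of `m` is a nonzerodivisor, some nonzero element is killed
  by `m`.
* `exists_notMem_forall_mul_eq_zero`: clearing denominators for "`p` kills `b` in the localization at `p`".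
-/

set_option autoImplicit false
universe u

open IsLocalRing RingTheory.Sequence LocCoh

namespace Groth.Agent.Lib.Helper18.CMDimOne

theorem isCohenMacaulayLocalRing_of_dim_le_one (R : Type u) [CommRing R] [IsLocalRing R]
    [IsNoetherianRing R] (hdim : ringKrullDim R ≤ 1)
    (h : ringKrullDim R ≤ 0 ∨ ∃ r ∈ maximalIdeal R, IsSMulRegular R r) :
    LocCoh.IsCohenMacaulayLocalRing R := by
  refine { supportDim_eq_depth := ?_ }
  rw [Module.supportDim_self_eq_ringKrullDim]
  refine le_antisymm ?_ (Groth.Agent.Lib.helper26.Depth.depth_self_le_ringKrullDim R)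
  rcases h with h0 | ⟨r, hr, hreg⟩
  · refine h0.trans ?_
    exact WithBot.coe_le_coe.mpr zero_le
  · have hle := Groth.Agent.Lib.helper26.Depth.length_le_idealDepth (I := maximalIdeal R) (M := R)
      (rs := [r]) ((isWeaklyRegular_singleton_iff R r).2 hreg) (by simpa using hr)
    refine hdim.trans ?_
    have : ((1 : ℕ∞) : WithBot ℕ∞) ≤ ((LocCoh.depth R R : ℕ∞) : WithBot ℕ∞) := by
      apply WithBot.coe_le_coe.mpr
      have h1 : (1 : ℕ∞) ≤ idealDepth (maximalIdeal R) R := by simpa using hle
      exact h1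
    exact this

theorem exists_socle_of_forall_not_regular (R : Type u) [CommRing R] [IsLocalRing R]
    [IsNoetherianRing R] (h : ∀ r ∈ maximalIdeal R, ¬ IsSMulRegular R r) :
    ∃ a : R, a ≠ 0 ∧ ∀ r ∈ maximalIdeal R, r * a = 0 := by
  have hm := (Groth.Agent.S5752.forall_not_regular_iff R R).mp h
  have hm' : IsAssociatedPrime (maximalIdeal R) R := hm
  rw [isAssociatedPrime_iff] at hm'
  obtain ⟨_, y, hy⟩ := hm'
  have hy0 : y ≠ 0 := by
    rintro rfl
    have : (1 : R) ∈ maximalIdeal R := by
      rw [hy, Submodule.mem_colon_singleton, smul_zero]; exact Submodule.zero_mem _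
    exact (maximalIdeal.isMaximal R).ne_top ((Ideal.eq_top_iff_one _).2 this)
  refine ⟨y, hy0, fun r hr => ?_⟩
  rw [hy, Submodule.mem_colon_singleton, Submodule.mem_bot] at hr
  exact hr

theorem exists_notMem_forall_mul_eq_zero {A : Type*} [CommRing A] (p : Ideal A) [p.IsPrime]
    (hfg : p.FG) (S : Type*) [CommRing S] [Algebra A S] [IsLocalization.AtPrime S p] (b : A)
    (h : ∀ f ∈ p, algebraMap A S (f * b) = 0) : ∃ g : A, g ∉ p ∧ ∀ f ∈ p, g * f * b = 0 := by
  classical
  obtain ⟨s, hs⟩ := hfg
  have key : ∀ f ∈ s, ∃ g : A, g ∉ p ∧ g * (f * b) = 0 := by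
    intro f hf
    have hfp : f ∈ p := hs ▸ Ideal.subset_span hf
    obtain ⟨⟨g, hg⟩, hgf⟩ := (IsLocalization.map_eq_zero_iff p.primeCompl S _).mp (h f hfp)
    exact ⟨g, hg, hgf⟩
  choose! g hg hgf using key
  refine ⟨∏ f ∈ s, g f, ?_, ?_⟩
  · intro hmem
    obtain ⟨f, hf, hgp⟩ := (Ideal.IsPrime.prod_mem_iff (p := p)).mp hmem
    exact hg f hf hgp
  · intro f hf
    rw [← hs] at hf
    induction hf using Submodule.span_induction with
    | mem f hfs =>
      obtain ⟨c, hc⟩ := Finset.dvd_prod_of_mem g hfs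
      rw [hc, mul_assoc, mul_assoc, mul_comm c, ← mul_assoc (g f), hgf f hfs] <;> ring
    | zero => ring
    | add x y _ _ hx hy => rw [mul_add, add_mul, hx, hy, add_zero]
    | smul a x _ hx =>
      rw [smul_eq_mul, ← mul_assoc, mul_comm _ a, mul_assoc a, mul_assoc a, hx, mul_zero]

end Groth.Agent.Lib.Helper18.CMDimOne
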