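import Mathlib
import Groth.Agent.Lib.Helper18.RegPoint
import Groth.Agent.Lib.Helper18.CMDimOne
import Groth.Agent.Lib.Helper13.Normal10

/-!
# Local rings of one-dimensional schemes: dimension zero at non-closed points, socle sections (helper18)

* `ringKrullDim_stalk_le_zero_of_not_isClosed`: on a scheme of dimension `≤ 1` the local ring at a non-closed
  point has dimension `≤ 0`.
* `exists_section_supported_at`: on a locally Noetherian scheme, a nonzero element of the local ring at a closed
  point `x` killed by the maximal ideal extends to a nonzero global function vanishing on `X ∖ {x}`.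
-/

set_option autoImplicit false
set_option linter.style.haveILetI false
universe u
open CategoryTheory CategoryTheory.Limits AlgebraicGeometry TopologicalSpace Opposite

namespace Groth.Agent.Lib.Helper18.CurveCM

variable {X : Scheme.{u}}

theorem ringKrullDim_stalk_le_zero_of_not_isClosed (hdim : topologicalKrullDim X ≤ 1) (x : X)
    (hx : ¬ IsClosed ({x} : Set X)) : ringKrullDim (X.presheaf.stalk x) ≤ 0 := by
  obtain ⟨y, hy, hyx⟩ : ∃ y ∈ closure ({x} : Set X), y ≠ x := by
    by_contra hcon
    push Not at hcon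
    apply hx
    have : closure ({x} : Set X) = {x} :=
      Set.Subset.antisymm (fun y hy => hcon y hy) subset_closure
    rw [← this]; exact isClosed_closure
  have hspec : x ⤳ y := specializes_iff_mem_closure.mpr hy
  obtain ⟨U, hU, hyU, -⟩ := exists_isAffineOpen_mem_and_subset (x := y) (U := ⊤) trivial
  have hxU : x ∈ U := hspec.mem_open U.2 hyU
  set px := hU.primeIdealOf ⟨x, hxU⟩ with hpx
  set py := hU.primeIdealOf ⟨y, hyU⟩ with hpy
  have hle : px ⤳ py := by
    have h := (hU.fromSpec.isOpenEmbedding.isInducing.specializes_iff (x := px) (y := py)).mp ?_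
    · exact h
    · rw [hU.fromSpec_primeIdealOf, hU.fromSpec_primeIdealOf]; exact hspec
  have hle' : px.asIdeal ≤ py.asIdeal := (PrimeSpectrum.le_iff_specializes px py).mpr hle
  have hne : px ≠ py := by
    intro h
    apply hyx
    have := congrArg hU.fromSpec h
    rw [hU.fromSpec_primeIdealOf, hU.fromSpec_primeIdealOf] at this
    exact this.symm
  have hlt : px.asIdeal < py.asIdeal := lt_of_le_of_ne hle' (fun h => hne (PrimeSpectrum.ext h))
  have h1 := Ideal.height_add_one_le_of_lt_of_isPrime hlt
  have h2 : (py.asIdeal.height : WithBot ℕ∞) ≤ 1 :=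
    (Ideal.height_le_ringKrullDim_of_ne_top py.2.ne_top).trans
      ((RegPoint.ringKrullDim_sections_le hU).trans hdim)
  letI := X.presheaf.algebra_section_stalk ⟨x, hxU⟩
  haveI : IsLocalization.AtPrime (X.presheaf.stalk x) px.asIdeal := hU.isLocalization_stalk ⟨x, hxU⟩
  rw [IsLocalization.AtPrime.ringKrullDim_eq_height px.asIdeal (X.presheaf.stalk x)]
  have h3 : py.asIdeal.height ≤ 1 := by exact_mod_cast h2
  have h4 := h1.trans h3
  have h5 : px.asIdeal.height ≤ 0 := by
    generalize px.asIdeal.height = n at h4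
    induction n using ENat.recTopCoe with
    | top => simp at h4
    | coe n =>
      have : n + 1 ≤ 1 := by exact_mod_cast h4
      have : n = 0 := by omega
      subst this
      simp
  exact_mod_cast h5

theorem exists_section_supported_at [IsLocallyNoetherian X] (x : X) (hx : IsClosed ({x} : Set X))
    (a : X.presheaf.stalk x) (ha : a ≠ 0)
    (hma : ∀ r ∈ IsLocalRing.maximalIdeal (X.presheaf.stalk x), r * a = 0)
    (W : X.Opens) (hW : (W : Set X) = {x}ᶜ) :
    ∃ β : Γ(X, ⊤), β ≠ 0 ∧ X.presheaf.map (homOfLE (le_top : W ≤ ⊤)).op β = 0 := by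
  obtain ⟨U, hU, hxU, -⟩ := exists_isAffineOpen_mem_and_subset (x := x) (U := ⊤) trivial
  set p := hU.primeIdealOf ⟨x, hxU⟩ with hp
  letI := X.presheaf.algebra_section_stalk ⟨x, hxU⟩
  haveI hloc : IsLocalization.AtPrime (X.presheaf.stalk x) p.asIdeal :=
    hU.isLocalization_stalk ⟨x, hxU⟩
  haveI : IsNoetherianRing Γ(X, U) := IsLocallyNoetherian.component_noetherian ⟨U, hU⟩
  obtain ⟨b0, s, hs⟩ := IsLocalization.exists_mk'_eq p.asIdeal.primeCompl a
  have hb0 : algebraMap Γ(X, U) (X.presheaf.stalk x) b0 = a * algebraMap Γ(X, U) _ s := by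
    rw [← hs, IsLocalization.mk'_spec]
  have hb0ne : algebraMap Γ(X, U) (X.presheaf.stalk x) b0 ≠ 0 := by
    rw [hb0]; intro h0
    exact ha ((IsLocalization.map_units (X.presheaf.stalk x) s).mul_left_eq_zero.mp h0)
  have hkill : ∀ f ∈ p.asIdeal, algebraMap Γ(X, U) (X.presheaf.stalk x) (f * b0) = 0 := by
    intro f hf
    rw [map_mul, hb0, ← mul_assoc,
      hma _ ((IsLocalization.AtPrime.to_map_mem_maximal_iff _ p.asIdeal f).mpr hf), zero_mul]
  obtain ⟨g, hg, hgf⟩ := CMDimOne.exists_notMem_forall_mul_eq_zero p.asIdeal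
    (IsNoetherian.noetherian _) (X.presheaf.stalk x) b0 hkill
  set b := g * b0 with hb
  have hbne : b ≠ 0 := by
    intro h0
    have h1 : algebraMap Γ(X, U) (X.presheaf.stalk x) b = 0 := by rw [h0, map_zero]
    rw [hb, map_mul] at h1
    exact hb0ne ((IsLocalization.map_units (X.presheaf.stalk x)
      (⟨g, hg⟩ : p.asIdeal.primeCompl)).mul_right_eq_zero.mp h1)
  have hbkill : ∀ f ∈ p.asIdeal, f * b = 0 := fun f hf => by
    have := hgf f hf
    rw [← this, hb]; ring
  have hpmax : p.asIdeal.IsMaximal := by
    rw [← PrimeSpectrum.isClosed_singleton_iff_isMaximal]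
    have : ({p} : Set (PrimeSpectrum Γ(X, U))) = hU.fromSpec ⁻¹' {x} := by
      ext r
      simp only [Set.mem_singleton_iff, Set.mem_preimage]
      constructor
      · rintro rfl; exact hU.fromSpec_primeIdealOf ⟨x, hxU⟩
      · intro h
        apply hU.fromSpec.isOpenEmbedding.injective
        rw [h, hU.fromSpec_primeIdealOf]
    rw [this]; exact hx.preimage hU.fromSpec.continuous
  have hgerm : ∀ (y : X) (hyU : y ∈ U), y ≠ x → X.presheaf.germ U y hyU b = 0 := by
    intro y hyU hyx
    set q := hU.primeIdealOf ⟨y, hyU⟩ with hq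
    have hqne : q ≠ p := by
      intro h
      apply hyx
      have := congrArg hU.fromSpec h
      rw [hU.fromSpec_primeIdealOf, hU.fromSpec_primeIdealOf] at this
      exact this
    obtain ⟨f, hfp, hfq⟩ : ∃ f ∈ p.asIdeal, f ∉ q.asIdeal := by
      by_contra hcon
      push Not at hcon
      have hle : p.asIdeal ≤ q.asIdeal := hcon
      have := hpmax.eq_of_le q.2.ne_top hle
      exact hqne (PrimeSpectrum.ext this.symm)
    have hunit : IsUnit (X.presheaf.germ U y hyU f) := by
      letI := X.presheaf.algebra_section_stalk ⟨y, hyU⟩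
      haveI : IsLocalization.AtPrime (X.presheaf.stalk y) q.asIdeal :=
        hU.isLocalization_stalk ⟨y, hyU⟩
      exact IsLocalization.map_units (X.presheaf.stalk y) (⟨f, hfq⟩ : q.asIdeal.primeCompl)
    have := congrArg (X.presheaf.germ U y hyU) (hbkill f hfp)
    rw [map_mul, map_zero] at this
    exact hunit.mul_right_eq_zero.mp this
  have hres : ∀ (V : X.Opens) (hVU : V ≤ U) (_ : V ≤ W),
      X.presheaf.map (homOfLE hVU).op b = 0 := by
    intro V hVU hVW
    apply TopCat.Presheaf.section_ext X.sheaf V
    intro y hy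
    refine Eq.trans ?_ (map_zero _).symm
    erw [TopCat.Presheaf.germ_res_apply]
    refine hgerm y (hVU hy) ?_
    rintro rfl
    have : y ∈ (W : Set X) := hVW hy
    rw [hW] at this
    exact this rfl
  -- glue
  let U' : Bool → X.Opens := fun c => match c with | true => U | false => W
  let s' : ∀ c, Γ(X, U' c) := fun c => match c with
    | true => b
    | false => (0 : Γ(X, W))
  have hcov : (⊤ : X.Opens) ≤ iSup U' := by
    intro y _
    by_cases hy : y = x
    · subst hy
      exact (le_iSup U' true) hxU
    · refine (le_iSup U' false) ?_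
      show y ∈ (W : Set X)
      rw [hW]; exact hy
  have compat : TopCat.Presheaf.IsCompatible X.presheaf U' s' := by
    intro i j
    cases i <;> cases j
    · rfl
    · show X.presheaf.map _ (0 : Γ(X, W)) = X.presheaf.map _ b
      rw [map_zero]
      exact (hres (W ⊓ U) inf_le_right inf_le_left).symm
    · show X.presheaf.map _ b = X.presheaf.map _ (0 : Γ(X, W))
      rw [map_zero]
      exact hres (U ⊓ W) inf_le_left inf_le_right
    · rfl
  obtain ⟨e, he, -⟩ : ∃! e : Γ(X, ⊤), ∀ c : Bool,
      X.presheaf.map (homOfLE (le_top : U' c ≤ ⊤)).op e = s' c :=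
    X.sheaf.existsUnique_gluing' U' ⊤ (fun c => homOfLE le_top) hcov s' compat
  have h1 : X.presheaf.map (homOfLE (le_top : U ≤ ⊤)).op e = b := he true
  have h2 : X.presheaf.map (homOfLE (le_top : W ≤ ⊤)).op e = 0 := he false
  refine ⟨e, ?_, h2⟩
  intro h0
  rw [h0, map_zero] at h1
  exact hbne h1.symm

end Groth.Agent.Lib.Helper18.CurveCM
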