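import Mathlib
import Groth.Agent.Lib.Helper20.GenericZero
import Groth.Agent.Lib.Helper20.DualDev
import Groth.Agent.Lib.Helper8.StalkExact
import Groth.Agent.Lib.Helper25.StalkEpi
import Groth.Agent.Lib.Helper12.DualSupp
import Groth.Agent.Lib.Helper7.RegInt
import Groth.Agent.Lib.Helper18.CurveCM

/-!
# Subcurve duality, part A (helper18): maps to a dualizing module vanishing at the non-closed points

* `hom_eq_zero_of_stalk`: on a proper `k`-scheme with a dualizing pair `(ω, t)` in degree one, a
  morphism `F ⟶ ω` from a coherent module whose stalk maps at all non-closed points vanish is zero.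
* `eq_of_specializes_of_not_isClosed`, `closure_mem_irreducibleComponents_of_not_isClosed`,
  `finite_setOf_not_isClosed`: the non-closed points of a Noetherian scheme of dimension `≤ 1` are
  the generic points of the one-dimensional irreducible components.
* `isField_stalk_of_not_isClosed`: for `X` reduced the local rings at these points are fields.
-/

set_option autoImplicit false
set_option linter.unusedSectionVars false
set_option linter.unusedVariables false
set_option linter.style.haveILetI false

universe u

open CategoryTheory Limits AlgebraicGeometry Opposite TopologicalSpace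

namespace Groth.Agent.Lib.Helper18.SubA

open Groth.Agent.Lib.helper17.FlatOver7 Groth.Agent.Lib.Helper20.DualDev
  Groth.Agent.Lib.Helper18.HH

section Dual

variable (k : Type u) [Field k] {X : Scheme.{u}} [X.Over (Spec (CommRingCat.of k))]
  [IsProper (X ↘ Spec (CommRingCat.of k))]
  {ω : X.Modules} (hω : ω.IsQuasicoherent) (t : Coh.HH X ω 1 →ₗ[k] k)

include hω in
/-- a morphism from a coherent module to a dualizing module (in degree one) all of whose stalk
maps at the non-closed points vanish is zero -/
theorem hom_eq_zero_of_stalk (F : X.Modules) (hF : Coh.IsCoh F)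
    (hinj : Function.Injective (Φ k t F)) (φ : F ⟶ ω)
    (hφ : ∀ x : X, ¬ IsClosed ({x} : Set X) → ∀ m, stalkAdd φ x m = 0) : φ = 0 := by
  haveI := Groth.Agent.Lib.Lead.CurveEuler.isNoetherian k X
  have hE : Coh.IsCoh (Abelian.image φ) :=
    Groth.Agent.Lib.Helper20.GenericZero.isCoh_image hF hω φ
  have hfac : Abelian.factorThruImage φ ≫ Abelian.image.ι φ = φ := Abelian.image.fac φ
  have hcl : IsClosed (CohB1.support (Abelian.image φ)) :=
    Groth.Agent.Lib.helper8.Dev.isClosed_support_of_isCoh _ hE
  have hpt : ∀ x ∈ CohB1.support (Abelian.image φ), IsClosed ({x} : Set X) := by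
    intro x hx
    by_contra hnc
    apply hx
    refine ⟨fun a b => ?_⟩
    have key : ∀ c : (Abelian.image φ).presheaf.stalk x, c = 0 := by
      intro c
      obtain ⟨m, rfl⟩ :=
        Groth.Agent.Lib.helper25.StalkEpi.stalkAdd_surjective_of_epi (Abelian.factorThruImage φ) x c
      apply Groth.Agent.Lib.helper8.StalkLen.stalkAdd_injective_of_mono (Abelian.image.ι φ) x
      rw [← stalkAdd_comp, hfac, hφ x hnc m, _root_.map_zero]
    rw [key a, key b]
  have hfin : (CohB1.support (Abelian.image φ)).Finite :=
    Groth.Agent.Lib.Helper12.DualSupp.finite_of_forall_isClosed_singleton _ hcl hpt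
  have h2 : Subsingleton (Coh.HH X (Abelian.image φ) 1) :=
    Groth.Agent.Lib.helper7.RegInt.subsingleton_HH_of_finite_support k X _ hE hfin 1 one_pos
  apply hinj
  rw [Φ_zero, ← hfac, Φ_comp]
  ext x
  simp only [LinearMap.comp_apply, LinearMap.zero_apply]
  rw [Subsingleton.elim (mapOver k (Abelian.factorThruImage φ) 1 x) 0, _root_.map_zero]

end Dual

section Top

variable {X : Scheme.{u}}

/-- on a scheme of dimension `≤ 1`, a non-closed point has no proper generization -/
theorem eq_of_specializes_of_not_isClosed (hdim : topologicalKrullDim X ≤ 1) (x : X)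
    (hx : ¬ IsClosed ({x} : Set X)) (y : X) (hy : y ⤳ x) : y = x := by
  have h0 := Groth.Agent.Lib.Helper18.CurveCM.ringKrullDim_stalk_le_zero_of_not_isClosed hdim x hx
  haveI : Ring.KrullDimLE 0 (X.presheaf.stalk x) := (Ring.krullDimLE_iff).mpr (by simpa using h0)
  have hy' : y ∈ Set.range (X.fromSpecStalk x) := by
    rw [Scheme.range_fromSpecStalk]
    exact hy
  obtain ⟨p, rfl⟩ := hy'
  have hp : p = IsLocalRing.closedPoint (X.presheaf.stalk x) := by
    have hs : Subsingleton (PrimeSpectrum (X.presheaf.stalk x)) := inferInstance
    exact @Subsingleton.elim (PrimeSpectrum (X.presheaf.stalk x)) hs _ _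
  rw [hp]
  exact Scheme.fromSpecStalk_closedPoint

/-- on a scheme of dimension `≤ 1`, the closure of a non-closed point is an irreducible
component -/
theorem closure_mem_irreducibleComponents_of_not_isClosed (hdim : topologicalKrullDim X ≤ 1)
    (x : X) (hx : ¬ IsClosed ({x} : Set X)) :
    closure ({x} : Set X) ∈ irreducibleComponents X := by
  refine ⟨isIrreducible_singleton.closure, fun S hS hle => ?_⟩
  have hSc : IsIrreducible (closure S) := hS.closure
  obtain ⟨η, hη⟩ := QuasiSober.sober hSc isClosed_closure
  have h1 : x ∈ closure S := subset_closure (hle (subset_closure rfl))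
  have h2 : η ⤳ x := by
    rw [specializes_iff_mem_closure, hη.def]
    exact h1
  have h3 := eq_of_specializes_of_not_isClosed hdim x hx η h2
  subst h3
  intro z hz
  rw [hη.def]
  exact subset_closure hz

/-- a Noetherian scheme of dimension `≤ 1` has finitely many non-closed points -/
theorem finite_setOf_not_isClosed [IsNoetherian X] (hdim : topologicalKrullDim X ≤ 1) :
    {x : X | ¬ IsClosed ({x} : Set X)}.Finite := by
  have hfin : (irreducibleComponents X).Finite :=
    TopologicalSpace.NoetherianSpace.finite_irreducibleComponents
  refine Set.Finite.of_finite_image (f := fun x : X => closure ({x} : Set X))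
    (hfin.subset ?_) ?_
  · rintro _ ⟨x, hx, rfl⟩
    exact closure_mem_irreducibleComponents_of_not_isClosed hdim x hx
  · intro x _ y _ hxy
    exact (inseparable_iff_closure_eq.mpr hxy).eq

/-- on a reduced scheme of dimension `≤ 1`, the local ring at a non-closed point is a field -/
theorem isField_stalk_of_not_isClosed [IsReduced X] (hdim : topologicalKrullDim X ≤ 1) (x : X)
    (hx : ¬ IsClosed ({x} : Set X)) : IsField (X.presheaf.stalk x) := by
  have h0 := Groth.Agent.Lib.Helper18.CurveCM.ringKrullDim_stalk_le_zero_of_not_isClosed hdim x hx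
  haveI : Ring.KrullDimLE 0 (X.presheaf.stalk x) := (Ring.krullDimLE_iff).mpr (by simpa using h0)
  exact Ring.KrullDimLE.isField_of_isReduced

end Top

end Groth.Agent.Lib.Helper18.SubA
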