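import Mathlib
import Groth.Agent.Lib.Helper18.SubA
import Groth.Agent.Lib.Helper18.DegComponents
import Groth.Agent.Lib.Helper16.SecOrd5
import Groth.Agent.Lib.Helper7.IdealMod

/-!
# Subcurve duality, part B (helper18): stalks at points whose local ring is a field

* `injective_of_ne_zero`: a nonzero linear map from a free module of rank one over a field is
  injective.
* `stalk_equiv_of_isFinLocFreeOfRank_one`: the stalk of a locally free module of rank one.
* for a closed subscheme `J`: `exists_stalkAdd_toSubscheme_ne_zero`,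
  `stalkAdd_toSubscheme_injective`, `subsingleton_stalk_idealMod` at points of the support whose
  local ring is a field; `stalkAdd_idealModι_bijective`, `subsingleton_stalk_quotMod` off the
  support.
* `stalk_tensor_equiv`: `(M ⊗ L)_x ≃ M_x` for `L` invertible.
-/

set_option autoImplicit false
set_option linter.unusedSectionVars false
set_option linter.unusedVariables false
set_option linter.style.haveILetI false

universe u

open CategoryTheory Limits AlgebraicGeometry Opposite TopologicalSpace TensorProduct

namespace Groth.Agent.Lib.Helper18.SubB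

open Groth.Agent.Lib.helper17.FlatOver7 Groth.Agent.Lib.helper7.IdealMod

section Alg

variable {R M N : Type*} [CommRing R] [AddCommGroup M] [Module R M] [AddCommGroup N] [Module R N]

/-- a nonzero linear map out of a free module of rank one over a field is injective -/
theorem injective_of_ne_zero (hR : IsField R) (e : M ≃ₗ[R] R) (f : M →+ N)
    (hf : ∀ (c : R) (m : M), f (c • m) = c • f m) (hne : ∃ m, f m ≠ 0) :
    Function.Injective f := by
  rw [injective_iff_map_eq_zero]
  intro m hm
  by_contra hm0
  obtain ⟨m', hm'⟩ := hne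
  apply hm'
  have h1 : e m ≠ 0 := fun h => hm0 (e.map_eq_zero_iff.mp h)
  obtain ⟨c, hc⟩ := hR.mul_inv_cancel h1
  have h2 : m' = (e m' * c) • m := by
    apply e.injective
    rw [map_smul, smul_eq_mul, mul_assoc, mul_comm c, hc, mul_one]
  rw [h2, hf, hm, smul_zero]

end Alg

variable {X : Scheme.{u}}

theorem stalkAdd_zero_apply (F G : X.Modules) (x : X) (m : F.presheaf.stalk x) :
    stalkAdd (0 : F ⟶ G) x m = 0 := by
  obtain ⟨U, hxU, s, rfl⟩ := F.presheaf.exists_germ_eq m
  rw [stalkAdd_germ]
  exact (congrArg _ (rfl : ((0 : F ⟶ G).app U).hom s = 0)).trans (map_zero _)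

/-- the stalk of a locally free module of rank one is free of rank one -/
theorem stalk_equiv_of_isFinLocFreeOfRank_one (L : X.Modules)
    (hL : FlatMod.IsFinLocFreeOfRank 1 L) (x : X) :
    Nonempty (L.presheaf.stalk x ≃ₗ[X.presheaf.stalk x] X.presheaf.stalk x) := by
  haveI hfree := (Groth.Agent.Lib.helper16.FLF.free_stalk_of_isFinLocFree _
    (Groth.Agent.Lib.helper16.FLF.isFinLocFree_of_isFinLocFreeOfRank hL) x).1
  have hrk := Groth.Agent.Lib.helper16.FLF.finrank_stalk_of_isFinLocFreeOfRank _ hL x
  obtain ⟨e⟩ := Module.nonempty_linearEquiv_of_finrank_eq_one hrk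
  exact ⟨e.symm⟩

/-- the stalk of the structure module -/
theorem stalk_structureModule_equiv (x : X) :
    Nonempty ((Coh.structureModule X).presheaf.stalk x ≃ₗ[X.presheaf.stalk x]
      X.presheaf.stalk x) :=
  stalk_equiv_of_isFinLocFreeOfRank_one _
    (Groth.Agent.Lib.helper16.FLF.isFinLocFreeOfRank_structureModule X) x

/-- tensoring with an invertible module does not change the stalk (up to isomorphism) -/
theorem stalk_tensor_equiv (M L : X.Modules) (hL : PicF.IsInvertible L) (x : X) :
    Nonempty ((CohB1.tensorMod M L).presheaf.stalk x ≃ₗ[X.presheaf.stalk x]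
      M.presheaf.stalk x) := by
  obtain ⟨e⟩ := stalk_equiv_of_isFinLocFreeOfRank_one L
    ((Groth.Agent.Lib.helper16.FLF.isInvertible_iff_isFinLocFreeOfRank_one L).1 hL) x
  exact ⟨(Groth.Agent.Lib.helper16.SecOrd.tensorStalkEquiv M L x).trans
    ((TensorProduct.congr (LinearEquiv.refl _ _) e).trans (TensorProduct.rid _ _))⟩

theorem subsingleton_stalk_tensor (M L : X.Modules) (hL : PicF.IsInvertible L) (x : X)
    (h : Subsingleton (M.presheaf.stalk x)) :
    Subsingleton ((CohB1.tensorMod M L).presheaf.stalk x) := by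
  obtain ⟨e⟩ := stalk_tensor_equiv M L hL x
  exact e.toEquiv.subsingleton

section Closed

variable (J : X.IdealSheafData)

/-- the stalks of `O_X / J` vanish off the support -/
theorem subsingleton_stalk_quotMod (x : X) (hx : x ∉ J.support) :
    Subsingleton ((ClSub.quotMod J).presheaf.stalk x) := by
  by_contra hn
  have h1 := Groth.Agent.Lib.helper8.SchemeSupport.support_subset_range_of_iso _ J.subschemeι
    (Coh.structureModule J.subscheme) (Iso.refl _) hn
  rw [Scheme.IdealSheafData.range_subschemeι] at h1
  exact hx h1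

/-- at a point of the support, `O_{X,x} → (O_X / J)_x` is nonzero -/
theorem exists_stalkAdd_toSubscheme_ne_zero (x : X) (hx : x ∈ J.support) :
    ∃ m, stalkAdd (ClSub.toSubscheme J) x m ≠ 0 := by
  refine ⟨((Coh.structureModule X).presheaf.germ ⊤ x trivial).hom (1 : Γ(X, ⊤)), ?_⟩
  rw [stalkAdd_germ]
  intro h0
  have hx' : x ∈ Set.range J.subschemeι := by
    rw [Scheme.IdealSheafData.range_subschemeι]; exact hx
  obtain ⟨y, rfl⟩ := hx'
  have h1 : ((ClSub.quotMod J).presheaf.germ ⊤ (J.subschemeι y) trivial).hom
      (((ClSub.toSubscheme J).app ⊤).hom (1 : Γ(X, ⊤))) =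
      ((ClSub.quotMod J).presheaf.germ ⊤ (J.subschemeι y) trivial).hom 0 := by
    rw [h0, map_zero]
  obtain ⟨W, hxW, iU, iV, h⟩ := TopCat.Presheaf.germ_eq (ClSub.quotMod J).presheaf
    (J.subschemeι y) (U := ⊤) (V := ⊤) trivial trivial _ _ h1
  rw [map_zero] at h
  have h2 : (1 : Γ(J.subscheme, J.subschemeι ⁻¹ᵁ W)) = 0 := by
    refine Eq.trans ?_ h
    have e1 : ((ClSub.toSubscheme J).app ⊤).hom (1 : Γ(X, ⊤)) =
        (1 : Γ(J.subscheme, J.subschemeι ⁻¹ᵁ ⊤)) := by
      change (J.subschemeι.app ⊤).hom (1 : Γ(X, ⊤)) = (1 : Γ(J.subscheme, J.subschemeι ⁻¹ᵁ ⊤))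
      exact map_one _
    rw [e1]
    change (1 : Γ(J.subscheme, J.subschemeι ⁻¹ᵁ W)) =
      (J.subscheme.presheaf.map ((Opens.map J.subschemeι.base).map iU).op).hom
        (1 : Γ(J.subscheme, J.subschemeι ⁻¹ᵁ ⊤))
    exact (map_one (J.subscheme.presheaf.map
      ((Opens.map J.subschemeι.base).map iU).op).hom).symm
  have hy : y ∈ J.subschemeι ⁻¹ᵁ W := hxW
  have h3 := congrArg (J.subscheme.presheaf.germ (J.subschemeι ⁻¹ᵁ W) y hy).hom h2
  rw [map_one, map_zero] at h3
  exact one_ne_zero h3

/-- at a point of the support whose local ring is a field, `O_{X,x} → (O_X / J)_x` is injective -/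
theorem stalkAdd_toSubscheme_injective (x : X) (hx : x ∈ J.support)
    (hf : IsField (X.presheaf.stalk x)) :
    Function.Injective (stalkAdd (ClSub.toSubscheme J) x) := by
  obtain ⟨e⟩ := stalk_structureModule_equiv x
  exact injective_of_ne_zero hf e (stalkAdd (ClSub.toSubscheme J) x)
    (fun c m => stalkAdd_smul _ x c m) (exists_stalkAdd_toSubscheme_ne_zero J x hx)

/-- at a point of the support whose local ring is a field, the ideal sheaf has zero stalk -/
theorem subsingleton_stalk_idealMod (x : X) (hx : x ∈ J.support)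
    (hf : IsField (X.presheaf.stalk x)) :
    Subsingleton ((ClSub.idealMod J).presheaf.stalk x) := by
  refine ⟨fun a b => ?_⟩
  have key : ∀ c : (ClSub.idealMod J).presheaf.stalk x, c = 0 := by
    intro c
    apply Groth.Agent.Lib.helper8.StalkLen.stalkAdd_injective_of_mono (ClSub.idealModι J) x
    apply stalkAdd_toSubscheme_injective J x hx hf
    rw [← stalkAdd_comp]
    have h0 : ClSub.idealModι J ≫ ClSub.toSubscheme J = 0 := kernel.condition _
    rw [h0, _root_.map_zero, _root_.map_zero]
    exact stalkAdd_zero_apply _ _ x c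
  rw [key a, key b]

/-- off the support, the ideal sheaf and the structure sheaf have the same stalk -/
theorem stalkAdd_idealModι_bijective (x : X) (hx : x ∉ J.support) :
    Function.Bijective (stalkAdd (ClSub.idealModι J) x) := by
  refine ⟨Groth.Agent.Lib.helper8.StalkLen.stalkAdd_injective_of_mono _ x, fun m => ?_⟩
  have hex := Groth.Agent.Lib.helper8.StalkLen.stalkAdd_exact (ClSub.idealModι J)
    (ClSub.toSubscheme J) (kernel.condition _) (idealSeq_shortExact J).exact x
  haveI := subsingleton_stalk_quotMod J x hx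
  exact (hex m).mp (Subsingleton.elim _ _)

end Closed

end Groth.Agent.Lib.Helper18.SubB
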