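import Mathlib
import Groth.Agent.Lib.Helper18.SubB
import Groth.Agent.Lib.Helper18.InvGen
import Groth.Agent.Lib.Helper18.StalkPushClosed
import Groth.Agent.Lib.Helper20.ClosedImmAdj
import Groth.Agent.Lib.Helper11.InvMod

/-!
# Subcurve duality, part C (helper18): sections of invertible modules on reduced schemes

* `section_eq_zero_of_germ`: on a reduced scheme `Y`, a section of an invertible module whose germs
  vanish on a set `S'` containing a generization of every point is zero.
* `quotTensorPushIso J L : O_X/J ⊗ L ≅ i_* i^* L`.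
* `section_eq_zero_of_germ_push`: the same for sections of `O_X/J ⊗ L` on `X`, `J.subscheme` reduced.
* `hom_eq_zero_of_stalk_push`: a morphism `N ⟶ O_X/J ⊗ L` whose stalk maps at the points of `S` vanish
  is zero.
-/

set_option autoImplicit false
set_option linter.unusedSectionVars false
set_option linter.unusedVariables false
set_option linter.style.haveILetI false

universe u

open CategoryTheory Limits AlgebraicGeometry Opposite TopologicalSpace

namespace Groth.Agent.Lib.Helper18.SubC

open Groth.Agent.Lib.helper17.FlatOver7 Groth.Agent.Lib.Helper18.InvGen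
  Groth.Agent.Lib.Helper18.StalkPushClosed

section Y

variable {Y : Scheme.{u}}

/-- on a reduced scheme, a section of an invertible module whose germs vanish on a set containing a
generization of every point is zero -/
theorem section_eq_zero_of_germ [IsReduced Y] (S' : Set Y) (hgen : ∀ y : Y, ∃ η ∈ S', η ⤳ y)
    (M : Y.Modules) (hM : PicF.IsInvertible M) (V : Y.Opens) (s : Γ(M, V))
    (hs : ∀ (η : Y) (hη : η ∈ V), η ∈ S' → (M.presheaf.germ V η hη).hom s = 0) : s = 0 := by
  refine TopCat.Presheaf.section_ext ⟨M.presheaf, M.isSheaf⟩ V s 0 (fun y hy => ?_)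
  obtain ⟨W, ℓ, hWaff, hyW, hWV, hℓ⟩ := exists_isGen hM y V hy
  obtain ⟨g, hg⟩ := hℓ.exists_smul_eq (le_refl W) (M.presheaf.map (homOfLE hWV).op s)
  have hg0 : g = 0 := by
    rw [← basicOpen_eq_bot_iff]
    by_contra hne
    obtain ⟨u, hu⟩ : ∃ u, u ∈ Y.basicOpen g := by
      by_contra hcon
      apply hne
      ext z
      simp only [Opens.coe_bot, Set.mem_empty_iff_false, iff_false]
      exact fun hz => hcon ⟨z, hz⟩
    obtain ⟨η, hηS, hηu⟩ := hgen u
    have hηD : η ∈ Y.basicOpen g := hηu.mem_open (Y.basicOpen g).2 hu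
    have hηW : η ∈ W := Y.basicOpen_le g hηD
    have h1 : (M.presheaf.germ W η hηW).hom (M.presheaf.map (homOfLE hWV).op s) = 0 := by
      have := TopCat.Presheaf.germ_res_apply M.presheaf (homOfLE hWV) η hηW s
      rw [this]
      exact hs η (hWV hηW) hηS
    rw [← hg, germ_smul_res] at h1
    have h2 : Y.presheaf.germ W η hηW g = 0 := by
      apply (hℓ η hηW).1
      change (Y.presheaf.germ W η hηW) g • _ = (0 : Y.presheaf.stalk η) • _
      rw [zero_smul]
      exact h1
    have h3 : IsUnit (Y.presheaf.germ W η hηW g) := (Y.mem_basicOpen g η hηW).mp hηD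
    rw [h2] at h3
    exact not_isUnit_zero h3
  have h4 : M.presheaf.map (homOfLE hWV).op s = 0 := by
    rw [← hg, hg0, zero_smul]
  have h5 := TopCat.Presheaf.germ_res_apply M.presheaf (homOfLE hWV) y hyW s
  rw [map_zero]
  change (M.presheaf.germ V y hy).hom s = 0
  have h6 : (M.presheaf.germ V y (hWV hyW)).hom s = 0 := by
    rw [← h5, h4, map_zero]
  exact h6

end Y

section X

variable {X : Scheme.{u}} (J : X.IdealSheafData)

/-- `O_X/J ⊗ L ≅ i_* i^* L` -/
noncomputable def quotTensorPushIso (L : X.Modules) :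
    CohB1.tensorMod (ClSub.quotMod J) L ≅
      (Scheme.Modules.pushforward J.subschemeι).obj ((Scheme.Modules.pullback J.subschemeι).obj L) :=
  Groth.Agent.Lib.Lead.ModTensor.braid (ClSub.quotMod J) L ≪≫
    Groth.Agent.Lib.Helper20.ClosedImmAdj.tensorPushApp J.subschemeι L

variable [IsReduced J.subscheme] (S : Set X) (hS : S ⊆ J.support)
  (hgen : ∀ x ∈ J.support, ∃ η ∈ S, η ⤳ x)

include hS hgen in
/-- a section of `i_* M`, `M` invertible on the reduced closed subscheme, whose germs at the points of
`S` vanish is zero -/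
theorem section_eq_zero_of_germ_push (M : J.subscheme.Modules) (hM : PicF.IsInvertible M)
    (W : X.Opens) (s : Γ((Scheme.Modules.pushforward J.subschemeι).obj M, W))
    (hs : ∀ (η : X) (hη : η ∈ W), η ∈ S →
      (((Scheme.Modules.pushforward J.subschemeι).obj M).presheaf.germ W η hη).hom s = 0) :
    s = 0 := by
  refine section_eq_zero_of_germ (J.subschemeι ⁻¹' S) ?_ M hM (J.subschemeι ⁻¹ᵁ W) s ?_
  · intro y
    have hy : J.subschemeι y ∈ J.support := by
      have : J.subschemeι y ∈ Set.range J.subschemeι := ⟨y, rfl⟩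
      rwa [Scheme.IdealSheafData.range_subschemeι] at this
    obtain ⟨η, hηS, hη⟩ := hgen _ hy
    have hηr : η ∈ Set.range J.subschemeι := by
      rw [Scheme.IdealSheafData.range_subschemeι]; exact hS hηS
    obtain ⟨η', rfl⟩ := hηr
    exact ⟨η', hηS, J.subschemeι.isEmbedding.isInducing.specializes_iff.mp hη⟩
  · intro η' hη' hη'S
    rw [← stalkPush_germ J.subschemeι M η' W hη' s, hs _ hη' hη'S, map_zero]

include hS hgen in
/-- a morphism to `i_* M`, `M` invertible on the reduced closed subscheme, whose stalk maps at the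
points of `S` vanish is zero -/
theorem hom_eq_zero_of_stalk_push (M : J.subscheme.Modules) (hM : PicF.IsInvertible M)
    {N : X.Modules} (ν : N ⟶ (Scheme.Modules.pushforward J.subschemeι).obj M)
    (hν : ∀ η ∈ S, ∀ m, stalkAdd ν η m = 0) : ν = 0 := by
  refine Scheme.Modules.hom_ext _ _ fun W => ?_
  ext n
  change (ν.app W).hom n = 0
  refine section_eq_zero_of_germ_push J S hS hgen M hM W _ (fun η hη hηS => ?_)
  rw [← stalkAdd_germ]
  exact hν η hηS _

end X

end Groth.Agent.Lib.Helper18.SubC
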