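import Mathlib
import Groth.Agent.Lib.Helper18.SubC
import Groth.Agent.Lib.Helper8.ClosedImmUnit
import Groth.Prelude.Def_KLin

/-!
# Subcurve duality, part D (helper18): modules killed by an ideal sheaf and the action of the
functions of the closed subscheme

For `J : X.IdealSheafData`, `i = J.subschemeι : Y ⟶ X`:
* `killedByIdeal_push`, `killedByIdeal_of_mono`, `killedByIdeal_of_iso`;
* `isIso_unit_of_killedByIdeal`: a quasi-coherent module killed by `J` is `i_* i^*` of itself;
* `act J G a : G ⟶ G`, the action of `a : Γ(Y, O_Y)` on such a `G`, with its section formula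
  `unit_act_app`, `act_add`, `act_mul`, `act_app_of_res_eq_one`, `act_app_of_res_eq_zero`;
* `eq_zero_of_act_eq_zero`: for `Y` reduced the action on a module which is nonzero at "all generic
  points" is faithful.
-/

set_option autoImplicit false
set_option linter.unusedSectionVars false
set_option linter.unusedVariables false
set_option linter.style.haveILetI false

universe u

open CategoryTheory Limits AlgebraicGeometry Opposite TopologicalSpace

namespace Groth.Agent.Lib.Helper18.SubD

open Groth.Agent.Lib.helper17.FlatOver7 Scheme.Modules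

theorem eq_zero_of_unit_smul {R M : Type*} [Ring R] [AddCommGroup M] [Module R M] (r c : R)
    (hc : c * r = 1) (x : M) (h : r • x = 0) : x = 0 := by
  rw [← one_smul R x, ← hc, mul_smul, h, smul_zero]

variable {X : Scheme.{u}} (J : X.IdealSheafData)

theorem app_injective_of_mono {M M' : X.Modules} (φ : M ⟶ M') [Mono φ] (U : X.Opens) :
    Function.Injective (φ.app U).hom := by
  have h1 : Mono ((Scheme.Modules.toPresheaf X).map φ) := inferInstance
  have h2 : Mono (((Scheme.Modules.toPresheaf X).map φ).app (op U)) := inferInstance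
  exact (AddCommGrpCat.mono_iff_injective _).1 h2

/-- a direct image from the closed subscheme is killed by the ideal -/
theorem killedByIdeal_push (M : J.subscheme.Modules) :
    ClSub.KilledByIdeal J ((pushforward J.subschemeι).obj M) := by
  intro U a ha m
  have h3 : (a • m : Γ((pushforward J.subschemeι).obj M, U.1)) =
      ((J.subschemeι.app U.1).hom a • (show Γ(M, J.subschemeι ⁻¹ᵁ U.1) from m) :
        Γ(M, J.subschemeι ⁻¹ᵁ U.1)) := rfl
  have h4 : (J.subschemeι.app U.1).hom a = 0 := by
    rw [← J.ker_subschemeι_app U] at ha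
    exact RingHom.mem_ker.mp ha
  rw [h3, h4, zero_smul]
  rfl

theorem killedByIdeal_of_mono {A B : X.Modules} (f : A ⟶ B) [Mono f]
    (hB : ClSub.KilledByIdeal J B) : ClSub.KilledByIdeal J A := by
  intro U a ha m
  apply app_injective_of_mono f U.1
  have h1 : (f.app U.1) (a • m) = a • (f.app U.1) m := Scheme.Modules.Hom.app_smul f a m
  change (f.app U.1) (a • m) = (f.app U.1) 0
  exact (h1.trans (hB U a ha _)).trans (map_zero _).symm

theorem killedByIdeal_of_iso {A B : X.Modules} (e : A ≅ B)
    (hB : ClSub.KilledByIdeal J B) : ClSub.KilledByIdeal J A :=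
  killedByIdeal_of_mono J e.hom hB

/-- a quasi-coherent module killed by `J` is the direct image of its restriction -/
theorem isIso_unit_of_killedByIdeal (G : X.Modules) [G.IsQuasicoherent]
    (hG : ClSub.KilledByIdeal J G) :
    IsIso ((pullbackPushforwardAdjunction J.subschemeι).unit.app G) := by
  rw [Groth.Agent.Lib.helper8.ClosedImmUnit.isIso_unit_iff_of_isClosedImmersion]
  intro U a ha s
  rw [Scheme.IdealSheafData.ker_subschemeι] at ha
  exact hG U a ha s

section Act

variable (G : X.Modules) [hu : IsIso ((pullbackPushforwardAdjunction J.subschemeι).unit.app G)]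

/-- the action of a global function of the closed subscheme -/
noncomputable def act (a : Coh.Γtop J.subscheme) : G ⟶ G :=
  (pullbackPushforwardAdjunction J.subschemeι).unit.app G ≫
    (pushforward J.subschemeι).map (Formal.smulModΓ ((Scheme.Modules.pullback J.subschemeι).obj G) a) ≫
      inv ((pullbackPushforwardAdjunction J.subschemeι).unit.app G)

theorem act_comp_unit (a : Coh.Γtop J.subscheme) :
    act J G a ≫ (pullbackPushforwardAdjunction J.subschemeι).unit.app G =
      (pullbackPushforwardAdjunction J.subschemeι).unit.app G ≫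
        (pushforward J.subschemeι).map (Formal.smulModΓ ((Scheme.Modules.pullback J.subschemeι).obj G) a) := by
  unfold act
  rw [Category.assoc, Category.assoc, IsIso.inv_hom_id, Category.comp_id]

/-- section formula for the action -/
theorem unit_act_app (a : Coh.Γtop J.subscheme) (W : X.Opens) (m : Γ(G, W)) :
    (((pullbackPushforwardAdjunction J.subschemeι).unit.app G).app W).hom
        (((act J G a).app W).hom m) =
      (J.subscheme.presheaf.map (homOfLE (le_top : J.subschemeι ⁻¹ᵁ W ≤ ⊤)).op a •
        (show Γ((Scheme.Modules.pullback J.subschemeι).obj G, J.subschemeι ⁻¹ᵁ W) from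
          (((pullbackPushforwardAdjunction J.subschemeι).unit.app G).app W).hom m) :
        Γ((Scheme.Modules.pullback J.subschemeι).obj G, J.subschemeι ⁻¹ᵁ W)) := by
  have h := congrArg (fun f => (Hom.app f W).hom m) (act_comp_unit J G a)
  exact h

theorem act_add (a b : Coh.Γtop J.subscheme) : act J G (a + b) = act J G a + act J G b := by
  unfold act
  rw [KLin.smulModΓ_add, Functor.map_add, Preadditive.add_comp, Preadditive.comp_add]

theorem act_mul (a b : Coh.Γtop J.subscheme) : act J G (a * b) = act J G a ≫ act J G b := by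
  unfold act
  rw [KLin.smulModΓ_mul, Functor.map_comp]
  simp only [Category.assoc, IsIso.inv_hom_id_assoc]

theorem act_app_of_res_eq_one (a : Coh.Γtop J.subscheme) (W : X.Opens)
    (h : J.subscheme.presheaf.map (homOfLE (le_top : J.subschemeι ⁻¹ᵁ W ≤ ⊤)).op a = 1)
    (m : Γ(G, W)) : ((act J G a).app W).hom m = m := by
  have hinj : Function.Injective
      (((pullbackPushforwardAdjunction J.subschemeι).unit.app G).app W).hom :=
    app_injective_of_mono _ W
  apply hinj
  rw [unit_act_app, h, one_smul]

theorem act_app_of_res_eq_zero (a : Coh.Γtop J.subscheme) (W : X.Opens)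
    (h : J.subscheme.presheaf.map (homOfLE (le_top : J.subschemeι ⁻¹ᵁ W ≤ ⊤)).op a = 0)
    (m : Γ(G, W)) : ((act J G a).app W).hom m = 0 := by
  have hinj : Function.Injective
      (((pullbackPushforwardAdjunction J.subschemeι).unit.app G).app W).hom :=
    app_injective_of_mono _ W
  apply hinj
  rw [unit_act_app, h, zero_smul, map_zero]
  rfl

/-- faithfulness of the action on a reduced closed subscheme -/
theorem eq_zero_of_act_eq_zero [IsReduced J.subscheme] (S : Set X) (hS : S ⊆ J.support)
    (hgen : ∀ x ∈ J.support, ∃ η ∈ S, η ⤳ x)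
    (hG : ∀ η ∈ S, Nontrivial (G.presheaf.stalk η))
    (a : Coh.Γtop J.subscheme) (h : act J G a = 0) : a = 0 := by
  have hinj : ∀ W : X.Opens, Function.Injective
      (((pullbackPushforwardAdjunction J.subschemeι).unit.app G).app W).hom :=
    fun W => app_injective_of_mono _ W
  suffices h0 : J.subscheme.basicOpen (a : Γ(J.subscheme, ⊤)) = ⊥ from
    (basicOpen_eq_bot_iff (X := J.subscheme) (U := ⊤) a).mp h0
  by_contra hne
  obtain ⟨u, hu⟩ : ∃ u, u ∈ J.subscheme.basicOpen (a : Γ(J.subscheme, ⊤)) := by
    by_contra hcon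
    apply hne
    ext z
    simp only [Opens.coe_bot, Set.mem_empty_iff_false, iff_false]
    exact fun hz => hcon ⟨z, hz⟩
  have hux : J.subschemeι u ∈ J.support := by
    have : J.subschemeι u ∈ Set.range J.subschemeι := ⟨u, rfl⟩
    rwa [Scheme.IdealSheafData.range_subschemeι] at this
  obtain ⟨η, hηS, hη⟩ := hgen _ hux
  have hηr : η ∈ Set.range J.subschemeι := by
    rw [Scheme.IdealSheafData.range_subschemeι]; exact hS hηS
  obtain ⟨η', rfl⟩ := hηr
  have hη'u : η' ⤳ u := J.subschemeι.isEmbedding.isInducing.specializes_iff.mp hη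
  have hη'D : η' ∈ J.subscheme.basicOpen (a : Γ(J.subscheme, ⊤)) :=
    hη'u.mem_open (J.subscheme.basicOpen _).2 hu
  -- an open of `X` whose preimage is the basic open
  obtain ⟨Wa, hWa, hWa'⟩ := J.subschemeι.isEmbedding.isInducing.isOpen_iff.mp
    (J.subscheme.basicOpen (a : Γ(J.subscheme, ⊤))).2
  let Wa' : X.Opens := ⟨Wa, hWa⟩
  have hpre : ∀ z : J.subscheme, J.subschemeι z ∈ Wa' ↔
      z ∈ J.subscheme.basicOpen (a : Γ(J.subscheme, ⊤)) := by
    intro z
    have := congrArg (fun s : Set J.subscheme => z ∈ s) hWa'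
    exact this ▸ Iff.rfl
  haveI := hG _ hηS
  obtain ⟨m₀, hm₀⟩ := exists_ne (0 : G.presheaf.stalk (J.subschemeι η'))
  obtain ⟨W₀, hηW₀, s, rfl⟩ := G.presheaf.exists_germ_eq m₀
  let W : X.Opens := W₀ ⊓ Wa'
  have hηW : J.subschemeι η' ∈ W := ⟨hηW₀, (hpre η').mpr hη'D⟩
  have hWW₀ : W ≤ W₀ := inf_le_left
  set s₁ := G.presheaf.map (homOfLE hWW₀).op s with hs₁
  have hs₁g : (G.presheaf.germ W (J.subschemeι η') hηW).hom s₁ =
      (G.presheaf.germ W₀ (J.subschemeι η') hηW₀).hom s :=
    TopCat.Presheaf.germ_res_apply G.presheaf (homOfLE hWW₀) _ hηW s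
  apply hm₀
  rw [← hs₁g]
  have hunit : IsUnit (J.subscheme.presheaf.map
      (homOfLE (le_top : J.subschemeι ⁻¹ᵁ W ≤ ⊤)).op (a : Γ(J.subscheme, ⊤))) := by
    apply J.subscheme.toRingedSpace.isUnit_of_isUnit_germ
    intro z hz
    have hzD : z ∈ J.subscheme.basicOpen (a : Γ(J.subscheme, ⊤)) := (hpre z).mp hz.2
    have h1 := (J.subscheme.mem_basicOpen_top (a : Γ(J.subscheme, ⊤)) z).mp hzD
    have h2 := TopCat.Presheaf.germ_res_apply J.subscheme.presheaf
      (homOfLE (le_top : J.subschemeι ⁻¹ᵁ W ≤ ⊤)) z hz (a : Γ(J.subscheme, ⊤))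
    rw [← h2] at h1
    exact h1
  have h3 := unit_act_app J G a W s₁
  rw [h] at h3
  have h4 : (((pullbackPushforwardAdjunction J.subschemeι).unit.app G).app W).hom s₁ = 0 := by
    have h5 : (((pullbackPushforwardAdjunction J.subschemeι).unit.app G).app W).hom
        (((0 : G ⟶ G).app W).hom s₁) = 0 := by
      rw [show ((0 : G ⟶ G).app W).hom s₁ = 0 from rfl, map_zero]
    rw [h5] at h3
    obtain ⟨c, hc⟩ := hunit.exists_left_inv
    exact eq_zero_of_unit_smul
      (R := J.subscheme.ringCatSheaf.obj.obj (op (J.subschemeι ⁻¹ᵁ W)))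
      (M := ((Scheme.Modules.pullback J.subschemeι).obj G).val.obj (op (J.subschemeι ⁻¹ᵁ W)))
      _ c hc _ h3.symm
  have h7 : s₁ = 0 := hinj W (by rw [h4, map_zero])
  rw [h7, map_zero]

end Act

end Groth.Agent.Lib.Helper18.SubD
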