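import Mathlib
import Groth.Agent.Lib.Helper18.SubD
import Groth.Agent.Lib.Helper18.HHZero
import Groth.Agent.Lib.Helper16.QCohEpi

/-!
# Subcurve duality, part E (helper18): the two dimension inequalities

`J : X.IdealSheafData`, `G` a quasi-coherent module killed by `J`, `ψ : G ⟶ ω` a monomorphism.
* `finrank_hom_unit_le`: `dim Hom(O_X, G) ≤ dim Hom(O_X/J, ω)`.
* `finrank_sections_le`: for `J.subscheme` reduced and `G` nonzero at "all generic points",
  `dim Γ(Y, O_Y) ≤ dim Hom(G, ω)`.
-/

set_option autoImplicit false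
set_option linter.unusedSectionVars false
set_option linter.unusedVariables false
set_option linter.style.haveILetI false

universe u

open CategoryTheory Limits AlgebraicGeometry Opposite TopologicalSpace

namespace Groth.Agent.Lib.Helper18.SubE

open Groth.Agent.Lib.helper17.FlatOver7 Scheme.Modules Groth.Agent.Lib.Helper18.SubD
  Groth.Agent.Lib.helper7.IdealMod

variable {X : Scheme.{u}} (J : X.IdealSheafData)

/-- a global section of a module killed by `J` kills the ideal sheaf -/
theorem idealModι_comp_eq_zero (G : X.Modules) (hG : ClSub.KilledByIdeal J G)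
    (s : Coh.structureModule X ⟶ G) : ClSub.idealModι J ≫ s = 0 := by
  refine Groth.Agent.Lib.helper16.QCohEpi.hom_ext_of_basis _ _ {U | IsAffineOpen U}
    X.isBasis_affineOpens (fun D hD a' => ?_)
  change (s.app D) (((ClSub.idealModι J).app D).hom a') = 0
  have hmem := idealModι_app_mem J ⟨D, hD⟩ a'
  set a : Γ(X, D) := ((ClSub.idealModι J).app D).hom a' with ha
  have h1 : (s.app D) (a • (1 : Γ(X, D))) = a • (s.app D) (1 : Γ(X, D)) :=
    Scheme.Modules.Hom.app_smul s a (1 : Γ(X, D))
  have h2 : (a • (1 : Γ(X, D)) : Γ(X, D)) = a := by rw [smul_eq_mul, mul_one]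
  have h3 : (s.app D) a = a • (s.app D) (1 : Γ(X, D)) := by
    refine Eq.trans ?_ h1
    exact congrArg (s.app D) h2.symm
  exact h3.trans (hG ⟨D, hD⟩ a hmem _)

/-- a morphism out of `O_X` killing the ideal sheaf factors through `O_X / J` -/
theorem exists_desc {ω : X.Modules} (f : Coh.structureModule X ⟶ ω)
    (hf : ClSub.idealModι J ≫ f = 0) : ∃ g : ClSub.quotMod J ⟶ ω, ClSub.toSubscheme J ≫ g = f := by
  have hS := idealSeq_shortExact J
  haveI : Epi (idealSeq J).g := hS.epi_g
  exact ⟨hS.exact.desc f hf, hS.exact.g_desc f hf⟩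

section Lin

variable (k : Type u) [Field k] [X.Over (Spec (CommRingCat.of k))]

/-- `dim Hom(O_X, G) ≤ dim Hom(O_X/J, ω)` for `G ⊆ ω` killed by `J` -/
theorem finrank_hom_unit_le (G : X.Modules) (hG : ClSub.KilledByIdeal J G) {ω : X.Modules}
    (ψ : G ⟶ ω) [Mono ψ] [Module.Finite k (ClSub.quotMod J ⟶ ω)] :
    Module.finrank k (Coh.structureModule X ⟶ G) ≤ Module.finrank k (ClSub.quotMod J ⟶ ω) := by
  let C : (Coh.structureModule X ⟶ G) →ₗ[k] (Coh.structureModule X ⟶ ω) :=
    Linear.rightComp k (Coh.structureModule X) ψ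
  let R : (ClSub.quotMod J ⟶ ω) →ₗ[k] (Coh.structureModule X ⟶ ω) :=
    Linear.leftComp k ω (ClSub.toSubscheme J)
  have hC : Function.Injective C := fun s s' h => (cancel_mono ψ).mp h
  have hR : Function.Injective R := fun g g' h => (cancel_epi (ClSub.toSubscheme J)).mp h
  have hle : LinearMap.range C ≤ LinearMap.range R := by
    rintro _ ⟨s, rfl⟩
    have h0 : ClSub.idealModι J ≫ (s ≫ ψ) = 0 := by
      rw [← Category.assoc, idealModι_comp_eq_zero J G hG s, zero_comp]
    obtain ⟨g, hg⟩ := exists_desc J (s ≫ ψ) h0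
    exact ⟨g, hg⟩
  haveI : Module.Finite k (LinearMap.range R) := Module.Finite.range R
  calc Module.finrank k (Coh.structureModule X ⟶ G)
      = Module.finrank k (LinearMap.range C) := (LinearMap.finrank_range_of_inj hC).symm
    _ ≤ Module.finrank k (LinearMap.range R) := Submodule.finrank_mono hle
    _ = Module.finrank k (ClSub.quotMod J ⟶ ω) := LinearMap.finrank_range_of_inj hR

/-- the structure of `k`-scheme on the closed subscheme -/
@[reducible] noncomputable def overSub : J.subscheme.Over (Spec (CommRingCat.of k)) :=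
  ⟨J.subschemeι ≫ (X ↘ Spec (CommRingCat.of k))⟩

attribute [local instance] overSub

instance isOver_subschemeι : J.subschemeι.IsOver (Spec (CommRingCat.of k)) := ⟨rfl⟩

variable (G : X.Modules) [hu : IsIso ((pullbackPushforwardAdjunction J.subschemeι).unit.app G)]

theorem act_toGlobal (c : k) :
    act J G (Coh.toGlobal (J.subscheme ↘ Spec (CommRingCat.of k)) c) = c • 𝟙 G := by
  unfold act
  have h1 : Formal.smulModΓ ((Scheme.Modules.pullback J.subschemeι).obj G)
      (Coh.toGlobal (J.subscheme ↘ Spec (CommRingCat.of k)) c) =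
      c • 𝟙 ((Scheme.Modules.pullback J.subschemeι).obj G) := (KLin.smul_id _ c).symm
  rw [h1, Functor.map_smul, CategoryTheory.Functor.map_id, Linear.smul_comp, Linear.comp_smul]
  congr 1
  erw [Category.id_comp]
  exact IsIso.hom_inv_id _

theorem act_toGlobal_mul (c : k) (a : Coh.Γtop J.subscheme) :
    act J G (Coh.toGlobal (J.subscheme ↘ Spec (CommRingCat.of k)) c * a) = c • act J G a := by
  rw [act_mul, act_toGlobal, Linear.smul_comp, Category.id_comp]

/-- the `k`-linear map `Γ(Y, O_Y) → Hom(G, ω)`, `a ↦ ψ ∘ (a ·)` -/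
noncomputable def actLin {ω : X.Modules} (ψ : G ⟶ ω) :
    letI := Groth.Agent.Lib.Helper18.HH.sectionsModuleOver k (Coh.structureModule J.subscheme)
    (Coh.structureModule J.subscheme).val.obj (op ⊤) →ₗ[k] (G ⟶ ω) :=
  letI := Groth.Agent.Lib.Helper18.HH.sectionsModuleOver k (Coh.structureModule J.subscheme)
  { toFun := fun a => act J G (show Coh.Γtop J.subscheme from a) ≫ ψ
    map_add' := fun a b => by
      change act J G ((show Coh.Γtop J.subscheme from a) + (show Coh.Γtop J.subscheme from b)) ≫ ψ = _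
      rw [act_add, Preadditive.add_comp]
    map_smul' := fun c a => by
      change act J G (Coh.toGlobal (J.subscheme ↘ Spec (CommRingCat.of k)) c *
        (show Coh.Γtop J.subscheme from a)) ≫ ψ = c • (act J G (show Coh.Γtop J.subscheme from a) ≫ ψ)
      rw [act_toGlobal_mul, Linear.smul_comp] }

/-- `dim Γ(Y, O_Y) ≤ dim Hom(G, ω)` -/
theorem finrank_sections_le [IsReduced J.subscheme] (S : Set X) (hS : S ⊆ J.support)
    (hgen : ∀ x ∈ J.support, ∃ η ∈ S, η ⤳ x)
    (hG : ∀ η ∈ S, Nontrivial (G.presheaf.stalk η)) {ω : X.Modules} (ψ : G ⟶ ω) [Mono ψ]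
    [Module.Finite k (G ⟶ ω)] :
    Module.finrank k (Coh.HH J.subscheme (Coh.structureModule J.subscheme) 0) ≤
      Module.finrank k (G ⟶ ω) := by
  letI := Groth.Agent.Lib.Helper18.HH.sectionsModuleOver k (Coh.structureModule J.subscheme)
  rw [(Groth.Agent.Lib.Helper18.HH.equiv₀Over k (Coh.structureModule J.subscheme)).finrank_eq]
  refine LinearMap.finrank_le_finrank_of_injective (f := actLin J k G ψ) ?_
  rw [← LinearMap.ker_eq_bot, LinearMap.ker_eq_bot']
  intro a ha
  have h1 : act J G (show Coh.Γtop J.subscheme from a) ≫ ψ = 0 := ha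
  have h2 : act J G (show Coh.Γtop J.subscheme from a) = 0 := by
    rw [← cancel_mono ψ, h1, zero_comp]
  exact eq_zero_of_act_eq_zero J G S hS hgen hG _ h2

end Lin

end Groth.Agent.Lib.Helper18.SubE
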