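import Mathlib
import Groth.Agent.Lib.Helper18.SubE
import Groth.Agent.Lib.Helper7.KerSections
import Groth.Agent.Lib.Helper7.CohKer

/-!
# Subcurve duality, part F (helper18): the sequences attached to a pair of ideal sheaves

For `Z J : X.IdealSheafData`:
* `quotMap J K h : O_X/J ⟶ O_X/K` for `J ≤ K`, an epimorphism with `toSubscheme J ≫ quotMap = toSubscheme K`;
* `alpha Z J : I_Z ⟶ O_X/J`, `alpha_comp_quotMap : alpha ≫ (O/J ⟶ O/(Z ⊔ J)) = 0`,
  `alpha' Z J : I_Z ⟶ ker (O/J ⟶ O/(Z ⊔ J))` an epimorphism: the image of `I_Z` in `O_X/J` is the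
  ideal of `Z ∩ Y` in `Y = V(J)`.
-/

set_option autoImplicit false
set_option linter.unusedSectionVars false
set_option linter.unusedVariables false
set_option linter.style.haveILetI false

universe u

open CategoryTheory Limits AlgebraicGeometry Opposite TopologicalSpace

namespace Groth.Agent.Lib.Helper18.SubF

open Scheme.Modules Groth.Agent.Lib.helper7.IdealMod Groth.Agent.Lib.Helper18.SubE

variable {X : Scheme.{u}}

theorem idealModι_comp_toSubscheme_of_le (J K : X.IdealSheafData) (h : J ≤ K) :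
    ClSub.idealModι J ≫ ClSub.toSubscheme K = 0 := by
  refine Groth.Agent.Lib.helper16.QCohEpi.hom_ext_of_basis _ _ {U | IsAffineOpen U}
    X.isBasis_affineOpens (fun D hD a' => ?_)
  have hmem : (show Γ(X, D) from ((ClSub.idealModι J).app D).hom a') ∈ J.ideal ⟨D, hD⟩ :=
    idealModι_app_mem J ⟨D, hD⟩ a'
  have hmem' : (show Γ(X, D) from ((ClSub.idealModι J).app D).hom a') ∈ K.ideal ⟨D, hD⟩ :=
    h ⟨D, hD⟩ hmem
  rw [← K.ker_subschemeι_app ⟨D, hD⟩] at hmem'
  have h0 : (K.subschemeι.app D).hom (show Γ(X, D) from ((ClSub.idealModι J).app D).hom a') = 0 :=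
    RingHom.mem_ker.mp hmem'
  exact h0

/-- `O_X/J ⟶ O_X/K` for `J ≤ K` -/
noncomputable def quotMap (J K : X.IdealSheafData) (h : J ≤ K) :
    ClSub.quotMod J ⟶ ClSub.quotMod K :=
  (exists_desc J (ClSub.toSubscheme K) (idealModι_comp_toSubscheme_of_le J K h)).choose

@[reassoc]
theorem toSubscheme_quotMap (J K : X.IdealSheafData) (h : J ≤ K) :
    ClSub.toSubscheme J ≫ quotMap J K h = ClSub.toSubscheme K :=
  (exists_desc J (ClSub.toSubscheme K) (idealModι_comp_toSubscheme_of_le J K h)).choose_spec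

instance epi_quotMap (J K : X.IdealSheafData) (h : J ≤ K) : Epi (quotMap J K h) := by
  have : Epi (ClSub.toSubscheme J ≫ quotMap J K h) := by
    rw [toSubscheme_quotMap]; infer_instance
  exact epi_of_epi (ClSub.toSubscheme J) _

variable (Z J : X.IdealSheafData)

/-- `I_Z ⟶ O_X ⟶ O_X/J` -/
noncomputable def alpha : ClSub.idealMod Z ⟶ ClSub.quotMod J :=
  ClSub.idealModι Z ≫ ClSub.toSubscheme J

theorem alpha_comp_quotMap : alpha Z J ≫ quotMap J (Z ⊔ J) le_sup_right = 0 := by
  unfold alpha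
  rw [Category.assoc, toSubscheme_quotMap]
  exact idealModι_comp_toSubscheme_of_le Z (Z ⊔ J) le_sup_left

/-- `I_Z ⟶ ker (O_X/J ⟶ O_X/(Z ⊔ J))` -/
noncomputable def alpha' : ClSub.idealMod Z ⟶ kernel (quotMap J (Z ⊔ J) le_sup_right) :=
  kernel.lift _ (alpha Z J) (alpha_comp_quotMap Z J)

@[reassoc]
theorem alpha'_ι : alpha' Z J ≫ kernel.ι (quotMap J (Z ⊔ J) le_sup_right) = alpha Z J :=
  kernel.lift_ι _ _ _

instance epi_alpha' : Epi (alpha' Z J) := by
  haveI : (kernel (quotMap J (Z ⊔ J) le_sup_right)).IsQuasicoherent :=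
    Groth.Agent.Lib.helper7.CohKer.isQuasicoherent_kernel _
  refine Groth.Agent.Lib.helper7.KerSections.epi_of_surjective_affine _ (fun D hD => ?_)
  intro t
  let AD : X.affineOpens := ⟨D, hD⟩
  have hqb : ((quotMap J (Z ⊔ J) le_sup_right).app D).hom
      (((kernel.ι (quotMap J (Z ⊔ J) le_sup_right)).app D).hom t) = 0 :=
    Groth.Agent.Lib.helper7.KerSections.kernel_ι_app_comp _ D t
  obtain ⟨s, hs⟩ := J.subschemeι_app_surjective AD
    (((kernel.ι (quotMap J (Z ⊔ J) le_sup_right)).app D).hom t)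
  have hs' : ((ClSub.toSubscheme J).app D).hom s =
      ((kernel.ι (quotMap J (Z ⊔ J) le_sup_right)).app D).hom t := hs
  have h1 : ((Z ⊔ J).subschemeι.app D).hom s = 0 := by
    change ((ClSub.toSubscheme (Z ⊔ J)).app D).hom s = 0
    rw [← toSubscheme_quotMap J (Z ⊔ J) le_sup_right]
    change ((quotMap J (Z ⊔ J) le_sup_right).app D).hom (((ClSub.toSubscheme J).app D).hom s) = 0
    rw [hs', hqb]
  have hmem : s ∈ (Z ⊔ J).ideal AD := by
    rw [← (Z ⊔ J).ker_subschemeι_app AD]; exact RingHom.mem_ker.mpr h1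
  have hmem' : s ∈ Z.ideal AD ⊔ J.ideal AD := hmem
  obtain ⟨z, hz, j, hj, hsum⟩ := Submodule.mem_sup.mp hmem'
  have hj0 : (J.subschemeι.app D).hom j = 0 := by
    have := hj; rw [← J.ker_subschemeι_app AD] at this; exact RingHom.mem_ker.mp this
  obtain ⟨z', hz'⟩ := (mem_range_idealModι_iff_of_affine Z AD z).mpr hz
  refine ⟨z', ?_⟩
  apply Groth.Agent.Lib.helper7.KerSections.kernel_ι_app_injective
    (quotMap J (Z ⊔ J) le_sup_right) D
  have h2 : ((kernel.ι (quotMap J (Z ⊔ J) le_sup_right)).app D).hom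
      (((alpha' Z J).app D).hom z') = ((alpha Z J).app D).hom z' :=
    congrArg (fun f => (Hom.app f D).hom z') (alpha'_ι Z J)
  rw [h2, ← hs']
  change (J.subschemeι.app D).hom (((ClSub.idealModι Z).app D).hom z') = (J.subschemeι.app D).hom s
  rw [hz', ← hsum, map_add, hj0, add_zero]

end Groth.Agent.Lib.Helper18.SubF
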