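import Mathlib
import Groth.Agent.Lib.Helper18.SubF
import Groth.Agent.Lib.Helper18.DegCalc
import Groth.Agent.Lib.Helper7.KerTensor
import Groth.Agent.Lib.Helper7.SnapperQuot
import Groth.Agent.Lib.Helper20.DimZeroClosed

/-!
# Subcurve duality, part G (helper18): the factorization `I_Z ⊗ L ↠ I' ⊗ L ↪ ω`

Setting: `X` proper reduced of dimension `≤ 1` over `k` with a dualizing pair `(ω, t)`, `L` invertible,
`Z` a closed subscheme of dimension `≤ 0`, `J` an ideal sheaf with reduced subscheme `Y`, `S` a set of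
non-closed points which are exactly the non-closed points of `Y` and contain a generization of every
point of `Y`, and `φ : I_Z ⊗ L ⟶ ω` whose stalk maps are nonzero exactly at the points of `S` (among
the non-closed points).  With `I' = ker (O/J ⟶ O/(Z ⊔ J))` (the ideal of `Z ∩ Y` in `Y`):
`exists_factor`: `φ = (I_Z ⊗ L ↠ I' ⊗ L) ≫ φ'` with `φ'` a monomorphism.
-/

set_option autoImplicit false
set_option linter.unusedSectionVars false
set_option linter.unusedVariables false
set_option linter.style.haveILetI false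

universe u

open CategoryTheory Limits AlgebraicGeometry Opposite TopologicalSpace

namespace Groth.Agent.Lib.Helper18.SubG

open Scheme.Modules Groth.Agent.Lib.helper7.IdealMod Groth.Agent.Lib.Helper18.SubF
  Groth.Agent.Lib.Helper18.SubB Groth.Agent.Lib.helper17.FlatOver7
  Groth.Agent.Lib.Lead.ModTensor Groth.Agent.Lib.Helper20.DualDev

variable (k : Type u) [Field k] {X : Scheme.{u}} [X.Over (Spec (CommRingCat.of k))]
  [IsProper (X ↘ Spec (CommRingCat.of k))] [IsReduced X]
  (hdim : topologicalKrullDim X ≤ 1)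
  {L : X.Modules} (hL : PicF.IsInvertible L)
  (Z : X.IdealSheafData) (hZ : topologicalKrullDim (Z.support : Set X) ≤ 0)
  {ω : X.Modules} (hω : Coh.IsCoh ω) (t : Coh.HH X ω 1 →ₗ[k] k)
  (hgood : ∀ F : X.Modules, Coh.IsCoh F → Good k t F)
  (J : X.IdealSheafData) [IsReduced J.subscheme] (S : Set X)
  (hSnc : ∀ η ∈ S, ¬ IsClosed ({η} : Set X))
  (hS : S ⊆ J.support)
  (hgen : ∀ x ∈ J.support, ∃ η ∈ S, η ⤳ x)
  (hNC : ∀ η : X, ¬ IsClosed ({η} : Set X) → η ∈ J.support → η ∈ S)
  (φ : CohB1.tensorMod (ClSub.idealMod Z) L ⟶ ω)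
  (hφS : ∀ η ∈ S, ∃ m, stalkAdd φ η m ≠ 0)
  (hφn : ∀ η : X, ¬ IsClosed ({η} : Set X) → η ∉ S → ∀ m, stalkAdd φ η m = 0)

/-- the ideal sheaf of `Z ∩ Y` in `Y`, as an `O_X`-module -/
noncomputable abbrev I' : X.Modules := kernel (quotMap J (Z ⊔ J) le_sup_right)

/-- `I' ⊗ L` -/
noncomputable abbrev GG (L : X.Modules) : X.Modules := CohB1.tensorMod (I' Z J) L

/-- `I_Z ⊗ L ↠ I' ⊗ L` -/
noncomputable abbrev pp (L : X.Modules) : CohB1.tensorMod (ClSub.idealMod Z) L ⟶ GG Z J L :=
  tensorMap (alpha' Z J) (𝟙 L)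

/-- `I' ⊗ L ↪ O/J ⊗ L` -/
noncomputable abbrev jj (L : X.Modules) : GG Z J L ⟶ CohB1.tensorMod (ClSub.quotMod J) L :=
  tensorMap (kernel.ι (quotMap J (Z ⊔ J) le_sup_right)) (𝟙 L)

include hZ in
theorem isClosed_of_mem_support (x : X) (hx : x ∈ Z.support) : IsClosed ({x} : Set X) :=
  Groth.Agent.Lib.Helper20.DimZeroClosed.isClosed_singleton_of_dim_le_zero
    (Z.support : Set X) Z.support.isClosed hZ x hx

section Coh

include k in
theorem isNoeth : IsNoetherian X := Groth.Agent.Lib.Lead.CurveEuler.isNoetherian k X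

include k in
theorem isCoh_I' : Coh.IsCoh (I' Z J) := by
  haveI := isNoeth k (X := X)
  exact Groth.Agent.Lib.helper7.CohKer.isCoh_kernel
    (Groth.Agent.Lib.helper7.SnapperQuot.isCoh_quotMod J)
    (Groth.Agent.Lib.helper7.SnapperQuot.isCoh_quotMod (Z ⊔ J)) _

include hL in
theorem isCoh_L : Coh.IsCoh L :=
  Groth.Agent.Lib.Lead.RankAdd.isCoh_of_isFinLocFreeOfRank
    ((Groth.Agent.Lib.helper16.FLF.isInvertible_iff_isFinLocFreeOfRank_one L).1 hL)

include k hL in
theorem isCoh_GG : Coh.IsCoh (GG Z J L) :=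
  Groth.Agent.Lib.Helper18.DegCalc.isCoh_tensorMod (isCoh_I' k Z J) (isCoh_L hL)

include k in
theorem isCoh_idealMod : Coh.IsCoh (ClSub.idealMod Z) := by
  haveI := isNoeth k (X := X)
  exact Groth.Agent.Lib.helper7.KerTensor.isCoh_idealMod Z

include k in
theorem isCoh_kernel_alpha' : Coh.IsCoh (kernel (alpha' Z J)) := by
  haveI := isNoeth k (X := X)
  exact Groth.Agent.Lib.helper7.CohKer.isCoh_kernel (isCoh_idealMod k Z) (isCoh_I' k Z J) _

end Coh

section SES

/-- `0 → ker α' → I_Z → I' → 0` -/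
theorem shortExact_alpha' :
    (ShortComplex.mk (kernel.ι (alpha' Z J)) (alpha' Z J) (kernel.condition _)).ShortExact :=
  { exact := ShortComplex.exact_of_f_is_kernel _ (kernelIsKernel (alpha' Z J))
    mono_f := inferInstanceAs (Mono (kernel.ι (alpha' Z J)))
    epi_g := epi_alpha' Z J }

/-- `0 → I' → O/J → O/(Z ⊔ J) → 0` -/
theorem shortExact_quotMap :
    (ShortComplex.mk (kernel.ι (quotMap J (Z ⊔ J) le_sup_right)) (quotMap J (Z ⊔ J) le_sup_right)
      (kernel.condition _)).ShortExact :=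
  { exact := ShortComplex.exact_of_f_is_kernel _ (kernelIsKernel _)
    mono_f := inferInstanceAs (Mono (kernel.ι (quotMap J (Z ⊔ J) le_sup_right)))
    epi_g := epi_quotMap J (Z ⊔ J) le_sup_right }

include hL in
theorem exists_shortExact_pp : ∃ w, (ShortComplex.mk
    (tensorMap (kernel.ι (alpha' Z J)) (𝟙 L)) (pp Z J L) w).ShortExact :=
  Groth.Agent.Lib.Helper18.DegCalc.shortExact_tensor _ (shortExact_alpha' Z J)
    ((Groth.Agent.Lib.helper16.FLF.isInvertible_iff_isFinLocFreeOfRank_one L).1 hL)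

include hL in
theorem exists_shortExact_jj : ∃ w, (ShortComplex.mk (jj Z J L)
    (tensorMap (quotMap J (Z ⊔ J) le_sup_right) (𝟙 L)) w).ShortExact :=
  Groth.Agent.Lib.Helper18.DegCalc.shortExact_tensor _ (shortExact_quotMap Z J)
    ((Groth.Agent.Lib.helper16.FLF.isInvertible_iff_isFinLocFreeOfRank_one L).1 hL)

include hL in
theorem epi_pp : Epi (pp Z J L) := by
  obtain ⟨w, hw⟩ := exists_shortExact_pp hL Z J
  exact hw.epi_g

include hL in
theorem mono_jj : Mono (jj Z J L) := by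
  obtain ⟨w, hw⟩ := exists_shortExact_jj hL Z J
  exact hw.mono_f

end SES

section Stalk

include hdim hSnc in
theorem isField_stalk (η : X) (hη : η ∈ S) : IsField (X.presheaf.stalk η) :=
  Groth.Agent.Lib.Helper18.SubA.isField_stalk_of_not_isClosed hdim η (hSnc η hη)

include hZ hSnc in
theorem not_mem_support (η : X) (hη : η ∈ S) : η ∉ Z.support :=
  fun h => hSnc η hη (isClosed_of_mem_support Z hZ η h)

include hdim hZ hSnc hS in
/-- `α : I_Z ⟶ O/J` is injective on the stalks at the points of `S` -/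
theorem stalkAdd_alpha_injective (η : X) (hη : η ∈ S) :
    Function.Injective (stalkAdd (alpha Z J) η) := by
  have h1 := (stalkAdd_idealModι_bijective Z η (not_mem_support Z hZ S hSnc η hη)).1
  have h2 := stalkAdd_toSubscheme_injective J η (hS hη) (isField_stalk hdim S hSnc η hη)
  intro a b hab
  unfold alpha at hab
  rw [stalkAdd_comp, stalkAdd_comp] at hab
  exact h1 (h2 hab)

include hdim hZ hSnc hS in
theorem subsingleton_stalk_kernel_alpha' (η : X) (hη : η ∈ S) :
    Subsingleton ((kernel (alpha' Z J)).presheaf.stalk η) := by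
  refine ⟨fun a b => ?_⟩
  have key : ∀ c : (kernel (alpha' Z J)).presheaf.stalk η, c = 0 := by
    intro c
    apply Groth.Agent.Lib.helper8.StalkLen.stalkAdd_injective_of_mono (kernel.ι (alpha' Z J)) η
    apply stalkAdd_alpha_injective hdim Z hZ J S hSnc hS η hη
    rw [← alpha'_ι, stalkAdd_comp, ← stalkAdd_comp (kernel.ι (alpha' Z J)), kernel.condition,
      stalkAdd_zero_apply, _root_.map_zero, _root_.map_zero, _root_.map_zero]
  rw [key a, key b]

include hdim hZ hSnc hL in
/-- the stalk of `I_Z ⊗ L` at a point of `S` is free of rank one -/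
theorem stalk_F_equiv (η : X) (hη : η ∈ S) :
    Nonempty ((CohB1.tensorMod (ClSub.idealMod Z) L).presheaf.stalk η ≃ₗ[X.presheaf.stalk η]
      X.presheaf.stalk η) := by
  obtain ⟨e1⟩ := stalk_tensor_equiv (ClSub.idealMod Z) L hL η
  obtain ⟨e3⟩ := stalk_structureModule_equiv η
  let e2 : (ClSub.idealMod Z).presheaf.stalk η ≃ₗ[X.presheaf.stalk η]
      (Coh.structureModule X).presheaf.stalk η :=
    LinearEquiv.ofBijective (stalkLin (ClSub.idealModι Z) η)
      (stalkAdd_idealModι_bijective Z η (not_mem_support Z hZ S hSnc η hη))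
  exact ⟨e1.trans (e2.trans e3)⟩

include hdim hZ hSnc hL hφS in
theorem stalkAdd_φ_injective (η : X) (hη : η ∈ S) : Function.Injective (stalkAdd φ η) := by
  obtain ⟨e⟩ := stalk_F_equiv hdim hL Z hZ S hSnc η hη
  exact injective_of_ne_zero (isField_stalk hdim S hSnc η hη) e (stalkAdd φ η)
    (fun c m => stalkAdd_smul φ η c m) (hφS η hη)

end Stalk

section Factor

include hdim hL hZ hω hgood hSnc hS hφn in
/-- `φ` kills `ker α' ⊗ L` -/
theorem kernel_comp_φ : tensorMap (kernel.ι (alpha' Z J)) (𝟙 L) ≫ φ = 0 := by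
  have hN : Coh.IsCoh (CohB1.tensorMod (kernel (alpha' Z J)) L) :=
    Groth.Agent.Lib.Helper18.DegCalc.isCoh_tensorMod (isCoh_kernel_alpha' k Z J) (isCoh_L hL)
  refine Groth.Agent.Lib.Helper18.SubA.hom_eq_zero_of_stalk k hω.1 t _ hN (hgood _ hN).1 _ ?_
  intro x hx m
  by_cases hxS : x ∈ S
  · haveI := subsingleton_stalk_tensor (kernel (alpha' Z J)) L hL x
      (subsingleton_stalk_kernel_alpha' hdim Z hZ J S hSnc hS x hxS)
    rw [Subsingleton.elim m 0, _root_.map_zero]
  · rw [stalkAdd_comp]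
    exact hφn x hx hxS _

include hdim hL hZ hω hgood hSnc hS hφn in
/-- `φ` factors through `I_Z ⊗ L ↠ I' ⊗ L` -/
theorem exists_factor : ∃ φ' : GG Z J L ⟶ ω, pp Z J L ≫ φ' = φ := by
  obtain ⟨w, hw⟩ := exists_shortExact_pp hL Z J
  haveI := hw.epi_g
  exact ⟨hw.exact.desc φ (kernel_comp_φ k hdim hL Z hZ hω t hgood J S hSnc hS φ hφn),
    hw.exact.g_desc φ _⟩

end Factor

end Groth.Agent.Lib.Helper18.SubG
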