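import Mathlib
import Groth.Agent.Lib.Helper18.SubG
import Groth.Agent.Lib.Helper18.Punctual
import Groth.Agent.Lib.Helper18.DegTensor
import Groth.Agent.Lib.Helper18.ExtUnit
import Groth.Agent.Lib.Helper20.ExtDual

/-!
# Subcurve duality, part H (helper18): the degree inequality

In the setting of part G: `mono_of_factor` (the factor `φ' : I' ⊗ L ⟶ ω` is a monomorphism),
`killedByIdeal_GG`, the Euler characteristic computations and the final inequality `deg_le`:
`deg(L|_Y) ≤ -2 χ(Y, O_Y) + h⁰(O/(Z ⊔ J))`.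
-/

set_option autoImplicit false
set_option linter.unusedSectionVars false
set_option linter.unusedVariables false
set_option linter.style.haveILetI false

universe u

open CategoryTheory Limits AlgebraicGeometry Opposite TopologicalSpace

namespace Groth.Agent.Lib.Helper18.SubH

open Scheme.Modules Groth.Agent.Lib.helper7.IdealMod Groth.Agent.Lib.Helper18.SubF
  Groth.Agent.Lib.Helper18.SubB Groth.Agent.Lib.helper17.FlatOver7
  Groth.Agent.Lib.Lead.ModTensor Groth.Agent.Lib.Helper20.DualDev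
  Groth.Agent.Lib.Helper18.SubG Groth.Agent.Lib.Helper18.SubC Groth.Agent.Lib.Helper18.SubD
  Groth.Agent.Lib.Helper18.SubE

variable (k : Type u) [Field k] {X : Scheme.{u}} [X.Over (Spec (CommRingCat.of k))]
  [IsProper (X ↘ Spec (CommRingCat.of k))] [IsReduced X]
  (hdim : topologicalKrullDim X ≤ 1)
  {L : X.Modules} (hL : PicF.IsInvertible L)
  (Z : X.IdealSheafData) (hZ : topologicalKrullDim (Z.support : Set X) ≤ 0)
  {ω : X.Modules} (hω : Coh.IsCoh ω) (t : Coh.HH X ω 1 →ₗ[k] k)
  (hgood : ∀ F : X.Modules, Coh.IsCoh F → Good k t F)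
  (J : X.IdealSheafData) [IsReduced J.subscheme] (S : Set X)
  (hSnc : ∀ η ∈ S, ¬ IsClosed ({η} : Set X))
  (hS : S ⊆ J.support)
  (hgen : ∀ x ∈ J.support, ∃ η ∈ S, η ⤳ x)
  (φ : CohB1.tensorMod (ClSub.idealMod Z) L ⟶ ω)
  (hφS : ∀ η ∈ S, ∃ m, stalkAdd φ η m ≠ 0)
  (φ' : GG Z J L ⟶ ω) (hfac : pp Z J L ≫ φ' = φ)

section Stalk

include hdim hL hZ hSnc hφS hfac in
theorem stalkAdd_φ'_injective (η : X) (hη : η ∈ S) : Function.Injective (stalkAdd φ' η) := by
  haveI := epi_pp hL Z J
  have hφ := stalkAdd_φ_injective hdim hL Z hZ S hSnc φ hφS η hη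
  rw [injective_iff_map_eq_zero]
  intro y hy
  obtain ⟨x, rfl⟩ := Groth.Agent.Lib.helper25.StalkEpi.stalkAdd_surjective_of_epi (pp Z J L) η y
  rw [← stalkAdd_comp, hfac] at hy
  have hx : x = 0 := hφ (by rw [hy, _root_.map_zero])
  rw [hx, _root_.map_zero]

include hdim hL hZ hSnc hφS hfac in
theorem nontrivial_stalk_GG (η : X) (hη : η ∈ S) :
    Nontrivial ((GG Z J L).presheaf.stalk η) := by
  obtain ⟨m, hm⟩ := hφS η hη
  refine ⟨⟨stalkAdd (pp Z J L) η m, 0, fun h0 => hm ?_⟩⟩
  rw [← hfac, stalkAdd_comp, h0, _root_.map_zero]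

end Stalk

section Mono

include hL in
theorem mono_jj_push : Mono (jj Z J L ≫ (quotTensorPushIso J L).hom) := by
  haveI := mono_jj hL Z J
  infer_instance

include hdim hL hZ hSnc hS hgen hφS hfac in
/-- the factor `φ'` is a monomorphism -/
theorem mono_of_factor : Mono φ' := by
  apply Preadditive.mono_of_kernel_zero
  haveI := mono_jj_push hL Z J
  rw [← cancel_mono (jj Z J L ≫ (quotTensorPushIso J L).hom), zero_comp]
  refine hom_eq_zero_of_stalk_push J S hS hgen _
    (Groth.Agent.Lib.helper11.InvMod.isInvertible_pullback J.subschemeι hL) _ ?_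
  intro η hη m
  have h1 : stalkAdd (kernel.ι φ') η m = 0 := by
    apply stalkAdd_φ'_injective hdim hL Z hZ J S hSnc φ hφS φ' hfac η hη
    rw [← stalkAdd_comp, kernel.condition, stalkAdd_zero_apply, _root_.map_zero]
  rw [stalkAdd_comp, h1, _root_.map_zero]

include hL in
theorem killedByIdeal_GG : ClSub.KilledByIdeal J (GG Z J L) := by
  haveI := mono_jj_push hL Z J
  exact killedByIdeal_of_mono J (jj Z J L ≫ (quotTensorPushIso J L).hom) (killedByIdeal_push J _)

end Mono

section Numerics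

open Module

/-- `Hom(F, ω) ≃ H¹(F)^∨` -/
noncomputable def homEquivDual (F : X.Modules) (hF : Coh.IsCoh F) :
    (F ⟶ ω) ≃ₗ[k] Module.Dual k (Coh.HH X F 1) :=
  LinearEquiv.ofBijective (Groth.Agent.Lib.Helper20.ExtDual.ΦLin k t F) (hgood F hF)

include t hgood in
theorem finrank_hom (F : X.Modules) (hF : Coh.IsCoh F) :
    finrank k (F ⟶ ω) = finrank k (Coh.HH X F 1) := by
  rw [(homEquivDual k t hgood F hF).finrank_eq, Subspace.dual_finrank_eq]

include t hgood in
theorem finite_hom (F : X.Modules) (hF : Coh.IsCoh F) : Module.Finite k (F ⟶ ω) := by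
  haveI : Module.Finite k (Coh.HH X F 1) := Groth.Agent.Lib.Lead.ProperEuler.finite_HH k X F hF 1
  exact Module.Finite.equiv (homEquivDual k t hgood F hF).symm

include hZ hL in
/-- `χ(O/(Z ⊔ J) ⊗ L) = h⁰(O/(Z ⊔ J))` -/
theorem euler_quot_tensor :
    Curv2.euler k X (CohB1.tensorMod (ClSub.quotMod (Z ⊔ J)) L) =
      (finrank k (Coh.HH X (ClSub.quotMod (Z ⊔ J)) 0) : ℤ) := by
  haveI := isNoeth k (X := X)
  have hA : Coh.IsCoh (ClSub.quotMod (Z ⊔ J)) :=
    Groth.Agent.Lib.helper7.SnapperQuot.isCoh_quotMod (Z ⊔ J)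
  have hsub : CohB1.support (ClSub.quotMod (Z ⊔ J)) ⊆ (Z.support : Set X) := by
    intro x hx
    have h1 := Groth.Agent.Lib.helper7.SnapperQuot.support_quotMod_subset (Z ⊔ J) hx
    have h2 : x ∈ (Z.support ⊓ J.support : Closeds X) := by
      rw [← Scheme.IdealSheafData.support_sup]; exact h1
    exact h2.1
  have hsupp : topologicalKrullDim (CohB1.support (ClSub.quotMod (Z ⊔ J))) ≤ 0 :=
    (Groth.Agent.Lib.helper8.DimLt.topologicalKrullDim_le_of_subset hsub).trans hZ
  have hL1 := (Groth.Agent.Lib.helper16.FLF.isInvertible_iff_isFinLocFreeOfRank_one L).1 hL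
  rw [Groth.Agent.Lib.Helper18.Punctual.euler_tensor_of_support_dim_le_zero k X _ hA hsupp 1 L hL1]
  have hcl := Groth.Agent.Lib.helper8.Dev.isClosed_support_of_isCoh _ hA
  have hfin : (CohB1.support (ClSub.quotMod (Z ⊔ J))).Finite :=
    Groth.Agent.Lib.Helper12.DualSupp.finite_of_forall_isClosed_singleton _ hcl
      (fun x hx => isClosed_of_mem_support Z hZ x (hsub hx))
  rw [Groth.Agent.Lib.helper7.RegInt.euler_eq_finrank_H0_of_finite_support k X _ hA hfin]
  simp

include hL in
/-- `χ(O/J ⊗ L) = χ(I' ⊗ L) + χ(O/(Z ⊔ J) ⊗ L)` -/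
theorem euler_quotMod_tensor :
    Curv2.euler k X (CohB1.tensorMod (ClSub.quotMod J) L) =
      Curv2.euler k X (GG Z J L) +
        Curv2.euler k X (CohB1.tensorMod (ClSub.quotMod (Z ⊔ J)) L) :=
  Groth.Agent.Lib.Helper18.DegCalc.euler_tensor_additive k X _ (shortExact_quotMap Z J)
    (isCoh_I' k Z J) (Groth.Agent.Lib.helper7.SnapperQuot.isCoh_quotMod (Z ⊔ J))
    ((Groth.Agent.Lib.helper16.FLF.isInvertible_iff_isFinLocFreeOfRank_one L).1 hL)

attribute [local instance] Groth.Agent.Lib.Helper18.SubE.overSub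

include hdim hL hZ hω hgood hSnc hS hgen hφS hfac in
/-- `χ(I' ⊗ L) ≤ -χ(Y, O_Y)` -/
theorem euler_GG_le (hmono : Mono φ') :
    Curv2.euler k X (GG Z J L) ≤
      - Curv2.euler k J.subscheme (Coh.structureModule J.subscheme) := by
  haveI := isNoeth k (X := X)
  have hG := isCoh_GG k hL Z J
  haveI : (GG Z J L).IsQuasicoherent := hG.1
  have hkill := killedByIdeal_GG hL Z J
  haveI hu := isIso_unit_of_killedByIdeal J (GG Z J L) hkill
  have hQ := Groth.Agent.Lib.helper7.SnapperQuot.isCoh_quotMod J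
  -- (i)
  haveI := finite_hom k t hgood _ hQ
  have h1 := finrank_hom_unit_le J k (GG Z J L) hkill φ'
  rw [finrank_hom k t hgood _ hQ,
    (Groth.Agent.Lib.Helper18.ExtUnit.ρLin k (GG Z J L)).finrank_eq] at h1
  -- (ii)
  haveI := finite_hom k t hgood _ hG
  have h2 := finrank_sections_le J k (GG Z J L) S hS hgen
    (fun η hη => nontrivial_stalk_GG hdim hL Z hZ J S hSnc φ hφS φ' hfac η hη) φ'
  rw [finrank_hom k t hgood _ hG] at h2
  -- Euler characteristics
  rw [Groth.Agent.Lib.Lead.CurveEuler.euler_eq k X hdim _ hG.1]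
  have hdimY : topologicalKrullDim J.subscheme ≤ 1 :=
    (J.subschemeι.isClosedEmbedding.topologicalKrullDim_le).trans hdim
  haveI : IsProper (J.subscheme ↘ Spec (CommRingCat.of k)) := by
    change IsProper (J.subschemeι ≫ (X ↘ Spec (CommRingCat.of k)))
    infer_instance
  rw [Groth.Agent.Lib.Lead.CurveEuler.euler_eq k J.subscheme hdimY _ inferInstance]
  have h3 : finrank k (Coh.HH X (ClSub.quotMod J) 1) =
      finrank k (Coh.HH J.subscheme (Coh.structureModule J.subscheme) 1) :=
    Groth.Agent.Lib.Helper18.HH.finrank_push J.subschemeι (Coh.structureModule J.subscheme) k 1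
  omega

include hdim hL hZ hω hgood hSnc hS hgen hφS hfac in
/-- **the degree inequality** -/
theorem deg_le (hmono : Mono φ') :
    Curv2.deg k J.subscheme ((Scheme.Modules.pullback J.subschemeι).obj L) 1 ≤
      -2 * Curv2.euler k J.subscheme (Coh.structureModule J.subscheme) +
        finrank k (Coh.HH X (ClSub.quotMod (Z ⊔ J)) 0) := by
  unfold Curv2.deg
  have hLf := Groth.Agent.Lib.helper16.FLF.isFinLocFree_of_isInvertible hL
  have e1 : Curv2.euler k X (CohB1.tensorMod (ClSub.quotMod J) L) =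
      Curv2.euler k J.subscheme ((Scheme.Modules.pullback J.subschemeι).obj L) := by
    rw [Groth.Agent.Lib.Helper18.DegTensor.euler_push_tensor k J.subschemeι rfl
      (Coh.structureModule J.subscheme) L hLf]
    exact Groth.Agent.Lib.Lead.CurveEuler.euler_eq_of_iso k J.subscheme (leftUnitor _)
  have e2 := euler_quotMod_tensor k hL Z J
  have e3 := euler_quot_tensor k hL Z hZ J
  have e4 := euler_GG_le k hdim hL Z hZ hω t hgood J S hSnc hS hgen φ hφS φ' hfac hmono
  push_cast
  linarith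

end Numerics

end Groth.Agent.Lib.Helper18.SubH
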