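import Mathlib
import Groth.Agent.Lib.Helper18.SubH
import Groth.Agent.Lib.Helper7.IdealPair

/-!
# Adjunction on reduced Gorenstein curves, part A (helper18)

`X` proper reduced of dimension `≤ 1` over `k` with a dualizing pair `(ω, t)`, `ω` invertible.
For ideal sheaves `J`, `K` with `J ⊓ K = ⊥` (complementary subcurves `Y = V(J)`, `Y' = V(K)`):
* `mono_alpha`, `isIso_alpha'`: `I_K ≅ ker (O/J ⟶ O/(K ⊔ J))`;
* `euler_quot_omega_le`: `χ(O/J ⊗ ω) ≤ -χ(O/J) + h⁰(O/(K ⊔ J))`;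
* `euler_sum`: `χ(L) = χ(O/J ⊗ L) + χ(O/K ⊗ L) - h⁰(O/(K ⊔ J))`;
* `euler_quot_omega_eq` (**adjunction**): if `χ(ω) = -χ(O)` then
  `χ(O/J ⊗ ω) = -χ(O/J) + h⁰(O/(K ⊔ J))`, i.e. `deg(ω|_Y) = -2χ(O_Y) + length(Y ∩ Y')`.
-/

set_option autoImplicit false
set_option linter.unusedSectionVars false
set_option linter.unusedVariables false
set_option linter.style.haveILetI false

universe u

open CategoryTheory Limits AlgebraicGeometry Opposite TopologicalSpace

namespace Groth.Agent.Lib.Helper18.AdjA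

open Scheme.Modules Groth.Agent.Lib.helper7.IdealMod Groth.Agent.Lib.Helper18.SubF
  Groth.Agent.Lib.Helper18.SubB Groth.Agent.Lib.helper17.FlatOver7
  Groth.Agent.Lib.Lead.ModTensor Groth.Agent.Lib.Helper20.DualDev
  Groth.Agent.Lib.Helper18.SubG Groth.Agent.Lib.Helper18.SubC Groth.Agent.Lib.Helper18.SubD
  Groth.Agent.Lib.Helper18.SubE Groth.Agent.Lib.Helper18.SubH

section Pair

variable {X : Scheme.{u}} (K J : X.IdealSheafData)

/-- `I_K ⟶ O/J` is a monomorphism when `J ⊓ K = ⊥` -/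
theorem mono_alpha (h : J ⊓ K = ⊥) : Mono (alpha K J) := by
  haveI : (ClSub.idealMod K).IsQuasicoherent := by
    unfold ClSub.idealMod
    exact Groth.Agent.Lib.helper7.CohKer.isQuasicoherent_kernel _
  refine Groth.Agent.Lib.helper7.KerSections.mono_of_injective_affine _ (fun D hD => ?_)
  rw [injective_iff_map_eq_zero]
  intro a' ha'
  let AD : X.affineOpens := ⟨D, hD⟩
  have hmemK : (show Γ(X, D) from ((ClSub.idealModι K).app D).hom a') ∈ K.ideal AD :=
    idealModι_app_mem K AD a'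
  have h0 : (J.subschemeι.app D).hom
      (show Γ(X, D) from ((ClSub.idealModι K).app D).hom a') = 0 := ha'
  have hmemJ : (show Γ(X, D) from ((ClSub.idealModι K).app D).hom a') ∈ J.ideal AD := by
    rw [← J.ker_subschemeι_app AD]; exact RingHom.mem_ker.mpr h0
  have hbot : (show Γ(X, D) from ((ClSub.idealModι K).app D).hom a') ∈ (J ⊓ K).ideal AD :=
    ⟨hmemJ, hmemK⟩
  rw [h] at hbot
  have hz : ((ClSub.idealModι K).app D).hom a' = 0 := hbot
  haveI := mono_idealModι K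
  exact app_injective_of_mono (ClSub.idealModι K) D (hz.trans (map_zero _).symm)

theorem isIso_alpha' (h : J ⊓ K = ⊥) : IsIso (alpha' K J) := by
  haveI : Mono (alpha' K J) := by
    haveI := mono_alpha K J h
    have : Mono (alpha' K J ≫ kernel.ι (quotMap J (K ⊔ J) le_sup_right)) := by
      rw [alpha'_ι]; infer_instance
    exact mono_of_mono (alpha' K J) (kernel.ι (quotMap J (K ⊔ J) le_sup_right))
  exact isIso_of_mono_of_epi _

/-- the stalk of `I'` is nonzero at the points of `V(J)` outside `V(K)` -/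
theorem nontrivial_stalk_I' (η : X) (hJ : η ∈ J.support) (hK : η ∉ K.support) :
    Nontrivial ((I' K J).presheaf.stalk η) := by
  obtain ⟨m0, hm0⟩ := exists_stalkAdd_toSubscheme_ne_zero J η hJ
  obtain ⟨m, rfl⟩ := (stalkAdd_idealModι_bijective K η hK).2 m0
  refine ⟨⟨stalkAdd (alpha' K J) η m, 0, fun h0 => hm0 ?_⟩⟩
  rw [← stalkAdd_comp]
  change stalkAdd (alpha K J) η m = 0
  rw [← alpha'_ι, stalkAdd_comp, h0, _root_.map_zero]

end Pair

section Bound

open Module

variable (k : Type u) [Field k] {X : Scheme.{u}} [X.Over (Spec (CommRingCat.of k))]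
  [IsProper (X ↘ Spec (CommRingCat.of k))] [IsReduced X]
  (hdim : topologicalKrullDim X ≤ 1)
  {ω : X.Modules} (hω : Coh.IsCoh ω) (hωi : PicF.IsInvertible ω) (t : Coh.HH X ω 1 →ₗ[k] k)
  (hgood : ∀ F : X.Modules, Coh.IsCoh F → Good k t F)
  (K J : X.IdealSheafData) [IsReduced J.subscheme] (hJK : J ⊓ K = ⊥) (S : Set X)
  (hS : S ⊆ J.support)
  (hgen : ∀ x ∈ J.support, ∃ η ∈ S, η ⤳ x)
  (hSK : ∀ η ∈ S, η ∉ K.support)
  (hfin : topologicalKrullDim ((K ⊔ J).support : Set X) ≤ 0)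

/-- `I' ⊗ ω ⟶ ω` -/
noncomputable def φ' (hJK : J ⊓ K = ⊥) : GG K J ω ⟶ ω :=
  haveI := isIso_alpha' K J hJK
  tensorMap (inv (alpha' K J)) (𝟙 ω) ≫ tensorMap (ClSub.idealModι K) (𝟙 ω) ≫ (leftUnitor ω).hom

include hωi in
theorem mono_φ' : Mono (φ' (ω := ω) K J hJK) := by
  haveI := isIso_alpha' K J hJK
  haveI := mono_idealModι K
  haveI : Mono (tensorMap (ClSub.idealModι K) (𝟙 ω)) :=
    Groth.Agent.Lib.helper11.TwistH1.mono_tensorMap_left _ hωi
  haveI : IsIso (tensorMap (inv (alpha' K J)) (𝟙 ω)) := by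
    refine ⟨tensorMap (alpha' K J) (𝟙 ω), ?_, ?_⟩
    · rw [← tensorMap_comp, IsIso.inv_hom_id, Category.comp_id, tensorMap_id]
    · rw [← tensorMap_comp, IsIso.hom_inv_id, Category.comp_id, tensorMap_id]
  unfold φ'
  infer_instance

include hωi hfin in
/-- `χ(O/(K ⊔ J) ⊗ ω) = h⁰(O/(K ⊔ J))` -/
theorem euler_quot_tensor' {L : X.Modules} (hL : PicF.IsInvertible L) :
    Curv2.euler k X (CohB1.tensorMod (ClSub.quotMod (K ⊔ J)) L) =
      (finrank k (Coh.HH X (ClSub.quotMod (K ⊔ J)) 0) : ℤ) := by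
  haveI := isNoeth k (X := X)
  have hA : Coh.IsCoh (ClSub.quotMod (K ⊔ J)) :=
    Groth.Agent.Lib.helper7.SnapperQuot.isCoh_quotMod (K ⊔ J)
  have hsub : CohB1.support (ClSub.quotMod (K ⊔ J)) ⊆ ((K ⊔ J).support : Set X) :=
    fun x hx => Groth.Agent.Lib.helper7.SnapperQuot.support_quotMod_subset (K ⊔ J) hx
  have hsupp : topologicalKrullDim (CohB1.support (ClSub.quotMod (K ⊔ J))) ≤ 0 :=
    (Groth.Agent.Lib.helper8.DimLt.topologicalKrullDim_le_of_subset hsub).trans hfin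
  have hL1 := (Groth.Agent.Lib.helper16.FLF.isInvertible_iff_isFinLocFreeOfRank_one L).1 hL
  rw [Groth.Agent.Lib.Helper18.Punctual.euler_tensor_of_support_dim_le_zero k X _ hA hsupp 1 L hL1]
  have hcl := Groth.Agent.Lib.helper8.Dev.isClosed_support_of_isCoh _ hA
  have hfin' : (CohB1.support (ClSub.quotMod (K ⊔ J))).Finite :=
    Groth.Agent.Lib.Helper12.DualSupp.finite_of_forall_isClosed_singleton _ hcl
      (fun x hx => Groth.Agent.Lib.Helper20.DimZeroClosed.isClosed_singleton_of_dim_le_zero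
        ((K ⊔ J).support : Set X) (K ⊔ J).support.isClosed hfin x (hsub hx))
  rw [Groth.Agent.Lib.helper7.RegInt.euler_eq_finrank_H0_of_finite_support k X _ hA hfin']
  simp

attribute [local instance] Groth.Agent.Lib.Helper18.SubE.overSub

include hdim hω hωi hgood hJK hS hgen hSK in
/-- `χ(I' ⊗ ω) ≤ -χ(O/J)` -/
theorem euler_GG_le' :
    Curv2.euler k X (GG K J ω) ≤ - Curv2.euler k X (ClSub.quotMod J) := by
  haveI := isNoeth k (X := X)
  have hG := isCoh_GG k hωi K J
  haveI : (GG K J ω).IsQuasicoherent := hG.1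
  have hkill := killedByIdeal_GG hωi K J
  haveI hu := isIso_unit_of_killedByIdeal J (GG K J ω) hkill
  have hQ := Groth.Agent.Lib.helper7.SnapperQuot.isCoh_quotMod J
  haveI := mono_φ' hωi K J hJK
  -- (i)
  haveI := finite_hom k t hgood _ hQ
  have h1 := finrank_hom_unit_le J k (GG K J ω) hkill (φ' (ω := ω) K J hJK)
  rw [finrank_hom k t hgood _ hQ,
    (Groth.Agent.Lib.Helper18.ExtUnit.ρLin k (GG K J ω)).finrank_eq] at h1
  -- (ii)
  haveI := finite_hom k t hgood _ hG
  have h2 := finrank_sections_le J k (GG K J ω) S hS hgen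
    (fun η hη => by
      haveI := nontrivial_stalk_I' K J η (hS hη) (hSK η hη)
      obtain ⟨e⟩ := stalk_tensor_equiv (I' K J) ω hωi η
      exact e.toEquiv.nontrivial) (φ' (ω := ω) K J hJK)
  rw [finrank_hom k t hgood _ hG] at h2
  -- Euler characteristics
  rw [Groth.Agent.Lib.Lead.CurveEuler.euler_eq k X hdim _ hG.1,
    Groth.Agent.Lib.Lead.CurveEuler.euler_eq k X hdim _ hQ.1]
  have h3 : finrank k (Coh.HH X (ClSub.quotMod J) 0) =
      finrank k (Coh.HH J.subscheme (Coh.structureModule J.subscheme) 0) :=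
    Groth.Agent.Lib.Helper18.HH.finrank_push J.subschemeι (Coh.structureModule J.subscheme) k 0
  omega

include hdim hω hωi hgood hJK hS hgen hSK hfin in
/-- **the upper bound**: `χ(O/J ⊗ ω) ≤ -χ(O/J) + h⁰(O/(K ⊔ J))` -/
theorem euler_quot_omega_le :
    Curv2.euler k X (CohB1.tensorMod (ClSub.quotMod J) ω) ≤
      - Curv2.euler k X (ClSub.quotMod J) +
        (finrank k (Coh.HH X (ClSub.quotMod (K ⊔ J)) 0) : ℤ) := by
  have e2 := euler_quotMod_tensor k hωi K J
  have e3 := euler_quot_tensor' k hωi K J hfin hωi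
  have e4 := euler_GG_le' k hdim hω hωi t hgood K J hJK S hS hgen hSK
  linarith

include hJK hfin in
/-- **the sum formula**: `χ(L) = χ(O/J ⊗ L) + χ(O/K ⊗ L) - h⁰(O/(K ⊔ J))` -/
theorem euler_sum {L : X.Modules} (hL : PicF.IsInvertible L) :
    Curv2.euler k X L =
      Curv2.euler k X (CohB1.tensorMod (ClSub.quotMod J) L) +
        Curv2.euler k X (CohB1.tensorMod (ClSub.quotMod K) L) -
          (finrank k (Coh.HH X (ClSub.quotMod (K ⊔ J)) 0) : ℤ) := by
  haveI := isNoeth k (X := X)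
  have hL1 := (Groth.Agent.Lib.helper16.FLF.isInvertible_iff_isFinLocFreeOfRank_one L).1 hL
  have e2 := euler_quotMod_tensor k hL K J
  have e3 := euler_quot_tensor' k hL K J hfin hL
  haveI := isIso_alpha' K J hJK
  have e5 : Curv2.euler k X (GG K J L) =
      Curv2.euler k X (CohB1.tensorMod (ClSub.idealMod K) L) :=
    (Groth.Agent.Lib.Lead.CurveEuler.euler_eq_of_iso k X
      (tensorIso (asIso (alpha' K J)) (Iso.refl L))).symm
  have e6 := Groth.Agent.Lib.Helper18.DegCalc.euler_tensor_additive k X _ (idealSeq_shortExact K)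
    (isCoh_idealMod k K) (Groth.Agent.Lib.helper7.SnapperQuot.isCoh_quotMod K) hL1
  have e7 : Curv2.euler k X (CohB1.tensorMod (Coh.structureModule X) L) = Curv2.euler k X L :=
    Groth.Agent.Lib.Lead.CurveEuler.euler_eq_of_iso k X (leftUnitor L)
  have e6' : Curv2.euler k X (CohB1.tensorMod (Coh.structureModule X) L) =
      Curv2.euler k X (CohB1.tensorMod (ClSub.idealMod K) L) +
        Curv2.euler k X (CohB1.tensorMod (ClSub.quotMod K) L) := e6
  linarith

end Bound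

section Adjunction

open Module

variable (k : Type u) [Field k] {X : Scheme.{u}} [X.Over (Spec (CommRingCat.of k))]
  [IsProper (X ↘ Spec (CommRingCat.of k))] [IsReduced X]
  (hdim : topologicalKrullDim X ≤ 1)
  {ω : X.Modules} (hω : Coh.IsCoh ω) (hωi : PicF.IsInvertible ω) (t : Coh.HH X ω 1 →ₗ[k] k)
  (hgood : ∀ F : X.Modules, Coh.IsCoh F → Good k t F)
  (hχ : Curv2.euler k X ω = - Curv2.euler k X (Coh.structureModule X))
  (K J : X.IdealSheafData) [IsReduced J.subscheme] [IsReduced K.subscheme] (hJK : J ⊓ K = ⊥)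
  (SJ SK : Set X)
  (hSJ : SJ ⊆ J.support) (hgenJ : ∀ x ∈ J.support, ∃ η ∈ SJ, η ⤳ x) (hSJK : ∀ η ∈ SJ, η ∉ K.support)
  (hSK : SK ⊆ K.support) (hgenK : ∀ x ∈ K.support, ∃ η ∈ SK, η ⤳ x) (hSKJ : ∀ η ∈ SK, η ∉ J.support)
  (hfin : topologicalKrullDim ((K ⊔ J).support : Set X) ≤ 0)

include hdim hω hωi hgood hχ hJK hSJ hgenJ hSJK hSK hgenK hSKJ hfin in
/-- **adjunction**: `χ(O/J ⊗ ω) = -χ(O/J) + h⁰(O/(K ⊔ J))` -/
theorem euler_quot_omega_eq :
    Curv2.euler k X (CohB1.tensorMod (ClSub.quotMod J) ω) =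
      - Curv2.euler k X (ClSub.quotMod J) +
        (finrank k (Coh.HH X (ClSub.quotMod (K ⊔ J)) 0) : ℤ) := by
  have hKJ : K ⊓ J = ⊥ := by rw [inf_comm]; exact hJK
  have hfin' : topologicalKrullDim ((J ⊔ K).support : Set X) ≤ 0 := by rw [sup_comm]; exact hfin
  have b1 := euler_quot_omega_le k hdim hω hωi t hgood K J hJK SJ hSJ hgenJ hSJK hfin
  have b2 := euler_quot_omega_le k hdim hω hωi t hgood J K hKJ SK hSK hgenK hSKJ hfin'
  have s1 := euler_sum k K J hJK hfin hωi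
  have hO := Groth.Agent.Lib.helper11.InvMod.isInvertible_structureModule X
  have s2 := euler_sum k K J hJK hfin hO
  have r1 : Curv2.euler k X (CohB1.tensorMod (ClSub.quotMod J) (Coh.structureModule X)) =
      Curv2.euler k X (ClSub.quotMod J) :=
    Groth.Agent.Lib.Lead.CurveEuler.euler_eq_of_iso k X (rightUnitor _)
  have r2 : Curv2.euler k X (CohB1.tensorMod (ClSub.quotMod K) (Coh.structureModule X)) =
      Curv2.euler k X (ClSub.quotMod K) :=
    Groth.Agent.Lib.Lead.CurveEuler.euler_eq_of_iso k X (rightUnitor _)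
  have hc : (finrank k (Coh.HH X (ClSub.quotMod (J ⊔ K)) 0) : ℤ) =
      (finrank k (Coh.HH X (ClSub.quotMod (K ⊔ J)) 0) : ℤ) := by rw [sup_comm]
  rw [r1, r2] at s2
  rw [hc] at b2
  linarith

end Adjunction

end Groth.Agent.Lib.Helper18.AdjA
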