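import Mathlib
import Groth.Agent.Lib.Helper20.DimZeroClosed

/-!
# Connected Noetherian sober spaces of positive dimension have no isolated components (helper18)
-/

set_option autoImplicit false
universe u
open TopologicalSpace

namespace Groth.Agent.Lib.Helper18.EquiDim

/-- in a connected Noetherian quasi-sober T0 space of dimension `1`, every irreducible component has dimension `1` -/
theorem topologicalKrullDim_irreducibleComponent {X : Type u} [TopologicalSpace X] [T0Space X]
    [QuasiSober X] [NoetherianSpace X] [ConnectedSpace X] (hdim : topologicalKrullDim X = 1)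
    (Z : Set X) (hZ : Z ∈ irreducibleComponents X) : topologicalKrullDim Z = 1 := by
  have hle : topologicalKrullDim Z ≤ 1 := by
    rw [← hdim]
    exact Topology.IsInducing.subtypeVal.topologicalKrullDim_le
  have hZirr : IsIrreducible Z := hZ.1
  have hZcl : IsClosed Z := isClosed_of_mem_irreducibleComponents Z hZ
  by_contra hne
  have hlt : topologicalKrullDim Z < 1 := lt_of_le_of_ne hle hne
  have h0 : topologicalKrullDim Z ≤ 0 := by
    generalize topologicalKrullDim Z = x at hlt
    induction x using WithBot.recBotCoe with
    | bot => exact bot_le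
    | coe n =>
      have h2 : n < 1 := by exact_mod_cast hlt
      have h3 : n = 0 := Order.lt_one_iff.mp h2
      rw [h3]; rfl
  -- the generic point of `Z`
  set η := hZirr.genericPoint with hη
  have hgen : IsGenericPoint η Z := hZirr.isGenericPoint_genericPoint hZcl
  have hηZ : η ∈ Z := hgen.mem
  have hηcl : IsClosed ({η} : Set X) :=
    Groth.Agent.Lib.Helper20.DimZeroClosed.isClosed_singleton_of_dim_le_zero Z hZcl h0 η hηZ
  have hZeq : Z = {η} := by
    rw [← hgen.def, hηcl.closure_eq]
  -- `{η}` is open
  have hfin : (irreducibleComponents X).Finite := NoetherianSpace.finite_irreducibleComponents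
  have hcompl : ({η} : Set X)ᶜ = ⋃₀ (irreducibleComponents X \ {Z}) := by
    ext y
    simp only [Set.mem_compl_iff, Set.mem_singleton_iff, Set.mem_sUnion, Set.mem_sdiff]
    constructor
    · intro hy
      obtain ⟨T, hT, hyT⟩ := exists_mem_irreducibleComponents_subset_of_isIrreducible ({y} : Set X)
        isIrreducible_singleton
      refine ⟨T, ⟨hT, ?_⟩, hyT rfl⟩
      rintro rfl
      rw [hZeq] at hyT
      exact hy (hyT rfl)
    · rintro ⟨T, ⟨hT, hTZ⟩, hyT⟩ rfl
      apply hTZ
      have h1 : Z ⊆ T := by
        rw [hZeq]
        exact Set.singleton_subset_iff.mpr hyT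
      exact (hZ.2 hT.1 h1).antisymm h1 |>.symm ▸ rfl
  have hopen : IsOpen ({η} : Set X) := by
    rw [← isClosed_compl_iff, hcompl, Set.sUnion_eq_biUnion]
    exact hfin.sdiff.isClosed_biUnion fun T hT => isClosed_of_mem_irreducibleComponents T hT.1
  have hclopen : IsClopen ({η} : Set X) := ⟨hηcl, hopen⟩
  have huniv : ({η} : Set X) = Set.univ :=
    (isClopen_iff.mp hclopen).resolve_left (Set.singleton_ne_empty η)
  haveI : Subsingleton X := ⟨fun a b => by
    have ha : a ∈ ({η} : Set X) := huniv ▸ Set.mem_univ a
    have hb : b ∈ ({η} : Set X) := huniv ▸ Set.mem_univ b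
    rw [Set.mem_singleton_iff] at ha hb
    rw [ha, hb]⟩
  have h2 : topologicalKrullDim X ≤ 0 := topologicalKrullDim_zero_of_discreteTopology X
  rw [hdim] at h2
  exact absurd h2 (by decide)

end Groth.Agent.Lib.Helper18.EquiDim
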