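import Mathlib
import Groth.Agent.Lib.Helper18.EquiDim
import Groth.Agent.Lib.Helper18.SubA
import Groth.Agent.Lib.Helper12.DualSupp

/-!
# Adjunction on reduced curves, part B (helper18): the topology of a subcurve and its complement
-/

set_option autoImplicit false
set_option linter.unusedSectionVars false
set_option linter.unusedVariables false
set_option linter.style.haveILetI false

universe u

open CategoryTheory Limits AlgebraicGeometry Opposite TopologicalSpace

namespace Groth.Agent.Lib.Helper18.AdjB

section Top

variable {T : Type u} [TopologicalSpace T]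

/-- in a connected Noetherian sober space of dimension one every point is a specialization of a
non-closed point -/
theorem exists_specializes_not_isClosed [T0Space T] [QuasiSober T] [NoetherianSpace T]
    [ConnectedSpace T] (hdim : topologicalKrullDim T = 1) (x : T) :
    ∃ η : T, ¬ IsClosed ({η} : Set T) ∧ η ⤳ x := by
  have hZ := irreducibleComponent_mem_irreducibleComponents x
  have hZd := Groth.Agent.Lib.Helper18.EquiDim.topologicalKrullDim_irreducibleComponent hdim _ hZ
  have hZirr : IsIrreducible (irreducibleComponent x) := hZ.1
  have hZcl : IsClosed (irreducibleComponent x) := isClosed_of_mem_irreducibleComponents _ hZ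
  set η := hZirr.genericPoint with hη
  have hgen : IsGenericPoint η (irreducibleComponent x) := hZirr.isGenericPoint_genericPoint hZcl
  refine ⟨η, fun hcl => ?_, ?_⟩
  · have hZeq : irreducibleComponent x = {η} := by rw [← hgen.def, hcl.closure_eq]
    rw [hZeq] at hZd
    have h0 : topologicalKrullDim (({η} : Set T) : Type u) ≤ 0 :=
      topologicalKrullDim_zero_of_discreteTopology _
    rw [hZd] at h0
    exact absurd h0 (by decide)
  · rw [specializes_iff_mem_closure, hgen.def]
    exact mem_irreducibleComponent

/-- a closed set of closed points in a Noetherian space has dimension `≤ 0` -/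
theorem dim_le_zero_of_forall_isClosed [NoetherianSpace T] [QuasiSober T] (C : Set T) (hC : IsClosed C)
    (h : ∀ x ∈ C, IsClosed ({x} : Set T)) : topologicalKrullDim C ≤ 0 := by
  have hfin : C.Finite :=
    Groth.Agent.Lib.Helper12.DualSupp.finite_of_forall_isClosed_singleton C hC h
  haveI : Finite C := hfin.to_subtype
  haveI : T1Space C := ⟨fun x => by
    have := (h x.1 x.2).preimage (continuous_subtype_val (p := fun y => y ∈ C))
    convert this using 1
    ext y
    simp [Subtype.ext_iff]⟩
  exact topologicalKrullDim_zero_of_discreteTopology C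

end Top

section Sch

variable {X : Scheme.{u}} (J : X.IdealSheafData)

/-- the ideal sheaf of the complementary subcurve: the reduced structure on the closure of the
complement -/
noncomputable abbrev compl : X.IdealSheafData :=
  Scheme.IdealSheafData.vanishingIdeal ⟨closure ((J.support : Set X)ᶜ), isClosed_closure⟩

theorem coe_support_compl : ((compl J).support : Set X) = closure ((J.support : Set X)ᶜ) :=
  Scheme.IdealSheafData.coe_support_vanishingIdeal _

theorem inf_compl_eq_bot [IsReduced X] : J ⊓ compl J = ⊥ := by
  rw [eq_bot_iff]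
  have h1 : J ≤ Scheme.IdealSheafData.vanishingIdeal J.support :=
    Scheme.IdealSheafData.le_support_iff_le_vanishingIdeal.mp le_rfl
  have h2 : J ⊓ compl J ≤ Scheme.IdealSheafData.vanishingIdeal
      (J.support ⊔ ⟨closure ((J.support : Set X)ᶜ), isClosed_closure⟩) := by
    rw [Scheme.IdealSheafData.vanishingIdeal_sup]
    exact inf_le_inf h1 le_rfl
  have h3 : J.support ⊔ (⟨closure ((J.support : Set X)ᶜ), isClosed_closure⟩ : Closeds X) = ⊤ := by
    apply Closeds.ext
    rw [Closeds.coe_sup, Closeds.coe_top]
    change (J.support : Set X) ∪ closure ((J.support : Set X)ᶜ) = Set.univ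
    rw [Set.eq_univ_iff_forall]
    intro x
    by_cases hx : x ∈ (J.support : Set X)
    · exact Or.inl hx
    · exact Or.inr (subset_closure hx)
  rw [h3, Scheme.IdealSheafData.vanishingIdeal_top, Scheme.nilradical_eq_bot] at h2
  exact h2

theorem isReduced_subscheme_vanishingIdeal (C : Closeds X) :
    AlgebraicGeometry.IsReduced (Scheme.IdealSheafData.vanishingIdeal C).subscheme := by
  rw [IsReduced.iff_of_openCover
    (X := (Scheme.IdealSheafData.vanishingIdeal C).subscheme)
    (Scheme.IdealSheafData.vanishingIdeal C).subschemeCover.openCover]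
  intro (U : X.affineOpens)
  change AlgebraicGeometry.IsReduced
    (Spec (.of (Γ(X, U.1) ⧸ (Scheme.IdealSheafData.vanishingIdeal C).ideal U)))
  rw [affine_isReduced_iff, ← Ideal.isRadical_iff_quotient_reduced,
    Scheme.IdealSheafData.vanishingIdeal_ideal]
  exact PrimeSpectrum.isRadical_vanishingIdeal _

instance isReduced_compl : AlgebraicGeometry.IsReduced (compl J).subscheme :=
  isReduced_subscheme_vanishingIdeal _

variable [IsNoetherian X]

/-- a non-closed point of `V(J)` is not in the closure of the complement -/
theorem not_mem_compl_support (hdim : topologicalKrullDim X ≤ 1) (η : X)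
    (hη : ¬ IsClosed ({η} : Set X)) (hJ : η ∈ J.support) : η ∉ (compl J).support := by
  intro hK
  have hK' : η ∈ closure ((J.support : Set X)ᶜ) := by rw [← coe_support_compl]; exact hK
  have hZ := Groth.Agent.Lib.Helper18.SubA.closure_mem_irreducibleComponents_of_not_isClosed hdim η hη
  have hfin : (irreducibleComponents X).Finite :=
    NoetherianSpace.finite_irreducibleComponents
  -- the open set of points lying on no other component
  set W : Set X := (⋃₀ (irreducibleComponents X \ {closure ({η} : Set X)}))ᶜ with hW
  have hWo : IsOpen W := by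
    rw [hW, isOpen_compl_iff, Set.sUnion_eq_biUnion]
    exact (hfin.subset Set.sdiff_subset).isClosed_biUnion
      (fun T hT => isClosed_of_mem_irreducibleComponents T hT.1)
  have hηW : η ∈ W := by
    rw [hW, Set.mem_compl_iff, Set.mem_sUnion]
    rintro ⟨T, ⟨hT, hTne⟩, hηT⟩
    apply hTne
    have hcl : IsClosed T := isClosed_of_mem_irreducibleComponents T hT
    have h1 : closure ({η} : Set X) ⊆ T := hcl.closure_subset_iff.mpr (Set.singleton_subset_iff.mpr hηT)
    exact (hZ.2 hT.1 h1).antisymm h1
  have hWsub : W ⊆ closure ({η} : Set X) := by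
    intro y hy
    by_contra hyn
    apply hy
    rw [Set.mem_sUnion]
    refine ⟨irreducibleComponent y, ⟨irreducibleComponent_mem_irreducibleComponents y, ?_⟩,
      mem_irreducibleComponent⟩
    intro heq
    exact hyn (heq ▸ mem_irreducibleComponent)
  obtain ⟨u, huW, huU⟩ := mem_closure_iff.mp hK' W hWo hηW
  have hcl : closure ({η} : Set X) ⊆ (J.support : Set X) :=
    J.support.isClosed.closure_subset_iff.mpr (Set.singleton_subset_iff.mpr hJ)
  exact huU (hcl (hWsub huW))

/-- every point of the closure of the complement of `V(J)` is a specialization of a non-closed point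
outside `V(J)` -/
theorem exists_specializes_compl [ConnectedSpace X] (hdim : topologicalKrullDim X = 1) (x : X)
    (hx : x ∈ (compl J).support) :
    ∃ η : X, (¬ IsClosed ({η} : Set X) ∧ η ∉ J.support) ∧ η ⤳ x := by
  have hx' : x ∈ closure ((J.support : Set X)ᶜ) := by rw [← coe_support_compl]; exact hx
  have hfin : (irreducibleComponents X).Finite :=
    NoetherianSpace.finite_irreducibleComponents
  have hcov : ((J.support : Set X)ᶜ) = ⋃ T ∈ irreducibleComponents X, (T ∩ (J.support : Set X)ᶜ) := by
    rw [← Set.iUnion₂_inter, ← Set.sUnion_eq_biUnion, sUnion_irreducibleComponents, Set.univ_inter]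
  rw [hcov, hfin.closure_biUnion] at hx'
  obtain ⟨T, hT, hxT⟩ := Set.mem_iUnion₂.mp hx'
  have hTcl : IsClosed T := isClosed_of_mem_irreducibleComponents T hT
  have hTirr : IsIrreducible T := hT.1
  have hne : (T ∩ (J.support : Set X)ᶜ).Nonempty := by
    by_contra hemp
    rw [Set.not_nonempty_iff_eq_empty] at hemp
    rw [hemp, closure_empty] at hxT
    exact hxT
  set η := hTirr.genericPoint with hηdef
  have hgen : IsGenericPoint η T := hTirr.isGenericPoint_genericPoint hTcl
  have hηU : η ∈ (J.support : Set X)ᶜ := by
    obtain ⟨y, hyT, hyU⟩ := hne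
    exact hgen.mem_open_set_iff J.support.isClosed.isOpen_compl |>.mpr ⟨y, hyT, hyU⟩
  have hTd := Groth.Agent.Lib.Helper18.EquiDim.topologicalKrullDim_irreducibleComponent hdim T hT
  refine ⟨η, ⟨fun hcl => ?_, hηU⟩, ?_⟩
  · have hTeq : T = {η} := by rw [← hgen.def, hcl.closure_eq]
    rw [hTeq] at hTd
    have h0 : topologicalKrullDim (({η} : Set X) : Type u) ≤ 0 :=
      topologicalKrullDim_zero_of_discreteTopology _
    rw [hTd] at h0
    exact absurd h0 (by decide)
  · rw [specializes_iff_mem_closure, hgen.def]
    exact hTcl.closure_subset_iff.mpr Set.inter_subset_left hxT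

/-- every point of a connected subcurve is a specialization of a non-closed point of the subcurve -/
theorem exists_specializes_sub [ConnectedSpace J.subscheme]
    (hJ : topologicalKrullDim J.subscheme = 1) (x : X) (hx : x ∈ J.support) :
    ∃ η : X, (¬ IsClosed ({η} : Set X) ∧ η ∈ J.support) ∧ η ⤳ x := by
  have hx' : x ∈ Set.range J.subschemeι := by
    rw [Scheme.IdealSheafData.range_subschemeι]; exact hx
  obtain ⟨y, rfl⟩ := hx'
  haveI : NoetherianSpace J.subscheme :=
    J.subschemeι.isClosedEmbedding.isEmbedding.isInducing.noetherianSpace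
  obtain ⟨η', hη', hsp⟩ := exists_specializes_not_isClosed hJ y
  refine ⟨J.subschemeι η', ⟨fun hcl => hη' ?_, ?_⟩, hsp.map J.subschemeι.continuous⟩
  · have := hcl.preimage J.subschemeι.continuous
    convert this using 1
    ext z
    simp only [Set.mem_singleton_iff, Set.mem_preimage]
    exact ⟨fun h => by rw [h], fun h => J.subschemeι.isClosedEmbedding.injective h⟩
  · have : J.subschemeι η' ∈ Set.range J.subschemeι := ⟨η', rfl⟩
    rwa [Scheme.IdealSheafData.range_subschemeι] at this

theorem dim_support_sup_le (hdim : topologicalKrullDim X ≤ 1) :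
    topologicalKrullDim ((compl J ⊔ J).support : Set X) ≤ 0 := by
  refine dim_le_zero_of_forall_isClosed _ (compl J ⊔ J).support.isClosed (fun x hx => ?_)
  by_contra hcl
  have hx' : x ∈ ((compl J).support ⊓ J.support : Closeds X) := by
    rw [← Scheme.IdealSheafData.support_sup]; exact hx
  exact not_mem_compl_support J hdim x hcl hx'.2 hx'.1

theorem support_sup_nonempty [ConnectedSpace X] [Nonempty J.subscheme]
    (hne : (J.support : Set X) ≠ Set.univ) : ((compl J ⊔ J).support : Set X).Nonempty := by
  have hpre : _root_.IsPreconnected (Set.univ : Set X) := isPreconnected_univ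
  rw [isPreconnected_closed_iff] at hpre
  have hU : ((J.support : Set X)ᶜ).Nonempty := by
    rw [Set.nonempty_compl]; exact hne
  obtain ⟨u, hu⟩ := hU
  obtain ⟨y⟩ := (inferInstance : Nonempty J.subscheme)
  have hy : J.subschemeι y ∈ (J.support : Set X) := by
    have : J.subschemeι y ∈ Set.range J.subschemeι := ⟨y, rfl⟩
    rwa [Scheme.IdealSheafData.range_subschemeι] at this
  obtain ⟨z, -, hz1, hz2⟩ := hpre (J.support : Set X) (closure ((J.support : Set X)ᶜ))
    J.support.isClosed isClosed_closure
    (fun x _ => by
      by_cases hx : x ∈ (J.support : Set X)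
      · exact Or.inl hx
      · exact Or.inr (subset_closure hx))
    ⟨_, trivial, hy⟩ ⟨u, trivial, subset_closure hu⟩
  refine ⟨z, ?_⟩
  have : z ∈ ((compl J).support ⊓ J.support : Closeds X) :=
    ⟨by change z ∈ ((compl J).support : Set X); rw [coe_support_compl]; exact hz2, hz1⟩
  rw [← Scheme.IdealSheafData.support_sup] at this
  exact this

theorem compl_eq_top (h : (J.support : Set X) = Set.univ) : compl J = ⊤ := by
  unfold compl
  have : (⟨closure ((J.support : Set X)ᶜ), isClosed_closure⟩ : Closeds X) = ⊥ := by
    apply Closeds.ext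
    change closure ((J.support : Set X)ᶜ) = ∅
    rw [h, Set.compl_univ, closure_empty]
  rw [this, Scheme.IdealSheafData.vanishingIdeal_bot]

end Sch

end Groth.Agent.Lib.Helper18.AdjB
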