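import Mathlib
import Groth.Agent.Lib.Helper18.CMDimOne
import Groth.Agent.Lib.Helper13.Normal11
import Groth.Agent.Lib.Helper18.HHZero
import Groth.Agent.Lib.Lead.ProperEuler

set_option autoImplicit false
set_option linter.unusedSectionVars false
set_option linter.unusedVariables false
set_option linter.style.haveILetI false

universe u

open CategoryTheory Limits AlgebraicGeometry Opposite TopologicalSpace

namespace Groth.Agent.Lib.Helper18.AdjC0

/-- a reduced Noetherian local ring of dimension `≤ 1` is Cohen–Macaulay -/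
theorem isCohenMacaulayLocalRing_of_isReduced (R : Type u) [CommRing R] [IsLocalRing R]
    [IsNoetherianRing R] [IsReduced R] (hdim : ringKrullDim R ≤ 1) :
    LocCoh.IsCohenMacaulayLocalRing R := by
  apply Groth.Agent.Lib.Helper18.CMDimOne.isCohenMacaulayLocalRing_of_dim_le_one R hdim
  by_contra hcon
  push Not at hcon
  obtain ⟨h0, hnr⟩ := hcon
  obtain ⟨a, ha, hma⟩ := Groth.Agent.Lib.Helper18.CMDimOne.exists_socle_of_forall_not_regular R hnr
  by_cases ham : a ∈ IsLocalRing.maximalIdeal R
  · have h2 : a * a = 0 := hma a ham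
    have h3 : IsNilpotent a := ⟨2, by rw [pow_two]; exact h2⟩
    exact ha (IsReduced.eq_zero a h3)
  · have hu : IsUnit a := by
      by_contra hnu
      exact ham ((IsLocalRing.mem_maximalIdeal a).mpr hnu)
    have hm : IsLocalRing.maximalIdeal R = ⊥ := by
      rw [eq_bot_iff]
      intro r hr
      have := hma r hr
      exact (hu.mul_left_eq_zero).mp this
    have hf : IsField R := IsLocalRing.isField_iff_maximalIdeal_eq.mpr hm
    exact absurd (ringKrullDim_eq_zero_of_isField hf) h0.ne'

/-- in an Artinian reduced ring with only trivial idempotents every nonzero element is a unit -/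
theorem isUnit_of_ne_zero_of_idempotents {A : Type u} [CommRing A] [IsArtinianRing A] [IsReduced A]
    (hidem : ∀ e : A, IsIdempotentElem e → e = 0 ∨ e = 1) (a : A) (ha : a ≠ 0) : IsUnit a := by
  let f : ℕ →o (Ideal A)ᵒᵈ :=
    ⟨fun n => OrderDual.toDual (Ideal.span {a ^ n}), fun m n hmn => by
      change Ideal.span {a ^ n} ≤ Ideal.span {a ^ m}
      rw [Ideal.span_singleton_le_span_singleton]
      exact pow_dvd_pow a hmn⟩
  obtain ⟨n₀, hn⟩ := IsArtinian.monotone_stabilizes f
  set n := n₀ + 1 with hndef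
  have h1 : Ideal.span {a ^ n} = Ideal.span {a ^ (n + n)} := by
    have e1 := hn n (Nat.le_succ n₀)
    have e2 := hn (n + n) (by omega)
    exact congrArg OrderDual.ofDual (e1.symm.trans e2)
  have h2 : a ^ n ∈ Ideal.span {a ^ (n + n)} := by
    rw [← h1]; exact Ideal.subset_span rfl
  obtain ⟨c, hc⟩ := Ideal.mem_span_singleton'.mp h2
  -- `e = c * a ^ n` is idempotent
  have he : IsIdempotentElem (c * a ^ n) := by
    change c * a ^ n * (c * a ^ n) = c * a ^ n
    calc c * a ^ n * (c * a ^ n) = c * (c * a ^ (n + n)) := by rw [pow_add]; ring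
      _ = c * a ^ n := by rw [hc]
  rcases hidem _ he with h0 | h1'
  · exfalso
    have : a ^ n = 0 := by
      calc a ^ n = c * a ^ (n + n) := hc.symm
        _ = (c * a ^ n) * a ^ n := by rw [pow_add]; ring
        _ = 0 := by rw [h0, zero_mul]
    exact ha (IsReduced.eq_zero a ⟨n, this⟩)
  · have hn0 : n ≠ 0 := Nat.succ_ne_zero n₀
    have : IsUnit (a ^ n) := IsUnit.of_mul_eq_one c (by rw [mul_comm]; exact h1')
    exact (isUnit_pow_iff hn0).mp this

open Module Groth.Agent.Lib.Helper18 in
/-- on a reduced connected proper scheme over an algebraically closed field, `H⁰(X, O_X) = k` -/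
theorem finrank_H0_eq_one (k : Type u) [Field k] [IsAlgClosed k] (X : Scheme.{u})
    [X.Over (Spec (CommRingCat.of k))] [IsProper (X ↘ Spec (CommRingCat.of k))]
    [IsReduced X] [ConnectedSpace X] :
    finrank k (Coh.HH X (Coh.structureModule X) 0) = 1 := by
  let φ : k →+* Γ(X, ⊤) := Coh.toGlobal (X ↘ Spec (CommRingCat.of k))
  letI alg : Algebra k Γ(X, ⊤) := φ.toAlgebra
  have hOc : Coh.IsCoh (Coh.structureModule X) :=
    Groth.Agent.Lib.helper8.Dev.isCoh_structureModule X
  haveI : Module.Finite k (Coh.HH X (Coh.structureModule X) 0) :=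
    Groth.Agent.Lib.Lead.ProperEuler.finite_HH k X _ hOc 0
  let e' : Coh.HH X (Coh.structureModule X) 0 ≃ₗ[k] Γ(X, ⊤) :=
    { (HH.equiv₀ (Coh.structureModule X)).toAddEquiv with
      map_smul' := fun a x => (HH.equiv₀ (Coh.structureModule X)).map_smul (φ a) x }
  haveI : Module.Finite k Γ(X, ⊤) := Module.Finite.equiv e'
  haveI : IsArtinianRing Γ(X, ⊤) := IsArtinianRing.of_finite k Γ(X, ⊤)
  have hidem : ∀ e : Γ(X, ⊤), IsIdempotentElem e → e = 0 ∨ e = 1 := fun e he =>
    Groth.Agent.Lib.helper13.Normal.idempotent_eq_zero_or_one_of_isPreconnected ⊤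
      (by rw [Opens.coe_top]; exact isPreconnected_univ) e he
  haveI : Nonempty X := inferInstance
  haveI : Nonempty (⊤ : X.Opens) := ⟨⟨Classical.arbitrary X, trivial⟩⟩
  haveI : Nontrivial Γ(X, ⊤) := inferInstance
  haveI : IsDomain Γ(X, ⊤) := by
    have hf : IsField Γ(X, ⊤) :=
      { exists_pair_ne := exists_pair_ne _
        mul_comm := mul_comm
        mul_inv_cancel := fun {a} ha => by
          obtain ⟨u, rfl⟩ := isUnit_of_ne_zero_of_idempotents hidem a ha
          exact ⟨↑u⁻¹, u.mul_inv⟩ }
    exact hf.isDomain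
  haveI : Algebra.IsIntegral k Γ(X, ⊤) := Algebra.IsIntegral.of_finite k _
  have hbij : Function.Bijective (algebraMap k Γ(X, ⊤)) :=
    IsAlgClosed.algebraMap_bijective_of_isIntegral
  let e'' : k ≃ₗ[k] Γ(X, ⊤) := LinearEquiv.ofBijective (Algebra.linearMap k Γ(X, ⊤)) hbij
  rw [e'.finrank_eq, ← e''.finrank_eq, finrank_self]

end Groth.Agent.Lib.Helper18.AdjC0
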