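import Mathlib
import Groth.Agent.Lib.Helper4.JacobsonCompl
import Groth.Agent.Lib.Helper18.CompRed

/-!
# Lifting curves along closed surjective morphisms (helper18)

* `dim_eq_one_of_closed_points`: an irreducible quasi-sober `T₀` space all of whose non-generic points
  are closed, and which is not a single point, has dimension one.
* `exists_generization_over_generic`: `T` integral locally Noetherian, `h : T ⟶ X`, `s₀ : T` with
  `h ξ ≠ h s₀` (`ξ` the generic point) and a point `t` strictly between `ξ` and `s₀`; then there is a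
  point `s₁ ≠ ξ` of `T` with `h s₁ ⤳ h s₀` and `h s₁ ≠ h s₀`.
-/

set_option autoImplicit false
universe u

open CategoryTheory AlgebraicGeometry Opposite TopologicalSpace CategoryTheory.Limits

namespace Groth.Agent.Lib.Helper18.CurveLift

section Top

variable {Z : Type*} [TopologicalSpace Z]

/-- an irreducible quasi-sober `T₀` space whose non-generic points are closed and which has a
non-generic point has dimension one -/
theorem dim_eq_one_of_closed_points [QuasiSober Z] [T0Space Z] [IrreducibleSpace Z]
    (h : ∀ z : Z, z ≠ genericPoint Z → IsClosed ({z} : Set Z))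
    (hne : ∃ z : Z, z ≠ genericPoint Z) : topologicalKrullDim Z = 1 := by
  apply le_antisymm
  · unfold topologicalKrullDim
    rw [Order.krullDim_le_one_iff]
    intro S
    set g := S.isIrreducible'.genericPoint with hg
    have hgS : IsGenericPoint g (S : Set Z) :=
      S.isIrreducible'.isGenericPoint_genericPoint S.isClosed'
    by_cases hgen : g = genericPoint Z
    · right
      intro S' hS'
      intro z _
      have : (S : Set Z) = Set.univ := by
        rw [← hgS.def, hgen]
        exact genericPoint_spec Z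
      change z ∈ (S : Set Z)
      rw [this]; trivial
    · left
      have hcl := h g hgen
      have hS1 : (S : Set Z) = {g} := by rw [← hgS.def, hcl.closure_eq]
      intro S' hS'
      intro z hz
      change z ∈ (S : Set Z) at hz
      rw [hS1, Set.mem_singleton_iff] at hz
      obtain ⟨w, hw⟩ := S'.isIrreducible'.nonempty
      have hw' : w ∈ (S : Set Z) := hS' hw
      rw [hS1, Set.mem_singleton_iff] at hw'
      change z ∈ (S' : Set Z)
      rw [hz, ← hw']; exact hw
  · unfold topologicalKrullDim
    rw [Order.one_le_krullDim_iff]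
    obtain ⟨z, hz⟩ := hne
    have hcl := h z hz
    refine ⟨⟨{z}, isIrreducible_singleton, hcl⟩, ⟨Set.univ, IrreducibleSpace.isIrreducible_univ Z,
      isClosed_univ⟩, ?_⟩
    rw [lt_iff_le_and_ne]
    refine ⟨fun w _ => Set.mem_univ w, fun heq => ?_⟩
    have h2 : ({z} : Set Z) = Set.univ := congrArg (fun S : IrreducibleCloseds Z => (S : Set Z)) heq
    have : genericPoint Z ∈ ({z} : Set Z) := by rw [h2]; trivial
    exact hz (Set.mem_singleton_iff.mp this).symm

end Top

section Local

variable {T X : Scheme.{u}} [IsIntegral T] [IsLocallyNoetherian T] (h : T ⟶ X)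

/-- the image of the zero ideal of the local ring at `s₀` is the generic point -/
theorem fromSpecStalk_bot (s₀ : T) :
    T.fromSpecStalk s₀ ⟨⊥, Ideal.isPrime_bot⟩ = genericPoint T := by
  have hξ : genericPoint T ⤳ s₀ := genericPoint_specializes s₀
  have hmem : genericPoint T ∈ Set.range (T.fromSpecStalk s₀) := by
    rw [Scheme.range_fromSpecStalk]; exact hξ
  obtain ⟨P, hP⟩ := hmem
  have h1 : (⟨⊥, Ideal.isPrime_bot⟩ : PrimeSpectrum (T.presheaf.stalk s₀)) ⤳ P := by
    rw [← PrimeSpectrum.le_iff_specializes]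
    exact bot_le
  have h2 : T.fromSpecStalk s₀ ⟨⊥, Ideal.isPrime_bot⟩ ⤳ genericPoint T := by
    rw [← hP]
    exact h1.map (T.fromSpecStalk s₀).continuous
  exact (h2.antisymm (genericPoint_specializes _)).eq

/-- the key local lemma -/
theorem exists_generization_over_generic (s₀ : T)
    (hne : h (genericPoint T) ≠ h s₀)
    (t : T) (ht : t ⤳ s₀) (ht1 : t ≠ s₀) (ht2 : t ≠ genericPoint T) :
    ∃ s₁ : T, s₁ ≠ genericPoint T ∧ h s₁ ⤳ h s₀ ∧ h s₁ ≠ h s₀ := by
  set B := T.presheaf.stalk s₀ with hB
  set A := X.presheaf.stalk (h s₀) with hA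
  set φ := h.stalkMap s₀ with hφ
  have hinjT : Function.Injective (T.fromSpecStalk s₀) :=
    (T.fromSpecStalk s₀).isEmbedding.injective
  have hinjX : Function.Injective (X.fromSpecStalk (h s₀)) :=
    (X.fromSpecStalk (h s₀)).isEmbedding.injective
  -- naturality on points
  have hnat : ∀ Q : PrimeSpectrum B,
      h (T.fromSpecStalk s₀ Q) = X.fromSpecStalk (h s₀) (Spec.map φ Q) := by
    intro Q
    have := Scheme.SpecMap_stalkMap_fromSpecStalk h (x := s₀)
    have h2 : (Spec.map φ ≫ X.fromSpecStalk (h s₀)) Q = (T.fromSpecStalk s₀ ≫ h) Q := by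
      rw [this]
    exact h2.symm
  -- the prime of `A` below zero
  have hbot := fromSpecStalk_bot (T := T) s₀
  have h𝔭 : (Spec.map φ ⟨⊥, Ideal.isPrime_bot⟩) ≠ IsLocalRing.closedPoint A := by
    intro heq
    apply hne
    have := hnat ⟨⊥, Ideal.isPrime_bot⟩
    rw [hbot, heq, Scheme.fromSpecStalk_closedPoint] at this
    exact this
  set 𝔭 : Ideal A := (Spec.map φ ⟨⊥, Ideal.isPrime_bot⟩).asIdeal with h𝔭def
  have h𝔭lt : 𝔭 < IsLocalRing.maximalIdeal A := by
    refine lt_of_le_of_ne (IsLocalRing.le_maximalIdeal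
      (Spec.map φ ⟨⊥, Ideal.isPrime_bot⟩).isPrime.ne_top) ?_
    intro heq
    apply h𝔭
    exact PrimeSpectrum.ext heq
  obtain ⟨a, ham, ha𝔭⟩ := SetLike.exists_of_lt h𝔭lt
  have hb : φ.hom a ≠ 0 := by
    intro h0
    apply ha𝔭
    change a ∈ (⊥ : Ideal B).comap φ.hom
    rw [Ideal.mem_comap, h0]
    exact Submodule.zero_mem _
  -- the prime of `t`
  have htmem : t ∈ Set.range (T.fromSpecStalk s₀) := by
    rw [Scheme.range_fromSpecStalk]; exact ht
  obtain ⟨P₁, hP₁⟩ := htmem
  have hP₁bot : P₁.asIdeal ≠ ⊥ := by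
    intro heq
    apply ht2
    rw [← hP₁, ← hbot]
    congr 1
    exact PrimeSpectrum.ext heq
  have hP₁max : P₁.asIdeal ≠ IsLocalRing.maximalIdeal B := by
    intro heq
    apply ht1
    rw [← hP₁]
    have : P₁ = IsLocalRing.closedPoint B := PrimeSpectrum.ext heq
    rw [this, Scheme.fromSpecStalk_closedPoint]
  haveI := P₁.isPrime
  obtain ⟨Q, hQp, hQbot, hbQ⟩ :=
    Groth.Agent.Lib.helper4.JacobsonCompl.exists_prime_ne_bot_not_mem P₁.asIdeal hP₁bot hP₁max
      (φ.hom a) hb
  refine ⟨T.fromSpecStalk s₀ ⟨Q, hQp⟩, ?_, ?_, ?_⟩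
  · intro heq
    rw [← hbot] at heq
    have := hinjT heq
    exact hQbot (congrArg PrimeSpectrum.asIdeal this)
  · rw [hnat]
    have hm : X.fromSpecStalk (h s₀) (Spec.map φ ⟨Q, hQp⟩) ∈
        Set.range (X.fromSpecStalk (h s₀)) := ⟨_, rfl⟩
    rw [Scheme.range_fromSpecStalk] at hm
    exact hm
  · rw [hnat]
    intro heq
    have h3 : X.fromSpecStalk (h s₀) (Spec.map φ ⟨Q, hQp⟩) =
        X.fromSpecStalk (h s₀) (IsLocalRing.closedPoint A) := by
      rw [heq, Scheme.fromSpecStalk_closedPoint]
    have h4 := hinjX h3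
    have h5 : a ∈ (Spec.map φ ⟨Q, hQp⟩).asIdeal := by
      rw [h4]; exact ham
    exact hbQ h5

end Local

section RedI

variable {Y : Scheme.{u}}

/-- the reduced induced ideal sheaf of a closed subset -/
noncomputable abbrev redI (T : Closeds Y) : Y.IdealSheafData :=
  (Scheme.IdealSheafData.vanishingIdeal T).radical

theorem coe_support_redI (T : Closeds Y) : ((redI T).support : Set Y) = T := by
  rw [Scheme.IdealSheafData.support_radical]
  exact Scheme.IdealSheafData.coe_support_vanishingIdeal T

theorem range_redI (T : Closeds Y) : Set.range (redI T).subschemeι = T := by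
  rw [Scheme.IdealSheafData.range_subschemeι]
  exact coe_support_redI T

instance isReduced_redI (T : Closeds Y) : IsReduced (redI T).subscheme :=
  Groth.Agent.Lib.Helper18.CompRed.isReduced_radical_subscheme Y _

theorem isIntegral_redI (T : Closeds Y) (hT : IsIrreducible (T : Set Y)) :
    IsIntegral (redI T).subscheme := by
  haveI : IrreducibleSpace (redI T).subscheme := by
    have h1 : IrreducibleSpace ↥((redI T).support : Set Y) := by
      rw [coe_support_redI]
      exact Subtype.irreducibleSpace hT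
    exact h1
  exact isIntegral_of_irreducibleSpace_of_isReduced _

end RedI

section Global

variable {X Y : Scheme.{u}} [IsNoetherian Y] (f : Y ⟶ X)

/-- the family of irreducible closed subsets of `Y` mapping onto `D` -/
def Fam (D : Set X) : Set (Closeds Y) := {T | IsIrreducible (T : Set Y) ∧ f '' (T : Set Y) = D}

omit [AlgebraicGeometry.IsNoetherian Y] in
theorem closure_mem_fam (hcl : IsClosedMap f) {D : Set X} {x : X} (hx : IsGenericPoint x D)
    (y : Y) (hy : f y = x) : (⟨closure {y}, isClosed_closure⟩ : Closeds Y) ∈ Fam f D := by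
  refine ⟨isIrreducible_singleton.closure, ?_⟩
  change f '' closure {y} = D
  rw [← hcl.closure_image_eq_of_continuous f.continuous, Set.image_singleton, hy]
  exact hx.def

/-- a minimal member of the family has only closed non-generic points -/
theorem isClosed_singleton_of_minimal (hcl : IsClosedMap f) {D : Set X} {x : X}
    (hx : IsGenericPoint x D) (hD : ∀ p ∈ D, p ≠ x → IsClosed ({p} : Set X))
    (T : Closeds Y) (hT : T ∈ Fam f D) (hmin : ∀ T' ∈ Fam f D, ¬ T' < T)
    (ξ : Y) (hξ : IsGenericPoint ξ (T : Set Y)) (t : Y) (htT : t ∈ T) (htξ : t ≠ ξ) :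
    IsClosed ({t} : Set Y) := by
  by_contra hncl
  have hfξ : f ξ = x := by
    have h1 : IsGenericPoint (f ξ) D := by
      change closure {f ξ} = D
      rw [← Set.image_singleton, hcl.closure_image_eq_of_continuous f.continuous, hξ.def]
      exact hT.2
    exact h1.eq hx
  -- a general fact: closures of points of `T` other than `ξ` are strictly smaller
  have hlt : ∀ u : Y, u ∈ T → u ≠ ξ → (⟨closure {u}, isClosed_closure⟩ : Closeds Y) < T := by
    intro u huT huξ
    rw [lt_iff_le_and_ne]
    refine ⟨T.isClosed.closure_subset_iff.mpr (Set.singleton_subset_iff.mpr huT), fun heq => ?_⟩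
    have h1 : IsGenericPoint u (T : Set Y) := by
      change closure {u} = T
      exact congrArg (fun S : Closeds Y => (S : Set Y)) heq
    exact huξ (h1.eq hξ)
  -- (a) `f t ≠ x`
  have hft : f t ≠ x := fun hft =>
    hmin _ (closure_mem_fam f hcl hx t hft) (hlt t htT htξ)
  have hftD : f t ∈ D := by rw [← hT.2]; exact ⟨t, htT, rfl⟩
  have hftcl : IsClosed ({f t} : Set X) := hD _ hftD hft
  -- (c) a proper specialization of `t`
  obtain ⟨s₀, hs₀, hs₀t⟩ : ∃ s₀ ∈ closure ({t} : Set Y), s₀ ≠ t := by
    by_contra hcon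
    push Not at hcon
    apply hncl
    have : closure ({t} : Set Y) = {t} :=
      Set.Subset.antisymm (fun u hu => hcon u hu) subset_closure
    rw [← this]; exact isClosed_closure
  have hts₀ : t ⤳ s₀ := specializes_iff_mem_closure.mpr hs₀
  have hfs₀ : f s₀ = f t := by
    have h1 : f t ⤳ f s₀ := hts₀.map f.continuous
    have h2 : f s₀ ∈ closure ({f t} : Set X) := specializes_iff_mem_closure.mp h1
    rw [hftcl.closure_eq] at h2
    exact h2
  have hs₀T : s₀ ∈ T := T.isClosed.closure_subset_iff.mpr (Set.singleton_subset_iff.mpr htT) hs₀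
  -- (d) the scheme structure
  haveI := isIntegral_redI T hT.1
  set ι := (redI T).subschemeι with hι
  haveI : IsLocallyNoetherian (redI T).subscheme := LocallyOfFiniteType.isLocallyNoetherian ι
  have hrange : Set.range ι = T := range_redI T
  obtain ⟨t', ht'⟩ : t ∈ Set.range ι := by rw [hrange]; exact htT
  obtain ⟨s₀', hs₀'⟩ : s₀ ∈ Set.range ι := by rw [hrange]; exact hs₀T
  have hgen : ι (genericPoint (redI T).subscheme) = ξ := by
    have h1 : IsGenericPoint (ι (genericPoint (redI T).subscheme)) (T : Set Y) := by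
      change closure {ι (genericPoint (redI T).subscheme)} = T
      rw [← Set.image_singleton, ι.isClosedEmbedding.closure_image_eq,
        (genericPoint_spec (redI T).subscheme).def, Set.image_univ, hrange]
    exact h1.eq hξ
  have hspec : t' ⤳ s₀' := by
    rw [← ι.isClosedEmbedding.isInducing.specializes_iff, ht', hs₀']
    exact hts₀
  have hne1 : t' ≠ s₀' := fun h => hs₀t (by rw [← hs₀', ← ht', h])
  have hne2 : t' ≠ genericPoint (redI T).subscheme := fun h => htξ (by rw [← ht', h, hgen])
  have hne3 : (ι ≫ f) (genericPoint (redI T).subscheme) ≠ (ι ≫ f) s₀' := by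
    change f (ι _) ≠ f (ι _)
    rw [hgen, hs₀', hfξ, hfs₀]
    exact fun h => hft h.symm
  obtain ⟨s₁', hs₁gen, hs₁spec, hs₁ne⟩ :=
    exists_generization_over_generic (ι ≫ f) s₀' hne3 t' hspec hne1 hne2
  change f (ι s₁') ⤳ f (ι s₀') at hs₁spec
  change f (ι s₁') ≠ f (ι s₀') at hs₁ne
  rw [hs₀', hfs₀] at hs₁spec hs₁ne
  have hs₁T : ι s₁' ∈ T := by rw [← SetLike.mem_coe, ← hrange]; exact ⟨_, rfl⟩
  -- (e)
  have hfs₁ : f (ι s₁') = x := by
    by_contra hnx
    have hD1 : f (ι s₁') ∈ D := by rw [← hT.2]; exact ⟨_, hs₁T, rfl⟩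
    have hcl1 := hD _ hD1 hnx
    have h2 : f t ∈ closure ({f (ι s₁')} : Set X) := specializes_iff_mem_closure.mp hs₁spec
    rw [hcl1.closure_eq] at h2
    exact hs₁ne h2.symm
  -- (f)
  have hs₁ξ : ι s₁' ≠ ξ := by
    intro h
    rw [← hgen] at h
    exact hs₁gen (ι.isClosedEmbedding.injective h)
  exact hmin _ (closure_mem_fam f hcl hx _ hfs₁) (hlt _ hs₁T hs₁ξ)

/-- **lifting curves**: a closed surjective morphism from a Noetherian scheme admits, over every
irreducible closed `D` of the target whose non-generic points are closed (and which is not a point), an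
irreducible closed subset of dimension one mapping onto `D`. -/
theorem exists_lift (hcl : IsClosedMap f) (hsurj : Function.Surjective f)
    {D : Set X} {x : X} (hx : IsGenericPoint x D)
    (hD : ∀ p ∈ D, p ≠ x → IsClosed ({p} : Set X)) (hD2 : ∃ p ∈ D, p ≠ x) :
    ∃ T : Closeds Y, IsIrreducible (T : Set Y) ∧ f '' (T : Set Y) = D ∧
      topologicalKrullDim ↥(T : Set Y) = 1 := by
  obtain ⟨y₀, hy₀⟩ := hsurj x
  obtain ⟨T, hT, hmin⟩ := wellFounded_lt.has_min (Fam f D) ⟨_, closure_mem_fam f hcl hx y₀ hy₀⟩
  refine ⟨T, hT.1, hT.2, ?_⟩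
  set ξ := hT.1.genericPoint with hξdef
  have hξ : IsGenericPoint ξ (T : Set Y) := hT.1.isGenericPoint_genericPoint T.isClosed
  have hfξ : f ξ = x := by
    have h1 : IsGenericPoint (f ξ) D := by
      change closure {f ξ} = D
      rw [← Set.image_singleton, hcl.closure_image_eq_of_continuous f.continuous, hξ.def]
      exact hT.2
    exact h1.eq hx
  have hclosed := isClosed_singleton_of_minimal f hcl hx hD T hT hmin ξ hξ
  haveI : QuasiSober ↥(T : Set Y) := T.isClosed.isClosedEmbedding_subtypeVal.quasiSober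
  haveI : IrreducibleSpace ↥(T : Set Y) := Subtype.irreducibleSpace hT.1
  have hg : (genericPoint ↥(T : Set Y)).1 = ξ := by
    have h1 : IsGenericPoint (genericPoint ↥(T : Set Y)).1 (T : Set Y) := by
      change closure {(genericPoint ↥(T : Set Y)).1} = T
      rw [← Set.image_singleton (f := Subtype.val),
        T.isClosed.isClosedEmbedding_subtypeVal.closure_image_eq,
        (genericPoint_spec ↥(T : Set Y)).def, Set.image_univ, Subtype.range_coe]
    exact h1.eq hξ
  apply dim_eq_one_of_closed_points
  · intro z hz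
    have hz1 : z.1 ≠ ξ := by
      intro h
      apply hz
      apply Subtype.ext
      rw [h, hg]
    have h2 := hclosed z.1 z.2 hz1
    have h3 : ({z} : Set ↥(T : Set Y)) = Subtype.val ⁻¹' {z.1} := by
      ext w
      simp only [Set.mem_singleton_iff, Set.mem_preimage]
      exact ⟨fun h => by rw [h], fun h => Subtype.ext h⟩
    rw [h3]
    exact h2.preimage continuous_subtype_val
  · obtain ⟨p, hpD, hpx⟩ := hD2
    rw [← hT.2] at hpD
    obtain ⟨t, htT, rfl⟩ := hpD
    refine ⟨⟨t, htT⟩, fun h => hpx ?_⟩
    have : t = ξ := by rw [← hg, ← h]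
    rw [this, hfξ]

end Global

end Groth.Agent.Lib.Helper18.CurveLift
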