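import Mathlib
import Groth.Agent.Lib.Helper18.CurveLift
import Groth.Agent.Lib.Helper18.DegTensor
import Groth.Agent.Lib.Helper18.GenericRankPush
import Groth.Agent.Lib.Helper18.CurveMapFinite
import Groth.Agent.Lib.Helper4.ClosureProper
import Groth.Agent.Lib.Helper16.CohStalk
import Groth.Agent.S7640

/-!
# Degrees of invertible modules on curves inside proper schemes and pullbacks (helper18)

* `nefq_eq_deg`: `χ(O_C ⊗ L) − χ(O_C) = deg(L|_C)` for a closed subscheme `C` of a proper `k`-scheme.
* `exists_lift_of_isReduced`: a morphism from a reduced scheme whose range lies in the support of an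
  ideal sheaf `C` with reduced... factors through `C.subscheme` when `C.subscheme` is reduced.
* `residueDegree_pos`: the degree of a finite dominant morphism of integral curves is positive.
* `nefq_pullback`: for `f : X' ⟶ X`, integral curves `C' ⊆ X'`, `C ⊆ X` with `f(C') = C`:
  `(f^*L · C') = r (L · C)` with `r > 0`.
-/

set_option autoImplicit false
universe u

open CategoryTheory AlgebraicGeometry Opposite TopologicalSpace CategoryTheory.Limits

namespace Groth.Agent.Lib.Helper18.NefPull

open Groth.Agent.Lib.Helper18.DegTensor Groth.Agent.Lib.Lead.ModTensor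

section NefQ

variable (k : Type u) [Field k] (X : Scheme.{u}) [X.Over (Spec (CommRingCat.of k))]

/-- the intersection number `(L · C) = χ(O_C ⊗ L) − χ(O_C)` -/
noncomputable def nefq (C : X.IdealSheafData) (L : X.Modules) : ℤ :=
  Curv2.euler k X (CohB1.tensorMod (ClSub.quotMod C) L) - Curv2.euler k X (ClSub.quotMod C)

/-- `(L · C) = deg(L|_C)` -/
theorem nefq_eq_deg (C : X.IdealSheafData) (L : X.Modules) (hL : FlatMod.IsFinLocFree L) :
    nefq k X C L = @Curv2.deg k _ C.subscheme ⟨C.subschemeι ≫ (X ↘ Spec (CommRingCat.of k))⟩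
      ((Scheme.Modules.pullback C.subschemeι).obj L) 1 := by
  letI : C.subscheme.Over (Spec (CommRingCat.of k)) :=
    ⟨C.subschemeι ≫ (X ↘ Spec (CommRingCat.of k))⟩
  have hi : C.subschemeι ≫ (X ↘ Spec (CommRingCat.of k)) =
    C.subscheme ↘ Spec (CommRingCat.of k) := rfl
  have T1 := euler_push_tensor k C.subschemeι hi (Coh.structureModule C.subscheme) L hL
  have T2 := Groth.Agent.Lib.Helper18.PullEuler.euler_push k C.subschemeι hi
    (Coh.structureModule C.subscheme)
  have T3 := Groth.Agent.Lib.Lead.CurveEuler.euler_eq_of_iso k C.subscheme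
    (leftUnitor ((Scheme.Modules.pullback C.subschemeι).obj L))
  unfold nefq
  change Curv2.euler k X (CohB1.tensorMod ((Scheme.Modules.pushforward C.subschemeι).obj
    (Coh.structureModule C.subscheme)) L) - Curv2.euler k X ((Scheme.Modules.pushforward
      C.subschemeι).obj (Coh.structureModule C.subscheme)) = _
  rw [T1, T2, T3]
  unfold Curv2.deg
  simp

end NefQ

section Lift

variable {X : Scheme.{u}}

/-- a morphism from a reduced scheme with range in the support of `C` factors through `C.subscheme`
if the latter is reduced -/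
theorem exists_lift_of_isReduced {T : Scheme.{u}} [IsReduced T] (l : T ⟶ X) (C : X.IdealSheafData)
    [IsReduced C.subscheme] (h : Set.range l ⊆ (C.support : Set X)) :
    ∃ l' : T ⟶ C.subscheme, l' ≫ C.subschemeι = l := by
  have H : C.subschemeι.ker ≤ l.ker := by
    rw [Scheme.IdealSheafData.ker_subschemeι]
    have h1 := Groth.Agent.Lib.helper4.ClosureProper.vanishingIdeal_le_ker_of_range_subset l
      C.support h
    have h2 : C ≤ Scheme.IdealSheafData.vanishingIdeal C.support := by
      rw [Scheme.IdealSheafData.vanishingIdeal_support]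
      exact Scheme.IdealSheafData.le_radical C
    exact h2.trans h1
  exact ⟨IsClosedImmersion.lift _ l H, IsClosedImmersion.lift_fac _ l H⟩

end Lift

section ResDeg

variable {X Y : Scheme.{u}} [IsIntegral X] [IsIntegral Y] (f : X ⟶ Y)

/-- the degree of a finite dominant morphism of integral curves is positive -/
theorem residueDegree_pos [IsFinite f] [IsLocallyNoetherian Y]
    (hfib : ∀ a : X, f a = f (genericPoint X) → a = genericPoint X)
    (hξ : f (genericPoint X) = genericPoint Y) :
    0 < f.residueDegree (genericPoint X) := by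
  have hcl : IsClosedMap f.base := f.isClosedMap
  have hXf : IsField (X.presheaf.stalk (genericPoint X)) := Field.toIsField X.functionField
  have hYf : IsField (Y.presheaf.stalk (f (genericPoint X))) := by
    rw [hξ]
    exact Field.toIsField Y.functionField
  haveI : IsLocallyNoetherian X := LocallyOfFiniteType.isLocallyNoetherian f
  set F : Y.Modules := (Scheme.Modules.pushforward f).obj (Coh.structureModule X) with hFdef
  have hF : Coh.IsCoh F :=
    Groth.Agent.S0019.result f _ (Groth.Agent.Lib.helper8.Dev.isCoh_structureModule X)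
  rw [← Groth.Agent.Lib.Helper18.GenericRankPush.finrank_stalk_push_structureModule f
    (genericPoint X) hcl hfib hYf hXf]
  haveI hfin : Module.Finite (Y.presheaf.stalk (f (genericPoint X)))
      (F.presheaf.stalk (f (genericPoint X))) :=
    Groth.Agent.Lib.helper16.CohStalk.finite_stalk_of_isCoh F hF _
  haveI hnt : Nontrivial (F.presheaf.stalk (f (genericPoint X))) := by
    have hb := Groth.Agent.Lib.Helper18.StalkPushClosed.stalkPush_bijective f
      (Coh.structureModule X) (genericPoint X) hcl hfib
    haveI : Nontrivial ((Coh.structureModule X).presheaf.stalk (genericPoint X)) := by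
      haveI hfree := (Groth.Agent.Lib.helper16.FLF.free_stalk_of_isFinLocFree _
        (Groth.Agent.Lib.helper16.FLF.isFinLocFree_structureModule X) (genericPoint X)).1
      have hrk := Groth.Agent.Lib.helper16.FLF.finrank_stalk_of_isFinLocFreeOfRank _
        (Groth.Agent.Lib.helper16.FLF.isFinLocFreeOfRank_structureModule X) (genericPoint X)
      exact Module.nontrivial_of_finrank_eq_succ hrk
    exact hb.surjective.nontrivial
  letI := hYf.toField
  exact Module.finrank_pos

end ResDeg

section Pull

variable (k : Type u) [Field k] (X X' : Scheme.{u}) [X.Over (Spec (CommRingCat.of k))]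
  [IsProper (X ↘ Spec (CommRingCat.of k))] [X'.Over (Spec (CommRingCat.of k))]
  [IsProper (X' ↘ Spec (CommRingCat.of k))]

/-- `(f^*L · C') = r (L · C)` with `r > 0` when `f(C') = C` for integral curves -/
theorem nefq_pullback (f : X' ⟶ X)
    (hf : f ≫ (X ↘ Spec (CommRingCat.of k)) = X' ↘ Spec (CommRingCat.of k))
    (L : X.Modules) (hL : PicF.IsInvertible L)
    (C : X.IdealSheafData) [IsIntegral C.subscheme]
    (hC : topologicalKrullDim (C.support : Set X) = 1)
    (C' : X'.IdealSheafData) [IsIntegral C'.subscheme]
    (hC' : topologicalKrullDim (C'.support : Set X') = 1)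
    (himg : f '' (C'.support : Set X') = (C.support : Set X)) :
    ∃ r : ℕ, 0 < r ∧ nefq k X' C' ((Scheme.Modules.pullback f).obj L) = r * nefq k X C L := by
  haveI : IsProper f := by
    haveI : IsProper (f ≫ (X ↘ (Spec (CommRingCat.of k)))) := by rw [hf]; infer_instance
    exact IsProper.of_comp f (X ↘ (Spec (CommRingCat.of k)))
  set ι := C.subschemeι with hι
  set ι' := C'.subschemeι with hι'
  letI : C.subscheme.Over (Spec (CommRingCat.of k)) := ⟨ι ≫ (X ↘ Spec (CommRingCat.of k))⟩
  letI : C'.subscheme.Over (Spec (CommRingCat.of k)) := ⟨ι' ≫ (X' ↘ Spec (CommRingCat.of k))⟩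
  haveI : IsProper (C.subscheme ↘ Spec (CommRingCat.of k)) :=
    inferInstanceAs (IsProper (ι ≫ (X ↘ Spec (CommRingCat.of k))))
  haveI : IsProper (C'.subscheme ↘ Spec (CommRingCat.of k)) :=
    inferInstanceAs (IsProper (ι' ≫ (X' ↘ Spec (CommRingCat.of k))))
  have hrange : Set.range ι = (C.support : Set X) := C.range_subschemeι
  have hrange' : Set.range ι' = (C'.support : Set X') := C'.range_subschemeι
  have hdimZ : topologicalKrullDim C.subscheme = 1 := by
    have e : C.subscheme ≃ₜ ↥(Set.range ι) := ι.isClosedEmbedding.isEmbedding.toHomeomorph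
    rw [IsHomeomorph.topologicalKrullDim_eq e e.isHomeomorph, hrange]
    exact hC
  have hdimZ' : topologicalKrullDim C'.subscheme = 1 := by
    have e : C'.subscheme ≃ₜ ↥(Set.range ι') := ι'.isClosedEmbedding.isEmbedding.toHomeomorph
    rw [IsHomeomorph.topologicalKrullDim_eq e e.isHomeomorph, hrange']
    exact hC'
  -- the factorization
  have hrg : Set.range (ι' ≫ f) ⊆ (C.support : Set X) := by
    rintro _ ⟨z, rfl⟩
    rw [← himg]
    refine ⟨ι' z, ?_, rfl⟩
    rw [← hrange']
    exact ⟨z, rfl⟩
  obtain ⟨h, hfac⟩ := exists_lift_of_isReduced (ι' ≫ f) C hrg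
  have hh : h ≫ (C.subscheme ↘ Spec (CommRingCat.of k)) =
      C'.subscheme ↘ Spec (CommRingCat.of k) := by
    change h ≫ ι ≫ (X ↘ Spec (CommRingCat.of k)) = ι' ≫ (X' ↘ Spec (CommRingCat.of k))
    rw [← Category.assoc, hfac, Category.assoc, hf]
  -- generic points
  have hgen' : IsGenericPoint (ι' (genericPoint C'.subscheme)) (C'.support : Set X') := by
    change closure {ι' (genericPoint C'.subscheme)} = _
    rw [← Set.image_singleton, ι'.isClosedEmbedding.closure_image_eq,
      (genericPoint_spec C'.subscheme).def, Set.image_univ, hrange']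
  have hgen : IsGenericPoint (ι (genericPoint C.subscheme)) (C.support : Set X) := by
    change closure {ι (genericPoint C.subscheme)} = _
    rw [← Set.image_singleton, ι.isClosedEmbedding.closure_image_eq,
      (genericPoint_spec C.subscheme).def, Set.image_univ, hrange]
  have hξ : h.base (genericPoint C'.subscheme) = genericPoint C.subscheme := by
    apply ι.isClosedEmbedding.injective
    have h1 : ι (h (genericPoint C'.subscheme)) = f (ι' (genericPoint C'.subscheme)) := by
      change (h ≫ ι) _ = (ι' ≫ f) _
      rw [hfac]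
    have h2 : IsGenericPoint (f (ι' (genericPoint C'.subscheme))) (C.support : Set X) := by
      change closure {f (ι' (genericPoint C'.subscheme))} = _
      rw [← Set.image_singleton, f.isClosedMap.closure_image_eq_of_continuous f.continuous,
        hgen'.def, himg]
    exact h1.trans (h2.eq hgen)
  -- S7640
  have hL1 : FlatMod.IsFinLocFreeOfRank 1 L :=
    Groth.Agent.Lib.Helper18.EffCartierCurve.isFinLocFreeOfRank_one_of_isInvertible hL
  have hE : FlatMod.IsFinLocFreeOfRank 1 ((Scheme.Modules.pullback ι).obj L) :=
    Groth.Agent.Lib.helper16.FLF.isFinLocFreeOfRank_pullback ι hL1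
  have hdeg := Groth.Agent.S7640.result k C'.subscheme C.subscheme hdimZ' hdimZ h hh hξ 1 _ hE
  -- positivity
  haveI : IsProper h := by
    haveI : IsProper (h ≫ (C.subscheme ↘ (Spec (CommRingCat.of k)))) := by
      rw [hh]; infer_instance
    exact IsProper.of_comp h (C.subscheme ↘ (Spec (CommRingCat.of k)))
  haveI : IsNoetherian C'.subscheme := Groth.Agent.Lib.Lead.CurveEuler.isNoetherian k C'.subscheme
  haveI : IsNoetherian C.subscheme := Groth.Agent.Lib.Lead.CurveEuler.isNoetherian k C.subscheme
  haveI hfin : IsFinite h :=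
    Groth.Agent.Lib.Helper18.CurveMapFinite.isFinite_of_map_genericPoint h hdimZ' hdimZ hξ
  have hfib := Groth.Agent.Lib.Helper18.CurveMapFinite.eq_genericPoint_of_map_eq h hdimZ' hdimZ hξ
    h.isClosedMap
  have hpos := residueDegree_pos h hfib hξ
  refine ⟨h.residueDegree (genericPoint C'.subscheme), hpos, ?_⟩
  have hLf : FlatMod.IsFinLocFree L :=
    Groth.Agent.Lib.helper16.FLF.isFinLocFree_of_isFinLocFreeOfRank hL1
  rw [nefq_eq_deg k X C L hLf, nefq_eq_deg k X' C' _
    (Groth.Agent.Lib.helper16.FLF.isFinLocFree_pullback f hLf)]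
  rw [← hdeg]
  -- compare the two pullbacks
  have e1 : (Scheme.Modules.pullback h).obj ((Scheme.Modules.pullback ι).obj L) ≅
      (Scheme.Modules.pullback (h ≫ ι)).obj L := (Scheme.Modules.pullbackComp h ι).app L
  have e2 : (Scheme.Modules.pullback ι').obj ((Scheme.Modules.pullback f).obj L) ≅
      (Scheme.Modules.pullback (ι' ≫ f)).obj L := (Scheme.Modules.pullbackComp ι' f).app L
  unfold Curv2.deg
  have h3 : Curv2.euler k C'.subscheme
      ((Scheme.Modules.pullback ι').obj ((Scheme.Modules.pullback f).obj L)) =
      Curv2.euler k C'.subscheme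
        ((Scheme.Modules.pullback h).obj ((Scheme.Modules.pullback ι).obj L)) := by
    rw [Groth.Agent.Lib.Lead.CurveEuler.euler_eq_of_iso k C'.subscheme e2,
      Groth.Agent.Lib.Lead.CurveEuler.euler_eq_of_iso k C'.subscheme e1, hfac]
  rw [h3]

end Pull

end Groth.Agent.Lib.Helper18.NefPull
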