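import Mathlib
import Groth.Agent.Lib.Helper18.NefPull
import Groth.Agent.Lib.Helper11.InvPullback
import Groth.Agent.Lib.Helper11.FiniteAffine
import Groth.Agent.Lib.Lead.CurveInv

/-!
# Degrees of an invertible module with a section generating off one closed point (helper18)

`nefq_of_section`: `X` proper over a field `k`, `L` invertible with `s : O ⟶ L` generating `L` away from a point `z`.
Then for every integral curve `C ⊆ X` (ideal sheaf with integral closed subscheme and 1-dimensional support)
`(L · C) = χ(O_C ⊗ L) − χ(O_C) ≥ 0`, and `> 0` if `z ∈ C` and `s` does not generate `L` at `z`.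
-/

set_option autoImplicit false
set_option linter.style.haveILetI false
universe u
open CategoryTheory CategoryTheory.Limits AlgebraicGeometry TopologicalSpace Opposite
open Scheme.Modules

namespace Groth.Agent.Lib.Helper18.CurveDegPos

open Groth.Agent.Lib.helper11.IsoLocus Groth.Agent.Lib.helper11.GenLocus
  Groth.Agent.Lib.helper11.InvMod Groth.Agent.Lib.Helper18.NefPull

variable (k : Type u) [Field k] (X : Scheme.{u}) [X.Over (Spec (CommRingCat.of k))]
  [IsProper (X ↘ Spec (CommRingCat.of k))]

/-- **degree of an invertible module with a section generating off a closed point, on integral curves** -/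
theorem nefq_of_section {L : X.Modules} (hL : PicF.IsInvertible L) (s : Coh.structureModule X ⟶ L)
    (z : X) (hs : ∀ x : X, x ≠ z → x ∈ isoLocus s)
    (C : X.IdealSheafData) [IsIntegral C.subscheme]
    (hC : topologicalKrullDim (C.support : Set X) = 1) :
    0 ≤ nefq k X C L ∧ (z ∈ (C.support : Set X) → z ∉ isoLocus s → 0 < nefq k X C L) := by
  rw [nefq_eq_deg k X C L (Groth.Agent.Lib.helper16.FLF.isFinLocFree_of_isInvertible hL)]
  letI : C.subscheme.Over (Spec (CommRingCat.of k)) :=
    ⟨C.subschemeι ≫ (X ↘ Spec (CommRingCat.of k))⟩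
  haveI : IsProper (C.subscheme ↘ Spec (CommRingCat.of k)) :=
    inferInstanceAs (IsProper (C.subschemeι ≫ (X ↘ Spec (CommRingCat.of k))))
  set ι := C.subschemeι with hι
  have hdimY : topologicalKrullDim C.subscheme = 1 := by
    have e : C.subscheme ≃ₜ ↥(Set.range C.subschemeι) :=
      C.subschemeι.isClosedEmbedding.isEmbedding.toHomeomorph
    rw [IsHomeomorph.topologicalKrullDim_eq e e.isHomeomorph, C.range_subschemeι]
    exact hC
  have hM : PicF.IsInvertible ((Scheme.Modules.pullback ι).obj L) := isInvertible_pullback ι hL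
  have hO : PicF.IsInvertible (Coh.structureModule C.subscheme) := isInvertible_structureModule _
  let s' : Coh.structureModule C.subscheme ⟶ (Scheme.Modules.pullback ι).obj L :=
    (pullbackUnitIso ι).symm.hom ≫ (Scheme.Modules.pullback ι).map s
  have hgen : CohB1.genLocus ((Scheme.Modules.pullback ι).obj L) s' = ι ⁻¹ᵁ CohB1.genLocus L s :=
    Groth.Agent.Lib.helper11.InvPullback.genLocus_pullback ι L hL s (pullbackUnitIso ι).symm
  -- two distinct points
  have hnontriv : ∃ y : C.subscheme, ι y ≠ z := by
    by_contra hcon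
    push Not at hcon
    haveI : Subsingleton C.subscheme := ⟨fun a b =>
      ι.isClosedEmbedding.injective ((hcon a).trans (hcon b).symm)⟩
    have h2 : topologicalKrullDim C.subscheme ≤ 0 := topologicalKrullDim_zero_of_discreteTopology _
    rw [hdimY] at h2
    exact absurd h2 (by decide)
  obtain ⟨y, hy⟩ := hnontriv
  have hs' : s' ≠ 0 := by
    intro h0
    have h1 : y ∈ CohB1.genLocus ((Scheme.Modules.pullback ι).obj L) s' := by
      rw [hgen]
      exact hs (ι y) hy
    rw [h0, Groth.Agent.Lib.helper11.FiniteAffine.genLocus_zero hM] at h1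
    exact h1
  have hdeg := Groth.Agent.Lib.Lead.CurveInv.deg_sub_deg k C.subscheme hdimY.le hO hM s' hs'
  rw [Groth.Agent.Lib.Lead.CurveEuler.deg_structureModule k C.subscheme, sub_zero] at hdeg
  refine ⟨by rw [hdeg]; exact Int.natCast_nonneg _, fun hzC hzs => ?_⟩
  by_contra hcon
  have h0 : Curv2.deg k C.subscheme ((Scheme.Modules.pullback ι).obj L) 1 = 0 :=
    le_antisymm (not_lt.mp hcon) (by rw [hdeg]; exact Int.natCast_nonneg _)
  have hiso : IsIso s' := Groth.Agent.Lib.Lead.CurveInv.isIso_of_deg_eq k C.subscheme hdimY.le hO hM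
    s' hs' (by rw [h0, Groth.Agent.Lib.Lead.CurveEuler.deg_structureModule k C.subscheme])
  have htop : CohB1.genLocus ((Scheme.Modules.pullback ι).obj L) s' = ⊤ :=
    (isoLocus_eq_top_iff s').mpr hiso
  rw [hgen] at htop
  rw [← C.range_subschemeι] at hzC
  obtain ⟨w, hw⟩ := hzC
  have : w ∈ ι ⁻¹ᵁ CohB1.genLocus L s := by rw [htop]; trivial
  apply hzs
  rw [← hw]
  exact this

end Groth.Agent.Lib.Helper18.CurveDegPos
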