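import Mathlib
import Groth.Agent.S10963
import Groth.Agent.Lib.Helper11.GenLocus
import Groth.Agent.Lib.Helper20.SplitH1
import Groth.Agent.Lib.Helper18.AbsCurveDiv
import Groth.Agent.Lib.Lead.DimOneAffine

/-!
# An invertible module with a section vanishing exactly at a prescribed closed point (helper18)

On a Noetherian scheme `X` of dimension `≤ 1`, for a closed point `z` which has a proper generization (i.e. `z` is not
an isolated point), there are an invertible module `L` and a section `s : O ⟶ L` whose locus of generation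
(`isoLocus s`) is `X ∖ {z}`.  No depth hypothesis at `z` is needed (the local equation may be a zero divisor): `L` is
glued from the unit cocycle `f` on `{X ∖ z, W}` (S10963 / `CocycleMod`).

* `primeIdealOf_mem_minimalPrimes`: generic points of irreducible components give minimal primes.
* `exists_function_vanishing_only_at`: `∃ W ∋ z`, `f ∈ Γ(X, W)` with `W ∖ D(f) = {z}` (prime avoidance).
* `exists_invertible_section`: the gluing, for any scheme and any two-element cover `{V, W}` with `f` invertible on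
  `W ∩ V`.
* `mem_basicOpen_of_mem_isoLocus`: where the section `f • g` (`g` a local generator) generates, `f` is invertible.
* `exists_invertible_section_vanishing_at`: the result.
-/

set_option autoImplicit false
universe u
open CategoryTheory CategoryTheory.Limits AlgebraicGeometry TopologicalSpace Opposite
open Scheme.Modules

namespace Groth.Agent.Lib.Helper18.PtSection

open Groth.Agent.Lib.Helper18.AbsCurveDiv Groth.Agent.Lib.Lead.DimOneAffine
open Groth.Agent.Lib.helper11.IsoLocus Groth.Agent.Lib.helper11.GenLocus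



variable {X : Scheme.{u}}

/-- the prime of a generic point of an irreducible component is a minimal prime -/
theorem primeIdealOf_mem_minimalPrimes {W : X.Opens} (hW : IsAffineOpen W) (x : X) (hxW : x ∈ W)
    (hx : IsGen X x) : (hW.primeIdealOf ⟨x, hxW⟩).asIdeal ∈ minimalPrimes Γ(X, W) := by
  rw [minimalPrimes_eq_minimals]
  refine ⟨(hW.primeIdealOf ⟨x, hxW⟩).isPrime, fun q hq hle => ?_⟩
  -- the point of `q`
  let q' : PrimeSpectrum Γ(X, W) := ⟨q, hq⟩
  have hle' : q' ≤ hW.primeIdealOf ⟨x, hxW⟩ := hle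
  have hspec : q' ⤳ hW.primeIdealOf ⟨x, hxW⟩ := (PrimeSpectrum.le_iff_specializes _ _).mp hle'
  have hspec2 : hW.fromSpec q' ⤳ x := by
    have := hspec.map hW.fromSpec.continuous
    rwa [hW.fromSpec_primeIdealOf ⟨x, hxW⟩] at this
  -- closures
  have hsub : closure ({x} : Set X) ⊆ closure ({hW.fromSpec q'} : Set X) :=
    (specializes_iff_closure_subset.mp hspec2)
  have hirr : IsIrreducible (closure ({hW.fromSpec q'} : Set X)) :=
    isIrreducible_singleton.closure
  have heq : closure ({hW.fromSpec q'} : Set X) ⊆ closure ({x} : Set X) := hx.2 hirr hsub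
  have hspec3 : x ⤳ hW.fromSpec q' := specializes_iff_closure_subset.mpr heq
  have hxq : hW.fromSpec q' = x := (hspec2.antisymm hspec3).eq
  have : q' = hW.primeIdealOf ⟨x, hxW⟩ := by
    apply hW.fromSpec.isOpenEmbedding.injective
    rw [hxq, hW.fromSpec_primeIdealOf ⟨x, hxW⟩]
  rw [← this]

/-- **a function near a closed point `z` of a Noetherian scheme of dimension `≤ 1` vanishing exactly at `z`**
(`z` must have a proper generization) -/
theorem exists_function_vanishing_only_at [IsNoetherian X] (hdim : topologicalKrullDim X ≤ 1)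
    (z : X) (y : X) (hy : y ⤳ z) (hne : y ≠ z) :
    ∃ (W : X.Opens) (f : Γ(X, W)), z ∈ W ∧ z ∉ X.basicOpen f ∧
      ∀ x ∈ W, x ≠ z → x ∈ X.basicOpen f := by
  classical
  haveI : NoetherianSpace X := IsNoetherian.noetherianSpace (X := X)
  obtain ⟨W₀, hW₀, hzW₀, -⟩ := exists_isAffineOpen_mem_and_subset (x := z) (U := ⊤) trivial
  haveI : IsNoetherianRing Γ(X, W₀) := IsLocallyNoetherian.component_noetherian ⟨W₀, hW₀⟩
  have hyW₀ : y ∈ W₀ := hy.mem_open W₀.isOpen hzW₀
  set p := hW₀.primeIdealOf ⟨z, hzW₀⟩ with hp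
  set q := hW₀.primeIdealOf ⟨y, hyW₀⟩ with hq
  -- `q < p`
  have hqp : q ≤ p := by
    rw [PrimeSpectrum.le_iff_specializes]
    have h1 : hW₀.fromSpec q ⤳ hW₀.fromSpec p := by
      rw [hW₀.fromSpec_primeIdealOf ⟨y, hyW₀⟩, hW₀.fromSpec_primeIdealOf ⟨z, hzW₀⟩]
      exact hy
    exact (hW₀.fromSpec.isOpenEmbedding.isInducing.specializes_iff).mp h1
  have hqp' : q ≠ p := by
    intro h
    apply hne
    have h1 : hW₀.fromSpec q = y := hW₀.fromSpec_primeIdealOf ⟨y, hyW₀⟩
    have h2 : hW₀.fromSpec p = z := hW₀.fromSpec_primeIdealOf ⟨z, hzW₀⟩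
    rw [← h1, ← h2, h]
  -- `p` is not minimal
  have hpmin : p.asIdeal ∉ minimalPrimes Γ(X, W₀) := by
    intro hmin
    rw [minimalPrimes_eq_minimals] at hmin
    have h1 : p.asIdeal ≤ q.asIdeal := hmin.2 q.isPrime hqp
    exact hqp' (le_antisymm hqp h1)
  -- prime avoidance
  have hfin : (minimalPrimes Γ(X, W₀)).Finite := minimalPrimes.finite_of_isNoetherianRing _
  obtain ⟨f, hfp, hfmin⟩ : ∃ f ∈ p.asIdeal, ∀ Q ∈ minimalPrimes Γ(X, W₀), f ∉ Q := by
    by_contra hcon
    push Not at hcon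
    have hsub : (p.asIdeal : Set Γ(X, W₀)) ⊆ ⋃ Q ∈ (↑hfin.toFinset : Set (Ideal Γ(X, W₀))), (id Q : Ideal _) := by
      intro a ha
      obtain ⟨Q, hQ, haQ⟩ := hcon a ha
      exact Set.mem_iUnion₂.mpr ⟨Q, by simpa using hQ, haQ⟩
    have hprime : ∀ Q ∈ hfin.toFinset, Q ≠ (⊥ : Ideal Γ(X, W₀)) → Q ≠ (⊥ : Ideal Γ(X, W₀)) →
        (id Q : Ideal Γ(X, W₀)).IsPrime := fun Q hQ _ _ => by
      have hQ' : Q ∈ minimalPrimes Γ(X, W₀) := by simpa using hQ
      exact hQ'.1.1
    obtain ⟨Q, hQ, hpQ⟩ := (Ideal.subset_union_prime ⊥ ⊥ hprime).mp hsub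
    have hQ' : Q ∈ minimalPrimes Γ(X, W₀) := by simpa using hQ
    have hQle : Q ≤ p.asIdeal := by
      have h2 := hQ'
      rw [minimalPrimes_eq_minimals] at h2
      exact h2.2 p.isPrime hpQ
    have : p.asIdeal = Q := le_antisymm hpQ hQle
    exact hpmin (this ▸ hQ')
  -- the zero set consists of closed points
  have hcl : ∀ x ∈ ((X.basicOpen f : Set X)ᶜ ∩ (W₀ : Set X)), IsClosed ({x} : Set X) := by
    rintro x ⟨hxf, hxW⟩
    refine isClosed_singleton_of_dim_le_one X hdim x (fun hgen => hxf ?_)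
    rw [SetLike.mem_coe, mem_basicOpen_iff_notMem_primeIdealOf hW₀ x hxW f]
    exact hfmin _ (primeIdealOf_mem_minimalPrimes hW₀ x hxW hgen)
  have hZfin := finite_inter_of_forall_isClosed_singleton _ (W₀ : Set X)
    (X.basicOpen f).2.isClosed_compl W₀.2 hcl
  set E : Set X := ((X.basicOpen f : Set X)ᶜ ∩ (W₀ : Set X)) \ {z} with hE
  have hEfin : E.Finite := hZfin.subset Set.sdiff_subset
  have hEcl : IsClosed E := isClosed_of_finite_of_forall_isClosed_singleton E hEfin
    (fun x hx => hcl x hx.1)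
  set W : X.Opens := W₀ ⊓ ⟨Eᶜ, hEcl.isOpen_compl⟩ with hW
  have hWW₀ : W ≤ W₀ := inf_le_left
  have hzW : z ∈ W := ⟨hzW₀, fun h => h.2 rfl⟩
  have hzf : z ∉ X.basicOpen f := by
    rw [mem_basicOpen_iff_notMem_primeIdealOf hW₀ z hzW₀ f, not_not]
    exact hfp
  refine ⟨W, (X.presheaf.map (homOfLE hWW₀).op).hom f, hzW, ?_, ?_⟩
  · rw [Scheme.basicOpen_res]
    exact fun h => hzf h.2
  · intro x hxW hxz
    rw [Scheme.basicOpen_res]
    refine ⟨hxW, ?_⟩
    by_contra hxf
    exact hxW.2 ⟨⟨hxf, hxW.1⟩, hxz⟩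





section Units

variable {W V : X.Opens} (f : Γ(X, W)) (hf : ∀ x ∈ W, x ∈ V → x ∈ X.basicOpen f)

include hf in
theorem isUnit_res (O : X.Opens) (hOW : O ≤ W) (hOV : O ≤ V) :
    IsUnit ((X.presheaf.map (homOfLE hOW).op).hom f) := by
  have hle : O ≤ X.basicOpen f := fun x hx => hf x (hOW hx) (hOV hx)
  have h1 : IsUnit ((X.presheaf.map (homOfLE (X.basicOpen_le f)).op).hom f) :=
    X.toRingedSpace.isUnit_res_basicOpen f
  have h2 := h1.map (X.presheaf.map (homOfLE hle).op).hom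
  have e : (X.presheaf.map (homOfLE hle).op).hom ((X.presheaf.map (homOfLE (X.basicOpen_le f)).op).hom f) =
      (X.presheaf.map (homOfLE hOW).op).hom f := by
    rw [← CommRingCat.comp_apply, ← Functor.map_comp]
    rfl
  rwa [e] at h2

/-- the restriction of `f` to an open where it is invertible, as a unit -/
noncomputable def uf (O : X.Opens) (hOW : O ≤ W) (hOV : O ≤ V) : (Γ(X, O))ˣ :=
  (isUnit_res f hf O hOW hOV).unit

theorem uf_val (O : X.Opens) (hOW : O ≤ W) (hOV : O ≤ V) :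
    ((uf f hf O hOW hOV : (Γ(X, O))ˣ) : Γ(X, O)) = (X.presheaf.map (homOfLE hOW).op).hom f := rfl

theorem res_uf {O O' : X.Opens} (h : O' ≤ O) (hOW : O ≤ W) (hOV : O ≤ V) :
    (X.presheaf.map (homOfLE h).op).hom ((uf f hf O hOW hOV : (Γ(X, O))ˣ) : Γ(X, O)) =
      ((uf f hf O' (h.trans hOW) (h.trans hOV) : (Γ(X, O'))ˣ) : Γ(X, O')) := by
  rw [uf_val, uf_val, ← CommRingCat.comp_apply, ← Functor.map_comp]
  rfl

theorem res_uf_inv {O O' : X.Opens} (h : O' ≤ O) (hOW : O ≤ W) (hOV : O ≤ V) :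
    (X.presheaf.map (homOfLE h).op).hom (((uf f hf O hOW hOV)⁻¹ : (Γ(X, O))ˣ) : Γ(X, O)) =
      (((uf f hf O' (h.trans hOW) (h.trans hOV))⁻¹ : (Γ(X, O'))ˣ) : Γ(X, O')) := by
  have h1 : Units.map (X.presheaf.map (homOfLE h).op).hom.toMonoidHom (uf f hf O hOW hOV) =
      uf f hf O' (h.trans hOW) (h.trans hOV) := Units.ext (res_uf f hf h hOW hOV)
  rw [← h1]
  rfl

end Units

section Cocycle

variable (W V : X.Opens) (f : Γ(X, W)) (hf : ∀ x ∈ W, x ∈ V → x ∈ X.basicOpen f)

/-- the two-element cover `{V, W}` -/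
def cov (i : ULift.{u} Bool) : X.Opens := bif i.down then W else V

/-- the transition cocycle: `η_{VW} = f`, `η_{WV} = f⁻¹` -/
noncomputable def eta : ∀ i j : ULift.{u} Bool, (Γ(X, cov W V i ⊓ cov W V j))ˣ
  | ⟨false⟩, ⟨false⟩ => 1
  | ⟨false⟩, ⟨true⟩ => uf f hf (V ⊓ W) inf_le_right inf_le_left
  | ⟨true⟩, ⟨false⟩ => (uf f hf (W ⊓ V) inf_le_left inf_le_right)⁻¹
  | ⟨true⟩, ⟨true⟩ => 1

theorem eta_cocycle (i j k : ULift.{u} Bool) :
    X.presheaf.map (homOfLE (inf_le_inf_right (cov W V k) inf_le_left :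
        cov W V i ⊓ cov W V j ⊓ cov W V k ≤ cov W V i ⊓ cov W V k)).op
        (eta W V f hf i k : Γ(X, cov W V i ⊓ cov W V k)) =
      X.presheaf.map (homOfLE (inf_le_left :
        cov W V i ⊓ cov W V j ⊓ cov W V k ≤ cov W V i ⊓ cov W V j)).op
          (eta W V f hf i j : Γ(X, cov W V i ⊓ cov W V j)) *
        X.presheaf.map (homOfLE (inf_le_inf_right (cov W V k) inf_le_right :
          cov W V i ⊓ cov W V j ⊓ cov W V k ≤ cov W V j ⊓ cov W V k)).op
            (eta W V f hf j k : Γ(X, cov W V j ⊓ cov W V k)) := by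
  obtain ⟨i⟩ := i
  obtain ⟨j⟩ := j
  obtain ⟨k⟩ := k
  cases i <;> cases j <;> cases k
  all_goals simp only [eta, Units.val_one, map_one, mul_one, one_mul]
  · have h1 := res_uf f hf (inf_le_left : V ⊓ W ⊓ V ≤ V ⊓ W) inf_le_right inf_le_left
    have h2 := res_uf_inv f hf (inf_le_inf_right V inf_le_right : V ⊓ W ⊓ V ≤ W ⊓ V)
      inf_le_left inf_le_right
    exact ((congrArg₂ (· * ·) h1 h2).trans (Units.mul_inv _)).symm
  · have h1 := res_uf_inv f hf (inf_le_left : W ⊓ V ⊓ W ≤ W ⊓ V) inf_le_left inf_le_right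
    have h2 := res_uf f hf (inf_le_inf_right W inf_le_right : W ⊓ V ⊓ W ≤ V ⊓ W)
      inf_le_right inf_le_left
    exact ((congrArg₂ (· * ·) h1 h2).trans (Units.inv_mul _)).symm

theorem iSup_cov (hcov : ∀ x : X, x ∈ W ∨ x ∈ V) : iSup (cov W V) = ⊤ := by
  rw [eq_top_iff]
  intro x _
  rcases hcov x with h | h
  · exact Opens.mem_iSup.mpr ⟨⟨true⟩, h⟩
  · exact Opens.mem_iSup.mpr ⟨⟨false⟩, h⟩

end Cocycle

section Main

/-- **an invertible module with a section given by `f` on `W` and generating on `V`** -/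
theorem exists_invertible_section (W V : X.Opens) (f : Γ(X, W))
    (hf : ∀ x ∈ W, x ∈ V → x ∈ X.basicOpen f) (hcov : ∀ x : X, x ∈ W ∨ x ∈ V) :
    ∃ (L : X.Modules) (s : Coh.structureModule X ⟶ L) (g : Γ(L, W)), PicF.IsInvertible L ∧
      V ≤ isoLocus s ∧
      (∀ (O : X.Opens) (h : O ≤ W),
        Function.Bijective (fun r : Γ(X, O) => r • L.presheaf.map (homOfLE h).op g)) ∧
      sec s W = f • g := by
  obtain ⟨L, gs, hL, hbij, hrel⟩ := Groth.Agent.S10963.result X (cov W V) (iSup_cov W V hcov)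
    (eta W V f hf) (eta_cocycle W V f hf)
  -- the local sections
  let gW : Γ(L, W) := gs ⟨true⟩
  let gV : Γ(L, V) := gs ⟨false⟩
  let t : ∀ i : ULift.{u} Bool, Γ(L, cov W V i)
    | ⟨false⟩ => gV
    | ⟨true⟩ => (show Γ(L, W) from f • gW)
  let F : TopCat.Sheaf Ab X := ⟨L.presheaf, L.isSheaf⟩
  have compat : TopCat.Presheaf.IsCompatible F.1 (cov W V) t := by
    rintro ⟨i⟩ ⟨j⟩
    cases i <;> cases j
    · rfl
    · have h1 := hrel ⟨false⟩ ⟨true⟩
      have h2 := Scheme.Modules.map_smul L (homOfLE (inf_le_right : V ⊓ W ≤ W)) f gW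
      exact h1.trans h2.symm
    · have h1 := hrel ⟨true⟩ ⟨false⟩
      have h2 := Scheme.Modules.map_smul L (homOfLE (inf_le_left : W ⊓ V ≤ W)) f gW
      refine h2.trans ?_
      have h3 : L.presheaf.map (homOfLE (inf_le_left : W ⊓ V ≤ W)).op gW =
          ((uf f hf (W ⊓ V) inf_le_left inf_le_right)⁻¹ : (Γ(X, W ⊓ V))ˣ) •
            L.presheaf.map (homOfLE (inf_le_right : W ⊓ V ≤ V)).op gV := h1
      rw [h3]
      have h4 : (X.presheaf.map (homOfLE (inf_le_left : W ⊓ V ≤ W)).op).hom f =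
          ((uf f hf (W ⊓ V) inf_le_left inf_le_right : (Γ(X, W ⊓ V))ˣ) : Γ(X, W ⊓ V)) := rfl
      rw [h4, Units.smul_def, ← mul_smul, Units.mul_inv, one_smul]
      rfl
    · rfl
  obtain ⟨σ, hσ, -⟩ := F.existsUnique_gluing' (cov W V) ⊤ (fun i => homOfLE le_top)
    (by rw [iSup_cov W V hcov]) t compat
  let s : Coh.structureModule X ⟶ L := Groth.Agent.Lib.Helper20.SplitH1.homOfGlobal L σ
  have hsec : ∀ O : X.Opens, sec s O = L.presheaf.map (homOfLE (le_top : O ≤ ⊤)).op σ := fun O =>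
    Groth.Agent.Lib.Helper20.SplitH1.homOfGlobal_app_one L σ (op O)
  have hsecV : ∀ (O : X.Opens) (h : O ≤ V), sec s O = L.presheaf.map (homOfLE h).op gV := by
    intro O h
    rw [hsec O]
    have h1 : L.presheaf.map (homOfLE (le_top : V ≤ ⊤)).op σ = gV := hσ ⟨false⟩
    rw [← h1, ← ConcreteCategory.comp_apply, ← Functor.map_comp]
    rfl
  have hsecW : sec s W = f • gW := by
    rw [hsec W]
    exact hσ ⟨true⟩
  refine ⟨L, s, gW, hL, ?_, fun O h => hbij ⟨true⟩ O h, hsecW⟩
  rw [le_isoLocus_iff, isIso_restrict_iff_app]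
  intro O hO
  rw [ConcreteCategory.isIso_iff_bijective]
  have key : ∀ a : Γ(X, O), (s.app O).hom (a : Γ(Coh.structureModule X, O)) =
      a • L.presheaf.map (homOfLE hO).op gV := fun a => by
    rw [app_apply, hsecV O hO]
  have hb := hbij ⟨false⟩ O hO
  constructor
  · intro a b hab
    exact hb.1 ((key a).symm.trans (hab.trans (key b)))
  · intro m
    obtain ⟨a, ha⟩ := hb.2 m
    exact ⟨a, (key a).trans ha⟩

/-- where the section `f • g` generates, `f` is invertible -/
theorem mem_basicOpen_of_mem_isoLocus {L : X.Modules} (s : Coh.structureModule X ⟶ L)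
    {W : X.Opens} (f : Γ(X, W)) (g : Γ(L, W))
    (hg : ∀ (O : X.Opens) (h : O ≤ W),
      Function.Bijective (fun r : Γ(X, O) => r • L.presheaf.map (homOfLE h).op g))
    (hs : sec s W = f • g) (x : X) (hxW : x ∈ W) (hx : x ∈ isoLocus s) : x ∈ X.basicOpen f := by
  set O : X.Opens := isoLocus s ⊓ W with hO
  have hOW : O ≤ W := inf_le_right
  haveI : IsIso (s.app O) := isIso_app_of_le_isoLocus s inf_le_left
  have hbij : Function.Bijective (s.app O).hom :=
    (ConcreteCategory.isIso_iff_bijective (s.app O)).mp inferInstance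
  have hsO : sec s O = (X.presheaf.map (homOfLE hOW).op).hom f • L.presheaf.map (homOfLE hOW).op g := by
    rw [← res_sec s (homOfLE hOW), hs]
    exact Scheme.Modules.map_smul L (homOfLE hOW) f g
  obtain ⟨a, ha⟩ := hbij.2 (L.presheaf.map (homOfLE hOW).op g)
  have ha' : ((show Γ(X, O) from a) * (X.presheaf.map (homOfLE hOW).op).hom f) •
      L.presheaf.map (homOfLE hOW).op g = (1 : Γ(X, O)) • L.presheaf.map (homOfLE hOW).op g := by
    rw [one_smul, mul_smul, ← hsO]
    exact (app_apply s O a).symm.trans ha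
  have h1 : (show Γ(X, O) from a) * (X.presheaf.map (homOfLE hOW).op).hom f = 1 := (hg O hOW).1 ha'
  have hu : IsUnit ((X.presheaf.map (homOfLE hOW).op).hom f) := IsUnit.of_mul_eq_one_right _ h1
  rw [X.mem_basicOpen f x hxW]
  have h2 := hu.map (X.presheaf.germ O x ⟨hx, hxW⟩).hom
  rwa [TopCat.Presheaf.germ_res_apply] at h2

end Main


/-- **an invertible module with a section vanishing exactly at a non-isolated closed point** -/
theorem exists_invertible_section_vanishing_at [IsNoetherian X] (hdim : topologicalKrullDim X ≤ 1)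
    (z : X) (hz : IsClosed ({z} : Set X)) (y : X) (hy : y ⤳ z) (hne : y ≠ z) :
    ∃ (L : X.Modules) (s : Coh.structureModule X ⟶ L), PicF.IsInvertible L ∧
      (∀ x : X, x ≠ z → x ∈ isoLocus s) ∧ z ∉ isoLocus s := by
  obtain ⟨W, f, hzW, hzf, hWf⟩ := exists_function_vanishing_only_at hdim z y hy hne
  let V : X.Opens := ⟨({z} : Set X)ᶜ, hz.isOpen_compl⟩
  obtain ⟨L, s, g, hL, hV, hg, hsW⟩ := exists_invertible_section W V f
    (fun x hxW hxV => hWf x hxW hxV)
    (fun x => by
      by_cases hx : x = z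
      · exact Or.inl (hx ▸ hzW)
      · exact Or.inr hx)
  exact ⟨L, s, hL, fun x hx => hV hx,
    fun h => hzf (mem_basicOpen_of_mem_isoLocus s f g hg hsW z hzW h)⟩

end Groth.Agent.Lib.Helper18.PtSection
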