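import Mathlib
import Groth.Agent.Lib.Helper18.PtSection
import Groth.Agent.Lib.Helper18.CurveDegPos
import Groth.Agent.Lib.Helper7.IntList6
import Groth.Agent.Lib.Helper7.Nakai8
import Groth.Agent.Lib.Helper11.PnImm
import Groth.Agent.Lib.Lead.ProperEuler
import Groth.Agent.Lib.Lead.CurveEuler

/-!
# Proper schemes of dimension `≤ 1` over a field are projective (helper18)

* `nefq_structureModule`, `exists_goodPt_of_curve` (the support of an integral curve in a scheme of dimension `≤ 1` is
  an irreducible component and contains a non-isolated closed point).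
* `exists_invertible_pos`: an invertible module with nonnegative degree on all integral curves and positive degree on
  the curves supported on a prescribed finite set of irreducible components (tensor product of the modules of
  `PtSection.exists_invertible_section_vanishing_at`, degrees by `CurveDegPos.nefq_of_section`).
* `exists_isAmple`: a proper `k`-scheme of dimension `≤ 1` has an ample invertible module (Nakai–Moishezon, helper7).
* `exists_closedImmersion` (= **S7645**): it admits a closed immersion into some `ℙᴺ_k` over `k` (helper11 `PnImm`).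
No Cohen–Macaulay / reducedness hypothesis is needed.
-/

set_option autoImplicit false
set_option linter.style.haveILetI false
universe u
open CategoryTheory CategoryTheory.Limits AlgebraicGeometry TopologicalSpace Opposite
open Scheme.Modules

namespace Groth.Agent.Lib.Helper18.CurveProj

open Groth.Agent.Lib.helper11.IsoLocus Groth.Agent.Lib.helper11.GenLocus
  Groth.Agent.Lib.helper11.InvMod Groth.Agent.Lib.Helper18.NefPull
  Groth.Agent.Lib.Lead.ModTensor Groth.Agent.Lib.Lead.DimOneAffine

variable (k : Type u) [Field k] (X : Scheme.{u}) [X.Over (Spec (CommRingCat.of k))]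
  [IsProper (X ↘ Spec (CommRingCat.of k))]

omit [IsProper (X ↘ Spec (CommRingCat.of k))] in
/-- `(O · C) = 0` -/
theorem nefq_structureModule (C : X.IdealSheafData) : nefq k X C (Coh.structureModule X) = 0 := by
  unfold nefq
  rw [Groth.Agent.Lib.Lead.CurveEuler.euler_eq_of_iso k X (rightUnitor (ClSub.quotMod C)), sub_self]

include k in
/-- the support of an integral curve in a scheme of dimension `≤ 1` is an irreducible component and contains a closed
point with a proper generization -/
theorem exists_goodPt_of_curve (hdim : topologicalKrullDim X ≤ 1) (C : X.IdealSheafData)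
    [IsIntegral C.subscheme] (hC : topologicalKrullDim (C.support : Set X) = 1) :
    (C.support : Set X) ∈ irreducibleComponents X ∧
      ∃ z ∈ (C.support : Set X), IsClosed ({z} : Set X) ∧ ∃ y : X, y ⤳ z ∧ y ≠ z := by
  haveI := Groth.Agent.Lib.Lead.ProperEuler.compactSpace k X
  set ι := C.subschemeι with hι
  set η : X := ι (genericPoint C.subscheme) with hη
  have hcl : closure ({η} : Set X) = (C.support : Set X) := by
    have h2 : closure ({genericPoint C.subscheme} : Set C.subscheme) = Set.univ :=
      genericPoint_spec C.subscheme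
    have h3 : ({η} : Set X) = ι '' {genericPoint C.subscheme} := by rw [Set.image_singleton]
    rw [h3, ι.isClosedEmbedding.closure_image_eq, h2, Set.image_univ, C.range_subschemeι]
  have hncl : ¬ IsClosed ({η} : Set X) := by
    intro h
    rw [h.closure_eq] at hcl
    have hsub : (C.support : Set X).Subsingleton := by
      rw [← hcl]
      exact Set.subsingleton_singleton
    haveI : Subsingleton ↥(C.support : Set X) := hsub.coe_sort
    have h2 : topologicalKrullDim ↥(C.support : Set X) ≤ 0 :=
      topologicalKrullDim_zero_of_discreteTopology _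
    rw [hC] at h2
    exact absurd h2 (by decide)
  have hgen : IsGen X η := by
    by_contra h
    exact hncl (isClosed_singleton_of_dim_le_one X hdim η h)
  refine ⟨by rw [← hcl]; exact hgen, ?_⟩
  obtain ⟨z, hzC, hz⟩ := C.support.isClosed.exists_closed_singleton ⟨η, by rw [← hcl]; exact subset_closure rfl⟩
  refine ⟨z, hzC, hz, η, ?_, fun h => hncl (h ▸ hz)⟩
  rw [specializes_iff_mem_closure, hcl]
  exact hzC

/-- an invertible module which has positive degree on the integral curves supported on a given finite set of
irreducible components, and nonnegative degree on all integral curves -/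
theorem exists_invertible_pos (hdim : topologicalKrullDim X ≤ 1) (𝒯 : Set (Set X)) (h𝒯 : 𝒯.Finite) :
    ∃ L : X.Modules, PicF.IsInvertible L ∧ ∀ C : X.IdealSheafData, IsIntegral C.subscheme →
      topologicalKrullDim (C.support : Set X) = 1 →
      0 ≤ nefq k X C L ∧ ((C.support : Set X) ∈ 𝒯 → 0 < nefq k X C L) := by
  haveI := Groth.Agent.Lib.Lead.CurveEuler.isNoetherian k X
  induction 𝒯, h𝒯 using Set.Finite.induction_on with
  | empty =>
    exact ⟨Coh.structureModule X, isInvertible_structureModule X, fun C _ _ =>
      ⟨by rw [nefq_structureModule], fun h => absurd h (Set.notMem_empty _)⟩⟩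
  | @insert T 𝒯 hT h𝒯 ih =>
    obtain ⟨L₀, hL₀, h₀⟩ := ih
    by_cases hgood : ∃ z ∈ T, IsClosed ({z} : Set X) ∧ ∃ y : X, y ⤳ z ∧ y ≠ z
    · obtain ⟨z, hzT, hz, y, hy, hne⟩ := hgood
      obtain ⟨L₁, s, hL₁, hs, hzs⟩ :=
        Groth.Agent.Lib.Helper18.PtSection.exists_invertible_section_vanishing_at hdim z hz y hy hne
      refine ⟨CohB1.tensorMod L₀ L₁, Groth.Agent.Lib.helper12.TensorInv.isInvertible_tensorMod hL₀ hL₁, fun C hCi hC => ?_⟩
      haveI := hCi
      rw [Groth.Agent.Lib.helper7.IntList.nefq_tensorMod k X hL₀ hL₁ C hC]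
      obtain ⟨h1, h2⟩ := h₀ C hCi hC
      obtain ⟨h3, h4⟩ := Groth.Agent.Lib.Helper18.CurveDegPos.nefq_of_section k X hL₁ s z hs C hC
      refine ⟨add_nonneg h1 h3, fun hmem => ?_⟩
      rcases hmem with hmem | hmem
      · have := h4 (hmem ▸ hzT) hzs
        linarith
      · have := h2 hmem
        linarith
    · refine ⟨L₀, hL₀, fun C hCi hC => ?_⟩
      haveI := hCi
      obtain ⟨h1, h2⟩ := h₀ C hCi hC
      refine ⟨h1, fun hmem => ?_⟩
      rcases hmem with hmem | hmem
      · exfalso
        obtain ⟨-, z, hzC, hz, y, hy, hne⟩ := exists_goodPt_of_curve k X hdim C hC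
        exact hgood ⟨z, hmem ▸ hzC, hz, y, hy, hne⟩
      · exact h2 hmem

include k in
/-- **a proper scheme of dimension `≤ 1` over a field has an ample invertible module** -/
theorem exists_isAmple (hdim : topologicalKrullDim X ≤ 1) : ∃ L : X.Modules, CohB1.IsAmple L := by
  haveI := Groth.Agent.Lib.Lead.CurveEuler.isNoetherian k X
  haveI : NoetherianSpace X := IsNoetherian.noetherianSpace (X := X)
  obtain ⟨L, hL, hpos⟩ := exists_invertible_pos k X hdim (irreducibleComponents X)
    NoetherianSpace.finite_irreducibleComponents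
  refine ⟨L, Groth.Agent.Lib.helper7.Nakai.isAmple_of_coeff_pos k X hL
    (fun Z hZ d hd0 hZd Q hQ => ?_)⟩
  haveI := hZ
  -- `d = 1`
  have hd1 : d = 1 := by
    have h1 : topologicalKrullDim ↥(Z.support : Set X) ≤ topologicalKrullDim X :=
      topologicalKrullDim_subspace_le _ _
    rw [hZd] at h1
    have h2 : ((d : ℕ) : WithBot ℕ∞) ≤ 1 := h1.trans hdim
    have h3 : d ≤ 1 := by exact_mod_cast h2
    omega
  subst hd1
  have hZd' : topologicalKrullDim ↥(Z.support : Set X) = 1 := by rw [hZd]; rfl
  have h1 := Groth.Agent.Lib.helper7.Nakai.nefq_eq_coeff_one k X Z hL hZd' Q hQ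
  have h2 := (hpos Z hZ hZd').2 (exists_goodPt_of_curve k X hdim Z hZd').1
  rw [← h1]
  exact_mod_cast h2

/-- **S7645**: a proper scheme of dimension `≤ 1` over a field is projective -/
theorem exists_closedImmersion (hdim : topologicalKrullDim X ≤ 1) :
    ∃ (n : ℕ) (i : X ⟶ CohB1.ProjSpace n k), IsClosedImmersion i ∧
      i ≫ CohB1.ProjSpace.toSpec n k = X ↘ (Spec (CommRingCat.of k)) := by
  obtain ⟨L, hL⟩ := exists_isAmple k X hdim
  obtain ⟨n₀, h⟩ := Groth.Agent.Lib.helper11.PnImm.isVeryAmpleProj_tensorPow_eventually
    (X ↘ Spec (CommRingCat.of k)) hL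
  obtain ⟨N, r, hr, hrq, -⟩ := (h n₀ le_rfl).exists_closedImmersion
  exact ⟨N, r, hr, hrq⟩

end Groth.Agent.Lib.Helper18.CurveProj
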