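import Mathlib
import Groth.Agent.Lib.Helper20.DualDev
import Groth.Agent.Lib.Helper27.AffStratVan5
import Groth.Agent.Lib.Lead.HilbPos5

set_option autoImplicit false
universe u
open CategoryTheory CategoryTheory.Limits AlgebraicGeometry TopologicalSpace Opposite

namespace Groth.Agent.Lib.Helper18.DualUniq

open Groth.Agent.Lib.Helper20.DualDev Groth.Agent.Lib.Helper18.HH

variable {X : Scheme.{u}} (k : Type u) [Field k] [X.Over (Spec (CommRingCat.of k))] {n : ℕ}

/-- **uniqueness of dualizing pairs, quasi-coherent form**: if `(ω', t')` is a dualizing pair with `ω'` coherent and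
`(ω, t)` is a dualizing pair (both for coherent modules) with `ω` quasi-coherent, then `ω' ≅ ω`; in particular `ω` is
coherent. -/
theorem nonempty_iso_of_good_coh [IsLocallyNoetherian X] [CompactSpace X] [QuasiSeparatedSpace X]
    {ω ω' : X.Modules} (t : Coh.HH X ω n →ₗ[k] k)
    (t' : Coh.HH X ω' n →ₗ[k] k) (hω' : Coh.IsCoh ω') (hω : ω.IsQuasicoherent)
    (h : ∀ F : X.Modules, Coh.IsCoh F → Good k t F)
    (h' : ∀ F : X.Modules, Coh.IsCoh F → Good k t' F) :
    ∃ b : ω' ≅ ω, Φ k t ω' b.hom = t' := by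
  obtain ⟨b, hb⟩ := (h ω' hω').2 t'
  have hcomp : ∀ {F : X.Modules} (φ : F ⟶ ω'), Φ k t F (φ ≫ b) = Φ k t' F φ := by
    intro F φ
    rw [Φ_comp, hb]
    rfl
  haveI : ω'.IsQuasicoherent := hω'.1
  -- `b` is a monomorphism
  haveI hmono : Mono b := by
    have hKq : (kernel b).IsQuasicoherent :=
      Groth.Agent.Lib.helper7.CohKer.isQuasicoherent_kernel b
    have hK : Coh.IsCoh (kernel b) :=
      Groth.Agent.Lib.Lead.HilbPos.isCoh_of_mono (kernel.ι b) hKq hω'
    have h0 : kernel.ι b = 0 := by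
      apply (h' _ hK).1
      rw [← hcomp, kernel.condition, Φ_zero, Φ_zero]
    exact Preadditive.mono_of_kernel_zero h0
  -- `b` is an epimorphism
  haveI hepi : Epi b := by
    obtain ⟨ι, E, i, -, hq, hft, hepi⟩ := Groth.Agent.Lib.helper27.AffStratVan.exists_epi_sigma_ft ω
    have hfac : ∀ j : ι, ∃ ψ : E j ⟶ ω', ψ ≫ b = i j := by
      intro j
      have hE : Coh.IsCoh (E j) := ⟨hq j, hft j⟩
      obtain ⟨ψ, hψ⟩ := (h' _ hE).2 (Φ k t (E j) (i j))
      refine ⟨ψ, (h _ hE).1 ?_⟩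
      rw [hcomp, hψ]
    choose ψ hψ using hfac
    have h1 : Sigma.desc ψ ≫ b = Sigma.desc i := by
      apply Sigma.hom_ext
      intro j
      rw [Sigma.ι_desc_assoc, Sigma.ι_desc, hψ]
    haveI : Epi (Sigma.desc ψ ≫ b) := by rw [h1]; exact hepi
    exact epi_of_epi (Sigma.desc ψ) b
  haveI : IsIso b := isIso_of_mono_of_epi b
  exact ⟨asIso b, hb⟩

end Groth.Agent.Lib.Helper18.DualUniq
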