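import Mathlib
import Groth.Agent.Lib.Helper20.DualProjCM
import Groth.Agent.Lib.Helper13.CurveDual12
import Groth.Agent.Lib.Helper18.CurveProj
import Groth.Agent.Lib.Helper18.DualUniq
import Groth.Agent.Lib.Helper20.EquidimClosedPt

set_option autoImplicit false
set_option linter.unusedSectionVars false
set_option linter.unusedVariables false
set_option linter.style.haveILetI false

universe u

open CategoryTheory Limits AlgebraicGeometry Opposite Abelian

namespace Groth.Agent.Lib.Helper18.CurveDualizing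

open Groth.Agent.Lib.Helper20.DualDev Groth.Agent.Lib.Helper20.DualProjCM
  Groth.Agent.Lib.Helper20.LargeTwist

attribute [local instance] HasDerivedCategory.standard

section Proj

attribute [local instance] Groth.Agent.Lib.helper21.ShHomCoh.hasInjRes
  Groth.Agent.Lib.Helper20.LargeTwist.hasSheafHom'

variable (k : Type u) [Field k] (N : ℕ) {X : Scheme.{u}} [X.Over (Spec (CommRingCat.of k))]
  (ι : X ⟶ CohB1.ProjSpace N k) [IsClosedImmersion ι]
  (hι : ι ≫ CohB1.ProjSpace.toSpec N k = X ↘ Spec (CommRingCat.of k))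

include hι in
/-- a closed subscheme of `ℙᴺ_k` of dimension `n` has a coherent dualizing pair (for coherent modules) -/
theorem exists_dualizing_coh_of_closedImmersion (n : ℕ) (hn : topologicalKrullDim ↥X = n) :
    ∃ (ω : X.Modules) (_ : Coh.IsCoh ω) (t : Coh.HH X ω n →ₗ[k] k),
      ∀ F : X.Modules, Coh.IsCoh F → Good k t F := by
  have hnN : n ≤ N := by
    have h1 : topologicalKrullDim ↥X ≤ topologicalKrullDim ↥(CohB1.ProjSpace N k) :=
      ι.isClosedEmbedding.topologicalKrullDim_le
    rw [hn, Groth.Agent.Lib.Helper18.ProjBasic.topologicalKrullDim_projSpace] at h1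
    exact_mod_cast h1
  have hvan : ∀ q : ℕ, q < N - n → IsZero ((ModSite.extSh (O := (CohB1.ProjSpace N k).sheaf)
      ((Scheme.Modules.pushforward ι).obj (Coh.structureModule X)) q).obj
        (Twist.twistProjSpace N k (-((N : ℤ) + 1)))) := by
    intro q hq
    refine isZero_extSh_push_of_lt_codim k N ι (N - n) ?_ q hq
    rw [hn]
    exact_mod_cast (show n + (N - n) ≤ N by omega)
  obtain ⟨ω, ⟨eω⟩⟩ := exists_omega k N ι (N - n)
  obtain ⟨t, ht⟩ := Groth.Agent.Lib.Helper20.DualProj.exists_dualizing k N ι hι n hnN hvan ω ⟨eω⟩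
  have hcohE : Coh.IsCoh ((ModSite.extSh (O := (CohB1.ProjSpace N k).sheaf)
      ((Scheme.Modules.pushforward ι).obj (Coh.structureModule X)) (N - n)).obj
        (Twist.twistProjSpace N k (-((N : ℤ) + 1)))) :=
    Groth.Agent.Lib.helper21.ShHomCoh.isCoh_T (N - n) _ _ _
      (isCoh_push_structureModule k N ι) (isCoh_twistProjSpace k N _)
  have hω : Coh.IsCoh ω := isCoh_of_isCoh_pushforward ι ω
    (Groth.Agent.Lib.helper21.ShHomCoh.isCoh_of_iso' eω.symm hcohE)
  exact ⟨ω, hω, t, ht⟩

end Proj

section Curve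

variable (k : Type u) [Field k] (X : Scheme.{u}) [X.Over (Spec (CommRingCat.of k))]
  [IsProper (X ↘ Spec (CommRingCat.of k))]
  [DCoh.HasRpush (X ↘ Spec (CommRingCat.of k))]
  (h : DCoh.RpushPreservesQCoh (X ↘ Spec (CommRingCat.of k)))
  [DCoh.HasShriek (X ↘ Spec (CommRingCat.of k)) h]
  (OY : DCoh.DQCoh (Spec (CommRingCat.of k)))
  (hOY : Nonempty (OY.obj ≅ DCoh.inD (Spec (CommRingCat.of k))
      (Coh.structureModule (Spec (CommRingCat.of k)))))

include hOY in
/-- the dualizing module of a proper scheme of dimension `≤ 1` over a field is coherent -/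
theorem isCoh_dualizingMod (hdim : topologicalKrullDim X ≤ 1) :
    Coh.IsCoh (DCoh.dualizingMod (X ↘ Spec (CommRingCat.of k)) h OY 1) := by
  have hωq : (DCoh.dualizingMod (X ↘ Spec (CommRingCat.of k)) h OY 1).IsQuasicoherent :=
    ((DCoh.shriek (X ↘ Spec (CommRingCat.of k)) h).obj OY).property (-1)
  by_cases h1 : topologicalKrullDim X = 1
  · obtain ⟨N, ι, hcl, hι⟩ := Groth.Agent.Lib.Helper18.CurveProj.exists_closedImmersion k X hdim
    obtain ⟨ω', hω', t', ht'⟩ := exists_dualizing_coh_of_closedImmersion k N ι hι 1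
      (by rw [h1]; rfl)
    obtain ⟨t, ht⟩ := Groth.Agent.Lib.helper13.CurveDual.exists_dualizing_pair k X hdim h OY hOY
    haveI := Groth.Agent.Lib.Lead.CurveEuler.isNoetherian k X
    obtain ⟨b, -⟩ := Groth.Agent.Lib.Helper18.DualUniq.nonempty_iso_of_good_coh k t t' hω' hωq
      (fun F hF => ht F hF.1) ht'
    exact Groth.Agent.Lib.helper21.ShHomCoh.isCoh_of_iso' b hω'
  · have h0 : topologicalKrullDim X ≤ ((0 : ℕ) : WithBot ℕ∞) := by
      have hlt : topologicalKrullDim X < 1 := lt_of_le_of_ne hdim h1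
      generalize topologicalKrullDim X = x at hlt
      induction x using WithBot.recBotCoe with
      | bot => exact bot_le
      | coe n =>
        have h2 : n < 1 := by exact_mod_cast hlt
        have h3 : n = 0 := Order.lt_one_iff.mp h2
        rw [h3]; rfl
    have hz := Groth.Agent.Lib.helper13.CurveDual.isZero_dualizingMod_of_dim_lt
      (X ↘ Spec (CommRingCat.of k)) h OY hOY 0 h0 1 one_pos
    exact Groth.Agent.Lib.helper7.CohKer.isCoh_of_isZero hz

end Curve

end Groth.Agent.Lib.Helper18.CurveDualizing
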