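import Mathlib
import Groth.Agent.Lib.Helper18.CurveDualizing
import Groth.Agent.Lib.Helper18.ExtUnit
import Groth.Agent.Lib.Helper8.DevInd

set_option autoImplicit false
set_option linter.unusedSectionVars false
set_option linter.unusedVariables false
set_option linter.style.haveILetI false

universe u

open CategoryTheory Limits AlgebraicGeometry Opposite Abelian

namespace Groth.Agent.Lib.Helper18.CurveSerre

open Groth.Agent.Lib.Helper20.DualDev Groth.Agent.Lib.Helper20.DualProjCM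
  Groth.Agent.Lib.Helper20.LargeTwist

attribute [local instance] HasDerivedCategory.standard

variable (k : Type u) [Field k] (X : Scheme.{u}) [X.Over (Spec (CommRingCat.of k))]
  [IsProper (X ↘ Spec (CommRingCat.of k))]
  [DCoh.HasRpush (X ↘ Spec (CommRingCat.of k))]
  (h : DCoh.RpushPreservesQCoh (X ↘ Spec (CommRingCat.of k)))
  [DCoh.HasShriek (X ↘ Spec (CommRingCat.of k)) h]
  (OY : DCoh.DQCoh (Spec (CommRingCat.of k)))
  (hOY : Nonempty (OY.obj ≅ DCoh.inD (Spec (CommRingCat.of k))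
      (Coh.structureModule (Spec (CommRingCat.of k)))))

include hOY in
/-- **Serre duality on a Cohen–Macaulay proper curve**, for the dualizing module `H^{-1}(f^! O)`:
`Ext^i(F, ω) ≃ₗ[k] H^{1-i}(X, F)^∨` for coherent `F`. -/
theorem ext_dual [HasExt.{u} X.Modules] (hdim : topologicalKrullDim X = 1)
    (hCM : ∀ x : X, IsClosed ({x} : Set X) →
      LocCoh.IsCohenMacaulayLocalRing (X.presheaf.stalk x))
    (hequi : ∀ Z ∈ irreducibleComponents (X : Type u), topologicalKrullDim Z = 1)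
    (F : X.Modules) (hF : Coh.IsCoh F) (i : ℕ) :
    (i ≤ 1 → Nonempty (Ext.{u} F (DCoh.dualizingMod (X ↘ Spec (CommRingCat.of k)) h OY 1) i ≃ₗ[k]
      Module.Dual k (Coh.HH X F (1 - i)))) ∧
    (1 < i → Subsingleton (Ext.{u} F (DCoh.dualizingMod (X ↘ Spec (CommRingCat.of k)) h OY 1) i)) := by
  obtain ⟨N, ι, hcl, hι⟩ := Groth.Agent.Lib.Helper18.CurveProj.exists_closedImmersion k X hdim.le
  obtain ⟨t, ht⟩ := Groth.Agent.Lib.helper13.CurveDual.exists_dualizing_pair k X hdim.le h OY hOY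
  have hω := Groth.Agent.Lib.Helper18.CurveDualizing.isCoh_dualizingMod k X h OY hOY hdim.le
  have hn : topologicalKrullDim ↥X = ((1 : ℕ) : WithBot ℕ∞) := by rw [hdim]; rfl
  have hequi' : ∀ Z : Set ↥X, Z ∈ irreducibleComponents ↥X →
      topologicalKrullDim ↥Z = ((1 : ℕ) : WithBot ℕ∞) := by
    intro Z hZ
    rw [hequi Z hZ]; rfl
  exact cm_ext_dual k N ι hι 1 hn
    (fun x hx => ⟨hCM x hx,
      Groth.Agent.Lib.Helper20.EquidimClosedPt.ringKrullDim_stalk_of_isClosed_of_closedImmersion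
        k N X ι hι 1 hequi' x hx⟩)
    _ hω t (fun F hF => ht F hF.1) F hF i

include hOY in
/-- `h^0(ω) = h^1(O)` and `h^1(ω) = h^0(O)` on a Cohen–Macaulay proper curve -/
theorem finrank_HH_dualizingMod (hdim : topologicalKrullDim X = 1)
    (hCM : ∀ x : X, IsClosed ({x} : Set X) →
      LocCoh.IsCohenMacaulayLocalRing (X.presheaf.stalk x))
    (hequi : ∀ Z ∈ irreducibleComponents (X : Type u), topologicalKrullDim Z = 1) :
    Module.finrank k (Coh.HH X (DCoh.dualizingMod (X ↘ Spec (CommRingCat.of k)) h OY 1) 0) =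
        Module.finrank k (Coh.HH X (Coh.structureModule X) 1) ∧
      Module.finrank k (Coh.HH X (DCoh.dualizingMod (X ↘ Spec (CommRingCat.of k)) h OY 1) 1) =
        Module.finrank k (Coh.HH X (Coh.structureModule X) 0) := by
  haveI : HasExt.{u} X.Modules := hasExt_modules X
  have hO : Coh.IsCoh (Coh.structureModule X) := Groth.Agent.Lib.helper8.Dev.isCoh_structureModule X
  obtain ⟨e0⟩ := (ext_dual k X h OY hOY hdim hCM hequi _ hO 0).1 zero_le_one
  obtain ⟨e1⟩ := (ext_dual k X h OY hOY hdim hCM hequi _ hO 1).1 le_rfl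
  obtain ⟨u0⟩ := Groth.Agent.Lib.Helper18.ExtUnit.ext_unit_linearEquiv k
    (DCoh.dualizingMod (X ↘ Spec (CommRingCat.of k)) h OY 1) 0
  obtain ⟨u1⟩ := Groth.Agent.Lib.Helper18.ExtUnit.ext_unit_linearEquiv k
    (DCoh.dualizingMod (X ↘ Spec (CommRingCat.of k)) h OY 1) 1
  constructor
  · rw [← u0.finrank_eq, e0.finrank_eq, Subspace.dual_finrank_eq]
  · rw [← u1.finrank_eq, e1.finrank_eq, Subspace.dual_finrank_eq]

end Groth.Agent.Lib.Helper18.CurveSerre
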