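import Mathlib
import Groth.Agent.Lib.Helper18.AdjA
import Groth.Agent.Lib.Helper18.AdjB
import Groth.Agent.Lib.Helper18.AdjC0
import Groth.Agent.Lib.Helper18.NefPull
import Groth.Agent.Lib.Helper18.RegPoint
import Groth.Agent.Lib.Helper18.CurveDualizing
import Groth.Agent.S1656
import Groth.Agent.Lib.Helper18.NefH1Zero

/-!
# Adjunction on reduced Gorenstein curves, part C (helper18)

`X` proper, reduced, connected of dimension one over an algebraically closed field, with invertible
dualizing module `ω`.  For a connected subcurve `Y = V(J)` (reduced, connected, of dimension one):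
`deg(ω|_Y) = 2 g_Y - 2 + k_Y`, `k_Y` the length of `Y ∩ closure (X ∖ Y)`.
-/

set_option autoImplicit false
set_option linter.unusedSectionVars false
set_option linter.unusedVariables false
set_option linter.style.haveILetI false

universe u

open CategoryTheory Limits AlgebraicGeometry Opposite TopologicalSpace

namespace Groth.Agent.Lib.Helper18.AdjC

open Groth.Agent.Lib.Helper18.AdjA Groth.Agent.Lib.Helper18.AdjB Groth.Agent.Lib.Helper18.NefPull
  Groth.Agent.Lib.Helper20.DualDev Module

attribute [local instance] HasDerivedCategory.standard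
attribute [local instance] Groth.Agent.Lib.Helper18.SubE.overSub

section General

variable (k : Type u) [Field k] (X : Scheme.{u}) [X.Over (Spec (CommRingCat.of k))]
  [IsProper (X ↘ Spec (CommRingCat.of k))]

/-- the length of the intersection of a subcurve with the complementary subcurve -/
noncomputable abbrev kJ (J : X.IdealSheafData) : ℕ :=
  finrank k (Coh.HH X (ClSub.quotMod (J ⊔ compl J)) 0)

/-- the genus of a subcurve -/
noncomputable abbrev gJ (J : X.IdealSheafData) : ℕ := Curv2.genus k J.subscheme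

instance isProper_sub (J : X.IdealSheafData) :
    IsProper (J.subscheme ↘ Spec (CommRingCat.of k)) := by
  change IsProper (J.subschemeι ≫ (X ↘ Spec (CommRingCat.of k)))
  infer_instance

/-- `χ(X, O/J) = χ(Y, O_Y)` -/
theorem euler_quotMod (J : X.IdealSheafData) :
    Curv2.euler k X (ClSub.quotMod J) =
      Curv2.euler k J.subscheme (Coh.structureModule J.subscheme) :=
  Groth.Agent.Lib.Helper18.PullEuler.euler_push k J.subschemeι rfl
    (Coh.structureModule J.subscheme)

/-- `χ(X, O/J) = 1 - g_Y` for a connected reduced subcurve over an algebraically closed field -/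
theorem euler_quotMod_eq [IsAlgClosed k] (hdim : topologicalKrullDim X ≤ 1) (J : X.IdealSheafData)
    [IsReduced J.subscheme] [ConnectedSpace J.subscheme] :
    Curv2.euler k X (ClSub.quotMod J) = 1 - (gJ k X J : ℤ) := by
  rw [euler_quotMod]
  have hdimY : topologicalKrullDim J.subscheme ≤ 1 :=
    (J.subschemeι.isClosedEmbedding.topologicalKrullDim_le).trans hdim
  rw [Groth.Agent.Lib.Lead.CurveEuler.euler_eq k J.subscheme hdimY _ inferInstance,
    Groth.Agent.Lib.Helper18.AdjC0.finrank_H0_eq_one k J.subscheme]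
  unfold gJ Curv2.genus
  push_cast
  ring

/-- `toSubscheme I = 0` forces `I = ⊤` -/
theorem eq_top_of_toSubscheme_eq_zero {X : Scheme.{u}} (I : X.IdealSheafData)
    (h0 : ClSub.toSubscheme I = 0) : I = ⊤ := by
  apply Scheme.IdealSheafData.ext
  funext U
  rw [Scheme.IdealSheafData.ideal_top]
  change I.ideal U = ⊤
  rw [Ideal.eq_top_iff_one, ← I.ker_subschemeι_app U, RingHom.mem_ker]
  have := congrArg (fun f => (Scheme.Modules.Hom.app f U.1).hom (1 : Γ(X, U.1))) h0
  exact this

/-- `h⁰(O/I) ≥ 1` if `V(I)` is nonempty -/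
theorem finrank_H0_quotMod_pos (I : X.IdealSheafData) (hne : (I.support : Set X).Nonempty) :
    0 < finrank k (Coh.HH X (ClSub.quotMod I) 0) := by
  haveI := Groth.Agent.Lib.Lead.CurveEuler.isNoetherian k X
  have hQc : Coh.IsCoh (ClSub.quotMod I) := Groth.Agent.Lib.helper7.SnapperQuot.isCoh_quotMod I
  haveI : Module.Finite k (Coh.HH X (ClSub.quotMod I) 0) :=
    Groth.Agent.Lib.Lead.ProperEuler.finite_HH k X _ hQc 0
  have hne0 : ClSub.toSubscheme I ≠ 0 := by
    intro h0
    have := eq_top_of_toSubscheme_eq_zero I h0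
    rw [this, Scheme.IdealSheafData.support_top] at hne
    obtain ⟨x, hx⟩ := hne
    exact hx
  haveI := Groth.Agent.Lib.Helper18.NefH1Zero.nontrivial_H0_of_hom_ne_zero X _ hne0
  exact Module.finrank_pos

/-- `1 ≤ k_Y` if `Y ≠ X` (`X` connected) -/
theorem one_le_kJ [ConnectedSpace X] (J : X.IdealSheafData) [Nonempty J.subscheme]
    (hne : (J.support : Set X) ≠ Set.univ) : 1 ≤ kJ k X J := by
  haveI := Groth.Agent.Lib.Lead.CurveEuler.isNoetherian k X
  have h1 := support_sup_nonempty J hne
  rw [sup_comm] at h1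
  exact finrank_H0_quotMod_pos k X _ h1

/-- if `V(J) = X` then `χ(O/J ⊗ L) = χ(L)` -/
theorem euler_quot_tensor_of_support_eq_univ [IsReduced X] (J : X.IdealSheafData)
    [IsReduced J.subscheme] (hJ : (J.support : Set X) = Set.univ) {L : X.Modules} (hL : PicF.IsInvertible L) :
    Curv2.euler k X (CohB1.tensorMod (ClSub.quotMod J) L) = Curv2.euler k X L := by
  haveI := Groth.Agent.Lib.Lead.CurveEuler.isNoetherian k X
  have hK : compl J = ⊤ := compl_eq_top J hJ
  have hKJ : compl J ⊔ J = compl J := by rw [hK]; exact top_sup_eq J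
  have hfin : topologicalKrullDim ((compl J ⊔ J).support : Set X) ≤ 0 := by
    rw [hKJ, hK, Scheme.IdealSheafData.support_top]
    refine dim_le_zero_of_forall_isClosed _ isClosed_empty (fun x hx => ?_)
    exact (hx : x ∈ (∅ : Set X)).elim
  have e1 := euler_sum k (compl J) J (inf_compl_eq_bot J) hfin hL
  have e2 := euler_quot_tensor' k hL (compl J) J hfin hL
  rw [hKJ] at e2
  rw [hKJ] at e1
  linarith

/-- if `V(J) = X` then `deg(L|_Y) = deg L` -/
theorem nefq_of_support_eq_univ [IsReduced X] (J : X.IdealSheafData)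
    [IsReduced J.subscheme] (hJ : (J.support : Set X) = Set.univ) {L : X.Modules} (hL : PicF.IsInvertible L) :
    nefq k X J L = Curv2.deg k X L 1 := by
  unfold nefq Curv2.deg
  have hO := Groth.Agent.Lib.helper11.InvMod.isInvertible_structureModule X
  have e1 := euler_quot_tensor_of_support_eq_univ k X J hJ hL
  have e2 := euler_quot_tensor_of_support_eq_univ k X J hJ hO
  have r1 : Curv2.euler k X (CohB1.tensorMod (ClSub.quotMod J) (Coh.structureModule X)) =
      Curv2.euler k X (ClSub.quotMod J) :=
    Groth.Agent.Lib.Lead.CurveEuler.euler_eq_of_iso k X (Groth.Agent.Lib.Lead.ModTensor.rightUnitor _)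
  rw [r1] at e2
  rw [e1, e2]
  push_cast
  ring

/-- `χ(O_X) = 1 - g` -/
theorem euler_structureModule [IsAlgClosed k] [IsReduced X] [ConnectedSpace X]
    (hdim : topologicalKrullDim X ≤ 1) :
    Curv2.euler k X (Coh.structureModule X) = 1 - (Curv2.genus k X : ℤ) := by
  rw [Groth.Agent.Lib.Lead.CurveEuler.euler_eq k X hdim _ inferInstance,
    Groth.Agent.Lib.Helper18.AdjC0.finrank_H0_eq_one k X]
  unfold Curv2.genus
  push_cast
  ring

/-- if `V(J) = X` then `g_Y = g` -/
theorem gJ_of_support_eq_univ [IsAlgClosed k] [IsReduced X] [ConnectedSpace X]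
    (hdim : topologicalKrullDim X ≤ 1) (J : X.IdealSheafData)
    [IsReduced J.subscheme] [ConnectedSpace J.subscheme]
    (hJ : (J.support : Set X) = Set.univ) : (gJ k X J : ℤ) = (Curv2.genus k X : ℤ) := by
  have hO := Groth.Agent.Lib.helper11.InvMod.isInvertible_structureModule X
  have e2 := euler_quot_tensor_of_support_eq_univ k X J hJ hO
  have r1 : Curv2.euler k X (CohB1.tensorMod (ClSub.quotMod J) (Coh.structureModule X)) =
      Curv2.euler k X (ClSub.quotMod J) :=
    Groth.Agent.Lib.Lead.CurveEuler.euler_eq_of_iso k X (Groth.Agent.Lib.Lead.ModTensor.rightUnitor _)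
  rw [r1, euler_quotMod_eq k X hdim J, euler_structureModule k X hdim] at e2
  linarith

end General

section Gor

variable (k : Type u) [Field k] (X : Scheme.{u}) [X.Over (Spec (CommRingCat.of k))]
  [IsProper (X ↘ Spec (CommRingCat.of k))] [IsReduced X] [ConnectedSpace X]
  (hdim : topologicalKrullDim X = 1)
  [DCoh.HasRpush (X ↘ Spec (CommRingCat.of k))]
  (h : DCoh.RpushPreservesQCoh (X ↘ Spec (CommRingCat.of k)))
  [DCoh.HasShriek (X ↘ Spec (CommRingCat.of k)) h]
  (OY : DCoh.DQCoh (Spec (CommRingCat.of k)))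
  (hOY : Nonempty (OY.obj ≅ DCoh.inD (Spec (CommRingCat.of k))
      (Coh.structureModule (Spec (CommRingCat.of k)))))
  (hGor : PicF.IsInvertible (DCoh.dualizingMod (X ↘ Spec (CommRingCat.of k)) h OY 1))

include hdim hOY in
/-- `χ(ω) = -χ(O)` on a reduced connected proper curve -/
theorem euler_dualizingMod :
    Curv2.euler k X (DCoh.dualizingMod (X ↘ Spec (CommRingCat.of k)) h OY 1) =
      - Curv2.euler k X (Coh.structureModule X) := by
  haveI := Groth.Agent.Lib.Lead.CurveEuler.isNoetherian k X
  have hCM : ∀ x : X, LocCoh.IsCohenMacaulayLocalRing (X.presheaf.stalk x) := fun x =>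
    Groth.Agent.Lib.Helper18.AdjC0.isCohenMacaulayLocalRing_of_isReduced _
      ((Groth.Agent.Lib.Helper18.RegPoint.ringKrullDim_stalk_le x).trans hdim.le)
  have hequi : ∀ Z ∈ irreducibleComponents (X : Type u), topologicalKrullDim Z = 1 := fun Z hZ =>
    Groth.Agent.Lib.Helper18.EquiDim.topologicalKrullDim_irreducibleComponent hdim Z hZ
  have := Groth.Agent.S1656.result k X hCM hequi h OY hOY
  linarith

include hdim hOY hGor in
/-- **adjunction** in Euler characteristic form -/
theorem euler_quot_omega (J : X.IdealSheafData) [IsReduced J.subscheme]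
    [ConnectedSpace J.subscheme] (hJ : topologicalKrullDim J.subscheme = 1) :
    Curv2.euler k X (CohB1.tensorMod (ClSub.quotMod J)
        (DCoh.dualizingMod (X ↘ Spec (CommRingCat.of k)) h OY 1)) =
      - Curv2.euler k X (ClSub.quotMod J) + (kJ k X J : ℤ) := by
  haveI := Groth.Agent.Lib.Lead.CurveEuler.isNoetherian k X
  have hω := Groth.Agent.Lib.Helper18.CurveDualizing.isCoh_dualizingMod k X h OY hOY hdim.le
  obtain ⟨t, ht⟩ := Groth.Agent.Lib.helper13.CurveDual.exists_dualizing_pair k X hdim.le h OY hOY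
  have hgood : ∀ F : X.Modules, Coh.IsCoh F → Good k t F := fun F hF => ht F hF.1
  have hχ := euler_dualizingMod k X hdim h OY hOY
  have key := euler_quot_omega_eq k hdim.le hω hGor t hgood hχ (compl J) J (inf_compl_eq_bot J)
    {η | ¬ IsClosed ({η} : Set X) ∧ η ∈ J.support}
    {η | ¬ IsClosed ({η} : Set X) ∧ η ∉ J.support}
    (fun η hη => hη.2)
    (fun x hx => by
      obtain ⟨η, hη, hsp⟩ := exists_specializes_sub J hJ x hx
      exact ⟨η, hη, hsp⟩)
    (fun η hη => not_mem_compl_support J hdim.le η hη.1 hη.2)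
    (fun η hη => by
      change η ∈ ((compl J).support : Set X)
      rw [coe_support_compl]
      exact subset_closure hη.2)
    (fun x hx => by
      obtain ⟨η, hη, hsp⟩ := exists_specializes_compl J hdim x hx
      exact ⟨η, hη, hsp⟩)
    (fun η hη => hη.2)
    (dim_support_sup_le J hdim.le)
  rw [key]
  unfold kJ
  rw [sup_comm]

include hdim hOY hGor in
/-- **adjunction**: `deg(ω|_Y) = 2 g_Y - 2 + k_Y` -/
theorem nefq_omega [IsAlgClosed k] (J : X.IdealSheafData) [IsReduced J.subscheme]
    [ConnectedSpace J.subscheme] (hJ : topologicalKrullDim J.subscheme = 1) :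
    nefq k X J (DCoh.dualizingMod (X ↘ Spec (CommRingCat.of k)) h OY 1) =
      2 * (gJ k X J : ℤ) - 2 + (kJ k X J : ℤ) := by
  unfold nefq
  rw [euler_quot_omega k X hdim h OY hOY hGor J hJ, euler_quotMod_eq k X hdim.le J]
  ring

include hdim hOY in
/-- `deg ω = 2g - 2` -/
theorem deg_omega [IsAlgClosed k] :
    Curv2.deg k X (DCoh.dualizingMod (X ↘ Spec (CommRingCat.of k)) h OY 1) 1 =
      2 * (Curv2.genus k X : ℤ) - 2 := by
  unfold Curv2.deg
  rw [euler_dualizingMod k X hdim h OY hOY, euler_structureModule k X hdim.le]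
  push_cast
  ring

end Gor

end Groth.Agent.Lib.Helper18.AdjC
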