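import Mathlib
import Groth.Agent.Lib.Helper18.AdjC

/-!
# Adjunction on reduced Gorenstein curves, part D (helper18): statement-form package
-/

set_option autoImplicit false
set_option linter.unusedSectionVars false
set_option linter.unusedVariables false
set_option linter.style.haveILetI false

universe u

open CategoryTheory Limits AlgebraicGeometry Opposite TopologicalSpace

namespace Groth.Agent.Lib.Helper18.AdjD

open Groth.Agent.Lib.Helper18.AdjA Groth.Agent.Lib.Helper18.AdjB Groth.Agent.Lib.Helper18.AdjC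
  Groth.Agent.Lib.Helper18.NefPull Module

attribute [local instance] HasDerivedCategory.standard

variable (k : Type u) [Field k] [IsAlgClosed k] (X : Scheme.{u}) [X.Over (Spec (CommRingCat.of k))]
  [IsProper (X ↘ Spec (CommRingCat.of k))] [IsReduced X] [ConnectedSpace X]
  (hdim : topologicalKrullDim X = 1)
  [DCoh.HasRpush (X ↘ Spec (CommRingCat.of k))]
  (h : DCoh.RpushPreservesQCoh (X ↘ Spec (CommRingCat.of k)))
  [DCoh.HasShriek (X ↘ Spec (CommRingCat.of k)) h]
  (OY : DCoh.DQCoh (Spec (CommRingCat.of k)))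
  (hOY : Nonempty (OY.obj ≅ DCoh.inD (Spec (CommRingCat.of k))
      (Coh.structureModule (Spec (CommRingCat.of k)))))
  (hGor : PicF.IsInvertible (DCoh.dualizingMod (X ↘ Spec (CommRingCat.of k)) h OY 1))

include hdim hOY hGor in
/-- **adjunction**, in the form of the statements -/
theorem adjunction (J : X.IdealSheafData) (hJr : IsReduced J.subscheme)
    (hJc : ConnectedSpace J.subscheme) (hJd : topologicalKrullDim J.subscheme = 1) :
    @Curv2.deg k _ J.subscheme ⟨J.subschemeι ≫ (X ↘ Spec (CommRingCat.of k))⟩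
      ((Scheme.Modules.pullback J.subschemeι).obj
        (DCoh.dualizingMod (X ↘ Spec (CommRingCat.of k)) h OY 1)) 1 =
      2 * (@Curv2.genus k _ J.subscheme ⟨J.subschemeι ≫ (X ↘ Spec (CommRingCat.of k))⟩ : ℤ) - 2 +
        (finrank k (Coh.HH X (ClSub.quotMod (J ⊔ (Scheme.IdealSheafData.vanishingIdeal
          ⟨closure ((J.support : Set X)ᶜ), isClosed_closure⟩))) 0) : ℤ) := by
  rw [← nefq_eq_deg k X J _ (Groth.Agent.Lib.helper16.FLF.isFinLocFree_of_isInvertible hGor)]
  exact nefq_omega k X hdim h OY hOY hGor J hJd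

include hdim in
/-- a subcurve with `k_Y = 0` is all of `X` -/
theorem of_kJ_eq_zero (J : X.IdealSheafData) (hJr : IsReduced J.subscheme)
    (hJc : ConnectedSpace J.subscheme) (hJd : topologicalKrullDim J.subscheme = 1)
    (hk : (finrank k (Coh.HH X (ClSub.quotMod (J ⊔ (Scheme.IdealSheafData.vanishingIdeal
          ⟨closure ((J.support : Set X)ᶜ), isClosed_closure⟩))) 0) : ℤ) = 0) :
    (@Curv2.genus k _ J.subscheme ⟨J.subschemeι ≫ (X ↘ Spec (CommRingCat.of k))⟩ : ℤ) =
        (Curv2.genus k X : ℤ) ∧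
      ∀ L : X.Modules, PicF.IsInvertible L →
        @Curv2.deg k _ J.subscheme ⟨J.subschemeι ≫ (X ↘ Spec (CommRingCat.of k))⟩
          ((Scheme.Modules.pullback J.subschemeι).obj L) 1 = Curv2.deg k X L 1 := by
  have hJ : (J.support : Set X) = Set.univ := by
    by_contra hne
    have := one_le_kJ k X J hne
    have h0 : kJ k X J = 0 := by exact_mod_cast hk
    omega
  refine ⟨gJ_of_support_eq_univ k X hdim.le J hJ, fun L hL => ?_⟩
  rw [← nefq_eq_deg k X J _ (Groth.Agent.Lib.helper16.FLF.isFinLocFree_of_isInvertible hL)]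
  exact nefq_of_support_eq_univ k X J hJ hL

include hdim hOY hGor in
/-- the numerical package attached to a connected subcurve -/
theorem package {L : X.Modules} (hL : PicF.IsInvertible L) (J : X.IdealSheafData)
    (hJr : IsReduced J.subscheme) (hJc : ConnectedSpace J.subscheme)
    (hJd : topologicalKrullDim J.subscheme = 1) :
    ∃ gJ kJ dJ wJ : ℤ,
      (@Curv2.genus k _ J.subscheme ⟨J.subschemeι ≫ (X ↘ Spec (CommRingCat.of k))⟩ : ℤ) = gJ ∧
      (finrank k (Coh.HH X (ClSub.quotMod (J ⊔ (Scheme.IdealSheafData.vanishingIdeal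
          ⟨closure ((J.support : Set X)ᶜ), isClosed_closure⟩))) 0) : ℤ) = kJ ∧
      @Curv2.deg k _ J.subscheme ⟨J.subschemeι ≫ (X ↘ Spec (CommRingCat.of k))⟩
          ((Scheme.Modules.pullback J.subschemeι).obj L) 1 = dJ ∧
      @Curv2.deg k _ J.subscheme ⟨J.subschemeι ≫ (X ↘ Spec (CommRingCat.of k))⟩
          ((Scheme.Modules.pullback J.subschemeι).obj
            (DCoh.dualizingMod (X ↘ Spec (CommRingCat.of k)) h OY 1)) 1 = wJ ∧
      0 ≤ gJ ∧ 0 ≤ kJ ∧ wJ = 2 * gJ - 2 + kJ ∧
      (kJ = 0 → gJ = (Curv2.genus k X : ℤ) ∧ dJ = Curv2.deg k X L 1 ∧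
        wJ = 2 * (Curv2.genus k X : ℤ) - 2) := by
  refine ⟨_, _, _, _, rfl, rfl, rfl, rfl, Int.natCast_nonneg _, Int.natCast_nonneg _,
    adjunction k X hdim h OY hOY hGor J hJr hJc hJd, fun hk => ?_⟩
  obtain ⟨h1, h2⟩ := of_kJ_eq_zero k X hdim J hJr hJc hJd hk
  refine ⟨h1, h2 L hL, ?_⟩
  rw [h2 _ hGor]
  exact deg_omega k X hdim h OY hOY

end Groth.Agent.Lib.Helper18.AdjD
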