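import Mathlib
import Groth.Agent.Lib.Helper18.SubH
import Groth.Agent.Lib.Helper11.HensGamma

/-!
# Subcurve duality, part I (helper18): cutting down the support with an idempotent

In the setting of parts G and H, if `Y = V(J)` is the disjoint union of two nonempty opens `A`, `B`,
the idempotent `e` of `A` gives `φ₁ = (I_Z ⊗ L ↠ I' ⊗ L) ≫ e ≫ φ'` whose stalk maps at the non-closed
points vanish off `S ∩ A`, and agree with those of `φ` on `S ∩ A` (`exists_smaller`).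
-/

set_option autoImplicit false
set_option linter.unusedSectionVars false
set_option linter.unusedVariables false
set_option linter.style.haveILetI false

universe u

open CategoryTheory Limits AlgebraicGeometry Opposite TopologicalSpace

namespace Groth.Agent.Lib.Helper18.SubI

open Scheme.Modules Groth.Agent.Lib.helper7.IdealMod Groth.Agent.Lib.Helper18.SubF
  Groth.Agent.Lib.Helper18.SubB Groth.Agent.Lib.helper17.FlatOver7
  Groth.Agent.Lib.Lead.ModTensor Groth.Agent.Lib.Helper20.DualDev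
  Groth.Agent.Lib.Helper18.SubG Groth.Agent.Lib.Helper18.SubC Groth.Agent.Lib.Helper18.SubD
  Groth.Agent.Lib.Helper18.SubE Groth.Agent.Lib.Helper18.SubH

section Idem

variable {Y : Scheme.{u}}

theorem exists_idem_top (A B : Y.Opens) (hAB : A ⊓ B = ⊥) (hsup : A ⊔ B = ⊤) :
    ∃ e : Γ(Y, ⊤), Y.presheaf.map (homOfLE (le_top : A ≤ ⊤)).op e = 1 ∧
      Y.presheaf.map (homOfLE (le_top : B ≤ ⊤)).op e = 0 := by
  obtain ⟨e, h1, h2⟩ := Groth.Agent.Lib.helper11.HensGamma.exists_idem A B hAB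
  have key : ∀ (U : Y.Opens) (hU : U = ⊤) (hA : A ≤ U) (hB : B ≤ U) (e : Γ(Y, U)),
      Y.presheaf.map (homOfLE hA).op e = 1 → Y.presheaf.map (homOfLE hB).op e = 0 →
      ∃ e' : Γ(Y, ⊤), Y.presheaf.map (homOfLE (le_top : A ≤ ⊤)).op e' = 1 ∧
        Y.presheaf.map (homOfLE (le_top : B ≤ ⊤)).op e' = 0 := by
    intro U hU
    subst hU
    intro hA hB e h1 h2
    exact ⟨e, h1, h2⟩
  exact key _ hsup le_sup_left le_sup_right e h1 h2

theorem res_eq_one_of_le (A V : Y.Opens) (hV : V ≤ A) (e : Γ(Y, ⊤))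
    (h : Y.presheaf.map (homOfLE (le_top : A ≤ ⊤)).op e = 1) :
    Y.presheaf.map (homOfLE (le_top : V ≤ ⊤)).op e = 1 := by
  have h1 : Y.presheaf.map (homOfLE (le_top : V ≤ ⊤)).op e =
      Y.presheaf.map (homOfLE hV).op (Y.presheaf.map (homOfLE (le_top : A ≤ ⊤)).op e) :=
    (Groth.Agent.Lib.Helper18.InvGen.map_map' _ _ e).symm
  rw [h1, h, map_one]

theorem res_eq_zero_of_le (A V : Y.Opens) (hV : V ≤ A) (e : Γ(Y, ⊤))
    (h : Y.presheaf.map (homOfLE (le_top : A ≤ ⊤)).op e = 0) :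
    Y.presheaf.map (homOfLE (le_top : V ≤ ⊤)).op e = 0 := by
  have h1 : Y.presheaf.map (homOfLE (le_top : V ≤ ⊤)).op e =
      Y.presheaf.map (homOfLE hV).op (Y.presheaf.map (homOfLE (le_top : A ≤ ⊤)).op e) :=
    (Groth.Agent.Lib.Helper18.InvGen.map_map' _ _ e).symm
  rw [h1, h, map_zero]

end Idem

section ActStalk

variable {X : Scheme.{u}} (J : X.IdealSheafData) (G : X.Modules)
  [hu : IsIso ((pullbackPushforwardAdjunction J.subschemeι).unit.app G)]

theorem stalkAdd_act_of_eq_one (a : Coh.Γtop J.subscheme) (W₀ : X.Opens)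
    (h1 : ∀ V : J.subscheme.Opens, V ≤ J.subschemeι ⁻¹ᵁ W₀ →
      J.subscheme.presheaf.map (homOfLE (le_top : V ≤ ⊤)).op a = 1)
    (η : X) (hη : η ∈ W₀) (y : G.presheaf.stalk η) : stalkAdd (act J G a) η y = y := by
  obtain ⟨W, hηW, s, rfl⟩ := G.presheaf.exists_germ_eq y
  have hη' : η ∈ W ⊓ W₀ := ⟨hηW, hη⟩
  have e1 : (G.presheaf.germ W η hηW).hom s =
      (G.presheaf.germ (W ⊓ W₀) η hη').hom (G.presheaf.map (homOfLE inf_le_left).op s) :=
    (TopCat.Presheaf.germ_res_apply G.presheaf (homOfLE inf_le_left) η hη' s).symm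
  rw [e1, stalkAdd_germ, act_app_of_res_eq_one J G a (W ⊓ W₀)
    (h1 _ (fun z hz => (show J.subschemeι z ∈ W ⊓ W₀ from hz).2))]

theorem stalkAdd_act_of_eq_zero (a : Coh.Γtop J.subscheme) (W₀ : X.Opens)
    (h1 : ∀ V : J.subscheme.Opens, V ≤ J.subschemeι ⁻¹ᵁ W₀ →
      J.subscheme.presheaf.map (homOfLE (le_top : V ≤ ⊤)).op a = 0)
    (η : X) (hη : η ∈ W₀) (y : G.presheaf.stalk η) : stalkAdd (act J G a) η y = 0 := by
  obtain ⟨W, hηW, s, rfl⟩ := G.presheaf.exists_germ_eq y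
  have hη' : η ∈ W ⊓ W₀ := ⟨hηW, hη⟩
  have e1 : (G.presheaf.germ W η hηW).hom s =
      (G.presheaf.germ (W ⊓ W₀) η hη').hom (G.presheaf.map (homOfLE inf_le_left).op s) :=
    (TopCat.Presheaf.germ_res_apply G.presheaf (homOfLE inf_le_left) η hη' s).symm
  rw [e1, stalkAdd_germ, act_app_of_res_eq_zero J G a (W ⊓ W₀)
    (h1 _ (fun z hz => (show J.subschemeι z ∈ W ⊓ W₀ from hz).2)), map_zero]

end ActStalk

variable (k : Type u) [Field k] {X : Scheme.{u}} [X.Over (Spec (CommRingCat.of k))]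
  [IsProper (X ↘ Spec (CommRingCat.of k))] [IsReduced X]
  {L : X.Modules} (hL : PicF.IsInvertible L)
  (Z : X.IdealSheafData)
  {ω : X.Modules}
  (J : X.IdealSheafData) [IsReduced J.subscheme] (S : Set X)
  (hS : S ⊆ J.support)
  (hgen : ∀ x ∈ J.support, ∃ η ∈ S, η ⤳ x)
  (φ : CohB1.tensorMod (ClSub.idealMod Z) L ⟶ ω)
  (hφS : ∀ η ∈ S, ∃ m, stalkAdd φ η m ≠ 0)
  (hφn : ∀ η : X, ¬ IsClosed ({η} : Set X) → η ∉ S → ∀ m, stalkAdd φ η m = 0)
  (φ' : GG Z J L ⟶ ω) (hfac : pp Z J L ≫ φ' = φ)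

include hS hgen in
/-- a nonempty open of `Y` contains a point over `S`, together with an open of `X` cutting it out -/
theorem exists_mem_S_of_open (A : J.subscheme.Opens) (hA : (A : Set J.subscheme).Nonempty) :
    ∃ (η : X) (W₀ : X.Opens), η ∈ S ∧ η ∈ W₀ ∧ J.subschemeι ⁻¹ᵁ W₀ = A := by
  obtain ⟨y, hy⟩ := hA
  have hyx : J.subschemeι y ∈ J.support := by
    have : J.subschemeι y ∈ Set.range J.subschemeι := ⟨y, rfl⟩
    rwa [Scheme.IdealSheafData.range_subschemeι] at this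
  obtain ⟨η, hηS, hη⟩ := hgen _ hyx
  have hηr : η ∈ Set.range J.subschemeι := by
    rw [Scheme.IdealSheafData.range_subschemeι]; exact hS hηS
  obtain ⟨η', rfl⟩ := hηr
  have hη'y : η' ⤳ y := J.subschemeι.isEmbedding.isInducing.specializes_iff.mp hη
  have hη'A : η' ∈ A := hη'y.mem_open A.2 hy
  obtain ⟨Wa, hWa, hWa'⟩ := J.subschemeι.isEmbedding.isInducing.isOpen_iff.mp A.2
  refine ⟨J.subschemeι η', ⟨Wa, hWa⟩, hηS, ?_, ?_⟩
  · have : η' ∈ J.subschemeι ⁻¹' Wa := by rw [hWa']; exact hη'A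
    exact this
  · ext z
    have := congrArg (fun s : Set J.subscheme => z ∈ s) hWa'
    exact this ▸ Iff.rfl

include hL hφn hfac in
theorem stalkAdd_φ'_eq_zero (η : X) (hη : ¬ IsClosed ({η} : Set X)) (hηS : η ∉ S)
    (y : (GG Z J L).presheaf.stalk η) : stalkAdd φ' η y = 0 := by
  haveI := epi_pp hL Z J
  obtain ⟨x, rfl⟩ := Groth.Agent.Lib.helper25.StalkEpi.stalkAdd_surjective_of_epi (pp Z J L) η y
  rw [← stalkAdd_comp, hfac]
  exact hφn η hη hηS x

include hL hS hgen hφS hφn hfac in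
/-- if `Y` is disconnected there is a morphism with strictly smaller "generic support" -/
theorem exists_smaller
    [hu : IsIso ((pullbackPushforwardAdjunction J.subschemeι).unit.app (GG Z J L))]
    (A B : J.subscheme.Opens) (hAB : A ⊓ B = ⊥) (hsup : A ⊔ B = ⊤)
    (hA : (A : Set J.subscheme).Nonempty) (hB : (B : Set J.subscheme).Nonempty) :
    ∃ φ₁ : CohB1.tensorMod (ClSub.idealMod Z) L ⟶ ω,
      (∃ η ∈ S, ∃ m, stalkAdd φ₁ η m ≠ 0) ∧ (∃ η ∈ S, ∀ m, stalkAdd φ₁ η m = 0) ∧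
      (∀ η : X, ¬ IsClosed ({η} : Set X) → η ∉ S → ∀ m, stalkAdd φ₁ η m = 0) := by
  obtain ⟨e, he1, he0⟩ := exists_idem_top A B hAB hsup
  refine ⟨pp Z J L ≫ act J (GG Z J L) e ≫ φ', ?_, ?_, ?_⟩
  · obtain ⟨η, W₀, hηS, hηW₀, hW₀⟩ := exists_mem_S_of_open J S hS hgen A hA
    obtain ⟨m, hm⟩ := hφS η hηS
    refine ⟨η, hηS, m, ?_⟩
    rw [stalkAdd_comp, stalkAdd_comp, stalkAdd_act_of_eq_one J (GG Z J L) e W₀
      (fun V hV => res_eq_one_of_le A V (hW₀ ▸ hV) e he1) η hηW₀, ← stalkAdd_comp, hfac]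
    exact hm
  · obtain ⟨η, W₀, hηS, hηW₀, hW₀⟩ := exists_mem_S_of_open J S hS hgen B hB
    refine ⟨η, hηS, fun m => ?_⟩
    rw [stalkAdd_comp, stalkAdd_comp, stalkAdd_act_of_eq_zero J (GG Z J L) e W₀
      (fun V hV => res_eq_zero_of_le B V (hW₀ ▸ hV) e he0) η hηW₀, _root_.map_zero]
  · intro η hη hηS m
    rw [stalkAdd_comp, stalkAdd_comp]
    exact stalkAdd_φ'_eq_zero hL Z J S φ hφn φ' hfac η hη hηS _

end Groth.Agent.Lib.Helper18.SubI
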