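import Mathlib
import Groth.Agent.Lib.Helper18.AdjD
import Groth.Agent.S1605
import Groth.Agent.Lib.Helper9.CurveGG
import Groth.Agent.Lib.Helper9.CurveLinSer

/-!
# Adjunction on reduced Gorenstein curves, part E (helper18): consequences of subcurve duality (S1605)

`X` proper reduced connected of dimension one over an algebraically closed field `k`, `L` invertible:
* `exists_sub_of_H1`: if `H¹(X, L) ≠ 0` there is a connected subcurve `Y` with `deg(L|_Y) ≤ 2 g_Y - 2`;
* `exists_sub_of_not_gg`: if `L` is not globally generated there is a connected subcurve `Y` with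
  `deg(L|_Y) ≤ 2 g_Y - 1`.
-/

set_option autoImplicit false
set_option linter.unusedSectionVars false
set_option linter.unusedVariables false
set_option linter.style.haveILetI false

universe u

open CategoryTheory Limits AlgebraicGeometry Opposite TopologicalSpace

namespace Groth.Agent.Lib.Helper18.AdjE

open Groth.Agent.Lib.Helper18.AdjA Groth.Agent.Lib.Helper18.AdjB Groth.Agent.Lib.Helper18.AdjC
  Groth.Agent.Lib.Helper18.NefPull Module Groth.Agent.Lib.helper7.IdealMod
  Groth.Agent.Lib.Lead.ModTensor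

attribute [local instance] Groth.Agent.Lib.Helper18.SubE.overSub

section General

variable {X : Scheme.{u}}

theorem isIso_idealModι_top : IsIso (ClSub.idealModι (⊤ : X.IdealSheafData)) := by
  haveI : (ClSub.idealMod (⊤ : X.IdealSheafData)).IsQuasicoherent := by
    unfold ClSub.idealMod
    exact Groth.Agent.Lib.helper7.CohKer.isQuasicoherent_kernel _
  haveI : (Coh.structureModule X).IsQuasicoherent := inferInstance
  refine Groth.Agent.Lib.helper7.KerSections.isIso_of_bijective_affine _ (fun D hD => ⟨?_, ?_⟩)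
  · haveI := mono_idealModι (⊤ : X.IdealSheafData)
    exact Groth.Agent.Lib.Helper18.SubD.app_injective_of_mono _ D
  · intro a
    exact (mem_range_idealModι_iff_of_affine (⊤ : X.IdealSheafData) ⟨D, hD⟩ a).mpr trivial

theorem isEmpty_subscheme_top : IsEmpty (⊤ : X.IdealSheafData).subscheme := by
  have h := (⊤ : X.IdealSheafData).range_subschemeι
  rw [Scheme.IdealSheafData.support_top] at h
  exact Set.range_eq_empty_iff.mp h

end General

section Curve

variable (k : Type u) [Field k] (X : Scheme.{u}) [X.Over (Spec (CommRingCat.of k))]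
  [IsProper (X ↘ Spec (CommRingCat.of k))]

theorem finrank_H0_quotMod_top :
    finrank k (Coh.HH X (ClSub.quotMod (⊤ : X.IdealSheafData)) 0) = 0 := by
  haveI := isEmpty_subscheme_top (X := X)
  have h := Groth.Agent.Lib.Helper18.HH.finrank_push (⊤ : X.IdealSheafData).subschemeι
    (Coh.structureModule (⊤ : X.IdealSheafData).subscheme) k 0
  have h' : finrank k (Coh.HH X (ClSub.quotMod (⊤ : X.IdealSheafData)) 0) =
      finrank k (Coh.HH (⊤ : X.IdealSheafData).subscheme
        (Coh.structureModule (⊤ : X.IdealSheafData).subscheme) 0) := h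
  rw [h', Groth.Agent.S1656.finrank_HH_of_isEmpty]

/-- `-2χ(Y, O_Y) = 2 g_Y - 2` -/
theorem neg_two_euler_sub [IsAlgClosed k] (hdim : topologicalKrullDim X ≤ 1) (J : X.IdealSheafData)
    [IsReduced J.subscheme] [ConnectedSpace J.subscheme] :
    -2 * Curv2.euler k J.subscheme (Coh.structureModule J.subscheme) =
      2 * (Curv2.genus k J.subscheme : ℤ) - 2 := by
  rw [← euler_quotMod k X J, euler_quotMod_eq k X hdim J]
  unfold gJ
  ring

/-- **non-speciality criterion**: if `H¹(L) ≠ 0` some connected subcurve has `deg(L|_Y) ≤ 2g_Y - 2` -/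
theorem exists_sub_of_H1 [IsAlgClosed k] [IsReduced X] [ConnectedSpace X]
    (hdim : topologicalKrullDim X = 1) {L : X.Modules} (hL : PicF.IsInvertible L)
    (h1 : Nontrivial (Coh.HH X L 1)) :
    ∃ J : X.IdealSheafData, IsReduced J.subscheme ∧ ConnectedSpace J.subscheme ∧
      topologicalKrullDim J.subscheme = 1 ∧
      @Curv2.deg k _ J.subscheme ⟨J.subschemeι ≫ (X ↘ Spec (CommRingCat.of k))⟩
          ((Scheme.Modules.pullback J.subschemeι).obj L) 1 ≤
        2 * (@Curv2.genus k _ J.subscheme ⟨J.subschemeι ≫ (X ↘ Spec (CommRingCat.of k))⟩ : ℤ) - 2 := by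
  haveI := Groth.Agent.Lib.Lead.CurveEuler.isNoetherian k X
  haveI := isIso_idealModι_top (X := X)
  let e : CohB1.tensorMod (ClSub.idealMod (⊤ : X.IdealSheafData)) L ≅ L :=
    tensorIso (asIso (ClSub.idealModι (⊤ : X.IdealSheafData))) (Iso.refl L) ≪≫ leftUnitor L
  have h1' : Nontrivial (Coh.HH X (CohB1.tensorMod (ClSub.idealMod (⊤ : X.IdealSheafData)) L) 1) := by
    by_contra hn
    rw [not_nontrivial_iff_subsingleton] at hn
    have := Groth.Agent.Lib.helper11.RelSerre.subsingleton_HH_of_iso e 1 hn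
    exact not_subsingleton _ this
  have hZ : topologicalKrullDim (((⊤ : X.IdealSheafData).support : Closeds X) : Set X) ≤ 0 := by
    rw [Scheme.IdealSheafData.support_top]
    refine dim_le_zero_of_forall_isClosed _ isClosed_empty (fun x hx => ?_)
    exact (hx : x ∈ (∅ : Set X)).elim
  obtain ⟨J, hJr, hJc, hJd, hle⟩ := Groth.Agent.S1605.result k X hdim L hL ⊤ hZ h1'
  refine ⟨J, hJr, hJc, hJd, ?_⟩
  rw [top_sup_eq, finrank_H0_quotMod_top] at hle
  have := neg_two_euler_sub k X hdim.le J
  rw [this] at hle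
  simpa using hle

end Curve

section BasePoint

open Groth.Agent.Lib.helper11.IsoLocus Groth.Agent.Lib.helper11.SerreGG
  Groth.Agent.Lib.helper9.CurveGG Groth.Agent.Lib.Helper18 Groth.Agent.Lib.Helper20.SplitH1

/-- a module which is not globally generated has a closed base point -/
theorem exists_base_point {X : Scheme.{u}} [CompactSpace X] {L : X.Modules}
    (hng : ¬ Curv2.IsGloballyGenerated L) :
    ∃ x : X, IsClosed ({x} : Set X) ∧ ∀ t : Coh.structureModule X ⟶ L, x ∉ isoLocus t := by
  by_contra hcon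
  push Not at hcon
  apply hng
  apply isGloballyGenerated_of_genAt
  intro y
  obtain ⟨x, hxy, hx⟩ := (isClosed_closure (s := ({y} : Set X))).exists_closed_singleton
    ⟨y, subset_closure rfl⟩
  obtain ⟨t, ht⟩ := hcon x hx
  have hsp : y ⤳ x := specializes_iff_mem_closure.mpr hxy
  exact genAt_of_mem_isoLocus t (hsp.mem_open (isoLocus t).isOpen ht)

variable (k : Type u) [Field k] (X : Scheme.{u}) [X.Over (Spec (CommRingCat.of k))]
  [IsProper (X ↘ Spec (CommRingCat.of k))]

include k in
/-- at a closed base point `x` of `L`, `H¹(I_x ⊗ L) ≠ 0` -/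
theorem nontrivial_H1_idealTwist [IsReduced X] (hdim : topologicalKrullDim X ≤ 1) {L : X.Modules}
    (hL : PicF.IsInvertible L) {x : X} (hx : IsClosed ({x} : Set X))
    (hbase : ∀ t : Coh.structureModule X ⟶ L, x ∉ isoLocus t) :
    Nontrivial (Coh.HH X (CohB1.tensorMod
      (ClSub.idealMod (Scheme.IdealSheafData.vanishingIdeal ⟨{x}, hx⟩)) L) 1) := by
  haveI := Groth.Agent.Lib.Lead.CurveEuler.isNoetherian k X
  set Z := Scheme.IdealSheafData.vanishingIdeal ⟨{x}, hx⟩ with hZdef
  have hZ : topologicalKrullDim ((Z.support : Closeds X) : Set X) ≤ 0 :=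
    dim_support_vanishingIdeal_le X hx
  let OL := CohB1.tensorMod (Coh.structureModule X) L
  let F := CohB1.tensorMod (ClSub.idealMod Z) L
  let φ : F ⟶ OL := tensorMap (ClSub.idealModι Z) (𝟙 L)
  have hL1 := (Groth.Agent.Lib.helper16.FLF.isInvertible_iff_isFinLocFreeOfRank_one L).1 hL
  have hFc : Coh.IsCoh F :=
    Groth.Agent.Lib.Helper18.DegCalc.isCoh_tensorMod (SubG.isCoh_idealMod k Z) (SubG.isCoh_L hL)
  have hOLc : Coh.IsCoh OL :=
    Groth.Agent.Lib.Helper18.DegCalc.isCoh_tensorMod
      (Groth.Agent.Lib.helper8.Dev.isCoh_structureModule X) (SubG.isCoh_L hL)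
  by_contra hn
  rw [not_nontrivial_iff_subsingleton] at hn
  -- surjectivity on global sections
  have hsurj : Function.Surjective (φ.app ⊤).hom := by
    intro x'
    apply exists_preimage_of_not_mem_isoLocus hL hx x'
    have := hbase (homOfGlobal OL x' ≫ (leftUnitor L).hom)
    rwa [isoLocus_comp_of_isIso_right] at this
  have hs : Function.Surjective (HH.mapOver k φ 0) :=
    Groth.Agent.Lib.helper9.CurveLinSer.surjective_H0_of_sections φ hsurj
  haveI : Module.Finite k (Coh.HH X F 0) := Groth.Agent.Lib.Lead.ProperEuler.finite_HH k X _ hFc 0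
  have h1 : finrank k (Coh.HH X OL 0) ≤ finrank k (Coh.HH X F 0) :=
    LinearMap.finrank_le_finrank_of_surjective hs
  -- Euler characteristics
  have e6 := Groth.Agent.Lib.Helper18.DegCalc.euler_tensor_additive k X _ (idealSeq_shortExact Z)
    (SubG.isCoh_idealMod k Z) (Groth.Agent.Lib.helper7.SnapperQuot.isCoh_quotMod Z) hL1
  have e6' : Curv2.euler k X OL = Curv2.euler k X F +
      Curv2.euler k X (CohB1.tensorMod (ClSub.quotMod Z) L) := e6
  haveI : IsReduced Z.subscheme := isReduced_subscheme_vanishingIdeal _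
  have e7 := SubH.euler_quot_tensor k hL Z hZ Z
  rw [sup_idem] at e7
  have hpos : 0 < finrank k (Coh.HH X (ClSub.quotMod Z) 0) :=
    finrank_H0_quotMod_pos k X Z ⟨x, by
      change x ∈ ((Z.support : Closeds X) : Set X)
      rw [hZdef, Scheme.IdealSheafData.coe_support_vanishingIdeal]
      exact Set.mem_singleton x⟩
  have e8 := Groth.Agent.Lib.Lead.CurveEuler.euler_eq k X hdim _ hFc.1
  have e9 := Groth.Agent.Lib.Lead.CurveEuler.euler_eq k X hdim _ hOLc.1
  rw [finrank_zero_of_subsingleton (M := Coh.HH X F 1)] at e8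
  have e8' : Curv2.euler k X F = (finrank k (Coh.HH X F 0) : ℤ) := by rw [e8]; simp
  have e9' : Curv2.euler k X OL = (finrank k (Coh.HH X OL 0) : ℤ) -
      (finrank k (Coh.HH X OL 1) : ℤ) := e9
  have hpos' : (1 : ℤ) ≤ (finrank k (Coh.HH X (ClSub.quotMod Z) 0) : ℤ) := by exact_mod_cast hpos
  have h1' : (finrank k (Coh.HH X OL 0) : ℤ) ≤ (finrank k (Coh.HH X F 0) : ℤ) := by exact_mod_cast h1
  have hnn : (0 : ℤ) ≤ (finrank k (Coh.HH X OL 1) : ℤ) := Int.natCast_nonneg _
  linarith

/-- `h⁰(O/I_x) = 1` for a closed point over an algebraically closed field -/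
theorem finrank_H0_quotMod_point [IsAlgClosed k] {x : X} (hx : IsClosed ({x} : Set X)) :
    finrank k (Coh.HH X (ClSub.quotMod (Scheme.IdealSheafData.vanishingIdeal ⟨{x}, hx⟩)) 0) = 1 := by
  set Z := Scheme.IdealSheafData.vanishingIdeal ⟨{x}, hx⟩ with hZdef
  haveI : IsReduced Z.subscheme := isReduced_subscheme_vanishingIdeal _
  have hrange : Set.range Z.subschemeι = {x} := by
    rw [Scheme.IdealSheafData.range_subschemeι, hZdef,
      Scheme.IdealSheafData.coe_support_vanishingIdeal]
    rfl
  haveI : Subsingleton Z.subscheme := ⟨fun a b => by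
    apply Z.subschemeι.isClosedEmbedding.injective
    have ha : Z.subschemeι a ∈ Set.range Z.subschemeι := ⟨a, rfl⟩
    have hb : Z.subschemeι b ∈ Set.range Z.subschemeι := ⟨b, rfl⟩
    rw [hrange] at ha hb
    rw [Set.mem_singleton_iff.mp ha, Set.mem_singleton_iff.mp hb]⟩
  haveI : Nonempty Z.subscheme := by
    have : x ∈ Set.range Z.subschemeι := by rw [hrange]; exact Set.mem_singleton x
    obtain ⟨a, -⟩ := this
    exact ⟨a⟩
  haveI : ConnectedSpace Z.subscheme := { toPreconnectedSpace := inferInstance, toNonempty := ‹_› }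
  have h := Groth.Agent.Lib.Helper18.HH.finrank_push Z.subschemeι
    (Coh.structureModule Z.subscheme) k 0
  have h' : finrank k (Coh.HH X (ClSub.quotMod Z) 0) =
      finrank k (Coh.HH Z.subscheme (Coh.structureModule Z.subscheme) 0) := h
  rw [h', Groth.Agent.Lib.Helper18.AdjC0.finrank_H0_eq_one k Z.subscheme]

/-- the intersection of a closed point with a closed subscheme has length `≤ 1` -/
theorem finrank_H0_quotMod_point_sup_le [IsAlgClosed k] {x : X} (hx : IsClosed ({x} : Set X))
    (J : X.IdealSheafData) :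
    finrank k (Coh.HH X (ClSub.quotMod (Scheme.IdealSheafData.vanishingIdeal ⟨{x}, hx⟩ ⊔ J)) 0) ≤ 1 := by
  set Z := Scheme.IdealSheafData.vanishingIdeal ⟨{x}, hx⟩ with hZdef
  by_cases hxJ : x ∈ J.support
  · have hle : J ≤ Z := by
      rw [hZdef, ← Scheme.IdealSheafData.le_support_iff_le_vanishingIdeal]
      intro y hy
      have : y = x := hy
      rw [this]; exact hxJ
    rw [sup_eq_left.mpr hle, hZdef, finrank_H0_quotMod_point k X hx]
  · have htop : Z ⊔ J = ⊤ := by
      rw [← Scheme.IdealSheafData.support_eq_bot_iff, Scheme.IdealSheafData.support_sup]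
      apply Closeds.ext
      rw [Closeds.coe_inf, Closeds.coe_bot, hZdef, Scheme.IdealSheafData.coe_support_vanishingIdeal]
      ext y
      simp only [Set.mem_inter_iff, Set.mem_empty_iff_false, iff_false, not_and]
      intro hy hyJ
      have : y = x := hy
      rw [this] at hyJ
      exact hxJ hyJ
    rw [htop, finrank_H0_quotMod_top]
    exact Nat.zero_le 1

/-- **global generation criterion**: if `L` is not globally generated some connected subcurve has
`deg(L|_Y) ≤ 2g_Y - 1` -/
theorem exists_sub_of_not_gg [IsAlgClosed k] [IsReduced X] [ConnectedSpace X]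
    (hdim : topologicalKrullDim X = 1) {L : X.Modules} (hL : PicF.IsInvertible L)
    (hng : ¬ Curv2.IsGloballyGenerated L) :
    ∃ J : X.IdealSheafData, IsReduced J.subscheme ∧ ConnectedSpace J.subscheme ∧
      topologicalKrullDim J.subscheme = 1 ∧
      @Curv2.deg k _ J.subscheme ⟨J.subschemeι ≫ (X ↘ Spec (CommRingCat.of k))⟩
          ((Scheme.Modules.pullback J.subschemeι).obj L) 1 ≤
        2 * (@Curv2.genus k _ J.subscheme ⟨J.subschemeι ≫ (X ↘ Spec (CommRingCat.of k))⟩ : ℤ) - 1 := by
  haveI := Groth.Agent.Lib.Lead.CurveEuler.isNoetherian k X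
  haveI := Groth.Agent.Lib.Lead.ProperEuler.compactSpace k X
  obtain ⟨x, hx, hbase⟩ := exists_base_point hng
  have h1 := nontrivial_H1_idealTwist k X hdim.le hL hx hbase
  have hZ := dim_support_vanishingIdeal_le X hx
  obtain ⟨J, hJr, hJc, hJd, hle⟩ := Groth.Agent.S1605.result k X hdim L hL _ hZ h1
  refine ⟨J, hJr, hJc, hJd, ?_⟩
  have hk := finrank_H0_quotMod_point_sup_le k X hx J
  have := neg_two_euler_sub k X hdim.le J
  rw [this] at hle
  have hk' : (finrank k (Coh.HH X (ClSub.quotMod
      (Scheme.IdealSheafData.vanishingIdeal ⟨{x}, hx⟩ ⊔ J)) 0) : ℤ) ≤ 1 := by exact_mod_cast hk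
  linarith

end BasePoint

end Groth.Agent.Lib.Helper18.AdjE
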