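import Mathlib
import Groth.Agent.Lib.Helper18.AdjE
import Groth.Agent.Lib.Helper18.DegComponents
import Groth.Agent.Lib.Helper12.TensorInv
import Groth.Agent.Lib.Helper7.NefAmple

/-!
# Adjunction on reduced Gorenstein curves, part F (helper18): degrees of tensor products and powers on
subcurves, positivity of ample modules on subcurves
-/

set_option autoImplicit false
set_option linter.unusedSectionVars false
set_option linter.unusedVariables false
set_option linter.style.haveILetI false

universe u

open CategoryTheory Limits AlgebraicGeometry Opposite TopologicalSpace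

namespace Groth.Agent.Lib.Helper18.AdjF

open Groth.Agent.Lib.Helper18.AdjA Groth.Agent.Lib.Helper18.AdjB Groth.Agent.Lib.Helper18.AdjC
  Groth.Agent.Lib.Helper18.NefPull Module Groth.Agent.Lib.helper7.IdealMod
  Groth.Agent.Lib.Lead.ModTensor

section Tensor

variable (k : Type u) [Field k] (X : Scheme.{u}) [X.Over (Spec (CommRingCat.of k))]
  [IsProper (X ↘ Spec (CommRingCat.of k))]

/-- additivity of the degree on a closed subscheme -/
theorem nefq_tensorMod (hdim : topologicalKrullDim X ≤ 1) {V E : X.Modules}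
    (hV : PicF.IsInvertible V) (hE : PicF.IsInvertible E) (J : X.IdealSheafData) :
    nefq k X J (CohB1.tensorMod V E) = nefq k X J V + nefq k X J E := by
  haveI := Groth.Agent.Lib.Lead.CurveEuler.isNoetherian k X
  have hV1 := (Groth.Agent.Lib.helper16.FLF.isInvertible_iff_isFinLocFreeOfRank_one V).1 hV
  have hE1 := (Groth.Agent.Lib.helper16.FLF.isInvertible_iff_isFinLocFreeOfRank_one E).1 hE
  have h := Groth.Agent.Lib.Helper18.DegTensor.delta_tensor k X hdim hE1 hV1 (ClSub.quotMod J)
    (Groth.Agent.Lib.helper7.SnapperQuot.isCoh_quotMod J)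
  unfold Groth.Agent.Lib.Helper18.DegTensor.Q at h
  have e := Groth.Agent.Lib.Lead.CurveEuler.euler_eq_of_iso k X (assoc (ClSub.quotMod J) V E)
  unfold nefq
  rw [← e]
  push_cast at h
  linarith

theorem nefq_structureModule (J : X.IdealSheafData) :
    nefq k X J (Coh.structureModule X) = 0 := by
  unfold nefq
  rw [Groth.Agent.Lib.Lead.CurveEuler.euler_eq_of_iso k X (rightUnitor _)]
  ring

/-- the degree of a tensor power on a closed subscheme -/
theorem nefq_tensorPow (hdim : topologicalKrullDim X ≤ 1) {V : X.Modules}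
    (hV : PicF.IsInvertible V) (J : X.IdealSheafData) (n : ℕ) :
    nefq k X J (CohB1.tensorPow V n) = n * nefq k X J V := by
  induction n with
  | zero =>
    change nefq k X J (Coh.structureModule X) = _
    rw [nefq_structureModule]
    simp
  | succ n ih =>
    change nefq k X J (CohB1.tensorMod (CohB1.tensorPow V n) V) = _
    rw [nefq_tensorMod k X hdim
      (Groth.Agent.Lib.helper12.TensorInv.isInvertible_tensorPow hV n) hV, ih]
    push_cast
    ring

end Tensor

section Ample

open Groth.Agent.Lib.Helper18.DegComponents Groth.Agent.Lib.Helper18.CompRed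

variable (k : Type u) [Field k] (X : Scheme.{u}) [X.Over (Spec (CommRingCat.of k))]
  [IsProper (X ↘ Spec (CommRingCat.of k))] [IsNoetherian X]

/-- the degree on a component is the degree on its reduced ideal -/
theorem dC_eq_nefq {L : X.Modules} (hL : PicF.IsInvertible L)
    (Z : irreducibleComponents (X : Type u)) :
    dC k X 1 L Z = nefq k X (CompRed.J X Z) L := by
  unfold dC
  exact (nefq_eq_deg k X (CompRed.J X Z) L
    (Groth.Agent.Lib.helper16.FLF.isFinLocFree_of_isInvertible hL)).symm

/-- an ample module has positive degree on every component of dimension one -/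
theorem dC_pos_of_isAmple {L : X.Modules} (hA : CohB1.IsAmple L)
    (Z : irreducibleComponents (X : Type u)) (hZ : topologicalKrullDim (Z.1 : Set X) = 1) :
    0 < dC k X 1 L Z := by
  rw [dC_eq_nefq k X hA.1 Z]
  exact Groth.Agent.Lib.helper7.NefAmple.nefq_pos_of_isAmple k X hA (CompRed.J X Z)
    (isIntegral_Cr X Z) hZ

/-- `deg(L|_Y) = Σ_C length((O/J)_{ξ_C}) deg(L|_C)` -/
theorem nefq_eq_sum (hdim : topologicalKrullDim X ≤ 1) {L : X.Modules} (hL : PicF.IsInvertible L)
    (J : X.IdealSheafData) :
    (∀ Z : irreducibleComponents (X : Type u), topologicalKrullDim (Z.1 : Set X) = 1 →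
      lenAt X (ClSub.quotMod J) Z ≠ ⊤) ∧
    nefq k X J L = ∑ᶠ Z : irreducibleComponents (X : Type u),
      (if topologicalKrullDim (Z.1 : Set X) = 1 then
        ((lenAt X (ClSub.quotMod J) Z).toNat : ℤ) * dC k X 1 L Z else 0) := by
  have hL1 := (Groth.Agent.Lib.helper16.FLF.isInvertible_iff_isFinLocFreeOfRank_one L).1 hL
  obtain ⟨h1, h2⟩ := DegComponents.main k X hdim hL1 (ClSub.quotMod J)
    (Groth.Agent.Lib.helper7.SnapperQuot.isCoh_quotMod J)
  refine ⟨h1, ?_⟩
  unfold nefq
  unfold rhs at h2
  rw [← h2]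
  push_cast
  ring

/-- the length of `(O/J)` at the generic point of a component inside `V(J)` is positive -/
theorem one_le_lenAt (J : X.IdealSheafData) (Z : irreducibleComponents (X : Type u))
    (hZ : gp X Z ∈ J.support) (hfin : lenAt X (ClSub.quotMod J) Z ≠ ⊤) :
    1 ≤ (lenAt X (ClSub.quotMod J) Z).toNat := by
  have hnt : Nontrivial ((ClSub.quotMod J).presheaf.stalk (gp X Z)) := by
    obtain ⟨m, hm⟩ := Groth.Agent.Lib.Helper18.SubB.exists_stalkAdd_toSubscheme_ne_zero J _ hZ
    exact ⟨⟨_, 0, hm⟩⟩
  have hpos : 0 < lenAt X (ClSub.quotMod J) Z := Module.length_pos_iff.mpr hnt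
  have : (lenAt X (ClSub.quotMod J) Z).toNat ≠ 0 := by
    rw [Ne, ENat.toNat_eq_zero]
    push Not
    exact ⟨hpos.ne', hfin⟩
  omega

/-- an ample module has positive degree on every closed subscheme containing a component of
dimension one -/
theorem nefq_pos_of_isAmple (hdim : topologicalKrullDim X ≤ 1) {L : X.Modules}
    (hA : CohB1.IsAmple L) (J : X.IdealSheafData) (Z₀ : irreducibleComponents (X : Type u))
    (hZ₀ : topologicalKrullDim (Z₀.1 : Set X) = 1) (hZ₀J : gp X Z₀ ∈ J.support) :
    0 < nefq k X J L := by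
  obtain ⟨hfin, hsum⟩ := nefq_eq_sum k X hdim hA.1 J
  rw [hsum]
  have hnn : ∀ Z : irreducibleComponents (X : Type u), 0 ≤
      (if topologicalKrullDim (Z.1 : Set X) = 1 then
        ((lenAt X (ClSub.quotMod J) Z).toNat : ℤ) * dC k X 1 L Z else 0) := by
    intro Z
    split_ifs with hZ
    · exact mul_nonneg (Int.natCast_nonneg _) (dC_pos_of_isAmple k X hA Z hZ).le
    · exact le_rfl
  have h1 := single_le_finsum Z₀ (Set.toFinite _) hnn
  refine lt_of_lt_of_le ?_ h1
  rw [if_pos hZ₀]
  have ha := one_le_lenAt X J Z₀ hZ₀J (hfin Z₀ hZ₀)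
  have hd := dC_pos_of_isAmple k X hA Z₀ hZ₀
  have ha' : (1 : ℤ) ≤ ((lenAt X (ClSub.quotMod J) Z₀).toNat : ℤ) := by exact_mod_cast ha
  positivity

/-- the component generated by a non-closed point -/
theorem exists_component_of_not_isClosed (hdim : topologicalKrullDim X ≤ 1) (η : X)
    (hη : ¬ IsClosed ({η} : Set X)) :
    ∃ Z : irreducibleComponents (X : Type u), Z.1 = closure {η} ∧ gp X Z = η := by
  refine ⟨⟨closure {η},
    Groth.Agent.Lib.Helper18.SubA.closure_mem_irreducibleComponents_of_not_isClosed hdim η hη⟩,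
    rfl, ?_⟩
  exact (gp_spec X _).eq (rfl : closure {η} = closure {η})

end Ample

section Sub

open Groth.Agent.Lib.Helper18.DegComponents Groth.Agent.Lib.Helper18.CompRed

variable (k : Type u) [Field k] (X : Scheme.{u}) [X.Over (Spec (CommRingCat.of k))]
  [IsProper (X ↘ Spec (CommRingCat.of k))] [ConnectedSpace X]
  (hdim : topologicalKrullDim X = 1)

include hdim in
/-- an ample module has positive degree on every connected subcurve -/
theorem degJ_pos_of_isAmple {L : X.Modules} (hA : CohB1.IsAmple L) (J : X.IdealSheafData)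
    (hJc : ConnectedSpace J.subscheme) (hJd : topologicalKrullDim J.subscheme = 1) :
    0 < @Curv2.deg k _ J.subscheme ⟨J.subschemeι ≫ (X ↘ Spec (CommRingCat.of k))⟩
      ((Scheme.Modules.pullback J.subschemeι).obj L) 1 := by
  haveI := Groth.Agent.Lib.Lead.CurveEuler.isNoetherian k X
  rw [← nefq_eq_deg k X J _ (Groth.Agent.Lib.helper16.FLF.isFinLocFree_of_isInvertible hA.1)]
  obtain ⟨y⟩ := (inferInstance : Nonempty J.subscheme)
  have hy : J.subschemeι y ∈ J.support := by
    have : J.subschemeι y ∈ Set.range J.subschemeι := ⟨y, rfl⟩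
    rwa [Scheme.IdealSheafData.range_subschemeι] at this
  obtain ⟨η, ⟨hη, hηJ⟩, -⟩ := exists_specializes_sub J hJd _ hy
  obtain ⟨Z, hZ, hgp⟩ := exists_component_of_not_isClosed X hdim.le η hη
  have hZd : topologicalKrullDim (Z.1 : Set X) = 1 :=
    Groth.Agent.Lib.Helper18.EquiDim.topologicalKrullDim_irreducibleComponent hdim Z.1 Z.2
  exact nefq_pos_of_isAmple k X hdim.le hA J Z hZd (hgp ▸ hηJ)

include hdim in
/-- a connected subcurve on which an ample module has degree one is irreducible -/
theorem irreducibleSpace_of_degJ_eq_one {L : X.Modules} (hA : CohB1.IsAmple L)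
    (J : X.IdealSheafData)
    (hJc : ConnectedSpace J.subscheme) (hJd : topologicalKrullDim J.subscheme = 1)
    (h1 : @Curv2.deg k _ J.subscheme ⟨J.subschemeι ≫ (X ↘ Spec (CommRingCat.of k))⟩
      ((Scheme.Modules.pullback J.subschemeι).obj L) 1 = 1) : IrreducibleSpace J.subscheme := by
  classical
  haveI := Groth.Agent.Lib.Lead.CurveEuler.isNoetherian k X
  rw [← nefq_eq_deg k X J _ (Groth.Agent.Lib.helper16.FLF.isFinLocFree_of_isInvertible hA.1)] at h1
  obtain ⟨hfin, hsum⟩ := nefq_eq_sum k X hdim.le hA.1 J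
  rw [hsum] at h1
  haveI : Fintype (irreducibleComponents (X : Type u)) := Fintype.ofFinite _
  rw [finsum_eq_sum_of_fintype] at h1
  set f : irreducibleComponents (X : Type u) → ℤ := fun Z =>
    (if topologicalKrullDim (Z.1 : Set X) = 1 then
      ((lenAt X (ClSub.quotMod J) Z).toNat : ℤ) * dC k X 1 L Z else 0) with hf
  have hnn : ∀ Z, 0 ≤ f Z := by
    intro Z
    rw [hf]
    dsimp only
    split_ifs with hZ
    · exact mul_nonneg (Int.natCast_nonneg _) (dC_pos_of_isAmple k X hA Z hZ).le
    · exact le_rfl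
  have hdimZ : ∀ Z : irreducibleComponents (X : Type u), topologicalKrullDim (Z.1 : Set X) = 1 :=
    fun Z => Groth.Agent.Lib.Helper18.EquiDim.topologicalKrullDim_irreducibleComponent hdim Z.1 Z.2
  have hone : ∀ Z : irreducibleComponents (X : Type u), gp X Z ∈ J.support → 1 ≤ f Z := by
    intro Z hZ
    rw [hf]
    dsimp only
    rw [if_pos (hdimZ Z)]
    have ha := one_le_lenAt X J Z hZ (hfin Z (hdimZ Z))
    have hd := dC_pos_of_isAmple k X hA Z (hdimZ Z)
    have ha' : (1 : ℤ) ≤ ((lenAt X (ClSub.quotMod J) Z).toNat : ℤ) := by exact_mod_cast ha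
    nlinarith
  -- uniqueness of the component
  have huniq : ∀ Z₁ Z₂ : irreducibleComponents (X : Type u), gp X Z₁ ∈ J.support →
      gp X Z₂ ∈ J.support → Z₁ = Z₂ := by
    intro Z₁ Z₂ h₁ h₂
    by_contra hne
    have hsub : ∑ Z ∈ ({Z₁, Z₂} : Finset _), f Z ≤ ∑ Z, f Z :=
      Finset.sum_le_sum_of_subset_of_nonneg (Finset.subset_univ _) (fun Z _ _ => hnn Z)
    rw [Finset.sum_pair hne] at hsub
    have := hone Z₁ h₁
    have := hone Z₂ h₂
    linarith
  -- the support is the closure of one point
  obtain ⟨y⟩ := (inferInstance : Nonempty J.subscheme)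
  have hy : J.subschemeι y ∈ J.support := by
    have : J.subschemeι y ∈ Set.range J.subschemeι := ⟨y, rfl⟩
    rwa [Scheme.IdealSheafData.range_subschemeι] at this
  obtain ⟨η₀, ⟨hη₀, hη₀J⟩, -⟩ := exists_specializes_sub J hJd _ hy
  obtain ⟨Z₀, hZ₀, hgp₀⟩ := exists_component_of_not_isClosed X hdim.le η₀ hη₀
  have hsupp : (J.support : Set X) = closure {η₀} := by
    apply Set.Subset.antisymm
    · intro x hx
      obtain ⟨η, ⟨hη, hηJ⟩, hsp⟩ := exists_specializes_sub J hJd x hx
      obtain ⟨Z, hZ, hgp⟩ := exists_component_of_not_isClosed X hdim.le η hη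
      have := huniq Z Z₀ (hgp ▸ hηJ) (hgp₀ ▸ hη₀J)
      have hη' : η = η₀ := by rw [← hgp, this, hgp₀]
      rw [← hη']
      exact specializes_iff_mem_closure.mp hsp
    · exact J.support.isClosed.closure_subset_iff.mpr (Set.singleton_subset_iff.mpr hη₀J)
  have hirr : IsIrreducible (Set.range J.subschemeι) := by
    rw [Scheme.IdealSheafData.range_subschemeι, hsupp]
    exact isIrreducible_singleton.closure
  haveI : IrreducibleSpace ↥(Set.range J.subschemeι) := Subtype.irreducibleSpace hirr
  let e : J.subscheme ≃ₜ ↥(Set.range J.subschemeι) :=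
    J.subschemeι.isClosedEmbedding.isEmbedding.toHomeomorph
  have h2 : IsIrreducible (Set.univ : Set ↥(Set.range J.subschemeι)) :=
    IrreducibleSpace.isIrreducible_univ _
  have h3 := h2.image e.symm e.symm.continuous.continuousOn
  rw [Set.image_univ, e.symm.surjective.range_eq] at h3
  rw [irreducibleSpace_def]
  exact h3

end Sub

end Groth.Agent.Lib.Helper18.AdjF
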