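import Mathlib

/-!
# Lifting generizations along a morphism with an isomorphic local ring; dominant morphisms of integral schemes (helper18)

* `exists_specializes_of_isIso`: if `O_{X,f t} → O_{T,t}` is an isomorphism, every generization of `f t` is the image of a
  generization of `t`; `injOn_generizations`: `f` is injective on the generizations of `t`.
* `exists_generic_lift`: a maximal generization of `f t` lifts to a maximal generization of `t`.
* `closure_mem_irreducibleComponents_of_max`, `eq_of_specializes_of_mem_irreducibleComponents`.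
* `app_injective_of_generic`, `stalkMap_injective_of_generic`: a morphism of integral schemes mapping the generic point to the
  generic point is injective on sections and on stalks.
-/

set_option autoImplicit false
universe u
open CategoryTheory CategoryTheory.Limits AlgebraicGeometry TopologicalSpace Opposite

namespace Groth.Agent.Lib.Helper18.LocIsoLift

variable {T X : Scheme.{u}} (f : T ⟶ X)

theorem mem_range_fromSpecStalk {t s : T} (h : s ⤳ t) : s ∈ Set.range (T.fromSpecStalk t) := by
  rw [Scheme.range_fromSpecStalk]; exact h

theorem fromSpecStalk_specializes (t : T) (q : Spec (T.presheaf.stalk t)) : T.fromSpecStalk t q ⤳ t := by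
  have : T.fromSpecStalk t q ∈ Set.range (T.fromSpecStalk t) := ⟨q, rfl⟩
  rwa [Scheme.range_fromSpecStalk] at this

theorem map_fromSpecStalk (t : T) (q : Spec (T.presheaf.stalk t)) :
    f (T.fromSpecStalk t q) = X.fromSpecStalk (f t) (Spec.map (f.stalkMap t) q) := by
  rw [← Scheme.Hom.comp_apply, ← Scheme.SpecMap_stalkMap_fromSpecStalk, Scheme.Hom.comp_apply]

/-- every generization of `f t` is the image of a generization of `t` -/
theorem exists_specializes_of_isIso (t : T) [IsIso (f.stalkMap t)] (y : X) (hy : y ⤳ f t) :
    ∃ s : T, s ⤳ t ∧ f s = y := by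
  obtain ⟨p, rfl⟩ := mem_range_fromSpecStalk hy
  obtain ⟨q, rfl⟩ := (Spec.map (f.stalkMap t)).surjective p
  exact ⟨T.fromSpecStalk t q, fromSpecStalk_specializes t q, map_fromSpecStalk f t q⟩

/-- `f` is injective on the generizations of `t` -/
theorem eq_of_specializes_of_isIso (t : T) [IsIso (f.stalkMap t)] (s s' : T) (hs : s ⤳ t) (hs' : s' ⤳ t)
    (h : f s = f s') : s = s' := by
  obtain ⟨q, rfl⟩ := mem_range_fromSpecStalk hs
  obtain ⟨q', rfl⟩ := mem_range_fromSpecStalk hs'
  rw [map_fromSpecStalk, map_fromSpecStalk] at h
  have h1 := (X.fromSpecStalk (f t)).isEmbedding.injective h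
  have h2 : Function.Injective (Spec.map (f.stalkMap t)) :=
    (Spec.map (f.stalkMap t)).homeomorph.injective
  rw [h2 h1]

/-- a maximal generization of `f t` lifts to a maximal generization of `t` -/
theorem exists_generic_lift (t : T) [IsIso (f.stalkMap t)] (ξ : X) (hξ : ξ ⤳ f t)
    (hmax : ∀ y : X, y ⤳ ξ → y = ξ) :
    ∃ τ : T, τ ⤳ t ∧ f τ = ξ ∧ ∀ τ' : T, τ' ⤳ τ → τ' = τ := by
  obtain ⟨τ, hτt, hτ⟩ := exists_specializes_of_isIso f t ξ hξ
  refine ⟨τ, hτt, hτ, fun τ' h => ?_⟩
  have h1 : f τ' ⤳ f τ := h.map f.continuous
  rw [hτ] at h1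
  have h2 : f τ' = f τ := (hmax _ h1).trans hτ.symm
  exact eq_of_specializes_of_isIso f t τ' τ (h.trans hτt) hτt h2

theorem closure_mem_irreducibleComponents_of_max (τ : T) (h : ∀ τ' : T, τ' ⤳ τ → τ' = τ) :
    closure ({τ} : Set T) ∈ irreducibleComponents T := by
  refine ⟨isIrreducible_singleton.closure, fun S hS hle => ?_⟩
  have hSc : IsIrreducible (closure S) := hS.closure
  obtain ⟨η, hη⟩ := QuasiSober.sober hSc isClosed_closure
  have h1 : τ ∈ closure S := subset_closure (hle (subset_closure rfl))
  have h2 : η ⤳ τ := by
    rw [specializes_iff_mem_closure, hη.def]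
    exact h1
  have h3 := h η h2
  subst h3
  intro x hx
  rw [hη.def]
  exact subset_closure hx

theorem eq_of_specializes_of_mem_irreducibleComponents (ξ y : X)
    (hξ : closure ({ξ} : Set X) ∈ irreducibleComponents X) (hy : y ⤳ ξ) : y = ξ := by
  have h1 : closure ({ξ} : Set X) ⊆ closure ({y} : Set X) := by
    apply closure_minimal _ isClosed_closure
    rintro _ rfl
    exact specializes_iff_mem_closure.mp hy
  have h2 : closure ({y} : Set X) ⊆ closure ({ξ} : Set X) :=
    hξ.2 isIrreducible_singleton.closure h1
  have h3 : ξ ⤳ y := specializes_iff_mem_closure.mpr (h2 (subset_closure rfl))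
  exact (hy.antisymm h3).eq

section Integral

variable [IsIntegral T] [IsIntegral X]

theorem injective_of_eq_genericPoint (x : X) (hx : x = genericPoint X) {R : CommRingCat.{u}} [Nontrivial R]
    (φ : X.presheaf.stalk x ⟶ R) : Function.Injective φ.hom := by
  subst hx
  letI : Field (X.presheaf.stalk (genericPoint X)) := inferInstanceAs (Field X.functionField)
  exact φ.hom.injective

/-- a morphism of integral schemes mapping the generic point to the generic point is injective on sections -/
theorem app_injective_of_generic (hη : f (genericPoint T) = genericPoint X) (W : X.Opens)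
    (hW : (W : Set X).Nonempty) : Function.Injective (f.app W).hom := by
  rw [injective_iff_map_eq_zero]
  intro g hg
  have hηW : f (genericPoint T) ∈ W := by
    rw [hη]
    exact ((genericPoint_spec X).mem_open_set_iff W.2).mpr (by simpa [Set.univ_inter] using hW)
  have h1 := Scheme.Hom.germ_stalkMap f W (genericPoint T) hηW
  have h2 : (f.stalkMap (genericPoint T)).hom ((X.presheaf.germ W _ hηW).hom g) = 0 := by
    have := congrArg (fun φ => φ.hom g) h1
    simp only [CommRingCat.hom_comp, RingHom.comp_apply] at this
    rw [this, hg, map_zero]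
  have h3 := injective_of_eq_genericPoint _ hη (f.stalkMap (genericPoint T)) (h2.trans (map_zero _).symm)
  exact germ_injective_of_isIntegral X _ hηW (h3.trans (map_zero _).symm)

/-- a morphism of integral schemes mapping the generic point to the generic point is injective on stalks -/
theorem stalkMap_injective_of_generic (hη : f (genericPoint T) = genericPoint X) (a : T) :
    Function.Injective (f.stalkMap a).hom := by
  rw [injective_iff_map_eq_zero]
  intro g hg
  obtain ⟨W, hW, g', rfl⟩ := X.presheaf.exists_germ_eq g
  have h1 := Scheme.Hom.germ_stalkMap f W a hW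
  have h2 : (T.presheaf.germ (f ⁻¹ᵁ W) a hW).hom ((f.app W).hom g') = 0 := by
    have := congrArg (fun φ => φ.hom g') h1
    simp only [CommRingCat.hom_comp, RingHom.comp_apply] at this
    rw [← this]
    exact hg
  have h3 : (f.app W).hom g' = 0 :=
    germ_injective_of_isIntegral T a hW (h2.trans (map_zero _).symm)
  have h4 : g' = 0 := app_injective_of_generic f hη W ⟨_, hW⟩ (h3.trans (map_zero _).symm)
  rw [h4, map_zero]

end Integral

end Groth.Agent.Lib.Helper18.LocIsoLift
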