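import Mathlib
import Groth.Agent.Lib.Helper18.LocIsoLift

/-!
# Transporting functions along a morphism with isomorphic local rings (helper18)

`f : T ⟶ X`, `t : T` with `O_{X, f t} → O_{T, t}` bijective.
* `exists_mul_pow_mem` (ring): if every prime `q ≤ p` containing `J` contains `b` then `h b ^ n ∈ J` for some `h ∉ p`.
* `exists_basicOpen_mul_le`: in an affine open `V ∋ x`, if every generization `y ∈ V` of `x` with `b(y) ≠ 0` lies in an open
  `O`, then `D(h b) ⊆ O` for some `h` with `h(x) ≠ 0`.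
* `exists_section_of_stalkMap_surjective`: global functions on `T` are germs of sections of `O_X` near `f t`.
* `app_eq_res`, `mem_of_specializes`, `mem_basicOpen_of_mem`, `res_eq_res`: for `T` integral.
-/

set_option autoImplicit false
universe u
open CategoryTheory CategoryTheory.Limits AlgebraicGeometry TopologicalSpace Opposite

namespace Groth.Agent.Lib.Helper18.AffImageCore
open Groth.Agent.Lib.Helper18.LocIsoLift

theorem exists_mul_pow_mem {A : Type*} [CommRing A] (p : Ideal A) [hp : p.IsPrime] (J : Ideal A) (b : A)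
    (h : ∀ q : Ideal A, q.IsPrime → q ≤ p → J ≤ q → b ∈ q) :
    ∃ h' : A, h' ∉ p ∧ ∃ n : ℕ, h' * b ^ n ∈ J := by
  let Ap := Localization.AtPrime p
  have h1 : algebraMap A Ap b ∈ (J.map (algebraMap A Ap)).radical := by
    rw [Ideal.radical_eq_sInf, Ideal.mem_sInf]
    rintro P ⟨hJP, hP⟩
    have hq : (P.comap (algebraMap A Ap)).IsPrime := Ideal.comap_isPrime _ _
    have hqp : P.comap (algebraMap A Ap) ≤ p := by
      have hPm : P ≤ IsLocalRing.maximalIdeal Ap := IsLocalRing.le_maximalIdeal hP.ne_top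
      have h2 := IsLocalization.AtPrime.under_maximalIdeal Ap p
      exact (Ideal.comap_mono hPm).trans h2.le
    exact h _ hq hqp (Ideal.map_le_iff_le_comap.mp hJP)
  obtain ⟨n, hn⟩ := h1
  rw [← map_pow, IsLocalization.mem_map_algebraMap_iff p.primeCompl] at hn
  obtain ⟨⟨⟨j, hj⟩, ⟨m, hm⟩⟩, hjm⟩ := hn
  simp only at hjm
  rw [← map_mul, IsLocalization.eq_iff_exists p.primeCompl] at hjm
  obtain ⟨⟨c, hc⟩, hc'⟩ := hjm
  simp only at hc'
  refine ⟨c * m, ?_, n, ?_⟩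
  · exact p.primeCompl.mul_mem hc hm
  · have : c * m * b ^ n = c * j := by linear_combination hc'
    rw [this]
    exact Ideal.mul_mem_left _ _ hj

variable {T X : Scheme.{u}}

theorem exists_basicOpen_mul_le (V : X.Opens) (hV : IsAffineOpen V) (x : X) (hx : x ∈ V)
    (O : X.Opens) (b : Γ(X, V))
    (h : ∀ y ∈ V, y ⤳ x → y ∈ X.basicOpen b → y ∈ O) :
    ∃ h' : Γ(X, V), x ∈ X.basicOpen h' ∧ X.basicOpen (h' * b) ≤ O := by
  set px := hV.primeIdealOf ⟨x, hx⟩ with hpx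
  have hpxx : hV.fromSpec px = x := hV.fromSpec_primeIdealOf ⟨x, hx⟩
  let C : Set (PrimeSpectrum Γ(X, V)) := hV.fromSpec ⁻¹' ((O : Set X)ᶜ)
  have hC : IsClosed C := O.isOpen.isClosed_compl.preimage hV.fromSpec.continuous
  let J : Ideal Γ(X, V) := PrimeSpectrum.vanishingIdeal C
  have hzl : PrimeSpectrum.zeroLocus (J : Set Γ(X, V)) = C := by
    rw [PrimeSpectrum.zeroLocus_vanishingIdeal_eq_closure, hC.closure_eq]
  have hmem : ∀ (q : PrimeSpectrum Γ(X, V)) (g : Γ(X, V)),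
      hV.fromSpec q ∈ X.basicOpen g ↔ g ∉ q.asIdeal := by
    intro q g
    have : q ∈ hV.fromSpec ⁻¹ᵁ X.basicOpen g ↔ g ∉ q.asIdeal := by
      rw [hV.fromSpec_preimage_basicOpen]
      rfl
    exact this
  haveI : px.asIdeal.IsPrime := px.isPrime
  obtain ⟨h', hh', n, hn⟩ := exists_mul_pow_mem px.asIdeal J b (by
    intro q hq hqp hJq
    by_contra hbq
    let q' : PrimeSpectrum Γ(X, V) := ⟨q, hq⟩
    have h1 : q' ∈ C := by rw [← hzl]; exact hJq
    have h2 : hV.fromSpec q' ⤳ x := by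
      rw [← hpxx]
      exact ((PrimeSpectrum.le_iff_specializes q' px).mp hqp).map hV.fromSpec.continuous
    have h3 : hV.fromSpec q' ∈ V := by
      have : hV.fromSpec q' ∈ Set.range hV.fromSpec := ⟨q', rfl⟩
      rwa [hV.range_fromSpec] at this
    exact h1 (h _ h3 h2 ((hmem q' b).mpr hbq)))
  refine ⟨h', ?_, ?_⟩
  · rw [← hpxx, hmem]; exact hh'
  · intro y hy
    have hyV : y ∈ V := X.basicOpen_le _ hy
    have : y ∈ Set.range hV.fromSpec := by rw [hV.range_fromSpec]; exact hyV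
    obtain ⟨q, rfl⟩ := this
    rw [hmem] at hy
    by_contra hyO
    have h1 : q ∈ C := hyO
    rw [← hzl] at h1
    have h2 : h' * b ^ n ∈ q.asIdeal := h1 hn
    rcases q.isPrime.mem_or_mem h2 with h3 | h3
    · exact hy (Ideal.mul_mem_right _ _ h3)
    · exact hy (Ideal.mul_mem_left _ _ (q.isPrime.mem_of_pow_mem n h3))

variable (f : T ⟶ X)

/-- global functions on `T` are germs of sections of `O_X` near `f t` when the stalk map is surjective -/
theorem exists_section_of_stalkMap_surjective (t : T) (hsurj : Function.Surjective (f.stalkMap t).hom)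
    (N₀ : X.Opens) (ht : f t ∈ N₀) (b : Γ(T, ⊤)) :
    ∃ (N : X.Opens) (htN : f t ∈ N) (ρ : Γ(X, N)), IsAffineOpen N ∧ N ≤ N₀ ∧
      (f.stalkMap t).hom ((X.presheaf.germ N (f t) htN).hom ρ) = (T.presheaf.germ ⊤ t trivial).hom b := by
  obtain ⟨σ, hσ⟩ := hsurj ((T.presheaf.germ ⊤ t trivial).hom b)
  obtain ⟨W, hW, ρ₀, rfl⟩ := X.presheaf.exists_germ_eq σ
  obtain ⟨_, ⟨N, hN, rfl⟩, htN, hNle⟩ := X.isBasis_affineOpens.exists_subset_of_mem_open
    (show f t ∈ ((W ⊓ N₀ : X.Opens) : Set X) from ⟨hW, ht⟩) (W ⊓ N₀).isOpen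
  have hNW : N ≤ W := fun y hy => (hNle hy).1
  refine ⟨N, htN, (X.presheaf.map (homOfLE hNW).op).hom ρ₀, hN, fun y hy => (hNle hy).2, ?_⟩
  rw [← hσ]
  congr 1
  exact TopCat.Presheaf.germ_res_apply X.presheaf (homOfLE hNW) (f t) htN ρ₀

section Integral

variable [IsIntegral T]

theorem app_eq_res (t : T) (N : X.Opens) (htN : f t ∈ N) (ρ : Γ(X, N)) (b : Γ(T, ⊤))
    (h : (f.stalkMap t).hom ((X.presheaf.germ N (f t) htN).hom ρ) = (T.presheaf.germ ⊤ t trivial).hom b) :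
    (f.app N).hom ρ = (T.presheaf.map (homOfLE (le_top : f ⁻¹ᵁ N ≤ ⊤)).op).hom b := by
  apply germ_injective_of_isIntegral T t (show t ∈ f ⁻¹ᵁ N from htN)
  have h1 := Scheme.Hom.germ_stalkMap f N t htN
  have h2 := congrArg (fun φ => φ.hom ρ) h1
  simp only [CommRingCat.hom_comp, RingHom.comp_apply] at h2
  rw [← h2, h]
  exact (TopCat.Presheaf.germ_res_apply T.presheaf (homOfLE (le_top : f ⁻¹ᵁ N ≤ ⊤)) t htN b).symm

omit [IsIntegral T] in
theorem preimage_basicOpen_eq (N : X.Opens) (ρ : Γ(X, N)) (b : Γ(T, ⊤))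
    (h : (f.app N).hom ρ = (T.presheaf.map (homOfLE (le_top : f ⁻¹ᵁ N ≤ ⊤)).op).hom b) :
    f ⁻¹ᵁ X.basicOpen ρ = f ⁻¹ᵁ N ⊓ T.basicOpen b := by
  rw [Scheme.preimage_basicOpen]
  have : T.basicOpen ((f.app N).hom ρ) = T.basicOpen ((T.presheaf.map (homOfLE (le_top : f ⁻¹ᵁ N ≤ ⊤)).op).hom b) := by
    rw [h]
  exact this.trans (Scheme.basicOpen_res T b (homOfLE (le_top : f ⁻¹ᵁ N ≤ ⊤)).op)

omit [IsIntegral T] in
/-- a generization `y` of `f t` at which `ρ` does not vanish lies in `U`, if `D(b) ⊆ f⁻¹ U` -/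
theorem mem_of_specializes (t : T) [IsIso (f.stalkMap t)] (N : X.Opens) (ρ : Γ(X, N)) (b : Γ(T, ⊤))
    (h : (f.app N).hom ρ = (T.presheaf.map (homOfLE (le_top : f ⁻¹ᵁ N ≤ ⊤)).op).hom b)
    (U : X.Opens) (hbU : T.basicOpen b ≤ f ⁻¹ᵁ U) (y : X) (hy : y ⤳ f t)
    (hyρ : y ∈ X.basicOpen ρ) : y ∈ U := by
  obtain ⟨s, -, rfl⟩ := exists_specializes_of_isIso f t y hy
  have h1 : s ∈ f ⁻¹ᵁ X.basicOpen ρ := hyρ
  rw [preimage_basicOpen_eq f N ρ b h] at h1
  exact hbU h1.2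

omit [IsIntegral T] in
theorem mem_basicOpen_of_mem (t : T) (N : X.Opens) (htN : f t ∈ N) (ρ : Γ(X, N)) (b : Γ(T, ⊤))
    (h : (f.app N).hom ρ = (T.presheaf.map (homOfLE (le_top : f ⁻¹ᵁ N ≤ ⊤)).op).hom b)
    (ht : t ∈ T.basicOpen b) : f t ∈ X.basicOpen ρ := by
  have h1 : t ∈ f ⁻¹ᵁ X.basicOpen ρ := by
    rw [preimage_basicOpen_eq f N ρ b h]
    exact ⟨htN, ht⟩
  exact h1

end Integral

end Groth.Agent.Lib.Helper18.AffImageCore
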