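import Mathlib
import Groth.Agent.Lib.Helper18.AffImageCore1
import Groth.Agent.Lib.Helper12.QuasiAffine
import Groth.Agent.S7389

/-!
# Affine opens containing the images of points with isomorphic local rings: the integral case (helper18)

`exists_affineOpen_of_integral`: `f : T ⟶ X` with `T` integral affine, `X` integral, `s` a finite set of points of `T` at
which `O_{X, f t} → O_{T, t}` is an isomorphism.  Then some affine open of `X` contains `f(s)`.

Proof: choose affine opens `V i ∋ f (t i)` and `b i ∈ Γ(T)` with `t i ∈ D(b i) ⊆ f⁻¹ (V i)`; transport the `b i` to sections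
`r i` of `O_X` over an open neighbourhood `N` of `f(s)`, shrunk so that `D(r i) ⊆ V i`.  Then `Ω = ⋃ D(r i)` is
quasi-affine (covered by the quasi-affine `Ω_{r i} ⊆ V i`), and finite subsets of quasi-affine schemes lie in affine opens.
-/

set_option autoImplicit false
universe u
open CategoryTheory CategoryTheory.Limits AlgebraicGeometry TopologicalSpace Opposite

namespace Groth.Agent.Lib.Helper18.AffImageCore
open Groth.Agent.Lib.Helper18.LocIsoLift

variable {T X : Scheme.{u}} (f : T ⟶ X)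

theorem exists_sections_of_stalkMap_surjective (t : T) (hsurj : Function.Surjective (f.stalkMap t).hom)
    (N₀ : X.Opens) (ht : f t ∈ N₀) {ι : Type*} (F : Finset ι) (b : ι → Γ(T, ⊤)) :
    ∃ (N : X.Opens) (htN : f t ∈ N) (ρ : ι → Γ(X, N)), IsAffineOpen N ∧ N ≤ N₀ ∧
      ∀ i ∈ F, (f.stalkMap t).hom ((X.presheaf.germ N (f t) htN).hom (ρ i)) =
        (T.presheaf.germ ⊤ t trivial).hom (b i) := by
  classical
  induction F using Finset.induction_on with
  | empty =>
    obtain ⟨_, ⟨N, hN, rfl⟩, htN, hNle⟩ := X.isBasis_affineOpens.exists_subset_of_mem_open ht N₀.isOpen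
    exact ⟨N, htN, fun _ => 0, hN, hNle, fun i hi => absurd hi (Finset.notMem_empty i)⟩
  | insert a F' ha ih =>
    obtain ⟨N, htN, ρ, hN, hle, hρ⟩ := ih
    obtain ⟨N', htN', ρa, hN', hle', hρa⟩ := exists_section_of_stalkMap_surjective f t hsurj N htN (b a)
    refine ⟨N', htN', fun i => if i = a then ρa else (X.presheaf.map (homOfLE hle').op).hom (ρ i), hN',
      hle'.trans hle, ?_⟩
    intro i hi
    by_cases hia : i = a
    · subst hia
      simp only [if_true]
      exact hρa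
    · simp only [if_neg hia]
      have hi' : i ∈ F' := (Finset.mem_insert.mp hi).resolve_left hia
      rw [← hρ i hi']
      congr 1
      exact TopCat.Presheaf.germ_res_apply X.presheaf (homOfLE hle') (f t) htN' (ρ i)

theorem mem_basicOpen_prod {ι : Type*} (F : Finset ι) (U : X.Opens) (h : ι → Γ(X, U)) (x : X) (hx : x ∈ U) :
    x ∈ X.basicOpen (∏ i ∈ F, h i) ↔ ∀ i ∈ F, x ∈ X.basicOpen (h i) := by
  classical
  induction F using Finset.induction_on with
  | empty =>
    simp only [Finset.prod_empty, Finset.notMem_empty, false_imp_iff, implies_true, iff_true]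
    rw [Scheme.basicOpen_of_isUnit X isUnit_one]
    exact hx
  | insert a F' ha ih =>
    rw [Finset.prod_insert ha, Scheme.basicOpen_mul]
    constructor
    · rintro ⟨h1, h2⟩ i hi
      rcases Finset.mem_insert.mp hi with rfl | hi'
      · exact h1
      · exact ih.mp h2 i hi'
    · intro h1
      exact ⟨h1 a (Finset.mem_insert_self a F'), ih.mpr fun i hi => h1 i (Finset.mem_insert_of_mem hi)⟩

section Integral

variable [IsIntegral T] [IsIntegral X]

theorem res_eq_res (hη : f (genericPoint T) = genericPoint X)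
    (N₁ N₂ : X.Opens) (hN₁ : (N₁ : Set X).Nonempty) (hN₂ : (N₂ : Set X).Nonempty)
    (ρ₁ : Γ(X, N₁)) (ρ₂ : Γ(X, N₂)) (b : Γ(T, ⊤))
    (h₁ : (f.app N₁).hom ρ₁ = (T.presheaf.map (homOfLE (le_top : f ⁻¹ᵁ N₁ ≤ ⊤)).op).hom b)
    (h₂ : (f.app N₂).hom ρ₂ = (T.presheaf.map (homOfLE (le_top : f ⁻¹ᵁ N₂ ≤ ⊤)).op).hom b) :
    (X.presheaf.map (Opens.infLELeft N₁ N₂).op).hom ρ₁ = (X.presheaf.map (Opens.infLERight N₁ N₂).op).hom ρ₂ := by
  have hne : ((N₁ ⊓ N₂ : X.Opens) : Set X).Nonempty :=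
    nonempty_preirreducible_inter N₁.isOpen N₂.isOpen hN₁ hN₂
  apply app_injective_of_generic f hη (N₁ ⊓ N₂) hne
  have e1 := f.naturality (Opens.infLELeft N₁ N₂).op
  have e2 := f.naturality (Opens.infLERight N₁ N₂).op
  have e1' := congrArg (fun φ => φ.hom ρ₁) e1
  have e2' := congrArg (fun φ => φ.hom ρ₂) e2
  simp only [CommRingCat.hom_comp, RingHom.comp_apply] at e1' e2'
  rw [e1', e2', h₁, h₂]
  rw [← RingHom.comp_apply, ← RingHom.comp_apply, ← CommRingCat.hom_comp, ← CommRingCat.hom_comp,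
    ← Functor.map_comp, ← Functor.map_comp]
  rfl

/-- **the integral case**: images of finitely many points with isomorphic local rings lie in an affine open -/
theorem exists_affineOpen_of_integral [IsAffine T]
    (s : Finset T) (hs : ∀ t ∈ s, IsIso (f.stalkMap t)) :
    ∃ U : X.Opens, IsAffineOpen U ∧ ∀ t ∈ s, f t ∈ U := by
  classical
  rcases s.eq_empty_or_nonempty with rfl | ⟨t₀, ht₀⟩
  · exact ⟨⊥, isAffineOpen_bot X, fun t ht => absurd ht (Finset.notMem_empty t)⟩
  have hη : f (genericPoint T) = genericPoint X := by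
    haveI := hs t₀ ht₀
    have h1 : genericPoint X ⤳ f t₀ := (genericPoint_spec X).specializes (Set.mem_univ _)
    obtain ⟨s₀, -, hs₀⟩ := exists_specializes_of_isIso f t₀ _ h1
    have h2 : genericPoint T ⤳ s₀ := (genericPoint_spec T).specializes (Set.mem_univ _)
    have h3 : f (genericPoint T) ⤳ genericPoint X := hs₀ ▸ h2.map f.continuous
    have h4 : genericPoint X ⤳ f (genericPoint T) := (genericPoint_spec X).specializes (Set.mem_univ _)
    exact (h3.antisymm h4).eq
  let ι := {t : T // t ∈ s}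
  have hiso : ∀ j : ι, IsIso (f.stalkMap j.1) := fun j => hs j.1 j.2
  have hV : ∀ i : ι, ∃ V : X.Opens, IsAffineOpen V ∧ f i.1 ∈ V := by
    intro i
    obtain ⟨_, ⟨V, hV, rfl⟩, hxV, -⟩ := X.isBasis_affineOpens.exists_subset_of_mem_open
      (Set.mem_univ (f i.1)) isOpen_univ
    exact ⟨V, hV, hxV⟩
  choose V hVaff hfV using hV
  have hb : ∀ i : ι, ∃ b : Γ(T, ⊤), i.1 ∈ T.basicOpen b ∧ T.basicOpen b ≤ f ⁻¹ᵁ V i := by
    intro i
    obtain ⟨_, ⟨_, ⟨b, rfl⟩, rfl⟩, hib, hle⟩ := (isBasis_basicOpen T).exists_subset_of_mem_open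
      (show i.1 ∈ ((f ⁻¹ᵁ V i : T.Opens) : Set T) from hfV i) (f ⁻¹ᵁ V i).isOpen
    exact ⟨b, hib, hle⟩
  choose b hib hbV using hb
  have hN : ∀ j : ι, ∃ (N : X.Opens) (htN : f j.1 ∈ N) (ρ : ι → Γ(X, N)), IsAffineOpen N ∧
      (∀ i, (f.stalkMap j.1).hom ((X.presheaf.germ N (f j.1) htN).hom (ρ i)) =
        (T.presheaf.germ ⊤ j.1 trivial).hom (b i)) ∧
      ∀ i, X.basicOpen (ρ i) ≤ V i := by
    intro j
    haveI := hiso j
    have hsurj : Function.Surjective (f.stalkMap j.1).hom :=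
      (ConcreteCategory.bijective_of_isIso (f.stalkMap j.1)).2
    obtain ⟨N, htN, ρ, hNaff, -, hρ⟩ :=
      exists_sections_of_stalkMap_surjective f j.1 hsurj ⊤ trivial Finset.univ b
    have happ : ∀ i, (f.app N).hom (ρ i) =
        (T.presheaf.map (homOfLE (le_top : f ⁻¹ᵁ N ≤ ⊤)).op).hom (b i) :=
      fun i => app_eq_res f j.1 N htN (ρ i) (b i) (hρ i (Finset.mem_univ i))
    have hh : ∀ i : ι, ∃ h' : Γ(X, N), f j.1 ∈ X.basicOpen h' ∧ X.basicOpen (h' * ρ i) ≤ V i := by
      intro i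
      apply exists_basicOpen_mul_le N hNaff (f j.1) htN (V i) (ρ i)
      intro y _ hy hyρ
      exact mem_of_specializes f j.1 N (ρ i) (b i) (happ i) (V i) (hbV i) y hy hyρ
    choose h' hh'x hh'V using hh
    let H : Γ(X, N) := ∏ i ∈ Finset.univ, h' i
    have hHx : f j.1 ∈ X.basicOpen H :=
      (mem_basicOpen_prod Finset.univ N h' _ htN).mpr fun i _ => hh'x i
    have hN'N : X.basicOpen H ≤ N := X.basicOpen_le H
    refine ⟨X.basicOpen H, hHx, fun i => (X.presheaf.map (homOfLE hN'N).op).hom (ρ i),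
      hNaff.basicOpen H, ?_, ?_⟩
    · intro i
      rw [← hρ i (Finset.mem_univ i)]
      congr 1
      exact TopCat.Presheaf.germ_res_apply X.presheaf (homOfLE hN'N) (f j.1) hHx (ρ i)
    · intro i
      have e : X.basicOpen ((X.presheaf.map (homOfLE hN'N).op).hom (ρ i)) =
          X.basicOpen H ⊓ X.basicOpen (ρ i) := Scheme.basicOpen_res X (ρ i) (homOfLE hN'N).op
      rw [e]
      intro y hy
      apply hh'V i
      rw [Scheme.basicOpen_mul]
      exact ⟨(mem_basicOpen_prod Finset.univ N h' y (hN'N hy.1)).mp hy.1 i (Finset.mem_univ i), hy.2⟩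
  choose N htN ρ hNaff hρ hρV using hN
  have happ : ∀ j i, (f.app (N j)).hom (ρ j i) =
      (T.presheaf.map (homOfLE (le_top : f ⁻¹ᵁ N j ≤ ⊤)).op).hom (b i) :=
    fun j i => app_eq_res f j.1 (N j) (htN j) (ρ j i) (b i) (hρ j i)
  let NN : X.Opens := iSup N
  have hglue : ∀ i : ι, ∃ r : Γ(X, NN), ∀ j, (X.presheaf.map (homOfLE (le_iSup N j)).op).hom r = ρ j i := by
    intro i
    have compat : TopCat.Presheaf.IsCompatible X.presheaf N (fun j => ρ j i) := by
      intro j₁ j₂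
      exact res_eq_res f hη (N j₁) (N j₂) ⟨_, htN j₁⟩ ⟨_, htN j₂⟩ (ρ j₁ i) (ρ j₂ i) (b i)
        (happ j₁ i) (happ j₂ i)
    obtain ⟨r, hr, -⟩ := X.sheaf.existsUnique_gluing' N NN (fun j => homOfLE (le_iSup N j)) le_rfl
      (fun j => ρ j i) compat
    exact ⟨r, hr⟩
  choose r hr using hglue
  have hrj : ∀ i j, N j ⊓ X.basicOpen (r i) = X.basicOpen (ρ j i) := by
    intro i j
    rw [← hr i j]
    exact (Scheme.basicOpen_res X (r i) (homOfLE (le_iSup N j)).op).symm
  have hrV : ∀ i, X.basicOpen (r i) ≤ V i := by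
    intro i y hy
    have hyN : y ∈ NN := X.basicOpen_le _ hy
    obtain ⟨j, hj⟩ := Opens.mem_iSup.mp hyN
    apply hρV j i
    rw [← hrj i j]
    exact ⟨hj, hy⟩
  have hfr : ∀ i : ι, f i.1 ∈ X.basicOpen (r i) := by
    intro i
    have h1 : f i.1 ∈ X.basicOpen (ρ i i) :=
      mem_basicOpen_of_mem f i.1 (N i) (htN i) (ρ i i) (b i) (happ i i) (hib i)
    rw [← hrj i i] at h1
    exact h1.2
  have hrc : ∀ i, IsCompact (X.basicOpen (r i) : Set X) := by
    intro i
    have : (X.basicOpen (r i) : Set X) = ⋃ j, (X.basicOpen (ρ j i) : Set X) := by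
      ext y
      rw [Set.mem_iUnion]
      constructor
      · intro hy
        obtain ⟨j, hj⟩ := Opens.mem_iSup.mp (X.basicOpen_le _ hy)
        refine ⟨j, ?_⟩
        have : y ∈ N j ⊓ X.basicOpen (r i) := ⟨hj, hy⟩
        rwa [hrj i j] at this
      · rintro ⟨j, hj⟩
        have : y ∈ N j ⊓ X.basicOpen (r i) := by rw [hrj i j]; exact hj
        exact this.2
    rw [this]
    exact isCompact_iUnion fun j => ((hNaff j).basicOpen (ρ j i)).isCompact
  let Ω : X.Opens := ⨆ i, X.basicOpen (r i)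
  have hΩN : Ω ≤ NN := iSup_le fun i => X.basicOpen_le (r i)
  have hΩc : IsCompact (Ω : Set X) := by
    have : (Ω : Set X) = ⋃ i, (X.basicOpen (r i) : Set X) := Opens.coe_iSup _
    rw [this]
    exact isCompact_iUnion hrc
  let Y : Scheme.{u} := Ω
  haveI : CompactSpace Y := isCompact_iff_compactSpace.mp hΩc
  let sΩ : ι → Γ(X, Ω) := fun i => (X.presheaf.map (homOfLE hΩN).op).hom (r i)
  have hsΩ : ∀ i, X.basicOpen (sΩ i) = X.basicOpen (r i) := by
    intro i
    have h1 : X.basicOpen (sΩ i) = Ω ⊓ X.basicOpen (r i) :=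
      Scheme.basicOpen_res X (r i) (homOfLE hΩN).op
    rw [h1]
    exact inf_eq_right.mpr (le_iSup (fun i => X.basicOpen (r i)) i)
  let sY : ι → Γ(Y, ⊤) := fun i => Ω.topIso.inv (sΩ i)
  have hsY : ∀ i, Ω.ι ''ᵁ Y.basicOpen (sY i) = X.basicOpen (r i) :=
    fun i => (Scheme.Opens.ι_image_basicOpen_topIso_inv Ω (sΩ i)).trans (hsΩ i)
  haveI : Y.IsQuasiAffine := by
    apply Groth.Agent.Lib.helper12.qa_of_basicOpen_cover Y
    intro y
    obtain ⟨i, hi⟩ := Opens.mem_iSup.mp (show y.1 ∈ Ω from y.2)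
    refine ⟨sY i, ?_, ?_⟩
    · have h1 : Ω.ι y ∈ Ω.ι ''ᵁ Y.basicOpen (sY i) := by rw [hsY]; exact hi
      obtain ⟨y', hy', hyy'⟩ := h1
      have h2 := Ω.ι.isOpenEmbedding.injective hyy'
      rw [← h2]
      exact hy'
    · haveI : IsAffine (↑(V i) : Scheme.{u}) := hVaff i
      have hc : IsCompact ((Y.basicOpen (sY i) : Y.Opens) : Set Y) := by
        rw [Ω.ι.isOpenEmbedding.isInducing.isCompact_iff]
        have h1 : Ω.ι '' ((Y.basicOpen (sY i) : Y.Opens) : Set Y) = (X.basicOpen (r i) : Set X) :=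
          congrArg (fun O : X.Opens => (O : Set X)) (hsY i)
        rw [h1]
        exact hrc i
      haveI : CompactSpace (↑(Y.basicOpen (sY i)) : Scheme.{u}) := isCompact_iff_compactSpace.mp hc
      have hrange : Set.range ((Y.basicOpen (sY i)).ι ≫ Ω.ι) ⊆ Set.range (V i).ι := by
        rintro _ ⟨y, rfl⟩
        rw [Scheme.Opens.range_ι]
        apply hrV i
        rw [← hsY i]
        exact ⟨(Y.basicOpen (sY i)).ι y, y.2, rfl⟩
      let g : (↑(Y.basicOpen (sY i)) : Scheme.{u}) ⟶ (↑(V i) : Scheme.{u}) :=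
        IsOpenImmersion.lift (V i).ι ((Y.basicOpen (sY i)).ι ≫ Ω.ι) hrange
      haveI : IsOpenImmersion g := by
        have h1 : g ≫ (V i).ι = (Y.basicOpen (sY i)).ι ≫ Ω.ι := IsOpenImmersion.lift_fac _ _ _
        have : IsOpenImmersion (g ≫ (V i).ι) := by rw [h1]; infer_instance
        exact IsOpenImmersion.of_comp g (V i).ι
      exact Scheme.IsQuasiAffine.of_isImmersion g
  let E : Set Y := Ω.ι ⁻¹' (f '' (s : Set T))
  have hE : E.Finite := ((s.finite_toSet).image _).preimage Ω.ι.isOpenEmbedding.injective.injOn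
  obtain ⟨U', hU', hEU'⟩ := Groth.Agent.S7389.result Y.toSpecΓ E hE
  refine ⟨Ω.ι ''ᵁ U', hU'.image_of_isOpenImmersion Ω.ι, ?_⟩
  intro t ht
  have htΩ : f t ∈ Ω := Opens.mem_iSup.mpr ⟨⟨t, ht⟩, hfr ⟨t, ht⟩⟩
  exact ⟨⟨f t, htΩ⟩, hEU' ⟨t, ht, rfl⟩, rfl⟩

end Integral

end Groth.Agent.Lib.Helper18.AffImageCore
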