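import Mathlib
import Groth.Agent.Lib.Helper12.PushoutCrit

/-!
# The union of two closed subschemes is their pushout along the intersection (helper18)

For ideal sheaves `I`, `J` on a scheme `X` the square of closed subschemes
`V(I + J) → V(I)`, `V(I + J) → V(J)`, `V(I) → V(I ∩ J)`, `V(J) → V(I ∩ J)` is a pushout in the category of schemes
(`isPushout_inclusion`), by helper12's criterion `PushoutCrit.isPushout_of_injective`: on affine opens it is the exact
sequence `0 → A/(I ∩ J) → A/I × A/J → A/(I + J)`.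
-/

set_option autoImplicit false
universe u
open CategoryTheory CategoryTheory.Limits AlgebraicGeometry TopologicalSpace Opposite
open Scheme IdealSheafData

namespace Groth.Agent.Lib.Helper18.SubschemePushout

variable {X : Scheme.{u}}

theorem app_eq_zero_iff_of_eq {A : Scheme.{u}} {f g : A ⟶ X} (e : f = g) (U : X.Opens) (a : Γ(X, U)) :
    f.app U a = 0 ↔ g.app U a = 0 := by subst e; rfl

theorem app_surjective_of_eq {A : Scheme.{u}} {f g : A ⟶ X} (e : f = g) (U : X.Opens)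
    (h : Function.Surjective (f.app U)) : Function.Surjective (g.app U) := by subst e; exact h

instance isClosedImmersion_inclusion {K L : X.IdealSheafData} (h : K ≤ L) :
    IsClosedImmersion (inclusion h) := by
  haveI : IsClosedImmersion (inclusion h ≫ K.subschemeι) := by
    rw [inclusion_subschemeι]; infer_instance
  exact IsClosedImmersion.of_comp_isClosedImmersion (inclusion h) K.subschemeι

section Chain

variable {K L : X.IdealSheafData} (h : K ≤ L) (U : X.affineOpens)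

/-- sections of `V(L)` over the preimage of an affine open, through `V(K)` -/
theorem app_app_eq_zero_iff (a : Γ(X, U.1)) :
    (inclusion h).app (K.subschemeι ⁻¹ᵁ U.1) (K.subschemeι.app U.1 a) = 0 ↔ a ∈ L.ideal U := by
  have h1 : (inclusion h).app (K.subschemeι ⁻¹ᵁ U.1) (K.subschemeι.app U.1 a) =
      (inclusion h ≫ K.subschemeι).app U.1 a := by
    rw [Scheme.Hom.comp_app]; rfl
  rw [h1]
  refine Iff.trans (app_eq_zero_iff_of_eq (inclusion_subschemeι h) U.1 a) ?_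
  rw [← L.ker_subschemeι_app U]
  rfl

theorem app_app_surjective (σ : Γ(L.subscheme, (inclusion h) ⁻¹ᵁ K.subschemeι ⁻¹ᵁ U.1)) :
    ∃ a : Γ(X, U.1), (inclusion h).app (K.subschemeι ⁻¹ᵁ U.1) (K.subschemeι.app U.1 a) = σ := by
  have h2 : Function.Surjective ((inclusion h ≫ K.subschemeι).app U.1) :=
    app_surjective_of_eq (inclusion_subschemeι h).symm U.1 (L.subschemeι_app_surjective U)
  obtain ⟨a, ha⟩ := h2 σ
  refine ⟨a, ?_⟩
  rw [← ha, Scheme.Hom.comp_app]
  rfl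

end Chain

theorem inclusion_apply {K L : X.IdealSheafData} (h : K ≤ L) (x : L.subscheme) :
    K.subschemeι ((inclusion h) x) = L.subschemeι x := by
  rw [← Scheme.Hom.comp_apply, inclusion_subschemeι]

theorem app_eq_of_eq_map {A : Scheme.{u}} {f g : A ⟶ X} (e : f = g) (U : X.Opens) (a₁ a₂ : Γ(X, U))
    (le : f ⁻¹ᵁ U ≤ g ⁻¹ᵁ U) (h : f.app U a₁ = A.presheaf.map (homOfLE le).op (g.app U a₂)) :
    f.app U a₁ = f.app U a₂ := by
  subst e
  have h2 : A.presheaf.map (homOfLE le).op = 𝟙 _ := by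
    have : homOfLE le = 𝟙 _ := Subsingleton.elim _ _
    rw [this, op_id, CategoryTheory.Functor.map_id]
  rw [h2] at h
  exact h

theorem mem_support_inf (I J : X.IdealSheafData) (x : X) (hx : x ∈ (I ⊓ J).support) :
    x ∈ I.support ∨ x ∈ J.support := by
  obtain ⟨_, ⟨U, hU, rfl⟩, hxU, -⟩ :=
    X.isBasis_affineOpens.exists_subset_of_mem_open (Set.mem_univ x) isOpen_univ
  by_contra hcon
  push Not at hcon
  obtain ⟨hI, hJ⟩ := hcon
  rw [mem_support_iff_of_mem (U := ⟨U, hU⟩) hxU, Scheme.mem_zeroLocus_iff] at hI hJ hx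
  push Not at hI hJ
  obtain ⟨f, hf, hxf⟩ := hI
  obtain ⟨g, hg, hxg⟩ := hJ
  refine hx (f * g) ⟨Ideal.mul_mem_right _ _ hf, Ideal.mul_mem_left _ _ hg⟩ ?_
  rw [Scheme.basicOpen_mul]
  exact ⟨hxf, hxg⟩

section Main

variable (I J : X.IdealSheafData)

/-- `V(I) ⟶ V(I ∩ J)` -/
noncomputable abbrev p₁ : I.subscheme ⟶ (I ⊓ J).subscheme := inclusion inf_le_left
/-- `V(J) ⟶ V(I ∩ J)` -/
noncomputable abbrev p₂ : J.subscheme ⟶ (I ⊓ J).subscheme := inclusion inf_le_right
/-- `V(I + J) ⟶ V(I)` -/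
noncomputable abbrev j₁ : (I ⊔ J).subscheme ⟶ I.subscheme := inclusion le_sup_left
/-- `V(I + J) ⟶ V(J)` -/
noncomputable abbrev j₂ : (I ⊔ J).subscheme ⟶ J.subscheme := inclusion le_sup_right

theorem w : j₁ I J ≫ p₁ I J = j₂ I J ≫ p₂ I J := by
  rw [inclusion_comp, inclusion_comp]

theorem hsurj (p : (I ⊓ J).subscheme) :
    (∃ x : I.subscheme, (p₁ I J) x = p) ∨ (∃ y : J.subscheme, (p₂ I J) y = p) := by
  have hq : (I ⊓ J).subschemeι p ∈ (I ⊓ J).support := by
    have : (I ⊓ J).subschemeι p ∈ Set.range (I ⊓ J).subschemeι := ⟨p, rfl⟩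
    rwa [range_subschemeι] at this
  rcases mem_support_inf I J _ hq with h | h
  · left
    have : (I ⊓ J).subschemeι p ∈ Set.range I.subschemeι := by rw [range_subschemeι]; exact h
    obtain ⟨x, hx⟩ := this
    refine ⟨x, (I ⊓ J).subschemeι.isEmbedding.injective ?_⟩
    rw [inclusion_apply, hx]
  · right
    have : (I ⊓ J).subschemeι p ∈ Set.range J.subschemeι := by rw [range_subschemeι]; exact h
    obtain ⟨y, hy⟩ := this
    refine ⟨y, (I ⊓ J).subschemeι.isEmbedding.injective ?_⟩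
    rw [inclusion_apply, hy]

theorem hopen (s : Set (I ⊓ J).subscheme) (h1 : IsOpen ((p₁ I J) ⁻¹' s))
    (h2 : IsOpen ((p₂ I J) ⁻¹' s)) : IsOpen s := by
  rw [← isClosed_compl_iff]
  have : sᶜ = (p₁ I J) '' ((p₁ I J) ⁻¹' sᶜ) ∪ (p₂ I J) '' ((p₂ I J) ⁻¹' sᶜ) := by
    ext p
    constructor
    · intro hp
      rcases hsurj I J p with ⟨x, rfl⟩ | ⟨y, rfl⟩
      · exact Or.inl ⟨x, hp, rfl⟩
      · exact Or.inr ⟨y, hp, rfl⟩
    · rintro (⟨x, hx, rfl⟩ | ⟨y, hy, rfl⟩)
      · exact hx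
      · exact hy
  rw [this]
  exact ((p₁ I J).isClosedEmbedding.isClosedMap _ h1.isClosed_compl).union
    ((p₂ I J).isClosedEmbedding.isClosedMap _ h2.isClosed_compl)

theorem hmeet (x : I.subscheme) (y : J.subscheme) (h : (p₁ I J) x = (p₂ I J) y) :
    ∃ z : (I ⊔ J).subscheme, (j₁ I J) z = x ∧ (j₂ I J) z = y := by
  have h1 : I.subschemeι x = J.subschemeι y := by
    rw [← inclusion_apply (inf_le_left : I ⊓ J ≤ I) x, ← inclusion_apply (inf_le_right : I ⊓ J ≤ J) y]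
    exact congrArg _ h
  have hq : I.subschemeι x ∈ (I ⊔ J).support := by
    rw [support_sup]
    refine ⟨?_, ?_⟩
    · have : I.subschemeι x ∈ Set.range I.subschemeι := ⟨x, rfl⟩
      rwa [range_subschemeι] at this
    · have : J.subschemeι y ∈ Set.range J.subschemeι := ⟨y, rfl⟩
      rw [range_subschemeι] at this
      rw [h1]
      exact this
  have : I.subschemeι x ∈ Set.range (I ⊔ J).subschemeι := by rw [range_subschemeι]; exact hq
  obtain ⟨z, hz⟩ := this
  refine ⟨z, I.subschemeι.isEmbedding.injective ?_, J.subschemeι.isEmbedding.injective ?_⟩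
  · rw [inclusion_apply, hz]
  · rw [inclusion_apply, hz, h1]

/-- **the union of two closed subschemes is their pushout along the intersection** -/
theorem isPushout_inclusion : IsPushout (j₁ I J) (j₂ I J) (p₁ I J) (p₂ I J) := by
  let ℬ : Set (I ⊓ J).subscheme.Opens := {B | ∃ U : X.affineOpens, B = (I ⊓ J).subschemeι ⁻¹ᵁ U.1}
  refine Groth.Agent.Lib.Helper12.PushoutCrit.isPushout_of_injective (j₁ I J) (j₂ I J) (p₁ I J) (p₂ I J)
    (w I J) (hsurj I J) (hopen I J) ℬ ?_ ?_ ?_ (p₁ I J).isClosedEmbedding.injective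
    (p₂ I J).isClosedEmbedding.injective (hmeet I J)
  · intro V p hp
    obtain ⟨t, ht, htV⟩ := ((I ⊓ J).subschemeι.isEmbedding.isInducing.isOpen_iff).mp V.isOpen
    have hpt : (I ⊓ J).subschemeι p ∈ t := by
      have : p ∈ (I ⊓ J).subschemeι ⁻¹' t := by rw [htV]; exact hp
      exact this
    obtain ⟨_, ⟨U, hU, rfl⟩, hpU, hUt⟩ := X.isBasis_affineOpens.exists_subset_of_mem_open hpt ht
    refine ⟨(I ⊓ J).subschemeι ⁻¹ᵁ U, ⟨⟨U, hU⟩, rfl⟩, hpU, ?_⟩
    intro x hx
    have : x ∈ (I ⊓ J).subschemeι ⁻¹' t := hUt hx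
    rw [htV] at this
    exact this
  · rintro _ ⟨U, rfl⟩ s t h1 h2
    obtain ⟨a, rfl⟩ := (I ⊓ J).subschemeι_app_surjective U s
    obtain ⟨b, rfl⟩ := (I ⊓ J).subschemeι_app_surjective U t
    have hI : a - b ∈ I.ideal U := by
      rw [← app_app_eq_zero_iff (inf_le_left : I ⊓ J ≤ I) U, map_sub, map_sub, sub_eq_zero]
      exact h1
    have hJ : a - b ∈ J.ideal U := by
      rw [← app_app_eq_zero_iff (inf_le_right : I ⊓ J ≤ J) U, map_sub, map_sub, sub_eq_zero]
      exact h2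
    have h3 : a - b ∈ (I ⊓ J).ideal U := ⟨hI, hJ⟩
    rw [← (I ⊓ J).ker_subschemeι_app U] at h3
    have h4 : ((I ⊓ J).subschemeι.app U.1).hom (a - b) = 0 := h3
    rw [map_sub, sub_eq_zero] at h4
    exact h4
  · rintro _ ⟨U, rfl⟩ σ₁ σ₂ hc
    obtain ⟨a₁, rfl⟩ := app_app_surjective (inf_le_left : I ⊓ J ≤ I) U σ₁
    obtain ⟨a₂, rfl⟩ := app_app_surjective (inf_le_right : I ⊓ J ≤ J) U σ₂
    -- compatibility gives `a₁ - a₂ ∈ I + J`
    have e12 : j₁ I J ≫ p₁ I J ≫ (I ⊓ J).subschemeι = j₂ I J ≫ p₂ I J ≫ (I ⊓ J).subschemeι := by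
      rw [← Category.assoc, ← Category.assoc, w I J]
    have hc' : (j₁ I J ≫ p₁ I J ≫ (I ⊓ J).subschemeι).app U.1 a₁ =
        (j₁ I J ≫ p₁ I J ≫ (I ⊓ J).subschemeι).app U.1 a₂ := by
      refine app_eq_of_eq_map e12 U.1 a₁ a₂ ?_ ?_
      · exact Groth.Agent.Lib.Helper12.PushoutCrit.preimage_le (j₁ I J) (j₂ I J) (p₁ I J) (p₂ I J) (w I J)
          ((I ⊓ J).subschemeι ⁻¹ᵁ U.1)
      · have h5 := hc
        unfold Groth.Agent.Lib.Helper12.PushoutCrit.Compat at h5
        rw [Scheme.Hom.appLE] at h5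
        simp only [Scheme.Hom.comp_app, CommRingCat.comp_apply] at h5 ⊢
        exact h5
    have eZ : j₁ I J ≫ p₁ I J ≫ (I ⊓ J).subschemeι = (I ⊔ J).subschemeι := by
      rw [inclusion_subschemeι, inclusion_subschemeι]
    have h6 : (j₁ I J ≫ p₁ I J ≫ (I ⊓ J).subschemeι).app U.1 (a₁ - a₂) = 0 := by
      rw [map_sub, sub_eq_zero]; exact hc'
    rw [app_eq_zero_iff_of_eq eZ U.1 (a₁ - a₂)] at h6
    have h7 : a₁ - a₂ ∈ (I ⊔ J).ideal U := by
      rw [← (I ⊔ J).ker_subschemeι_app U]; exact h6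
    have h8 : a₁ - a₂ ∈ I.ideal U ⊔ J.ideal U := h7
    obtain ⟨x, hx, y, hy, hxy⟩ := Submodule.mem_sup.mp h8
    refine ⟨(I ⊓ J).subschemeι.app U.1 (a₁ - x), ?_, ?_⟩
    · rw [map_sub, map_sub, (app_app_eq_zero_iff (inf_le_left : I ⊓ J ≤ I) U x).mpr hx, sub_zero]
    · have h9 : a₁ - x = a₂ + y := by linear_combination -hxy
      rw [h9, map_add, map_add, (app_app_eq_zero_iff (inf_le_right : I ⊓ J ≤ J) U y).mpr hy, add_zero]

end Main

end Groth.Agent.Lib.Helper18.SubschemePushout
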