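import Mathlib
import Groth.Agent.Lib.Helper18.SubschemePushout
import Groth.Agent.Lib.Helper12.FiniteChart
import Groth.Agent.Lib.Helper7.ThickAff5

/-!
# Affine opens containing finitely many points, component by component (helper18)

* `P T I`: some affine open of the closed subscheme `V(I)` contains the points of the finite set `T` lying on `V(I)`.
* `P_top`, `P_inf`, `P_finset_inf`: the property passes to finite intersections of ideal sheaves (finite unions of closed
  subschemes), by the pushout square of `SubschemePushout` and helper12's `FiniteChart.exists_affineOpen_of_finite`.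
* `exists_affineOpen_of_support_eq_univ`: if `V(I)` is all of `X` as a set, `P T I` gives an affine open of `X` containing `T`
  (helper7's `ThickAff.isAffine_of_thickening`).
-/

set_option autoImplicit false
universe u
open CategoryTheory CategoryTheory.Limits AlgebraicGeometry TopologicalSpace Opposite
open Scheme IdealSheafData

namespace Groth.Agent.Lib.Helper18.PerComponent
open Groth.Agent.Lib.Helper18.SubschemePushout

variable {X : Scheme.{u}} (T : Finset X)

/-- some affine open of `V(I)` contains the points of `T` on `V(I)` -/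
def P (I : X.IdealSheafData) : Prop :=
  ∃ V : I.subscheme.Opens, IsAffineOpen V ∧
    ∀ t ∈ T, t ∈ I.support → t ∈ I.subschemeι.base '' (V : Set _)

theorem P_top : P T (⊤ : X.IdealSheafData) := by
  refine ⟨⊥, isAffineOpen_bot _, ?_⟩
  intro t _ hts
  rw [support_top] at hts
  exact hts.elim

theorem mem_support_subschemeι (I : X.IdealSheafData) (x : I.subscheme) :
    I.subschemeι x ∈ I.support := by
  have : I.subschemeι x ∈ Set.range I.subschemeι := ⟨x, rfl⟩
  rwa [range_subschemeι] at this

theorem P_inf (I J : X.IdealSheafData) (hI : P T I) (hJ : P T J) : P T (I ⊓ J) := by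
  obtain ⟨V₁, hV₁, h₁⟩ := hI
  obtain ⟨V₂, hV₂, h₂⟩ := hJ
  let E : Set (I ⊓ J).subscheme := (I ⊓ J).subschemeι.base ⁻¹' (T : Set X)
  have hE : E.Finite :=
    T.finite_toSet.preimage (I ⊓ J).subschemeι.isEmbedding.injective.injOn
  have hE₁ : (p₁ I J).base ⁻¹' E ⊆ (V₁ : Set _) := by
    intro x hx
    have h3 : I.subschemeι x ∈ T := by
      rw [← inclusion_apply (inf_le_left : I ⊓ J ≤ I) x]; exact hx
    obtain ⟨y, hy, hyx⟩ := h₁ _ h3 (mem_support_subschemeι I x)
    have := I.subschemeι.isEmbedding.injective hyx
    rw [← this]; exact hy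
  have hE₂ : (p₂ I J).base ⁻¹' E ⊆ (V₂ : Set _) := by
    intro x hx
    have h3 : J.subschemeι x ∈ T := by
      rw [← inclusion_apply (inf_le_right : I ⊓ J ≤ J) x]; exact hx
    obtain ⟨y, hy, hyx⟩ := h₂ _ h3 (mem_support_subschemeι J x)
    have := J.subschemeι.isEmbedding.injective hyx
    rw [← this]; exact hy
  obtain ⟨U, hU, hEU⟩ := Groth.Agent.Lib.Helper12.FiniteChart.exists_affineOpen_of_finite
    (j₁ I J) (j₂ I J) (p₁ I J) (p₂ I J) (isPushout_inclusion I J) E hE ⟨V₁, hV₁, hE₁⟩ ⟨V₂, hV₂, hE₂⟩
  refine ⟨U, hU, ?_⟩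
  intro t ht hts
  have : t ∈ Set.range (I ⊓ J).subschemeι := by rw [range_subschemeι]; exact hts
  obtain ⟨p, rfl⟩ := this
  exact ⟨p, hEU ht, rfl⟩

theorem P_finset_inf {ι : Type*} (S : Finset ι) (f : ι → X.IdealSheafData)
    (h : ∀ i ∈ S, P T (f i)) : P T (S.inf f) := by
  classical
  induction S using Finset.induction_on with
  | empty => rw [Finset.inf_empty]; exact P_top T
  | insert a s ha ih =>
    rw [Finset.inf_insert]
    exact P_inf T _ _ (h a (Finset.mem_insert_self a s))
      (ih fun i hi => h i (Finset.mem_insert_of_mem hi))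

theorem exists_affineOpen_of_support_eq_univ (I : X.IdealSheafData)
    (hI : (I.support : Set X) = Set.univ) (hP : P T I) :
    ∃ U : X.Opens, IsAffineOpen U ∧ ∀ t ∈ T, t ∈ U := by
  obtain ⟨V, hV, hT⟩ := hP
  have hsurj : Function.Surjective I.subschemeι := by
    rw [← Set.range_eq_univ, range_subschemeι, hI]
  let e : I.subscheme ≃ₜ X :=
    I.subschemeι.isClosedEmbedding.isEmbedding.toHomeomorphOfSurjective hsurj
  have hopen : IsOpen (I.subschemeι.base '' (V : Set _)) := e.isOpenMap _ V.2
  let U : X.Opens := ⟨I.subschemeι.base '' (V : Set _), hopen⟩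
  have hpre : I.subschemeι ⁻¹ᵁ U = V := by
    ext x
    constructor
    · rintro ⟨y, hy, hyx⟩
      have := I.subschemeι.isEmbedding.injective hyx
      rw [← this]; exact hy
    · intro hx
      exact ⟨x, hx, rfl⟩
  refine ⟨U, ?_, ?_⟩
  · have h1 : IsAffineOpen (I.subschemeι ⁻¹ᵁ U) := by rw [hpre]; exact hV
    haveI : IsAffine (I.subschemeι ⁻¹ᵁ U).toScheme := h1
    have hs : Function.Surjective (I.subschemeι ∣_ U) := by
      rw [morphismRestrict_base]
      exact Set.restrictPreimage_surjective _ hsurj
    exact Groth.Agent.Lib.helper7.ThickAff.isAffine_of_thickening (I.subschemeι ∣_ U) hs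
  · intro t ht
    exact hT t ht (by rw [← SetLike.mem_coe, hI]; trivial)

/-- **per-component criterion**: finitely many irreducible components, each with an affine open (of the reduced structure)
containing the points of `T` on it ⇒ an affine open of `X` containing `T` -/
theorem exists_affineOpen_of_per_component
    (hX : (irreducibleComponents (X : Type u)).Finite)
    (h : ∀ (Z : Set X) (hZ : Z ∈ irreducibleComponents (X : Type u)),
      P T (vanishingIdeal (⟨Z, isClosed_of_mem_irreducibleComponents Z hZ⟩ : Closeds X))) :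
    ∃ U : X.Opens, IsAffineOpen U ∧ ∀ t ∈ T, t ∈ U := by
  classical
  let cl : Set X → Closeds X := fun Z => ⟨closure Z, isClosed_closure⟩
  let f : Set X → X.IdealSheafData := fun Z => vanishingIdeal (cl Z)
  have hP : ∀ Z ∈ hX.toFinset, P T (f Z) := by
    intro Z hZ
    rw [Set.Finite.mem_toFinset] at hZ
    have hcl : cl Z = ⟨Z, isClosed_of_mem_irreducibleComponents Z hZ⟩ :=
      Closeds.ext (isClosed_of_mem_irreducibleComponents Z hZ).closure_eq
    show P T (vanishingIdeal (cl Z))
    rw [hcl]
    exact h Z hZ
  have h1 := P_finset_inf T hX.toFinset f hP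
  refine exists_affineOpen_of_support_eq_univ T _ ?_ h1
  rw [Set.eq_univ_iff_forall]
  intro x
  obtain ⟨Z, hZ, hxZ⟩ : ∃ Z ∈ irreducibleComponents (X : Type u), x ∈ Z := by
    have h2 : x ∈ ⋃₀ irreducibleComponents (X : Type u) := by
      rw [sUnion_irreducibleComponents]; trivial
    exact h2
  have hle : hX.toFinset.inf f ≤ f Z := Finset.inf_le (by simpa using hZ)
  have h3 := support_antitone hle
  apply h3
  show x ∈ ((vanishingIdeal (cl Z)).support : Set X)
  rw [coe_support_vanishingIdeal]
  exact subset_closure hxZ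

end Groth.Agent.Lib.Helper18.PerComponent
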