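import Mathlib
import Groth.Agent.Lib.Helper18.AffImageCore2
import Groth.Agent.Lib.Helper18.PerComponent

/-!
# Affine opens containing the images of points with isomorphic local rings (helper18)

`exists_affineOpen_containing_images`: `f : T ⟶ X` with `T` affine, `X` with finitely many irreducible components, `f` injective on
generic points of irreducible components, `s` a finite set of points of `T` at which `O_{X, f t} → O_{T, t}` is an isomorphism.
Then some affine open of `X` contains `f(s)`.  (Stacks, Varieties, "Finding affine opens".)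

Reduction to the integral case (`AffImageCore.exists_affineOpen_of_integral`) on each irreducible component with its reduced
structure, via `PerComponent.exists_affineOpen_of_per_component`.
-/

set_option autoImplicit false
universe u
open CategoryTheory CategoryTheory.Limits AlgebraicGeometry TopologicalSpace Opposite
open Scheme IdealSheafData

namespace Groth.Agent.Lib.Helper18.AffImageRed
open Groth.Agent.Lib.Helper18.LocIsoLift Groth.Agent.Lib.Helper18.AffImageCore

section Copies

variable {X : Scheme.{u}}

/-- (after helper4 `ClosureProper`) -/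
theorem ker_eq_vanishingIdeal_range {Z : Scheme.{u}} [IsReduced Z] (i : Z ⟶ X) :
    i.ker = Scheme.IdealSheafData.vanishingIdeal (.closure (Set.range i)) := by
  rw [← Scheme.IdealSheafData.map_bot, ← Scheme.nilradical_eq_bot,
    ← Scheme.IdealSheafData.vanishingIdeal_top, Scheme.IdealSheafData.map_vanishingIdeal]
  congr 2
  simp

/-- (after helper4 `ClosureProper`) -/
theorem vanishingIdeal_le_ker_of_range_subset {Z : Scheme.{u}} [IsReduced Z] (i : Z ⟶ X)
    (C : Closeds X) (h : Set.range i ⊆ (C : Set X)) :
    Scheme.IdealSheafData.vanishingIdeal C ≤ i.ker := by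
  rw [ker_eq_vanishingIdeal_range]
  apply Scheme.IdealSheafData.vanishingIdeal_antimono
  rw [Closeds.closure_le]
  exact h

/-- (after helper4 `ClosureProper`) -/
theorem isReduced_subscheme_vanishingIdeal (C : Closeds X) :
    IsReduced (Scheme.IdealSheafData.vanishingIdeal C).subscheme := by
  have : ∀ i, IsReduced ((Scheme.IdealSheafData.vanishingIdeal C).subschemeCover.openCover.X i) := by
    intro (U : X.affineOpens)
    have hrad : ((Scheme.IdealSheafData.vanishingIdeal C).ideal U).IsRadical := by
      rw [Scheme.IdealSheafData.vanishingIdeal_ideal]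
      exact PrimeSpectrum.isRadical_vanishingIdeal _
    have : _root_.IsReduced (Γ(X, U) ⧸ (Scheme.IdealSheafData.vanishingIdeal C).ideal U) :=
      (Ideal.isRadical_iff_quotient_reduced _).mp hrad
    change IsReduced (Spec (.of (Γ(X, U) ⧸ (Scheme.IdealSheafData.vanishingIdeal C).ideal U)))
    infer_instance
  exact IsReduced.of_openCover _ (Scheme.IdealSheafData.vanishingIdeal C).subschemeCover.openCover

theorem range_subschemeι_vanishingIdeal (C : Closeds X) :
    Set.range (Scheme.IdealSheafData.vanishingIdeal C).subschemeι = (C : Set X) := by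
  rw [Scheme.IdealSheafData.range_subschemeι, Scheme.IdealSheafData.coe_support_vanishingIdeal]

/-- (after helper5 `ConsFibre`) the reduced induced subscheme on an irreducible closed subset is integral. -/
theorem isIntegral_subscheme_vanishingIdeal (C : Closeds X) (hC : IsIrreducible (C : Set X)) :
    IsIntegral (Scheme.IdealSheafData.vanishingIdeal C).subscheme := by
  haveI := isReduced_subscheme_vanishingIdeal C
  haveI : IrreducibleSpace ↥(Scheme.IdealSheafData.vanishingIdeal C).subscheme := by
    have hemb := (Scheme.IdealSheafData.vanishingIdeal C).subschemeι.isEmbedding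
    have hr := range_subschemeι_vanishingIdeal C
    have : IsIrreducible (Set.univ : Set ↥(Scheme.IdealSheafData.vanishingIdeal C).subscheme) := by
      haveI : IrreducibleSpace ↥(Set.range (Scheme.IdealSheafData.vanishingIdeal C).subschemeι) :=
        Subtype.irreducibleSpace (hr ▸ hC)
      have h1 := (IrreducibleSpace.isIrreducible_univ
        ↥(Set.range (Scheme.IdealSheafData.vanishingIdeal C).subschemeι)).image
          hemb.toHomeomorph.symm hemb.toHomeomorph.symm.continuous.continuousOn
      rwa [Set.image_univ, hemb.toHomeomorph.symm.surjective.range_eq] at h1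
    exact (irreducibleSpace_def _).mpr this
  exact isIntegral_of_irreducibleSpace_of_isReduced _

end Copies

section Square

variable {A B C D : Scheme.{u}}

theorem stalkMap_surjective_of_comp_eq (g' : A ⟶ B) (iB : B ⟶ D) (iA : A ⟶ C) (g : C ⟶ D)
    (h : g' ≫ iB = iA ≫ g) (a : A) (h1 : Function.Surjective (g.stalkMap (iA a)).hom)
    (h2 : Function.Surjective (iA.stalkMap a).hom) : Function.Surjective (g'.stalkMap a).hom := by
  have h3 : Function.Surjective ((iA ≫ g).stalkMap a).hom := by
    rw [Scheme.Hom.stalkMap_comp]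
    exact h2.comp h1
  have h4 : Function.Surjective ((g' ≫ iB).stalkMap a).hom := by
    rw [h]; exact h3
  rw [Scheme.Hom.stalkMap_comp] at h4
  exact Function.Surjective.of_comp h4

theorem isIso_stalkMap_of_surjective_of_generic [IsIntegral A] [IsIntegral B] (g : A ⟶ B)
    (hη : g (genericPoint A) = genericPoint B) (a : A)
    (hsurj : Function.Surjective (g.stalkMap a).hom) : IsIso (g.stalkMap a) := by
  rw [ConcreteCategory.isIso_iff_bijective]
  exact ⟨stalkMap_injective_of_generic g hη a, hsurj⟩

end Square

section Main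

variable {T X : Scheme.{u}} (f : T ⟶ X)

open Groth.Agent.Lib.Helper18.PerComponent in
/-- the hypothesis of the per-component criterion, for one irreducible component -/
theorem exists_affineOpen_component [IsAffine T] [DecidableEq X] (s : Finset T)
    (hs : ∀ t ∈ s, IsIso (f.stalkMap t))
    (hinj : ∀ η η' : T, closure ({η} : Set T) ∈ irreducibleComponents (T : Type u) →
      closure ({η'} : Set T) ∈ irreducibleComponents (T : Type u) → f η = f η' → η = η')
    (Z : Set X) (hZ : Z ∈ irreducibleComponents (X : Type u)) :
    P (s.image fun t => f t)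
      (vanishingIdeal (⟨Z, isClosed_of_mem_irreducibleComponents Z hZ⟩ : Closeds X)) := by
  classical
  set CZ : Closeds X := ⟨Z, isClosed_of_mem_irreducibleComponents Z hZ⟩ with hCZ
  have hCZc : (CZ : Set X) = Z := rfl
  by_cases hne : ∃ t ∈ s, f t ∈ Z
  swap
  · refine ⟨⊥, isAffineOpen_bot _, ?_⟩
    intro x hx hxs
    exfalso
    obtain ⟨t, ht, rfl⟩ := Finset.mem_image.mp hx
    apply hne
    refine ⟨t, ht, ?_⟩
    rw [← SetLike.mem_coe, coe_support_vanishingIdeal] at hxs
    exact hxs
  obtain ⟨t₀, ht₀, ht₀Z⟩ := hne
  -- the generic point of `Z`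
  obtain ⟨ξ, hξ⟩ := QuasiSober.sober hZ.1 (isClosed_of_mem_irreducibleComponents Z hZ)
  have hξcl : closure ({ξ} : Set X) = Z := hξ.def
  have hξmax : ∀ y : X, y ⤳ ξ → y = ξ := fun y hy =>
    eq_of_specializes_of_mem_irreducibleComponents ξ y (by rw [hξcl]; exact hZ) hy
  have hξspec : ∀ x ∈ Z, ξ ⤳ x := fun x hx => by
    rw [specializes_iff_mem_closure, hξcl]; exact hx
  -- lifts of `ξ`
  have hlift : ∀ t ∈ s, f t ∈ Z → ∃ τ : T, τ ⤳ t ∧ f τ = ξ ∧
      closure ({τ} : Set T) ∈ irreducibleComponents (T : Type u) := by
    intro t ht htZ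
    haveI := hs t ht
    obtain ⟨τ, h1, h2, h3⟩ := exists_generic_lift f t ξ (hξspec _ htZ) hξmax
    exact ⟨τ, h1, h2, closure_mem_irreducibleComponents_of_max τ h3⟩
  obtain ⟨τ, hτ₀, hfτ, hτc⟩ := hlift t₀ ht₀ ht₀Z
  have hτs : ∀ t ∈ s, f t ∈ Z → τ ⤳ t := by
    intro t ht htZ
    obtain ⟨τ', h1, h2, h3⟩ := hlift t ht htZ
    have : τ' = τ := hinj τ' τ h3 hτc (h2.trans hfτ.symm)
    rw [← this]
    exact h1
  have hτmax : ∀ τ' : T, τ' ⤳ τ → τ' = τ := fun τ' h =>
    eq_of_specializes_of_mem_irreducibleComponents τ τ' hτc h
  -- the component of `T`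
  set CW : Closeds T := ⟨closure ({τ} : Set T), isClosed_closure⟩ with hCW
  have hCWirr : IsIrreducible (CW : Set T) := isIrreducible_singleton.closure
  haveI hTi := isIntegral_subscheme_vanishingIdeal CW hCWirr
  haveI hZi := isIntegral_subscheme_vanishingIdeal CZ hZ.1
  haveI : IsAffine (vanishingIdeal CW).subscheme := isAffine_of_isAffineHom (vanishingIdeal CW).subschemeι
  have hWmem : ∀ x' : (vanishingIdeal CW).subscheme, τ ⤳ (vanishingIdeal CW).subschemeι x' := by
    intro x'
    have h1 : (vanishingIdeal CW).subschemeι x' ∈ Set.range (vanishingIdeal CW).subschemeι := ⟨x', rfl⟩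
    rw [range_subschemeι_vanishingIdeal] at h1
    exact specializes_iff_mem_closure.mpr h1
  have hrange : Set.range ((vanishingIdeal CW).subschemeι ≫ f) ⊆ (CZ : Set X) := by
    rintro _ ⟨x', rfl⟩
    have h1 : f τ ⤳ f ((vanishingIdeal CW).subschemeι x') := (hWmem x').map f.continuous
    rw [hfτ] at h1
    rw [hCZc, ← hξcl]
    exact specializes_iff_mem_closure.mp h1
  have H : (vanishingIdeal CZ).subschemeι.ker ≤ ((vanishingIdeal CW).subschemeι ≫ f).ker := by
    rw [ker_subschemeι]
    exact vanishingIdeal_le_ker_of_range_subset _ CZ hrange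
  let f' : (vanishingIdeal CW).subscheme ⟶ (vanishingIdeal CZ).subscheme :=
    IsClosedImmersion.lift (vanishingIdeal CZ).subschemeι ((vanishingIdeal CW).subschemeι ≫ f) H
  have hf' : f' ≫ (vanishingIdeal CZ).subschemeι = (vanishingIdeal CW).subschemeι ≫ f :=
    IsClosedImmersion.lift_fac _ _ H
  have hf'pt : ∀ x', (vanishingIdeal CZ).subschemeι (f' x') = f ((vanishingIdeal CW).subschemeι x') := by
    intro x'
    rw [← Scheme.Hom.comp_apply, hf', Scheme.Hom.comp_apply]
  -- generic points
  have hgen : f' (genericPoint (vanishingIdeal CW).subscheme) = genericPoint (vanishingIdeal CZ).subscheme := by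
    have hτW : τ ∈ Set.range (vanishingIdeal CW).subschemeι := by
      rw [range_subschemeι_vanishingIdeal]; exact subset_closure rfl
    obtain ⟨τ', hτ'⟩ := hτW
    have h1 : genericPoint (vanishingIdeal CW).subscheme ⤳ τ' :=
      (genericPoint_spec _).specializes (Set.mem_univ _)
    have h2 : (vanishingIdeal CW).subschemeι (genericPoint (vanishingIdeal CW).subscheme) = τ := by
      apply hτmax
      rw [← hτ']
      exact h1.map (vanishingIdeal CW).subschemeι.continuous
    have hξZ : ξ ∈ Set.range (vanishingIdeal CZ).subschemeι := by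
      rw [range_subschemeι_vanishingIdeal, hCZc, ← hξcl]; exact subset_closure rfl
    obtain ⟨ξ', hξ'⟩ := hξZ
    have h3 : genericPoint (vanishingIdeal CZ).subscheme ⤳ ξ' :=
      (genericPoint_spec _).specializes (Set.mem_univ _)
    have h4 : (vanishingIdeal CZ).subschemeι (genericPoint (vanishingIdeal CZ).subscheme) = ξ := by
      apply hξmax
      rw [← hξ']
      exact h3.map (vanishingIdeal CZ).subschemeι.continuous
    apply (vanishingIdeal CZ).subschemeι.isEmbedding.injective
    rw [hf'pt, h2, hfτ, h4]
  -- the finite set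
  let s' : Finset (vanishingIdeal CW).subscheme :=
    (s.filter fun t => f t ∈ Z).preimage (vanishingIdeal CW).subschemeι
      (vanishingIdeal CW).subschemeι.isEmbedding.injective.injOn
  have hs' : ∀ t' ∈ s', IsIso (f'.stalkMap t') := by
    intro t' ht'
    rw [Finset.mem_preimage, Finset.mem_filter] at ht'
    haveI := hs _ ht'.1
    apply isIso_stalkMap_of_surjective_of_generic f' hgen t'
    exact stalkMap_surjective_of_comp_eq f' (vanishingIdeal CZ).subschemeι (vanishingIdeal CW).subschemeι f hf' t'
      (ConcreteCategory.bijective_of_isIso (f.stalkMap ((vanishingIdeal CW).subschemeι t'))).2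
      ((vanishingIdeal CW).subschemeι.stalkMap_surjective t')
  obtain ⟨V', hV', hV's⟩ := exists_affineOpen_of_integral f' s' hs'
  refine ⟨V', hV', ?_⟩
  intro x hx hxs
  obtain ⟨t, ht, rfl⟩ := Finset.mem_image.mp hx
  rw [← SetLike.mem_coe, coe_support_vanishingIdeal] at hxs
  have htZ : f t ∈ Z := hxs
  have htW : t ∈ Set.range (vanishingIdeal CW).subschemeι := by
    rw [range_subschemeι_vanishingIdeal]
    exact specializes_iff_mem_closure.mp (hτs t ht htZ)
  obtain ⟨t', rfl⟩ := htW
  have ht's : t' ∈ s' := by
    rw [Finset.mem_preimage, Finset.mem_filter]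
    exact ⟨ht, htZ⟩
  exact ⟨f' t', hV's t' ht's, hf'pt t'⟩

/-- **affine opens containing the images of points with isomorphic local rings** -/
theorem exists_affineOpen_containing_images [IsAffine T]
    (hX : (irreducibleComponents (X : Type u)).Finite)
    (hinj : ∀ η η' : T, closure ({η} : Set T) ∈ irreducibleComponents (T : Type u) →
      closure ({η'} : Set T) ∈ irreducibleComponents (T : Type u) → f η = f η' → η = η')
    (s : Finset T) (hs : ∀ t ∈ s, IsIso (f.stalkMap t)) :
    ∃ U : X.Opens, IsAffineOpen U ∧ ∀ t ∈ s, f t ∈ U := by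
  classical
  obtain ⟨U, hU, h⟩ := Groth.Agent.Lib.Helper18.PerComponent.exists_affineOpen_of_per_component
    (s.image fun t => f t) hX (fun Z hZ => exists_affineOpen_component f s hs hinj Z hZ)
  exact ⟨U, hU, fun t ht => h _ (Finset.mem_image_of_mem _ ht)⟩

end Main

end Groth.Agent.Lib.Helper18.AffImageRed
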