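import Mathlib
import Groth.Prelude.Def_Coh
import Groth.Prelude.Def_VecSt

/-!
# The ground field is algebraically closed in the local rings of a geometrically integral scheme (helper18)

* `finrank_eq_one_of_isDomain_tensor`: a finite field extension `L/k` with `L ⊗[k] L` a domain is
  trivial.
* `exists_algebraMap_eq_of_isIntegral`: if `A ⊗[k] L` is a domain for all fields `L/k`, every
  element of the domain `A` integral over `k` lies in `k`.
* `resGlobal f U : k →+* Γ(W, U)`, `stalkGlobal f w : k →+* O_{W,w}` for `f : W ⟶ Spec k`;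
  `fromSpec_comp : hU.fromSpec ≫ f = Spec.map (resGlobal f U)`.
* `isDomain_tensor`: `Γ(W, U) ⊗[k] L` is a domain for `W` geometrically integral over `k`, `U` a
  non-empty affine open, `L/k` a field.
* `exists_eq_stalkGlobal`: an element of `O_{W,w}` which is a root of a monic polynomial over `k`
  lies in `k` (`W` geometrically integral over `k`).
* `exists_eq_stalkGlobal_of_hom`, `exists_eq_stalkGlobal_of_closed`: the same for the local ring
  `O_{X,η}` at a point `η` of a closed subset `C` of `X` whose reduced subscheme is geometrically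
  integral over `k`, if `O_{X,η}` is a field (e.g. `X` reduced and `η` the generic point of an
  irreducible component).
-/

set_option autoImplicit false
set_option linter.style.haveILetI false
universe u
open CategoryTheory CategoryTheory.Limits AlgebraicGeometry TensorProduct

namespace Groth.Agent.Lib.Helper18.AlgClosedIn

/-- a finite field extension `L/k` with `L ⊗[k] L` a domain is trivial -/
theorem finrank_eq_one_of_isDomain_tensor (k L : Type u) [Field k] [Field L] [Algebra k L]
    [FiniteDimensional k L] [IsDomain (L ⊗[k] L)] : Module.finrank k L = 1 := by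
  haveI : Algebra.IsIntegral L (L ⊗[k] L) := Algebra.IsIntegral.of_finite L (L ⊗[k] L)
  have hF : IsField (L ⊗[k] L) :=
    isField_of_isIntegral_of_isField' (R := L) (S := L ⊗[k] L) (Field.toIsField L)
  letI := hF.toField
  let μ : L ⊗[k] L →ₐ[k] L := Algebra.TensorProduct.lmul' k (S := L)
  have hinj : Function.Injective μ := RingHom.injective (μ : L ⊗[k] L →+* L)
  have h1 : Module.finrank k (L ⊗[k] L) ≤ Module.finrank k L :=
    LinearMap.finrank_le_finrank_of_injective (f := μ.toLinearMap) hinj
  rw [Module.finrank_tensorProduct] at h1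
  have hpos : 0 < Module.finrank k L := Module.finrank_pos
  nlinarith

/-- if `A ⊗[k] L` is a domain for all field extensions `L/k`, then `k` is algebraically closed
in the domain `A` -/
theorem exists_algebraMap_eq_of_isIntegral (k A : Type u) [Field k] [CommRing A] [IsDomain A]
    [Algebra k A]
    (hdom : ∀ (L : Type u) [Field L] [Algebra k L], IsDomain (A ⊗[k] L)) (s : A)
    (hs : IsIntegral k s) : ∃ c : k, algebraMap k A c = s := by
  let S : Subalgebra k A := Algebra.adjoin k {s}
  haveI : Algebra.IsIntegral k S := by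
    refine ⟨fun x => ?_⟩
    have hx : IsIntegral k (x : A) :=
      IsIntegral.of_mem_of_fg S (hs.fg_adjoin_singleton) _ x.2
    exact (isIntegral_algHom_iff S.val Subtype.val_injective).mp hx
  have hF : IsField S := isField_of_isIntegral_of_isField' (R := k) (S := S) (Field.toIsField k)
  letI := hF.toField
  haveI : FiniteDimensional k S := by
    have : (Subalgebra.toSubmodule S).FG := hs.fg_adjoin_singleton
    exact Module.Finite.iff_fg.mpr this
  haveI : IsDomain (A ⊗[k] S) := hdom S
  have hinj : Function.Injective (Algebra.TensorProduct.map S.val (AlgHom.id k S)) := by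
    have : Function.Injective (LinearMap.rTensor S S.val.toLinearMap) :=
      Module.Flat.rTensor_preserves_injective_linearMap _ Subtype.val_injective
    exact this
  haveI : IsDomain (S ⊗[k] S) :=
    Function.Injective.isDomain (Algebra.TensorProduct.map S.val (AlgHom.id k S)).toRingHom hinj
  have h1 := finrank_eq_one_of_isDomain_tensor k S
  have h2 : S = ⊥ := Subalgebra.finrank_eq_one_iff.mp h1
  have h3 : s ∈ S := Algebra.subset_adjoin (Set.mem_singleton s)
  rw [h2, Algebra.mem_bot] at h3
  exact h3


section
variable {k : Type u} [CommRing k] {W : Scheme.{u}} (f : W ⟶ Spec (CommRingCat.of k))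

/-- the structure map `k → Γ(W, U)` -/
noncomputable def resGlobal (U : W.Opens) : k →+* Γ(W, U) :=
  (W.presheaf.map (homOfLE (le_top : U ≤ ⊤)).op).hom.comp (Coh.toGlobal f)

theorem fromSpec_comp {U : W.Opens} (hU : IsAffineOpen U) :
    hU.fromSpec ≫ f = Spec.map (CommRingCat.ofHom (resGlobal f U)) := by
  apply ext_of_isAffine
  rw [← cancel_epi (Scheme.ΓSpecIso (CommRingCat.of k)).inv, ← Scheme.ΓSpecIso_inv_naturality,
    Scheme.Hom.comp_appTop]
  have h1 : hU.fromSpec.appTop = _ := hU.fromSpec_app_of_le ⊤ le_top
  rw [h1]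
  ext x
  simp [resGlobal, Coh.toGlobal]
/-- the structure map `k → O_{W,w}` -/
noncomputable def stalkGlobal (w : W) : k →+* W.presheaf.stalk w :=
  (W.presheaf.germ ⊤ w trivial).hom.comp (Coh.toGlobal f)

theorem germ_resGlobal (U : W.Opens) (w : W) (hw : w ∈ U) (c : k) :
    (W.presheaf.germ U w hw).hom (resGlobal f U c) = stalkGlobal f w c := by
  unfold resGlobal stalkGlobal
  simp only [RingHom.comp_apply]
  exact TopCat.Presheaf.germ_res_apply W.presheaf (homOfLE (le_top : U ≤ ⊤)) w hw _

theorem stalkMap_stalkGlobal {V : Scheme.{u}} (j : V ⟶ W) (v : V) (c : k) :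
    (j.stalkMap v).hom (stalkGlobal f (j v) c) = stalkGlobal (j ≫ f) v c := by
  unfold stalkGlobal
  simp only [RingHom.comp_apply]
  have h := Scheme.Hom.germ_stalkMap_apply j ⊤ v trivial (Coh.toGlobal f c)
  exact h

end

variable {k : Type u} [Field k] {W : Scheme.{u}} (f : W ⟶ Spec (CommRingCat.of k))

/-- for `W` geometrically integral over `k` and `U` a non-empty affine open, `Γ(W, U) ⊗[k] L` is a
domain for every field extension `L/k` -/
theorem isDomain_tensor [GeometricallyIntegral f] {U : W.Opens} (hU : IsAffineOpen U)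
    (hne : (U : Set W).Nonempty) (L : Type u) [Field L] [Algebra k L] :
    letI := (resGlobal f U).toAlgebra
    IsDomain (Γ(W, U) ⊗[k] L) := by
  letI := (resGlobal f U).toAlgebra
  let y : Spec (CommRingCat.of L) ⟶ Spec (CommRingCat.of k) :=
    Spec.map (CommRingCat.ofHom (algebraMap k L))
  haveI hZ : IsIntegral (pullback f y) :=
    GeometricallyIntegral.geometrically_isIntegral (f := f) y _ _ (IsPullback.of_hasPullback f y)
  have hφ : hU.fromSpec ≫ f = Spec.map (CommRingCat.ofHom (algebraMap k Γ(W, U))) :=
    fromSpec_comp f hU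
  let g : pullback (Spec.map (CommRingCat.ofHom (algebraMap k Γ(W, U)))) y ⟶ pullback f y :=
    pullback.map _ _ _ _ hU.fromSpec (𝟙 _) (𝟙 _) (by rw [Category.comp_id, hφ]) (by simp)
  haveI : IsOpenImmersion g := inferInstance
  let e := pullbackSpecIso k Γ(W, U) L
  haveI : Nontrivial Γ(W, U) := by
    obtain ⟨x, hx⟩ := hne
    haveI : Nonempty U := ⟨⟨x, hx⟩⟩
    haveI : Nonempty (Spec Γ(W, U)) := ⟨hU.isoSpec.hom.base ⟨x, hx⟩⟩
    by_contra h
    rw [not_nontrivial_iff_subsingleton] at h
    exact (inferInstance : IsEmpty (PrimeSpectrum Γ(W, U))).false (Classical.arbitrary (Spec Γ(W, U)))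
  haveI : Nontrivial (Γ(W, U) ⊗[k] L) := by
    have hinj : Function.Injective (Algebra.TensorProduct.includeLeft (R := k) (S := k) (A := Γ(W, U)) (B := L)) :=
      Algebra.TensorProduct.includeLeft_injective (algebraMap k L).injective
    exact hinj.nontrivial
  haveI : Nonempty (Spec (CommRingCat.of (Γ(W, U) ⊗[k] L))) := inferInstance
  have h3 : IsIntegral (Spec (CommRingCat.of (Γ(W, U) ⊗[k] L))) :=
    isIntegral_of_isOpenImmersion (e.inv ≫ g)
  exact (affine_isIntegral_iff _).mp h3

/-- `k` is algebraically closed in the local rings of a geometrically integral `k`-scheme -/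
theorem exists_eq_stalkGlobal [GeometricallyIntegral f] (w : W) (a : W.presheaf.stalk w)
    (P : Polynomial k) (hP : P.Monic) (ha : P.eval₂ (stalkGlobal f w) a = 0) :
    ∃ c : k, a = stalkGlobal f w c := by
  haveI : IsIntegral W := GeometricallyIntegral.isIntegral_of_subsingleton f
  obtain ⟨V, hwV, s₀, hs₀⟩ := TopCat.Presheaf.exists_germ_eq W.presheaf a
  obtain ⟨U, hU, hwU, hUV⟩ := exists_isAffineOpen_mem_and_subset (x := w) (U := V) hwV
  let s : Γ(W, U) := (W.presheaf.map (homOfLE hUV).op).hom s₀
  have hs : (W.presheaf.germ U w hwU).hom s = a := by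
    rw [← hs₀]
    exact TopCat.Presheaf.germ_res_apply W.presheaf (homOfLE hUV) w hwU s₀
  letI := (resGlobal f U).toAlgebra
  have hev : P.eval₂ (resGlobal f U) s = 0 := by
    haveI : Nonempty U := ⟨⟨w, hwU⟩⟩
    apply germ_injective_of_isIntegral W w hwU
    rw [map_zero, Polynomial.hom_eval₂, hs]
    have : (W.presheaf.germ U w hwU).hom.comp (resGlobal f U) = stalkGlobal f w := by
      ext c
      exact germ_resGlobal f U w hwU c
    rw [this]
    exact ha
  have hint : IsIntegral k s := ⟨P, hP, hev⟩
  haveI : IsDomain Γ(W, U) := by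
    haveI : Nonempty U := ⟨⟨w, hwU⟩⟩
    infer_instance
  obtain ⟨c, hc⟩ := exists_algebraMap_eq_of_isIntegral k Γ(W, U)
    (fun L _ _ => isDomain_tensor f hU ⟨w, hwU⟩ L) s hint
  refine ⟨c, ?_⟩
  rw [← hs, ← hc]
  exact germ_resGlobal f U w hwU c

/-- transfer along a morphism `j : V ⟶ X` with `V` geometrically integral -/
theorem exists_eq_stalkGlobal_of_hom {X V : Scheme.{u}} (q : X ⟶ Spec (CommRingCat.of k))
    (j : V ⟶ X) [GeometricallyIntegral (j ≫ q)] (w : V)
    (hfield : IsField (X.presheaf.stalk (j w))) (a : X.presheaf.stalk (j w))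
    (P : Polynomial k) (hP : P.Monic) (ha : P.eval₂ (stalkGlobal q (j w)) a = 0) :
    ∃ c : k, a = stalkGlobal q (j w) c := by
  have h1 : P.eval₂ (stalkGlobal (j ≫ q) w) ((j.stalkMap w).hom a) = 0 := by
    have : stalkGlobal (j ≫ q) w = (j.stalkMap w).hom.comp (stalkGlobal q (j w)) := by
      ext c
      exact (stalkMap_stalkGlobal q j w c).symm
    rw [this, ← Polynomial.hom_eval₂, ha, map_zero]
  obtain ⟨c, hc⟩ := exists_eq_stalkGlobal (j ≫ q) w _ P hP h1
  refine ⟨c, ?_⟩
  letI := hfield.toField
  have hinj : Function.Injective (j.stalkMap w).hom := RingHom.injective _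
  apply hinj
  rw [hc, stalkMap_stalkGlobal]

/-- `k` is algebraically closed in the local ring at a point `η` of a closed subset `C` of `X`
whose reduced subscheme is geometrically integral, if that local ring is a field -/
theorem exists_eq_stalkGlobal_of_closed {X : Scheme.{u}} (q : X ⟶ Spec (CommRingCat.of k))
    (C : Set X) (hC : IsClosed C) [GeometricallyIntegral (VecSt.subschι X C hC ≫ q)]
    (η : X) (hη : η ∈ C) (hfield : IsField (X.presheaf.stalk η)) (a : X.presheaf.stalk η)
    (P : Polynomial k) (hP : P.Monic) (ha : P.eval₂ (stalkGlobal q η) a = 0) :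
    ∃ c : k, a = stalkGlobal q η c := by
  have hrange : Set.range (VecSt.subschι X C hC).base = C := by
    rw [Scheme.IdealSheafData.range_subschemeι]
    exact Scheme.IdealSheafData.coe_support_vanishingIdeal _
  obtain ⟨w, rfl⟩ : ∃ w, (VecSt.subschι X C hC) w = η := by
    rw [← hrange] at hη
    exact hη
  exact exists_eq_stalkGlobal_of_hom q (VecSt.subschι X C hC) w hfield a P hP ha

end Groth.Agent.Lib.Helper18.AlgClosedIn
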