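import Mathlib
import Groth.Prelude.Def_ega3
import Groth.Agent.Lib.Helper21.ModCxHom

/-!
# The base change map on homology `H(S) → H(S ⊗_A B)` (helper18)

For a short complex `S` of `A`-modules and a ring map `φ : A →+* B`, the additive map
`ιS φ S : S.homology →+ (S.map (extendScalars φ)).homology` induced by the unit `x ↦ 1 ⊗ x`,
its naturality, and (for a complex `L`) `ιH φ L p : L.homology p →+ (bcCx φ L).homology p`, with the
compatibility with helper21's `ModCx.homEquiv` / `ModCx.bcIso`.
-/

set_option autoImplicit false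
universe u

open CategoryTheory CategoryTheory.Limits

namespace Groth.Agent.Lib.Helper18.BCHom

variable {A B : Type u} [CommRing A] [CommRing B] (φ : A →+* B)

/-- the forgetful functor to abelian groups -/
abbrev FA (A : Type u) [CommRing A] : ModuleCat.{u} A ⥤ AddCommGrpCat.{u} :=
  forget₂ (ModuleCat.{u} A) AddCommGrpCat.{u}

/-- `x ↦ 1 ⊗ x`, additively -/
noncomputable def unitAdd (M : ModuleCat.{u} A) :
    M →+ ((ModuleCat.extendScalars φ).obj M : Type u) :=
  (((ModuleCat.extendRestrictScalarsAdj φ).unit.app M).hom).toAddMonoidHom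

lemma unitAdd_apply (M : ModuleCat.{u} A) (x : M) :
    unitAdd φ M x = ((ModuleCat.extendRestrictScalarsAdj φ).unit.app M).hom x := rfl

lemma unitAdd_smul (M : ModuleCat.{u} A) (a : A) (x : M) :
    unitAdd φ M (a • x) = φ a • unitAdd φ M x := by
  rw [unitAdd_apply, map_smul]
  rfl

lemma unitAdd_naturality {M N : ModuleCat.{u} A} (g : M ⟶ N) (x : M) :
    ((ModuleCat.extendScalars φ).map g).hom (unitAdd φ M x) = unitAdd φ N (g.hom x) := by
  have := (ModuleCat.extendRestrictScalarsAdj φ).unit.naturality g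
  exact (congrArg (fun t => t.hom x) this).symm

/-- the unit in abelian groups -/
noncomputable def unitAb (M : ModuleCat.{u} A) :
    (FA A).obj M ⟶ (FA B).obj ((ModuleCat.extendScalars φ).obj M) :=
  AddCommGrpCat.ofHom (unitAdd φ M)

lemma unitAb_naturality {M N : ModuleCat.{u} A} (g : M ⟶ N) :
    (FA A).map g ≫ unitAb φ N = unitAb φ M ≫ (FA B).map ((ModuleCat.extendScalars φ).map g) := by
  ext x
  exact (unitAdd_naturality φ g x).symm

section short

variable (S : ShortComplex (ModuleCat.{u} A))

/-- the unit as a morphism of short complexes of abelian groups -/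
noncomputable def unitSC :
    S.map (FA A) ⟶ (S.map (ModuleCat.extendScalars φ)).map (FA B) where
  τ₁ := unitAb φ S.X₁
  τ₂ := unitAb φ S.X₂
  τ₃ := unitAb φ S.X₃
  comm₁₂ := unitAb_naturality φ S.f
  comm₂₃ := unitAb_naturality φ S.g

/-- the base change map on homology of a short complex, as a morphism of abelian groups -/
noncomputable def ιSAb :
    (FA A).obj S.homology ⟶ (FA B).obj (S.map (ModuleCat.extendScalars φ)).homology :=
  (S.mapHomologyIso (FA A)).inv ≫ ShortComplex.homologyMap (unitSC φ S) ≫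
    ((S.map (ModuleCat.extendScalars φ)).mapHomologyIso (FA B)).hom

/-- **the base change map on homology of a short complex** -/
noncomputable def ιS : S.homology →+ ((S.map (ModuleCat.extendScalars φ)).homology : Type u) :=
  (ιSAb φ S).hom

variable {S} in
theorem ιSAb_naturality {S' : ShortComplex (ModuleCat.{u} A)} (ψ : S ⟶ S') :
    (FA A).map (ShortComplex.homologyMap ψ) ≫ ιSAb φ S' =
      ιSAb φ S ≫ (FA B).map
        (ShortComplex.homologyMap ((ModuleCat.extendScalars φ).mapShortComplex.map ψ)) := by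
  obtain ⟨a, ha⟩ : ∃ a : S.map (FA A) ⟶ S'.map (FA A), a = (FA A).mapShortComplex.map ψ :=
    ⟨_, rfl⟩
  obtain ⟨d, hd⟩ : ∃ d : (S.map (ModuleCat.extendScalars φ)).map (FA B) ⟶
      (S'.map (ModuleCat.extendScalars φ)).map (FA B),
      d = (FA B).mapShortComplex.map ((ModuleCat.extendScalars φ).mapShortComplex.map ψ) :=
    ⟨_, rfl⟩
  have h1 : (FA A).map (ShortComplex.homologyMap ψ) ≫ (S'.mapHomologyIso (FA A)).inv =
      (S.mapHomologyIso (FA A)).inv ≫ ShortComplex.homologyMap a := by
    rw [ha]
    exact ShortComplex.mapHomologyIso_inv_naturality ψ (FA A)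
  have h2 : ShortComplex.homologyMap d ≫
      ((S'.map (ModuleCat.extendScalars φ)).mapHomologyIso (FA B)).hom =
      ((S.map (ModuleCat.extendScalars φ)).mapHomologyIso (FA B)).hom ≫ (FA B).map
        (ShortComplex.homologyMap ((ModuleCat.extendScalars φ).mapShortComplex.map ψ)) := by
    rw [hd]
    exact ShortComplex.mapHomologyIso_hom_naturality
      ((ModuleCat.extendScalars φ).mapShortComplex.map ψ) (FA B)
  have h3 : a ≫ unitSC φ S' = unitSC φ S ≫ d := by
    rw [ha, hd]
    ext : 1
    · exact unitAb_naturality φ ψ.τ₁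
    · exact unitAb_naturality φ ψ.τ₂
    · exact unitAb_naturality φ ψ.τ₃
  have h4 : ShortComplex.homologyMap a ≫ ShortComplex.homologyMap (unitSC φ S') =
      ShortComplex.homologyMap (unitSC φ S) ≫ ShortComplex.homologyMap d := by
    rw [← ShortComplex.homologyMap_comp, ← ShortComplex.homologyMap_comp, h3]
  unfold ιSAb
  rw [← Category.assoc, h1, Category.assoc, ← Category.assoc (ShortComplex.homologyMap a), h4,
    Category.assoc, Category.assoc, Category.assoc, h2]
  rfl

variable {S} in
/-- naturality of `ιS` -/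
theorem ιS_naturality {S' : ShortComplex (ModuleCat.{u} A)} (ψ : S ⟶ S') (x : S.homology) :
    ιS φ S' ((ShortComplex.homologyMap ψ).hom x) =
      (ShortComplex.homologyMap ((ModuleCat.extendScalars φ).mapShortComplex.map ψ)).hom
        (ιS φ S x) :=
  ConcreteCategory.congr_hom (ιSAb_naturality φ ψ) x

end short

section complex

variable {ι : Type} {c : ComplexShape ι} (L : HomologicalComplex (ModuleCat.{u} A) c)

/-- **the base change map on homology of a complex** -/
noncomputable def ιH (p : ι) : L.homology p →+ ((CohIII.bcCx φ L).homology p : Type u) :=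
  ιS φ (L.sc p)

variable {L} in
/-- naturality of `ιH` in the complex -/
theorem ιH_naturality {L' : HomologicalComplex (ModuleCat.{u} A) c} (ψ : L ⟶ L') (p : ι)
    (x : L.homology p) :
    ιH φ L' p ((HomologicalComplex.homologyMap ψ p).hom x) =
      (HomologicalComplex.homologyMap
        (((ModuleCat.extendScalars φ).mapHomologicalComplex c).map ψ) p).hom (ιH φ L p x) :=
  ιS_naturality φ ((HomologicalComplex.shortComplexFunctor _ c p).map ψ) x

end complex

section modcx

open Groth.Agent.Lib.helper21.ModCx Groth.Agent.Lib.helper8.PullbackUnit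

variable {ι : Type} {c : ComplexShape ι}
variable (K K' : HomologicalComplex AddCommGrpCat.{u} c) (ρ : A →+* End K) (ρ' : B →+* End K')
variable (κ : K ⟶ K') (hκ : ∀ a : A, ρ a ≫ κ = κ ≫ ρ' (φ a))
variable (hBC : ∀ n : ι, @IsBC A B _ _ φ (K.X n) (K'.X n) _ (modX K ρ n) _ (modX K' ρ' n)
  (κ.f n).hom)

include hBC in
/-- the chain-level identity behind `homEquiv_bcIso_ιH` -/
theorem unitSC_bcIso (p : ι) :
    unitSC φ ((modCx K ρ).sc p) ≫
      ((FA B).mapShortComplex.map ((HomologicalComplex.shortComplexFunctor _ c p).map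
        (bcIso φ K K' ρ ρ' κ hκ hBC).hom) :
        ((modCx K ρ).sc p |>.map (ModuleCat.extendScalars φ)).map (FA B) ⟶
          ((modCx K' ρ').sc p).map (FA B)) ≫
      ((HomologicalComplex.shortComplexFunctor _ c p).map (forgetIso K' ρ').hom :
        ((modCx K' ρ').sc p).map (FA B) ⟶ K'.sc p) =
    ((HomologicalComplex.shortComplexFunctor _ c p).map (forgetIso K ρ).hom :
        ((modCx K ρ).sc p).map (FA A) ⟶ K.sc p) ≫
      (HomologicalComplex.shortComplexFunctor _ c p).map κ := by
  ext x
  · exact cmp_unit φ K K' ρ ρ' κ hκ (c.prev p) x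
  · exact cmp_unit φ K K' ρ ρ' κ hκ p x
  · exact cmp_unit φ K K' ρ ρ' κ hκ (c.next p) x

include hBC in
/-- **compatibility of `ιH` with helper21's `homEquiv` and `bcIso`** -/
theorem homEquiv_bcIso_ιH (p : ι) (x : (modCx K ρ).homology p) :
    homEquiv K' ρ' p ((HomologicalComplex.homologyMap (bcIso φ K K' ρ ρ' κ hκ hBC).hom p).hom
        (ιH φ (modCx K ρ) p x)) =
      (HomologicalComplex.homologyMap κ p).hom (homEquiv K ρ p x) := by
  obtain ⟨b, hb⟩ : ∃ b : ((modCx K ρ).sc p |>.map (ModuleCat.extendScalars φ)).map (FA B) ⟶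
      ((modCx K' ρ').sc p).map (FA B), b = (FA B).mapShortComplex.map
        ((HomologicalComplex.shortComplexFunctor _ c p).map (bcIso φ K K' ρ ρ' κ hκ hBC).hom) :=
    ⟨_, rfl⟩
  obtain ⟨f', hf'⟩ : ∃ f' : ((modCx K' ρ').sc p).map (FA B) ⟶ K'.sc p,
      f' = (HomologicalComplex.shortComplexFunctor _ c p).map (forgetIso K' ρ').hom := ⟨_, rfl⟩
  obtain ⟨f, hf⟩ : ∃ f : ((modCx K ρ).sc p).map (FA A) ⟶ K.sc p,
      f = (HomologicalComplex.shortComplexFunctor _ c p).map (forgetIso K ρ).hom := ⟨_, rfl⟩
  have h0 : unitSC φ ((modCx K ρ).sc p) ≫ b ≫ f' =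
      f ≫ (HomologicalComplex.shortComplexFunctor _ c p).map κ := by
    rw [hb, hf', hf]
    exact unitSC_bcIso φ K K' ρ ρ' κ hκ hBC p
  have h1 : ShortComplex.homologyMap (unitSC φ ((modCx K ρ).sc p)) ≫ ShortComplex.homologyMap b ≫
      ShortComplex.homologyMap f' = ShortComplex.homologyMap f ≫
        ShortComplex.homologyMap ((HomologicalComplex.shortComplexFunctor _ c p).map κ) := by
    rw [← ShortComplex.homologyMap_comp, ← ShortComplex.homologyMap_comp,
      ← ShortComplex.homologyMap_comp, h0]
  have h2 : ShortComplex.homologyMap b ≫ (((modCx K' ρ').sc p).mapHomologyIso (FA B)).hom =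
      ((((modCx K ρ).sc p).map (ModuleCat.extendScalars φ)).mapHomologyIso (FA B)).hom ≫
        (FA B).map (ShortComplex.homologyMap
          ((HomologicalComplex.shortComplexFunctor _ c p).map
            (bcIso φ K K' ρ ρ' κ hκ hBC).hom)) := by
    rw [hb]
    exact ShortComplex.mapHomologyIso_hom_naturality
      ((HomologicalComplex.shortComplexFunctor _ c p).map (bcIso φ K K' ρ ρ' κ hκ hBC).hom) (FA B)
  -- the morphism-level statement
  have key : ιSAb φ ((modCx K ρ).sc p) ≫ (FA B).map (ShortComplex.homologyMap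
        ((HomologicalComplex.shortComplexFunctor _ c p).map (bcIso φ K K' ρ ρ' κ hκ hBC).hom)) ≫
      (((modCx K' ρ').sc p).mapHomologyIso (FA B)).inv ≫ ShortComplex.homologyMap f' =
      (((modCx K ρ).sc p).mapHomologyIso (FA A)).inv ≫ ShortComplex.homologyMap f ≫
        ShortComplex.homologyMap ((HomologicalComplex.shortComplexFunctor _ c p).map κ) := by
    unfold ιSAb
    rw [Category.assoc, Category.assoc, ← Category.assoc (Iso.hom _), ← h2, Category.assoc,
      Iso.hom_inv_id_assoc, h1]
  have := ConcreteCategory.congr_hom key x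
  rw [hf', hf] at this
  exact this

end modcx

end Groth.Agent.Lib.Helper18.BCHom
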