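import Mathlib
import Groth.Prelude.Def_Coh
import Groth.Prelude.Def_CohTop
import Groth.Prelude.Def_CohPull
import Groth.Agent.Lib.Helper18.HHPush
import Groth.Agent.Lib.Helper18.HHLES

set_option autoImplicit false

namespace Groth.Agent.Lib.Helper18.HH

open CategoryTheory Limits AlgebraicGeometry Opposite TopologicalSpace Abelian
open Groth.Agent.Lib.helper27

universe u

section Top

variable {X Y : TopCat.{u}} (f : X ⟶ Y)

lemma oneTo_eq :
    CohPull.oneTo f = (PullConst.pullConstIso f).inv.app (AddCommGrpCat.of (ULift.{u} ℤ)) := by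
  unfold PullConst.pullConstIso
  rw [Adjunction.leftAdjointUniq_inv_app]
  apply ((CohPull.adjZ X).homEquiv _ _).injective
  erw [Adjunction.homEquiv_leftAdjointUniq_hom_app]
  unfold CohPull.oneTo
  rw [Equiv.apply_symm_apply]
  have hR : ∀ (A : AddCommGrpCat.{u}),
      (((constantSheafAdj (Opens.grothendieckTopology ↑Y) AddCommGrpCat.{u} isTerminalTop).comp
        (PullConst.pbAdj f)).ofNatIsoRight (PullConst.pushSectionsIso f)).unit.app A =
      ((constantSheafAdj (Opens.grothendieckTopology ↑Y) AddCommGrpCat.{u} isTerminalTop).comp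
        (PullConst.pbAdj f)).unit.app A ≫ (PullConst.pushSectionsIso f).hom.app _ := by
    intro A
    rw [← Adjunction.homEquiv_id, Adjunction.homEquiv_ofNatIsoRight_apply, Adjunction.homEquiv_id]
  rw [hR, Adjunction.comp_unit_app]
  simp only [CohPull.oneSec, Adjunction.homEquiv_unit, PullConst.pushSectionsIso, Iso.refl_hom,
    NatTrans.id_app, CategoryTheory.Functor.map_id]
  rfl

end Top

section Sch

variable {X Y : Scheme.{u}} (f : X ⟶ Y) (G : X.Modules)

/-- `theta` followed by the counit of the module adjunction is the counit of the adjunction on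
abelian sheaves -/
lemma theta_comp_counit :
    CohPull.theta f ((Scheme.Modules.pushforward f).obj G) ≫
        (toAbF X).map ((Scheme.Modules.pullbackPushforwardAdjunction f).counit.app G) =
      (CohPull.invPushAdj f.base).counit.app (Coh.toAb G) := by
  unfold CohPull.theta
  rw [Adjunction.homEquiv_counit, Category.assoc]
  have hn := (CohPull.invPushAdj f.base).counit_naturality
    ((toAbF X).map ((Scheme.Modules.pullbackPushforwardAdjunction f).counit.app G))
  erw [← hn]
  rw [← Category.assoc, ← Functor.map_comp]
  have h2 : (SheafOfModules.toSheaf Y.ringCatSheaf).map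
      ((Scheme.Modules.pullbackPushforwardAdjunction f).unit.app
        ((Scheme.Modules.pushforward f).obj G)) ≫
      (CohTop.push f.base).map ((toAbF X).map
          ((Scheme.Modules.pullbackPushforwardAdjunction f).counit.app G)) = 𝟙 _ := by
    have h3 := (Scheme.Modules.pullbackPushforwardAdjunction f).right_triangle_components G
    have h4 := congrArg (fun φ => (toAbF Y).map φ) h3
    simp only [Functor.map_comp, CategoryTheory.Functor.map_id] at h4
    exact h4
  erw [h2, CategoryTheory.Functor.map_id, Category.id_comp]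
  rfl

/-- the edge map in terms of the adjunction comparison map `Ψ` -/
lemma pushEdge_apply (p : ℕ) (x : Coh.HH Y ((Scheme.Modules.pushforward f).obj G) p) :
    CohPull.pushEdge f G p x =
      (Ext.mk₀ (CohPull.oneTo f.base)).comp
        (ExtAdj.Ψ (PullConst.pbAdj f.base) (ZZ' Y) (Coh.toAb G) p x) (zero_add p) := by
  have h := theta_comp_counit f G
  change ((((Ext.mk₀ (CohPull.oneTo f.base)).comp
      (x.mapExactFunctor (CohPull.inv f.base)) (zero_add p)).comp
      (Ext.mk₀ (CohPull.theta f ((Scheme.Modules.pushforward f).obj G))) (add_zero p)).comp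
      (Ext.mk₀ ((toAbF X).map ((Scheme.Modules.pullbackPushforwardAdjunction f).counit.app G)))
      (add_zero p)) = _
  rw [Ext.comp_assoc_of_third_deg_zero, Ext.mk₀_comp_mk₀, h, Ext.comp_assoc_of_third_deg_zero]
  rfl

/-- the edge map is bijective for an `f_*`-acyclic module -/
theorem pushEdge_bijective_of_acyclic
    (hG : ∀ i : ℕ, 0 < i → IsZero (((CohTop.push f.base).rightDerived i).obj (Coh.toAb G)))
    (p : ℕ) : Function.Bijective (CohPull.pushEdge f G p) := by
  have hΨ := ExtAdj.Ψ_bijective.{u, u} (PullConst.pbAdj f.base) (ZZ' Y) p (Coh.toAb G) hG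
  let e := ExtAdj.extIsoLeft.{u}
    ((PullConst.pullConstIso f.base).app (AddCommGrpCat.of (ULift.{u} ℤ))) (Coh.toAb G) p
  have he : ⇑(CohPull.pushEdge f G p) = e ∘ ExtAdj.Ψ (PullConst.pbAdj f.base) (ZZ' Y) (Coh.toAb G) p := by
    funext x
    rw [pushEdge_apply, oneTo_eq]
    rfl
  rw [he]
  exact e.bijective.comp hΨ

/-- the edge map is bijective for an affine morphism and a quasi-coherent module -/
theorem pushEdge_bijective_of_isAffineHom [IsAffineHom f] [G.IsQuasicoherent] (p : ℕ) :
    Function.Bijective (CohPull.pushEdge f G p) :=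
  pushEdge_bijective_of_acyclic f G (acyclic_push f G) p

end Sch

end Groth.Agent.Lib.Helper18.HH
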