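import Mathlib
import Groth.Prelude.Def_CohCmp
import Groth.Agent.Lib.Helper18.HHLES

/-!
# `CohPull.resLE` (restriction of cohomology classes between opens): connecting maps and degree zero (helper18)

For opens `U' ≤ U` of a scheme `X` and an `O_X`-module `F`:
* `resLE_eq`: `resLE F h p x = H.map (α h F) (pullAb j x)` for one morphism of abelian sheaves `α h F`, natural in `F`
  (`α_naturality`);
* `resLE_extδ`: `resLE` commutes with the Ext connecting homomorphisms `CohCmp.extδ` of a short exact sequence;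
* `resLE_sectH0`: in degree `0`, `resLE` is restriction of sections under `CohPull.sectH0`
  (mate calculus through `pullOnIso`: `unit_pullbackId`, `unit_pullbackComp`, `unit_pullbackCongr`,
  `unit_restrictFunctorIsoPullback`, `Ξ_eq`, `γ_app_top`);
* `theta_naturality`, `pullOnIso_naturality`.
-/

set_option autoImplicit false
set_option linter.style.haveILetI false
universe u
open CategoryTheory AlgebraicGeometry Opposite TopologicalSpace
open AlgebraicGeometry.Scheme.Modules

namespace Groth.Agent.Lib.Helper18.ResLE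

variable {X Y Z : Scheme.{u}}

theorem unit_pullbackId (M : X.Modules) :
    (pullbackPushforwardAdjunction (𝟙 X)).unit.app M ≫
      (pushforward (𝟙 X)).map ((pullbackId X).hom.app M) = (pushforwardId X).inv.app M := by
  have h := unit_conjugateEquiv Adjunction.id (pullbackPushforwardAdjunction (𝟙 X))
    (pullbackId X).hom M
  rw [conjugateEquiv_pullbackId_hom] at h
  simpa using h.symm

theorem unit_pullbackComp (f : X ⟶ Y) (g : Y ⟶ Z) (M : Z.Modules) :
    ((pullbackPushforwardAdjunction g).unit.app M ≫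
      (pushforward g).map ((pullbackPushforwardAdjunction f).unit.app ((pullback g).obj M))) ≫
        (pushforwardComp f g).hom.app ((pullback f).obj ((pullback g).obj M)) =
      (pullbackPushforwardAdjunction (f ≫ g)).unit.app M ≫
        (pushforward (f ≫ g)).map ((pullbackComp f g).inv.app M) := by
  have h := unit_conjugateEquiv
    ((pullbackPushforwardAdjunction g).comp (pullbackPushforwardAdjunction f))
    (pullbackPushforwardAdjunction (f ≫ g)) (pullbackComp f g).inv M
  rw [conjugateEquiv_pullbackComp_inv] at h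
  simpa using h

theorem unit_pullbackCongr {f g : X ⟶ Y} (hf : f = g) (M : Y.Modules) :
    (pullbackPushforwardAdjunction f).unit.app M ≫
      (pushforward f).map ((pullbackCongr hf).hom.app M) =
    (pullbackPushforwardAdjunction g).unit.app M ≫
      (pushforwardCongr hf).inv.app ((pullback g).obj M) := by
  subst hf
  apply Scheme.Modules.hom_ext
  intro V
  simp [pullbackCongr]

theorem unit_restrictFunctorIsoPullback (i : X ⟶ Y) [IsOpenImmersion i] (M : Y.Modules) :
    (restrictAdjunction i).unit.app M ≫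
      (pushforward i).map ((restrictFunctorIsoPullback i).hom.app M) =
    (pullbackPushforwardAdjunction i).unit.app M :=
  Adjunction.unit_leftAdjointUniq_hom_app _ _ _


/-- naturality of `CohPull.theta` -/
theorem theta_naturality (g : X ⟶ Y) {M N : Y.Modules} (φ : M ⟶ N) :
    (CohPull.inv g.base).map ((SheafOfModules.toSheaf Y.ringCatSheaf).map φ) ≫ CohPull.theta g N =
      CohPull.theta g M ≫
        (SheafOfModules.toSheaf X.ringCatSheaf).map ((Scheme.Modules.pullback g).map φ) := by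
  unfold CohPull.theta
  rw [← Adjunction.homEquiv_naturality_left_symm, ← Adjunction.homEquiv_naturality_right_symm]
  congr 1
  have h := (Scheme.Modules.pullbackPushforwardAdjunction g).unit.naturality φ
  have h2 := congrArg (SheafOfModules.toSheaf Y.ringCatSheaf).map h
  simp only [Functor.id_map, Functor.comp_map] at h2
  exact h2


/-- naturality of `CohPull.pullOnIso` in the module -/
theorem pullOnIso_naturality (g : X ⟶ Y) (U : Y.Opens) (U' : X.Opens) (h : U' ≤ g ⁻¹ᵁ U)
    {F G : Y.Modules} (ψ : F ⟶ G) :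
    (Scheme.Modules.pullback (g.resLE U U' h)).map ((Scheme.Modules.restrictFunctor U.ι).map ψ) ≫
        (CohPull.pullOnIso g U U' h G).hom =
      (CohPull.pullOnIso g U U' h F).hom ≫
        (Scheme.Modules.restrictFunctor U'.ι).map ((Scheme.Modules.pullback g).map ψ) := by
  unfold CohPull.pullOnIso
  simp only [Iso.trans_hom, Functor.mapIso_hom, Iso.app_hom, Iso.symm_hom, Iso.app_inv,
    Category.assoc]
  rw [← Functor.map_comp_assoc, (Scheme.Modules.restrictFunctorIsoPullback U.ι).hom.naturality ψ,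
    Functor.map_comp_assoc]
  have e1 := (Scheme.Modules.pullbackComp (g.resLE U U' h) U.ι).hom.naturality ψ
  have e2 := (Scheme.Modules.pullbackCongr (Scheme.Hom.resLE_comp_ι g h)).hom.naturality ψ
  have e3 := (Scheme.Modules.pullbackComp U'.ι g).inv.naturality ψ
  have e4 := (Scheme.Modules.restrictFunctorIsoPullback U'.ι).inv.naturality
    ((Scheme.Modules.pullback g).map ψ)
  simp only [Functor.comp_map] at e1 e3
  rw [reassoc_of% e1, reassoc_of% e2, reassoc_of% e3, e4]


section resLE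

variable {U U' : X.Opens} (h : U' ≤ U)

/-- the restricted identity `U' ⟶ U` used by `CohPull.resLE` -/
noncomputable abbrev jj : (U' : Scheme.{u}) ⟶ (U : Scheme.{u}) :=
  (𝟙 X : X ⟶ X).resLE U U' (by rwa [Scheme.Hom.id_preimage])

/-- the module-level iso `j^*(F|_U) ≅ F|_{U'}` used by `CohPull.resLE` -/
noncomputable def β (F : X.Modules) :
    (Scheme.Modules.pullback (jj h)).obj (F.restrict U.ι) ⟶ F.restrict U'.ι :=
  (CohPull.pullOnIso (𝟙 X) U U' (by rwa [Scheme.Hom.id_preimage]) F).hom ≫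
    (Scheme.Modules.restrictFunctor U'.ι).map ((Scheme.Modules.pullbackId X).hom.app F)

theorem β_naturality {F G : X.Modules} (ψ : F ⟶ G) :
    (Scheme.Modules.pullback (jj h)).map ((Scheme.Modules.restrictFunctor U.ι).map ψ) ≫ β h G =
      β h F ≫ (Scheme.Modules.restrictFunctor U'.ι).map ψ := by
  unfold β
  rw [reassoc_of% (pullOnIso_naturality (𝟙 X) U U' (by rwa [Scheme.Hom.id_preimage]) ψ),
    Category.assoc, ← Functor.map_comp, ← Functor.map_comp]
  congr 2
  exact (Scheme.Modules.pullbackId X).hom.naturality ψ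

/-- the morphism of abelian sheaves `j⁻¹(F|_U) ⟶ F|_{U'}` underlying `CohPull.resLE` -/
noncomputable def α (F : X.Modules) :
    (CohPull.inv (jj h).base).obj (Coh.toAb (F.restrict U.ι)) ⟶ Coh.toAb (F.restrict U'.ι) :=
  CohPull.theta (jj h) (F.restrict U.ι) ≫
    (SheafOfModules.toSheaf (U' : Scheme.{u}).ringCatSheaf).map (β h F)

theorem resLE_eq (F : X.Modules) (p : ℕ) (x : Coh.HHon X F U p) :
    CohPull.resLE F h p x =
      Sheaf.H.map (α h F) p (CohPull.pullAb (jj h).base (Coh.toAb (F.restrict U.ι)) p x) := by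
  have e : (SheafOfModules.toSheaf (U' : Scheme.{u}).ringCatSheaf).map (β h F) =
      (SheafOfModules.toSheaf (U' : Scheme.{u}).ringCatSheaf).map
        (CohPull.pullOnIso (𝟙 X) U U' (by rwa [Scheme.Hom.id_preimage]) F).hom ≫
      (SheafOfModules.toSheaf (U' : Scheme.{u}).ringCatSheaf).map
        ((Scheme.Modules.restrictFunctor U'.ι).map ((Scheme.Modules.pullbackId X).hom.app F)) :=
    Functor.map_comp _ _ _
  rw [α, e, Sheaf.H.map_comp_apply, Sheaf.H.map_comp_apply]
  rfl

theorem α_naturality {F G : X.Modules} (ψ : F ⟶ G) :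
    (CohPull.inv (jj h).base).map ((CohCmp.toAbOn X U).map ψ) ≫ α h G =
      α h F ≫ (CohCmp.toAbOn X U').map ψ := by
  have e1 := theta_naturality (jj h) ((Scheme.Modules.restrictFunctor U.ι).map ψ)
  have e2 : (SheafOfModules.toSheaf (U' : Scheme.{u}).ringCatSheaf).map
        ((Scheme.Modules.pullback (jj h)).map ((Scheme.Modules.restrictFunctor U.ι).map ψ)) ≫
      (SheafOfModules.toSheaf (U' : Scheme.{u}).ringCatSheaf).map (β h G) =
      (SheafOfModules.toSheaf (U' : Scheme.{u}).ringCatSheaf).map (β h F) ≫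
        (CohCmp.toAbOn X U').map ψ := by
    exact ((SheafOfModules.toSheaf (U' : Scheme.{u}).ringCatSheaf).map_comp _ _).symm.trans
      ((congrArg (SheafOfModules.toSheaf (U' : Scheme.{u}).ringCatSheaf).map
        (β_naturality h ψ)).trans
        ((SheafOfModules.toSheaf (U' : Scheme.{u}).ringCatSheaf).map_comp _ _))
  calc (CohPull.inv (jj h).base).map ((CohCmp.toAbOn X U).map ψ) ≫ α h G
      = ((CohPull.inv (jj h).base).map ((SheafOfModules.toSheaf (U : Scheme.{u}).ringCatSheaf).map
          ((Scheme.Modules.restrictFunctor U.ι).map ψ)) ≫ CohPull.theta (jj h) (G.restrict U.ι)) ≫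
          (SheafOfModules.toSheaf (U' : Scheme.{u}).ringCatSheaf).map (β h G) := by
        rw [α, Category.assoc]; rfl
    _ = α h F ≫ (CohCmp.toAbOn X U').map ψ := by
        rw [e1, Category.assoc, e2, α, Category.assoc]


/-- the morphism of short complexes of abelian sheaves underlying `resLE` -/
noncomputable def αSC (S : ShortComplex X.Modules) :
    (S.map (CohCmp.toAbOn X U)).map (CohPull.inv (jj h).base) ⟶ S.map (CohCmp.toAbOn X U') where
  τ₁ := α h S.X₁
  τ₂ := α h S.X₂
  τ₃ := α h S.X₃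
  comm₁₂ := (α_naturality h S.f).symm
  comm₂₃ := (α_naturality h S.g).symm

theorem pullAb_apply {A B : TopCat.{u}} (f : A ⟶ B) (M : CohTop.Ab B) (p : ℕ) (y : Sheaf.H M p) :
    CohPull.pullAb f M p y =
      (Abelian.Ext.mk₀ (CohPull.oneTo f)).comp (y.mapExactFunctor (CohPull.inv f)) (zero_add p) :=
  rfl

theorem extδ_apply {V : Scheme.{u}} {S : ShortComplex (CohTop.Ab V)} (hS : S.ShortExact) (p : ℕ)
    (x : Sheaf.H S.X₃ p) : CohCmp.extδ hS p x = x.comp hS.extClass rfl := rfl

/-- **`resLE` commutes with the connecting homomorphisms** -/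
theorem resLE_extδ (S : ShortComplex X.Modules)
    (hA : (S.map (CohCmp.toAbOn X U)).ShortExact) (hA' : (S.map (CohCmp.toAbOn X U')).ShortExact)
    (p : ℕ) (x : Coh.HHon X S.X₃ U p) :
    CohPull.resLE S.X₁ h (p + 1) (CohCmp.extδ hA p x) =
      CohCmp.extδ hA' p (CohPull.resLE S.X₃ h p x) := by
  rw [resLE_eq, resLE_eq, extδ_apply, extδ_apply, pullAb_apply, pullAb_apply,
    Sheaf.H.map_apply, Sheaf.H.map_apply]
  have hB := hA.map_of_exact (CohPull.inv (jj h).base)
  have e1 : (x.comp hA.extClass rfl).mapExactFunctor (CohPull.inv (jj h).base) =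
      (x.mapExactFunctor (CohPull.inv (jj h).base)).comp hB.extClass rfl :=
    (Abelian.Ext.mapExactFunctor_comp (CohPull.inv (jj h).base) x hA.extClass rfl).trans
      (congrArg (fun z => (x.mapExactFunctor (CohPull.inv (jj h).base)).comp z rfl)
        (Abelian.Ext.mapExactFunctor_extClass (CohPull.inv (jj h).base) hA))
  refine (congrArg (fun z => ((Abelian.Ext.mk₀ (CohPull.oneTo (jj h).base)).comp z
    (zero_add (p + 1))).comp (Abelian.Ext.mk₀ (α h S.X₁)) (add_zero (p + 1))) e1).trans ?_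
  refine (congrArg (fun z => z.comp (Abelian.Ext.mk₀ (α h S.X₁)) (add_zero (p + 1)))
    (Abelian.Ext.comp_assoc (Abelian.Ext.mk₀ (CohPull.oneTo (jj h).base))
      (x.mapExactFunctor (CohPull.inv (jj h).base)) hB.extClass (zero_add p) rfl
      (by omega)).symm).trans ?_
  exact Groth.Agent.Lib.Helper18.HH.comp_extClass_comp_mk₀.{u, u, u+1} hB hA' (αSC h S) _


/-! ### degree zero: the transpose of `β` is restriction of sections -/

/-- the part of `β` after the first factor -/
noncomputable def β' (F : X.Modules) :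
    (Scheme.Modules.pullback (jj h)).obj ((Scheme.Modules.pullback U.ι).obj F) ⟶ F.restrict U'.ι :=
  (Scheme.Modules.pullbackComp (jj h) U.ι).hom.app F ≫
    (Scheme.Modules.pullbackCongr (Scheme.Hom.resLE_comp_ι (𝟙 X)
      (show U' ≤ (𝟙 X : X ⟶ X) ⁻¹ᵁ U by rwa [Scheme.Hom.id_preimage]))).hom.app F ≫
    (Scheme.Modules.pullbackComp U'.ι (𝟙 X)).inv.app F ≫
    (Scheme.Modules.restrictFunctorIsoPullback U'.ι).inv.app ((Scheme.Modules.pullback (𝟙 X)).obj F) ≫
    (Scheme.Modules.restrictFunctor U'.ι).map ((Scheme.Modules.pullbackId X).hom.app F)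

theorem β_eq (F : X.Modules) :
    β h F = (Scheme.Modules.pullback (jj h)).map
      ((Scheme.Modules.restrictFunctorIsoPullback U.ι).hom.app F) ≫ β' h F := by
  unfold β β' CohPull.pullOnIso
  simp only [Iso.trans_hom, Functor.mapIso_hom, Iso.app_hom, Iso.symm_hom, Iso.app_inv,
    Category.assoc]


/-- unit of the pullback adjunction -/
noncomputable abbrev uP {A B : Scheme.{u}} (g : A ⟶ B) (M : B.Modules) :
    M ⟶ (pushforward g).obj ((Scheme.Modules.pullback g).obj M) :=
  (pullbackPushforwardAdjunction g).unit.app M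

/-- unit of the restriction adjunction -/
noncomputable abbrev uR {A B : Scheme.{u}} (i : A ⟶ B) [IsOpenImmersion i] (M : B.Modules) :
    M ⟶ (pushforward i).obj ((restrictFunctor i).obj M) :=
  (restrictAdjunction i).unit.app M

theorem uP_naturality {A B : Scheme.{u}} (g : A ⟶ B) {M N : B.Modules} (φ : M ⟶ N) :
    φ ≫ uP g N = uP g M ≫ (pushforward g).map ((Scheme.Modules.pullback g).map φ) :=
  (pullbackPushforwardAdjunction g).unit.naturality φ

theorem uR_naturality {A B : Scheme.{u}} (i : A ⟶ B) [IsOpenImmersion i] {M N : B.Modules}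
    (φ : M ⟶ N) :
    φ ≫ uR i N = uR i M ≫ (pushforward i).map ((restrictFunctor i).map φ) :=
  (restrictAdjunction i).unit.naturality φ

theorem step1 (F : X.Modules) :
    uP (jj h) (F.restrict U.ι) ≫ (pushforward (jj h)).map (β h F) =
      (restrictFunctorIsoPullback U.ι).hom.app F ≫ uP (jj h) ((Scheme.Modules.pullback U.ι).obj F) ≫
        (pushforward (jj h)).map (β' h F) := by
  rw [β_eq, Functor.map_comp, ← Category.assoc, ← uP_naturality, Category.assoc]

theorem step2 (F : X.Modules) :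
    uR U.ι F ≫ (pushforward U.ι).map
        (uP (jj h) (F.restrict U.ι) ≫ (pushforward (jj h)).map (β h F)) =
      (uP U.ι F ≫ (pushforward U.ι).map (uP (jj h) ((Scheme.Modules.pullback U.ι).obj F))) ≫
        (pushforward U.ι).map ((pushforward (jj h)).map (β' h F)) := by
  rw [step1, Functor.map_comp, Functor.map_comp, ← Category.assoc (uR U.ι F),
    unit_restrictFunctorIsoPullback, Category.assoc]


/-- the equality of morphisms of schemes used in `pullOnIso` -/
theorem ee : jj h ≫ U.ι = U'.ι ≫ 𝟙 X :=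
  Scheme.Hom.resLE_comp_ι (𝟙 X) (show U' ≤ (𝟙 X : X ⟶ X) ⁻¹ᵁ U by rwa [Scheme.Hom.id_preimage])

/-- the part of `β'` after `pullbackComp` -/
noncomputable def rest (F : X.Modules) :
    (Scheme.Modules.pullback (jj h ≫ U.ι)).obj F ⟶ F.restrict U'.ι :=
  (Scheme.Modules.pullbackCongr (ee h)).hom.app F ≫
    (Scheme.Modules.pullbackComp U'.ι (𝟙 X)).inv.app F ≫
    (Scheme.Modules.restrictFunctorIsoPullback U'.ι).inv.app ((Scheme.Modules.pullback (𝟙 X)).obj F) ≫
    (Scheme.Modules.restrictFunctor U'.ι).map ((Scheme.Modules.pullbackId X).hom.app F)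

theorem β'_eq (F : X.Modules) :
    β' h F = (Scheme.Modules.pullbackComp (jj h) U.ι).hom.app F ≫ rest h F := rfl

theorem step3 (F : X.Modules) :
    ((uP U.ι F ≫ (pushforward U.ι).map (uP (jj h) ((Scheme.Modules.pullback U.ι).obj F))) ≫
        (pushforward U.ι).map ((pushforward (jj h)).map (β' h F))) ≫
      (pushforwardComp (jj h) U.ι).hom.app (F.restrict U'.ι) =
    uP (jj h ≫ U.ι) F ≫ (pushforward (jj h ≫ U.ι)).map (rest h F) := by
  have nat := (pushforwardComp (jj h) U.ι).hom.naturality (β' h F)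
  simp only [Functor.comp_map] at nat
  rw [Category.assoc, nat, ← Category.assoc, unit_pullbackComp, Category.assoc,
    ← Functor.map_comp, β'_eq, Iso.inv_hom_id_app_assoc]


/-- the part of `rest` after `pullbackCongr` -/
noncomputable def rest2 (F : X.Modules) :
    (Scheme.Modules.pullback (U'.ι ≫ 𝟙 X)).obj F ⟶ F.restrict U'.ι :=
  (Scheme.Modules.pullbackComp U'.ι (𝟙 X)).inv.app F ≫
    (Scheme.Modules.restrictFunctorIsoPullback U'.ι).inv.app ((Scheme.Modules.pullback (𝟙 X)).obj F) ≫
    (Scheme.Modules.restrictFunctor U'.ι).map ((Scheme.Modules.pullbackId X).hom.app F)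

/-- the part of `rest2` after `pullbackComp` -/
noncomputable def rest3 (F : X.Modules) :
    (Scheme.Modules.pullback U'.ι).obj ((Scheme.Modules.pullback (𝟙 X)).obj F) ⟶ F.restrict U'.ι :=
  (Scheme.Modules.restrictFunctorIsoPullback U'.ι).inv.app ((Scheme.Modules.pullback (𝟙 X)).obj F) ≫
    (Scheme.Modules.restrictFunctor U'.ι).map ((Scheme.Modules.pullbackId X).hom.app F)

theorem rest_eq (F : X.Modules) :
    rest h F = (Scheme.Modules.pullbackCongr (ee h)).hom.app F ≫ rest2 F := rfl

theorem rest2_eq (F : X.Modules) :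
    rest2 (U' := U') F = (Scheme.Modules.pullbackComp U'.ι (𝟙 X)).inv.app F ≫ rest3 F := rfl

theorem step4 (F : X.Modules) :
    uP (jj h ≫ U.ι) F ≫ (pushforward (jj h ≫ U.ι)).map (rest h F) =
      (uP (U'.ι ≫ 𝟙 X) F ≫ (pushforward (U'.ι ≫ 𝟙 X)).map (rest2 F)) ≫
        (pushforwardCongr (ee h)).inv.app (F.restrict U'.ι) := by
  have nat := (pushforwardCongr (ee h)).inv.naturality (rest2 (U' := U') F)
  rw [rest_eq, Functor.map_comp, ← Category.assoc, unit_pullbackCongr, Category.assoc, ← nat,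
    Category.assoc]

theorem step5 (F : X.Modules) :
    uP (U'.ι ≫ 𝟙 X) F ≫ (pushforward (U'.ι ≫ 𝟙 X)).map (rest2 F) =
      (uP (𝟙 X) F ≫ (pushforward (𝟙 X)).map (uP U'.ι ((Scheme.Modules.pullback (𝟙 X)).obj F)) ≫
        (pushforward (𝟙 X)).map ((pushforward U'.ι).map (rest3 F))) ≫
        (pushforwardComp U'.ι (𝟙 X)).hom.app (F.restrict U'.ι) := by
  have nat := (pushforwardComp U'.ι (𝟙 X)).hom.naturality (rest3 (U' := U') F)
  simp only [Functor.comp_map] at nat
  rw [rest2_eq, Functor.map_comp, ← Category.assoc, ← unit_pullbackComp, Category.assoc,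
    Category.assoc, Category.assoc, Category.assoc, nat]

theorem step6 (F : X.Modules) :
    uP (𝟙 X) F ≫ (pushforward (𝟙 X)).map (uP U'.ι ((Scheme.Modules.pullback (𝟙 X)).obj F)) ≫
        (pushforward (𝟙 X)).map ((pushforward U'.ι).map (rest3 F)) =
      (pushforwardId X).inv.app F ≫ (pushforward (𝟙 X)).map (uR U'.ι F) := by
  have e0 : uP U'.ι ((Scheme.Modules.pullback (𝟙 X)).obj F) ≫ (pushforward U'.ι).map
      ((Scheme.Modules.restrictFunctorIsoPullback U'.ι).inv.app
        ((Scheme.Modules.pullback (𝟙 X)).obj F)) =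
      uR U'.ι ((Scheme.Modules.pullback (𝟙 X)).obj F) := by
    change (pullbackPushforwardAdjunction U'.ι).unit.app _ ≫ _ = _
    rw [← unit_restrictFunctorIsoPullback, Category.assoc, ← Functor.map_comp,
      Iso.hom_inv_id_app, CategoryTheory.Functor.map_id]
    exact Category.comp_id _
  have e1 : uP U'.ι ((Scheme.Modules.pullback (𝟙 X)).obj F) ≫ (pushforward U'.ι).map (rest3 F) =
      (Scheme.Modules.pullbackId X).hom.app F ≫ uR U'.ι F := by
    have e2 := uR_naturality U'.ι ((Scheme.Modules.pullbackId X).hom.app F)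
    rw [rest3, Functor.map_comp, ← Category.assoc, e0]
    exact e2.symm
  rw [← Functor.map_comp, e1, Functor.map_comp, ← Category.assoc, unit_pullbackId]


/-- the transpose of `β` -/
noncomputable def γ (F : X.Modules) :
    F.restrict U.ι ⟶ (pushforward (jj h)).obj (F.restrict U'.ι) :=
  uP (jj h) (F.restrict U.ι) ≫ (pushforward (jj h)).map (β h F)

theorem Ξ_eq (F : X.Modules) :
    (uR U.ι F ≫ (pushforward U.ι).map (γ h F)) ≫
        (pushforwardComp (jj h) U.ι).hom.app (F.restrict U'.ι) =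
      (((pushforwardId X).inv.app F ≫ (pushforward (𝟙 X)).map (uR U'.ι F)) ≫
        (pushforwardComp U'.ι (𝟙 X)).hom.app (F.restrict U'.ι)) ≫
        (pushforwardCongr (ee h)).inv.app (F.restrict U'.ι) := by
  unfold γ
  rw [step2, step3, step4, step5, step6]


theorem map_map_eq (F : X.Modules) {A B C : (Opens X)ᵒᵖ} (a : A ⟶ B) (b : B ⟶ C) (c : A ⟶ C)
    (t : F.presheaf.obj A) :
    (F.presheaf.map b).hom ((F.presheaf.map a).hom t) = (F.presheaf.map c).hom t := by
  have : c = a ≫ b := Subsingleton.elim _ _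
  rw [this, Functor.map_comp]
  rfl

theorem Ξ_app (F : X.Modules) (V : X.Opens) (t : Γ(F, V))
    (hle : U'.ι ''ᵁ ((jj h) ⁻¹ᵁ (U.ι ⁻¹ᵁ V)) ≤ V) :
    ((γ h F).app (U.ι ⁻¹ᵁ V)).hom ((F.presheaf.map (homOfLE (U.ι.image_preimage_le V)).op).hom t) =
      (F.presheaf.map (homOfLE hle).op).hom t := by
  have e := congrArg (fun φ => (Scheme.Modules.Hom.app φ V).hom t) (Ξ_eq h F)
  simp only [Scheme.Modules.Hom.comp_app, pushforwardComp_hom_app_app, pushforwardId_inv_app_app,
    pushforwardCongr_inv_app_app, restrictAdjunction_unit_app_app, pushforward_map_app,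
    AddCommGrpCat.hom_comp, AddMonoidHom.coe_comp, Function.comp_apply] at e
  have hV : (jj h ≫ U.ι) ⁻¹ᵁ V = (U'.ι ≫ 𝟙 X) ⁻¹ᵁ V := congrArg (fun g => g ⁻¹ᵁ V) (ee h)
  have e' : ((γ h F).app (U.ι ⁻¹ᵁ V)).hom
      ((F.presheaf.map (homOfLE (U.ι.image_preimage_le V)).op).hom t) =
      ((F.restrict U'.ι).presheaf.map (eqToHom hV).op).hom
        ((F.presheaf.map (homOfLE ((U'.ι ≫ 𝟙 X).image_preimage_le V)).op).hom t) := e
  rw [e']
  exact map_map_eq F _ ((U'.ι.opensFunctor.map (eqToHom hV)).op) _ t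


theorem app_naturality {A : Scheme.{u}} {M N : A.Modules} (φ : M ⟶ N) {W W' : A.Opens} (k : W ⟶ W')
    (t : Γ(M, W')) :
    (φ.app W).hom ((M.presheaf.map k.op).hom t) = (N.presheaf.map k.op).hom ((φ.app W').hom t) := by
  have e := φ.mapPresheaf.naturality k.op
  have e2 := congrArg (fun ψ => ψ.hom t) e
  exact e2

theorem map_injective_of_le {A : Scheme.{u}} (N : A.Modules) {W W' : A.Opens} (k : W ⟶ W')
    (k' : W' ⟶ W) : Function.Injective (N.presheaf.map k.op).hom := by
  intro a b hab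
  have e : ∀ c : Γ(N, W'), (N.presheaf.map k'.op).hom ((N.presheaf.map k.op).hom c) = c := by
    intro c
    have : k.op ≫ k'.op = 𝟙 _ := Subsingleton.elim _ _
    rw [← ConcreteCategory.comp_apply, ← Functor.map_comp, this, CategoryTheory.Functor.map_id]
    rfl
  rw [← e a, ← e b]
  exact congrArg _ hab

/-- the transpose of `β` on sections over `⊤` is restriction of sections of `F` -/
theorem γ_app_top (F : X.Modules) (t : Γ(F, U.ι ''ᵁ ⊤))
    (hle : U'.ι ''ᵁ ((jj h) ⁻¹ᵁ ⊤) ≤ U.ι ''ᵁ ⊤) :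
    ((γ h F).app ⊤).hom t = (F.presheaf.map (homOfLE hle).op).hom t := by
  have hW : (⊤ : (U : Scheme.{u}).Opens) ≤ U.ι ⁻¹ᵁ (U.ι ''ᵁ ⊤) := by
    rw [Scheme.Hom.preimage_image_eq]
  let k : U.ι ⁻¹ᵁ (U.ι ''ᵁ ⊤) ⟶ (⊤ : (U : Scheme.{u}).Opens) := homOfLE le_top
  let k' : (⊤ : (U : Scheme.{u}).Opens) ⟶ U.ι ⁻¹ᵁ (U.ι ''ᵁ ⊤) := homOfLE hW
  apply map_injective_of_le ((pushforward (jj h)).obj (F.restrict U'.ι)) k k'
  have hle2 : U'.ι ''ᵁ ((jj h) ⁻¹ᵁ (U.ι ⁻¹ᵁ (U.ι ''ᵁ ⊤))) ≤ U.ι ''ᵁ ⊤ :=
    (Scheme.Hom.image_mono _ ((jj h).preimage_mono le_top)).trans hle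
  have e1 := app_naturality (γ h F) k t
  have e2 := Ξ_app h F (U.ι ''ᵁ ⊤) t hle2
  have e3 : ((F.restrict U.ι).presheaf.map k.op).hom t =
      (F.presheaf.map (homOfLE (U.ι.image_preimage_le (U.ι ''ᵁ ⊤))).op).hom t := rfl
  refine e1.symm.trans ?_
  rw [e3, e2]
  exact (map_map_eq F (homOfLE hle).op
    ((U'.ι.opensFunctor.map ((Opens.map (jj h).base).map k)).op) _ t).symm


theorem resLE_eq' (F : X.Modules) (p : ℕ) (x : Coh.HHon X F U p) :
    CohPull.resLE F h p x =
      CohPull.mapH (β h F) p (CohPull.pullMod (jj h) (F.restrict U.ι) p x) := by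
  have e : (SheafOfModules.toSheaf (U' : Scheme.{u}).ringCatSheaf).map (β h F) =
      (SheafOfModules.toSheaf (U' : Scheme.{u}).ringCatSheaf).map
        (CohPull.pullOnIso (𝟙 X) U U' (by rwa [Scheme.Hom.id_preimage]) F).hom ≫
      (SheafOfModules.toSheaf (U' : Scheme.{u}).ringCatSheaf).map
        ((Scheme.Modules.restrictFunctor U'.ι).map ((Scheme.Modules.pullbackId X).hom.app F)) :=
    Functor.map_comp _ _ _
  rw [CohPull.mapH, e, Sheaf.H.map_comp_apply]
  rfl

/-- **`resLE` in degree zero is restriction of sections** -/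
theorem resLE_sectH0 (F : X.Modules) (s : F.presheaf.obj (op U)) :
    CohPull.resLE F h 0 (CohPull.sectH0 F U s) =
      CohPull.sectH0 F U' ((F.presheaf.map (homOfLE h).op).hom s) := by
  apply (Sheaf.H.equiv₀ (Coh.toAb (F.restrict U'.ι))
    (Limits.isTerminalTop : Limits.IsTerminal (⊤ : (U' : Scheme.{u}).Opens))).injective
  rw [resLE_eq', CohPull.mapH, ← Sheaf.H.equiv₀_naturality, CohPull.equiv₀_pullMod]
  have hs : ∀ (W : X.Opens) (s : F.presheaf.obj (op W)),
      Sheaf.H.equiv₀ (Coh.toAb (F.restrict W.ι)) Limits.isTerminalTop (CohPull.sectH0 F W s) =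
        (F.presheaf.map (eqToHom W.ι_image_top).op).hom s := by
    intro W s
    exact AddEquiv.apply_symm_apply _ _
  rw [hs, hs]
  have hle : U'.ι ''ᵁ ((jj h) ⁻¹ᵁ ⊤) ≤ U.ι ''ᵁ ⊤ := by
    rw [U.ι_image_top]
    exact (Scheme.Hom.image_le_opensRange _ _).trans (by rw [Scheme.Opens.opensRange_ι]; exact h)
  have e := γ_app_top h F ((F.presheaf.map (eqToHom U.ι_image_top).op).hom s) hle
  refine (e.trans ?_)
  rw [map_map_eq F _ _ ((homOfLE (show U'.ι ''ᵁ ((jj h) ⁻¹ᵁ ⊤) ≤ U from
      hle.trans (le_of_eq U.ι_image_top))).op) s]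
  exact (map_map_eq F (homOfLE h).op (eqToHom U'.ι_image_top).op _ s).symm

end resLE

end Groth.Agent.Lib.Helper18.ResLE
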