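import Mathlib
import Groth.Agent.Lib.Helper18.BCHom
import Groth.Agent.Lib.Helper8.FlatHomBC3

/-!
# The Čech comparison isomorphisms are compatible with base change (helper18)

`cechModBCHomology (ιH x) = pullMod g' M p (cechModHomology x)`.
-/

set_option autoImplicit false
universe u

open CategoryTheory CategoryTheory.Limits Opposite TopologicalSpace AlgebraicGeometry

namespace Groth.Agent.Lib.Helper18.BCHom

open Groth.Agent.Lib.helper21.GCCech Groth.Agent.Lib.helper21.ModCx
open Groth.Agent.Lib.helper8.FlatHomBC Groth.Agent.Lib.helper8.FlatCohBC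

variable {A B : Type u} [CommRing A] [CommRing B] [Algebra A B]
variable {X X' : Scheme.{u}} (fX : X ⟶ Spec (CommRingCat.of A)) (fX' : X' ⟶ Spec (CommRingCat.of B))
  (g' : X' ⟶ X)
  (h : IsPullback g' fX' fX (Spec.map (CommRingCat.ofHom (algebraMap A B))))
  (M : X.Modules) [M.IsQuasicoherent]
variable {ι : Type u} [Finite ι] (U : ι → X.Opens)
variable (hU : ∀ (n : ℕ) (a : Fin (n + 1) → ι), IsAffineOpen (∏ᶜ (U ∘ a) : X.Opens))
  (hcov : iSup U = ⊤)

/-- **the Čech comparison isomorphisms intertwine `ιH` and the pullback on cohomology** -/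
theorem cechModBCHomology_ιH (p : ℕ) (x : (cechMod fX M U).homology (p : ℤ)) :
    cechModBCHomology fX fX' g' h M U hU hcov p
        (ιH (algebraMap A B) (cechMod fX M U) (p : ℤ) x) =
      CohPull.pullMod g' M p (cechModHomology fX M U hU hcov p x) := by
  have h1 := homEquiv_bcIso_ιH (algebraMap A B) ((KM M U).extend eN) ((KN g' M U).extend eN)
    (extρ eN (KM M U) (ρM fX M U)) (extρ eN (KN g' M U) (ρN fX' g' M U))
    (HomologicalComplex.extendMap (κC g' M U) eN)
    (extρ_comm eN (algebraMap A B) _ _ _ _ _ (hκC fX fX' g' h M U))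
    (isBC_extend eN (algebraMap A B) _ _ _ _ _ (hBC_cech fX fX' g' h M U hU)) (p : ℤ) x
  have h2 := EN_homologyMap fX fX' g' h M U hU hcov p
    (homEquiv ((KM M U).extend eN) (extρ eN (KM M U) (ρM fX M U)) (p : ℤ) x)
  rw [← h1] at h2
  exact h2

end Groth.Agent.Lib.Helper18.BCHom
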