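import Mathlib
import Groth.Agent.Lib.Helper18.BCHom

/-!
# The base change map on homology, on cycles (helper18)

`cls S : ker S.g →ₗ[A] S.homology` (surjective, kernel the boundaries) and
`ιS φ S (cls S z) = cls (S ⊗ B) (1 ⊗ z)`.
-/

set_option autoImplicit false
universe u

open CategoryTheory CategoryTheory.Limits

namespace Groth.Agent.Lib.Helper18.BCHom

section cls

variable {A : Type u} [CommRing A] (S : ShortComplex (ModuleCat.{u} A))

/-- the class of a cycle -/
noncomputable def cls : LinearMap.ker S.g.hom →ₗ[A] S.homology :=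
  (S.moduleCatLeftHomologyData.π ≫ S.moduleCatHomologyIso.inv).hom

lemma cls_surjective : Function.Surjective (cls S) := by
  have h1 : Function.Surjective S.moduleCatLeftHomologyData.π.hom :=
    Submodule.mkQ_surjective _
  have h2 : Function.Surjective S.moduleCatHomologyIso.inv.hom :=
    (ConcreteCategory.bijective_of_isIso S.moduleCatHomologyIso.inv).2
  exact h2.comp h1

lemma cls_eq_zero_iff (z : LinearMap.ker S.g.hom) :
    cls S z = 0 ↔ ∃ x : S.X₁, S.f.hom x = z.1 := by
  have h2 : Function.Injective S.moduleCatHomologyIso.inv.hom :=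
    (ConcreteCategory.bijective_of_isIso S.moduleCatHomologyIso.inv).1
  have h3 : cls S z = S.moduleCatHomologyIso.inv.hom
      ((LinearMap.range S.moduleCatToCycles).mkQ z) := rfl
  have h4 : (LinearMap.range S.moduleCatToCycles).mkQ z = 0 ↔
      z ∈ LinearMap.range S.moduleCatToCycles := Submodule.Quotient.mk_eq_zero _
  have h5 : cls S z = 0 ↔ (LinearMap.range S.moduleCatToCycles).mkQ z = 0 := by
    rw [h3]
    constructor
    · intro h
      exact h2 (h.trans (map_zero _).symm)
    · intro h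
      rw [h]
      exact map_zero S.moduleCatHomologyIso.inv.hom
  rw [h5, h4]
  constructor
  · rintro ⟨x, hx⟩
    exact ⟨x, congrArg Subtype.val hx⟩
  · rintro ⟨x, hx⟩
    exact ⟨x, Subtype.ext hx⟩

lemma cls_eq_iff (z w : LinearMap.ker S.g.hom) :
    cls S z = cls S w ↔ ∃ x : S.X₁, S.f.hom x = z.1 - w.1 := by
  rw [← sub_eq_zero, ← map_sub, cls_eq_zero_iff]
  rfl

end cls

section bridge

variable {A B : Type u} [CommRing A] [CommRing B] (φ : A →+* B)
  (S : ShortComplex (ModuleCat.{u} A))

/-- `1 ⊗ z` is a cycle of the base change -/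
lemma unitAdd_mem_ker (z : LinearMap.ker S.g.hom) :
    unitAdd φ S.X₂ z.1 ∈ LinearMap.ker (S.map (ModuleCat.extendScalars φ)).g.hom := by
  have h : ((ModuleCat.extendScalars φ).map S.g).hom (unitAdd φ S.X₂ z.1) = 0 := by
    rw [unitAdd_naturality, LinearMap.mem_ker.1 z.2, map_zero]
  exact h

/-- the cycle `1 ⊗ z` -/
noncomputable def unitCyc (z : LinearMap.ker S.g.hom) :
    LinearMap.ker (S.map (ModuleCat.extendScalars φ)).g.hom :=
  ⟨unitAdd φ S.X₂ z.1, unitAdd_mem_ker φ S z⟩

/-- **`ιS` on classes of cycles**: `ιS [z] = [1 ⊗ z]`. -/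
theorem ιS_cls (z : LinearMap.ker S.g.hom) :
    ιS φ S (cls S z) = cls (S.map (ModuleCat.extendScalars φ)) (unitCyc φ S z) := by
  let hA := S.moduleCatLeftHomologyData
  let hB := (S.map (ModuleCat.extendScalars φ)).moduleCatLeftHomologyData
  let γ := ShortComplex.leftHomologyMapData (unitSC φ S) (hA.map (FA A)) (hB.map (FA B))
  have key : ιSAb φ S = (FA A).map hA.homologyIso.hom ≫ γ.φH ≫ (FA B).map hB.homologyIso.inv := by
    unfold ιSAb
    rw [hA.mapHomologyIso_eq (FA A), hB.mapHomologyIso_eq (FA B), γ.homologyMap_eq]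
    simp only [Iso.trans_inv, Iso.trans_hom, Functor.mapIso_inv, Functor.mapIso_hom, Iso.symm_inv,
      Iso.symm_hom, Category.assoc, Iso.inv_hom_id_assoc]
    rfl
  -- `φK` on elements
  have hK : ∀ w : LinearMap.ker S.g.hom,
      (γ.φK.hom w : LinearMap.ker (S.map (ModuleCat.extendScalars φ)).g.hom) = unitCyc φ S w := by
    intro w
    apply Subtype.ext
    have := ConcreteCategory.congr_hom γ.commi w
    exact this
  have hπ := ConcreteCategory.congr_hom γ.commπ z
  have h1 : ιS φ S (cls S z) = (ιSAb φ S).hom (cls S z) := rfl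
  rw [h1, key]
  show hB.homologyIso.inv.hom (γ.φH.hom (hA.homologyIso.hom.hom (cls S z))) = _
  have h2 : hA.homologyIso.hom.hom (cls S z) = hA.π.hom z := by
    show hA.homologyIso.hom.hom (hA.homologyIso.inv.hom (hA.π.hom z)) = _
    exact ConcreteCategory.congr_hom hA.homologyIso.inv_hom_id (hA.π.hom z)
  rw [h2]
  have h3 : γ.φH.hom (hA.π.hom z) = hB.π.hom (γ.φK.hom z) := hπ
  rw [h3, hK z]
  rfl

end bridge

end Groth.Agent.Lib.Helper18.BCHom
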