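import Mathlib

/-!
# helper18: proper birational morphisms are isomorphisms over codimension-one points

* `eq_of_restrict_isIso`, `isIso_restrict_of_section` : a section of a separated `f` over `W`
  (with `X`, `Y` integral, `f` iso over a nonempty open) makes `f` an iso over `W`.
* `exists_section_nhd` : valuative criterion + spreading out.
* `isIso_restrict_iSup` : iso over a union of opens.
* `exists_isoLocus` : for `f` proper, iso over nonempty `V`, there is `V' ⊇ V` with `f ∣_ V'` iso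
  containing every point whose local ring is a valuation ring.
-/

set_option autoImplicit false
universe u
open CategoryTheory CategoryTheory.Limits AlgebraicGeometry TopologicalSpace MorphismProperty

namespace Groth.Agent.Lib.Helper18.BirIso


/-- `f ∣_ V` iso implies `f` injective on `f ⁻¹ V`. -/
theorem eq_of_restrict_isIso {X Y : Scheme.{u}} (f : X ⟶ Y) (V : Y.Opens) [IsIso (f ∣_ V)]
    {x x' : X} (hx : f x ∈ V) (hx' : f x' ∈ V) (h : f x = f x') : x = x' := by
  have hinj : Function.Injective (f ∣_ V) :=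
    ((TopCat.homeoOfIso (asIso (f ∣_ V).base)).injective)
  have : (⟨x, hx⟩ : (f ⁻¹ᵁ V : X.Opens)) = ⟨x', hx'⟩ := by
    apply hinj
    apply Subtype.ext
    have h1 := morphismRestrict_base_coe f V ⟨x, hx⟩
    have h2 := morphismRestrict_base_coe f V ⟨x', hx'⟩
    rw [h1, h2]; exact h
  exact congrArg Subtype.val this

theorem isIso_restrict_of_section {X Y : Scheme.{u}} (f : X ⟶ Y) [IsSeparated f] [IsIntegral X]
    [IsIntegral Y] (V : Y.Opens) (hV : (V : Set Y).Nonempty) [IsIso (f ∣_ V)]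
    (W : Y.Opens) (hW : (W : Set Y).Nonempty) (s : (W : Scheme.{u}) ⟶ X) (hs : s ≫ f = W.ι) :
    IsIso (f ∣_ W) := by
  -- the lift of s
  have hrange : Set.range s ⊆ Set.range (f ⁻¹ᵁ W).ι := by
    rintro _ ⟨w, rfl⟩
    rw [Scheme.Opens.range_ι]
    show f (s w) ∈ W
    have : f (s w) = W.ι w := by rw [← hs]; rfl
    rw [this]; exact w.2
  let s' : (W : Scheme.{u}) ⟶ (f ⁻¹ᵁ W : X.Opens) := IsOpenImmersion.lift (f ⁻¹ᵁ W).ι s hrange
  have hs' : s' ≫ (f ⁻¹ᵁ W).ι = s := IsOpenImmersion.lift_fac _ _ _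
  have hsec : s' ≫ (f ∣_ W) = 𝟙 _ := by
    rw [← cancel_mono W.ι, Category.assoc, morphismRestrict_ι, ← Category.assoc, hs', hs,
      Category.id_comp]
  haveI : IsClosedImmersion (s' ≫ (f ∣_ W)) := by rw [hsec]; infer_instance
  haveI : IsClosedImmersion s' := IsClosedImmersion.of_comp s' (f ∣_ W)
  -- nonemptiness
  obtain ⟨w0, hw0⟩ := hW
  haveI : Nonempty (f ⁻¹ᵁ W : X.Opens) := ⟨s' ⟨w0, hw0⟩⟩
  haveI : IsIntegral (f ⁻¹ᵁ W : X.Opens).toScheme := inferInstance
  haveI : Surjective s' := by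
    constructor
    by_contra hns
    have hcl : IsClosed (Set.range s') := s'.isClosedEmbedding.isClosed_range
    have hO : IsOpen (Set.range s')ᶜ := hcl.isOpen_compl
    have hOne : ((Set.range s')ᶜ).Nonempty := by
      rw [Set.nonempty_compl]
      intro h
      exact hns (Set.range_eq_univ.mp h)
    -- the open f⁻¹(V ∩ W) inside f⁻¹ W
    obtain ⟨v, hvV, hvW⟩ : ((V : Set Y) ∩ (W : Set Y)).Nonempty :=
      nonempty_preirreducible_inter V.2 W.2 hV ⟨w0, hw0⟩
    let O2 : Set (f ⁻¹ᵁ W : X.Opens) := (f ∣_ W) ⁻¹' {w | w.1 ∈ V}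
    have hO2 : IsOpen O2 := by
      apply IsOpen.preimage (f ∣_ W).continuous
      exact V.2.preimage continuous_subtype_val
    have hO2ne : O2.Nonempty := ⟨s' ⟨v, hvW⟩, by
      show ((f ∣_ W) (s' ⟨v, hvW⟩)).1 ∈ V
      have : (f ∣_ W) (s' ⟨v, hvW⟩) = ⟨v, hvW⟩ := by
        rw [← Scheme.Hom.comp_apply, hsec]; rfl
      rw [this]; exact hvV⟩
    obtain ⟨x, hx1, hx2⟩ := nonempty_preirreducible_inter hO hO2 hOne hO2ne
    apply hx1
    refine ⟨(f ∣_ W) x, ?_⟩
    -- s' (f x) = x
    have h3 : (f ∣_ W) (s' ((f ∣_ W) x)) = (f ∣_ W) x := by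
      rw [← Scheme.Hom.comp_apply, hsec]; rfl
    apply Subtype.ext
    have e1 : f (s' ((f ∣_ W) x)).1 = f x.1 := by
      have := congrArg Subtype.val h3
      rwa [morphismRestrict_base_coe, morphismRestrict_base_coe] at this
    have hxV : f x.1 ∈ V := by
      have : ((f ∣_ W) x).1 ∈ V := hx2
      rwa [morphismRestrict_base_coe] at this
    exact eq_of_restrict_isIso f V (by rw [e1]; exact hxV) hxV e1
  haveI : IsIso s' := isIso_of_isClosedImmersion_of_surjective s'
  exact IsIso.of_isIso_fac_left hsec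



theorem exists_section_nhd {X Y : Scheme.{u}} (f : X ⟶ Y) [IsProper f] [IsIntegral X] [IsIntegral Y]
    (V : Y.Opens) (hV : (V : Set Y).Nonempty) [IsIso (f ∣_ V)] (y : Y)
    [ValuationRing (Y.presheaf.stalk y)] :
    ∃ (W : Y.Opens) (_ : y ∈ W) (s : (W : Scheme.{u}) ⟶ X), s ≫ f = W.ι := by
  have hξ : genericPoint Y ∈ V := ((genericPoint_spec Y).mem_open_set_iff V.2).mpr (by
    obtain ⟨v, hv⟩ := hV
    exact ⟨v, trivial, hv⟩)
  let i₁ : Spec (.of Y.functionField) ⟶ X :=
    V.fromSpecStalkOfMem (genericPoint Y) hξ ≫ inv (f ∣_ V) ≫ (f ⁻¹ᵁ V).ι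
  let i₂ : Spec (.of (Y.presheaf.stalk y)) ⟶ Y := Y.fromSpecStalk y
  have hsq : CommSq i₁ (Spec.map (CommRingCat.ofHom
      (algebraMap (Y.presheaf.stalk y) Y.functionField))) f i₂ := by
    constructor
    have h1 : i₁ ≫ f = Y.fromSpecStalk (genericPoint Y) := by
      simp only [i₁, Category.assoc]
      rw [← morphismRestrict_ι, IsIso.inv_hom_id_assoc, Scheme.Opens.fromSpecStalkOfMem_ι]
    rw [h1]
    exact (Scheme.SpecMap_stalkSpecializes_fromSpecStalk
      ((genericPoint_spec Y).specializes trivial)).symm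
  let S : ValuativeCommSq f :=
    { R := Y.presheaf.stalk y
      K := Y.functionField
      i₁ := i₁
      i₂ := i₂
      commSq := hsq }
  have hex : ValuativeCriterion.Existence f := by
    have : UniversallyClosed f := inferInstance
    rw [UniversallyClosed.eq_valuativeCriterion] at this
    exact this.1
  obtain ⟨⟨l⟩⟩ := hex S
  have hl : l.l ≫ f = Y.fromSpecStalk y := l.fac_right
  obtain ⟨W, hyW, s, -, hs⟩ := spread_out_of_isGermInjective' (𝟙 Y) f (x := y) l.l (by
    rw [hl, Category.comp_id])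
  exact ⟨W, hyW, s, by rw [hs, Category.comp_id]⟩



/-- being an isomorphism over opens is stable under unions. -/
theorem isIso_restrict_iSup {X Y : Scheme.{u}} (f : X ⟶ Y) {ι : Type*} (U : ι → Y.Opens)
    (h : ∀ i, IsIso (f ∣_ U i)) : IsIso (f ∣_ (⨆ i, U i)) := by
  set V' : Y.Opens := ⨆ i, U i with hV'
  have key : isomorphisms Scheme (f ∣_ V') := by
    rw [IsZariskiLocalAtTarget.iff_of_iSup_eq_top (P := isomorphisms Scheme)
      (U := fun i : ι ↦ V'.ι ⁻¹ᵁ U i)]
    · intro i
      have heq : V'.ι ''ᵁ (V'.ι ⁻¹ᵁ U i) = U i := by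
        rw [Scheme.Hom.image_preimage_eq_opensRange_inf, Scheme.Opens.opensRange_ι]
        exact inf_eq_right.mpr (le_iSup U i)
      rw [(isomorphisms Scheme).arrow_mk_iso_iff (morphismRestrictRestrict f V' _),
        (isomorphisms Scheme).arrow_mk_iso_iff (morphismRestrictEq f heq)]
      exact h i
    · apply V'.ι.image_injective
      dsimp only
      rw [Scheme.Hom.image_iSup, Scheme.Hom.image_top_eq_opensRange, Scheme.Opens.opensRange_ι]
      simp only [Scheme.Hom.image_preimage_eq_opensRange_inf, Scheme.Opens.opensRange_ι]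
      rw [hV']
      apply le_antisymm
      · exact iSup_le fun i => inf_le_left
      · exact iSup_le fun i => le_iSup_of_le i (le_inf (le_iSup U i) le_rfl)
  exact key


/-- the maximal open over which `f` is an isomorphism contains all points with valuation-ring
stalks (for `f` proper and birational between integral schemes). -/
theorem exists_isoLocus {X Y : Scheme.{u}} (f : X ⟶ Y) [IsProper f] [IsIntegral X] [IsIntegral Y]
    (V : Y.Opens) (hV : (V : Set Y).Nonempty) (hf : IsIso (f ∣_ V)) :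
    ∃ V' : Y.Opens, V ≤ V' ∧ IsIso (f ∣_ V') ∧
      ∀ y : Y, ValuationRing (Y.presheaf.stalk y) → y ∈ V' := by
  let I := {W : Y.Opens // IsIso (f ∣_ W)}
  refine ⟨⨆ i : I, i.1, le_iSup (fun i : I => i.1) ⟨V, hf⟩,
    isIso_restrict_iSup f (fun i : I => i.1) (fun i => i.2), ?_⟩
  intro y hy
  obtain ⟨W, hyW, s, hs⟩ := exists_section_nhd f V hV y
  have hW : IsIso (f ∣_ W) := isIso_restrict_of_section f V hV W ⟨y, hyW⟩ s hs
  exact (le_iSup (fun i : I => i.1) ⟨W, hW⟩) hyW

end Groth.Agent.Lib.Helper18.BirIso
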