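import Mathlib
import Groth.Agent.S0244
import Groth.Agent.S0250
import Groth.Agent.S0247
import Groth.Agent.Lib.Helper17.DedekindFlat
import Groth.Agent.Lib.Helper26.RegularNormal
import Groth.Agent.Lib.Helper18.BirIso1

/-!
# helper18: birational invariance of finite étale covers (proper birational onto regular)

* `isEquivalence_of_comp_iso`, `restrictId`, `restrict_isEquivalence_of_isIso`
* `valuationRing_of_regular_of_dim_le_one`, `two_le_of_not_le_one`
* `restrict_isEquivalence_of_proper_birational` : `f : X ⟶ Y` proper, iso over a nonempty open,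
  `X` normal integral, `Y` regular integral Noetherian ⟹ `FEt.restrict f` is an equivalence
  (Zariski–Nagata purity S0247 + S0250 + S0244 + `BirIso1.exists_isoLocus`).
-/

set_option autoImplicit false
universe u
open CategoryTheory CategoryTheory.Limits AlgebraicGeometry TopologicalSpace MorphismProperty

namespace Groth.Agent.Lib.Helper18.BirIso


/-- `F ⋙ R ≅ E` with `E` an equivalence and `R` fully faithful forces `F` to be an equivalence. -/
theorem isEquivalence_of_comp_iso {A B C : Type*} [Category A] [Category B] [Category C]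
    (F : A ⥤ B) (R : B ⥤ C) (E : A ⥤ C) (e : F ⋙ R ≅ E) [E.IsEquivalence] [R.Full]
    [R.Faithful] : F.IsEquivalence := by
  haveI : (F ⋙ R).Full := Functor.Full.of_iso e.symm
  haveI : (F ⋙ R).Faithful := Functor.Faithful.of_iso e.symm
  haveI : F.Faithful := Functor.Faithful.of_comp F R
  haveI : F.Full := Functor.Full.of_comp_faithful F R
  haveI : F.EssSurj := by
    constructor
    intro b
    let a := E.objPreimage (R.obj b)
    have i1 : R.obj (F.obj a) ≅ R.obj b := e.app a ≪≫ E.objObjPreimageIso (R.obj b)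
    exact ⟨a, ⟨R.preimageIso i1⟩⟩
  exact { }

theorem isIso_fst_id {X : Scheme.{u}} (A : FEt.Cat X) : IsIso (pullback.fst A.hom (𝟙 X)) :=
  pullback_fst_iso_of_right_iso A.hom (𝟙 X)

/-- base change along the identity is the identity. -/
noncomputable def restrictId (X : Scheme.{u}) : FEt.restrict (𝟙 X) ≅ 𝟭 (FEt.Cat X) :=
  NatIso.ofComponents (fun A => MorphismProperty.Over.isoMk
    (@asIso _ _ _ _ (pullback.fst A.hom (𝟙 X)) (isIso_fst_id A))
    (by
      show pullback.fst A.hom (𝟙 X) ≫ A.hom = pullback.snd A.hom (𝟙 X)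
      rw [pullback.condition, Category.comp_id])) (by
      intro A B g
      ext
      simp only [FEt.restrict]
      exact pullback.lift_fst _ _ _)

/-- base change of finite étale covers along an isomorphism is an equivalence. -/
theorem restrict_isEquivalence_of_isIso {X Y : Scheme.{u}} (g : X ⟶ Y) [IsIso g] :
    (FEt.restrict g).IsEquivalence := by
  let h := inv g
  let η : 𝟭 (FEt.Cat Y) ≅ FEt.restrict g ⋙ FEt.restrict h :=
    (restrictId Y).symm ≪≫ MorphismProperty.Over.pullbackCongr (P := FEt.prop) (Q := ⊤)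
      (show 𝟙 Y = h ≫ g by simp [h]) ≪≫
      MorphismProperty.Over.pullbackComp (P := FEt.prop) (Q := ⊤) h g
  let ε : FEt.restrict h ⋙ FEt.restrict g ≅ 𝟭 (FEt.Cat X) :=
    (MorphismProperty.Over.pullbackComp (P := FEt.prop) (Q := ⊤) g h).symm ≪≫
      MorphismProperty.Over.pullbackCongr (P := FEt.prop) (Q := ⊤)
        (show g ≫ h = 𝟙 X by simp [h]) ≪≫ restrictId X
  exact (CategoryTheory.Equivalence.mk (FEt.restrict g) (FEt.restrict h) η ε).isEquivalence_functor



/-- a regular local domain of dimension `≤ 1` is a valuation ring. -/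
theorem valuationRing_of_regular_of_dim_le_one (A : Type u) [CommRing A] [IsDomain A]
    [IsRegularLocalRing A] (hdim : ringKrullDim A ≤ 1) : ValuationRing A := by
  haveI : IsPrincipalIdealRing A :=
    Groth.Agent.Lib.helper17.DedekindFlat.isPrincipalIdealRing_of_regular_of_dim_le_one A hdim
  infer_instance

theorem two_le_of_not_le_one {d : WithBot ℕ∞} (h : ¬ d ≤ 1) : (2 : WithBot ℕ∞) ≤ d := by
  induction d using WithBot.recBotCoe with
  | bot => exact absurd bot_le h
  | coe d =>
    induction d using ENat.recTopCoe with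
    | top => exact le_top
    | coe d =>
      have h' : ¬ (d ≤ 1) := by
        intro hd
        apply h
        exact_mod_cast hd
      have h2 : 2 ≤ d := by omega
      have h3 : ((2 : ℕ) : ℕ∞) ≤ (d : ℕ∞) := by exact_mod_cast h2
      have h4 : (((2 : ℕ) : ℕ∞) : WithBot ℕ∞) ≤ ((d : ℕ∞) : WithBot ℕ∞) := WithBot.coe_le_coe.mpr h3
      exact h4


theorem restrict_isEquivalence_of_proper_birational {X Y : Scheme.{u}} (f : X ⟶ Y) [IsProper f]
    [IsIntegral X] [IsIntegral Y] [IsNoetherian Y] (hX : Pi1.IsNormalScheme X)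
    (hY : ∀ y : Y, IsRegularLocalRing (Y.presheaf.stalk y))
    (V : Y.Opens) (hV : (V : Set Y).Nonempty) (hf : IsIso (f ∣_ V)) :
    (FEt.restrict f).IsEquivalence := by
  obtain ⟨V', hVV', hiso, hval⟩ := exists_isoLocus f V hV hf
  have hYn : Pi1.IsNormalScheme Y := fun y => by
    haveI := hY y
    exact ⟨inferInstance, Groth.Agent.Lib.helper26.RegNormal.isIntegrallyClosed _⟩
  have hV'ne : (V' : Set Y).Nonempty := hV.mono hVV'
  have hpur : ∀ y : Y, y ∉ V' → FEt.PurityHolds (Y.presheaf.stalk y) := by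
    intro y hy
    haveI := hY y
    apply Groth.Agent.S0247.result
    apply two_le_of_not_le_one
    intro hd
    exact hy (hval y (valuationRing_of_regular_of_dim_le_one _ hd))
  obtain ⟨hfull, hfaith⟩ := Groth.Agent.S0244.result hYn V' hV'ne
  haveI := hfull
  haveI := hfaith
  haveI : (FEt.restrict V'.ι).EssSurj := Groth.Agent.S0250.result V' hpur
  haveI : (FEt.restrict V'.ι).IsEquivalence := { }
  haveI := hiso
  have hU'ne : ((f ⁻¹ᵁ V' : X.Opens) : Set X).Nonempty := by
    obtain ⟨v, hv⟩ := hV'ne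
    obtain ⟨x, -⟩ := (TopCat.homeoOfIso (asIso (f ∣_ V').base)).surjective ⟨v, hv⟩
    exact ⟨x.1, x.2⟩
  obtain ⟨hfull', hfaith'⟩ := Groth.Agent.S0244.result hX (f ⁻¹ᵁ V') hU'ne
  haveI := hfull'
  haveI := hfaith'
  haveI : (FEt.restrict (f ∣_ V')).IsEquivalence := restrict_isEquivalence_of_isIso _
  let e : FEt.restrict f ⋙ FEt.restrict (f ⁻¹ᵁ V').ι ≅
      FEt.restrict V'.ι ⋙ FEt.restrict (f ∣_ V') :=
    (MorphismProperty.Over.pullbackComp (P := FEt.prop) (Q := ⊤) (f ⁻¹ᵁ V').ι f).symm ≪≫
      MorphismProperty.Over.pullbackCongr (P := FEt.prop) (Q := ⊤)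
        (morphismRestrict_ι f V').symm ≪≫
      MorphismProperty.Over.pullbackComp (P := FEt.prop) (Q := ⊤) (f ∣_ V') V'.ι
  exact isEquivalence_of_comp_iso (FEt.restrict f) (FEt.restrict (f ⁻¹ᵁ V').ι) _ e

end Groth.Agent.Lib.Helper18.BirIso
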