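import Mathlib
import Groth.Agent.Lib.Helper26.AffEquidim

/-!
# Points outside a dense open of dimension `≤ 1` in the spectrum of a finite type algebra over a field
are closed (helper18)

* `mem_of_dense_of_closure_mem`: a dense open of a Noetherian space contains the generic points of
  the irreducible components.
* `trdeg_away`: `trdeg_k S_g = trdeg_k S` for a domain `S` and `g ≠ 0`.
* `isMaximal_of_not_mem`: `R` of finite type over a field `k`, `O ⊆ Spec R` dense open with
  `topologicalKrullDim O ≤ 1`; then every prime outside `O` is maximal.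
-/

set_option autoImplicit false
universe u

namespace Groth.Agent.Lib.Helper18.DimDense

open PrimeSpectrum TopologicalSpace Groth.Agent.Lib.helper26.DimFormula

/-- a dense open of a Noetherian space contains the generic points of the irreducible components -/
lemma mem_of_dense_of_closure_mem {T : Type*} [TopologicalSpace T] [NoetherianSpace T]
    (U : Set T) (hUo : IsOpen U) (hUd : Dense U) (x : T)
    (hx : closure ({x} : Set T) ∈ irreducibleComponents T) : x ∈ U := by
  classical
  set Z := closure ({x} : Set T) with hZ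
  have hfin : (irreducibleComponents T).Finite := NoetherianSpace.finite_irreducibleComponents
  have hfin' : (irreducibleComponents T \ {Z}).Finite := hfin.subset Set.sdiff_subset
  let R : Set T := ⋃₀ (irreducibleComponents T \ {Z})
  have hRc : IsClosed R := by
    rw [show R = ⋃ s ∈ (irreducibleComponents T \ {Z}), s from Set.sUnion_eq_biUnion]
    exact Set.Finite.isClosed_biUnion hfin' (fun s hs => isClosed_of_mem_irreducibleComponents s hs.1)
  have hZR : ¬ Z ⊆ R := by
    intro h
    have hirr : IsIrreducible Z := hx.1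
    obtain ⟨Z', hZ', hZZ'⟩ := (isIrreducible_iff_sUnion_isClosed.mp hirr) hfin'.toFinset
      (fun s hs => isClosed_of_mem_irreducibleComponents s (hfin'.mem_toFinset.mp hs).1)
      (by simpa using h)
    have hZ'mem := hfin'.mem_toFinset.mp hZ'
    have : Z' ⊆ Z := hx.2 hZ'mem.1.1 hZZ'
    exact hZ'mem.2 (Set.Subset.antisymm this hZZ')
  obtain ⟨z, hzZ, hzR⟩ := Set.not_subset.mp hZR
  obtain ⟨y, hyR, hyU⟩ := hUd.inter_open_nonempty Rᶜ hRc.isOpen_compl
    (show (Rᶜ).Nonempty from ⟨z, hzR⟩)
  have hyZ : y ∈ Z := by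
    have hy : y ∈ ⋃₀ irreducibleComponents T := by rw [sUnion_irreducibleComponents]; trivial
    obtain ⟨s, hs, hys⟩ := hy
    by_cases hsZ : s = Z
    · rw [← hsZ]; exact hys
    · have : y ∈ R := Set.mem_sUnion.mpr ⟨s, ⟨hs, hsZ⟩, hys⟩
      exact absurd this hyR
  obtain ⟨w, hwU, hw⟩ := mem_closure_iff.mp hyZ U hUo hyU
  rw [Set.mem_singleton_iff] at hw
  rw [← hw]
  exact hwU

/-- `trdeg` of a localization away from a nonzero element of a domain -/
lemma trdeg_away (k S : Type u) [Field k] [CommRing S] [IsDomain S] [Algebra k S] (g : S)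
    (hg : g ≠ 0) : Algebra.trdeg k (Localization.Away g) = Algebra.trdeg k S := by
  have hle : Submonoid.powers g ≤ nonZeroDivisors S :=
    powers_le_nonZeroDivisors_of_noZeroDivisors hg
  haveI : IsDomain (Localization.Away g) := IsLocalization.isDomain_localization hle
  haveI : FaithfulSMul S (Localization.Away g) :=
    (faithfulSMul_iff_algebraMap_injective _ _).mpr (IsLocalization.injective _ hle)
  have T := trdeg_add_eq k S (A := Localization.Away g)
  have halg : Algebra.IsAlgebraic S (Localization.Away g) :=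
    IsLocalization.isAlgebraic (Localization.Away g) (Submonoid.powers g)
  have t0 : Algebra.trdeg S (Localization.Away g) = 0 := trdeg_eq_zero
  rw [t0, add_zero] at T
  exact T.symm

/-- `R` of finite type over a field, `O ⊆ Spec R` a dense open of dimension `≤ 1`: primes outside `O`
are maximal. -/
theorem isMaximal_of_not_mem (k R : Type u) [Field k] [CommRing R] [Algebra k R]
    [Algebra.FiniteType k R] (O : Set (PrimeSpectrum R)) (hOo : IsOpen O) (hOd : Dense O)
    (hdim : topologicalKrullDim ↥O ≤ 1) (p : PrimeSpectrum R) (hp : p ∉ O) :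
    p.asIdeal.IsMaximal := by
  by_contra hmax
  haveI : IsNoetherianRing R := Algebra.FiniteType.isNoetherianRing k R
  obtain ⟨m, hm, hpm⟩ := Ideal.exists_le_maximal p.asIdeal p.2.ne_top
  have hpm' : p.asIdeal < m := lt_of_le_of_ne hpm (fun h => hmax (h ▸ hm))
  obtain ⟨p0, hp0, hp0p⟩ := Ideal.exists_minimalPrimes_le (show (⊥ : Ideal R) ≤ p.asIdeal from bot_le)
  have hp0prime : p0.IsPrime := hp0.1.1
  let P0 : PrimeSpectrum R := ⟨p0, hp0prime⟩
  have hP0 : P0 ∈ O := by
    apply mem_of_dense_of_closure_mem O hOo hOd P0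
    rw [← PrimeSpectrum.vanishingIdeal_mem_minimalPrimes]
    simpa [P0] using hp0
  obtain ⟨v, ⟨g, rfl⟩, hP0g, hgO⟩ :=
    (PrimeSpectrum.isTopologicalBasis_basic_opens (R := R)).exists_subset_of_mem_open hP0 hOo
  have hgp0 : g ∉ p0 := hP0g
  let S := R ⧸ p0
  haveI : IsDomain S := Ideal.Quotient.isDomain p0
  let gbar : S := Ideal.Quotient.mk p0 g
  have hgbar : gbar ≠ 0 := fun h => hgp0 (Ideal.Quotient.eq_zero_iff_mem.mp h)
  have hsurj : Function.Surjective (Ideal.Quotient.mk p0) := Ideal.Quotient.mk_surjective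
  have hker : RingHom.ker (Ideal.Quotient.mk p0) = p0 := Ideal.mk_ker
  haveI hpbar : (p.asIdeal.map (Ideal.Quotient.mk p0)).IsPrime :=
    Ideal.map_isPrime_of_surjective hsurj (by rw [hker]; exact hp0p)
  haveI hmbar : (m.map (Ideal.Quotient.mk p0)).IsPrime :=
    Ideal.map_isPrime_of_surjective hsurj (by rw [hker]; exact hp0p.trans hpm)
  have hcomap : ∀ I : Ideal R, p0 ≤ I →
      (I.map (Ideal.Quotient.mk p0)).comap (Ideal.Quotient.mk p0) = I := by
    intro I hI
    rw [Ideal.comap_map_of_surjective _ hsurj, ← RingHom.ker_eq_comap_bot, hker]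
    exact sup_eq_left.mpr hI
  have hlt1 : (⊥ : Ideal S) < p.asIdeal.map (Ideal.Quotient.mk p0) := by
    rw [bot_lt_iff_ne_bot]
    intro h
    have h1 := hcomap p.asIdeal hp0p
    rw [h, ← RingHom.ker_eq_comap_bot, hker] at h1
    apply hp
    have : p = P0 := PrimeSpectrum.ext h1.symm
    rw [this]; exact hP0
  have hlt2 : p.asIdeal.map (Ideal.Quotient.mk p0) < m.map (Ideal.Quotient.mk p0) := by
    refine lt_of_le_of_ne (Ideal.map_mono hpm) (fun h => ?_)
    have h1 := hcomap p.asIdeal hp0p
    have h2 := hcomap m (hp0p.trans hpm)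
    rw [h, h2] at h1
    exact hpm'.ne h1.symm
  have hdimS : (2 : WithBot ℕ∞) ≤ ringKrullDim S := by
    haveI : (⊥ : Ideal S).IsPrime := Ideal.isPrime_bot
    have h1 := Ideal.height_add_one_le_of_lt_of_isPrime hlt1
    have h2 := Ideal.height_add_one_le_of_lt_of_isPrime hlt2
    have h3 : (2 : ℕ∞) ≤ (m.map (Ideal.Quotient.mk p0)).height := by
      calc (2 : ℕ∞) = 0 + 1 + 1 := by norm_num
        _ ≤ (⊥ : Ideal S).height + 1 + 1 := by gcongr; exact bot_le
        _ ≤ (p.asIdeal.map (Ideal.Quotient.mk p0)).height + 1 := by gcongr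
        _ ≤ _ := h2
    have h4 : ((2 : ℕ∞) : WithBot ℕ∞) ≤ ((m.map (Ideal.Quotient.mk p0)).height : WithBot ℕ∞) :=
      WithBot.coe_le_coe.mpr h3
    exact le_trans h4 (Ideal.height_le_ringKrullDim_of_isPrime (I := m.map (Ideal.Quotient.mk p0)))
  obtain ⟨n, hn, hdn⟩ := exists_nat_trdeg_eq_ringKrullDim k S
  have hn2 : 2 ≤ n := by rw [hdn] at hdimS; exact_mod_cast hdimS
  let Sg := Localization.Away gbar
  haveI : IsDomain Sg :=
    IsLocalization.isDomain_localization (powers_le_nonZeroDivisors_of_noZeroDivisors hgbar)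
  haveI : Algebra.FiniteType k Sg := Algebra.FiniteType.trans (S := S) (A := Sg) inferInstance inferInstance
  have hSg : ringKrullDim Sg = n :=
    (ringKrullDim_eq_of_trdeg k Sg n (by rw [trdeg_away k S gbar hgbar, hn])).1
  let φ : R →+* Sg := (algebraMap S Sg).comp (Ideal.Quotient.mk p0)
  have hind : Topology.IsInducing (PrimeSpectrum.comap φ) := by
    have h1 : Topology.IsInducing (PrimeSpectrum.comap (algebraMap S Sg)) :=
      PrimeSpectrum.localization_comap_isInducing Sg (Submonoid.powers gbar)
    have h2 : Topology.IsInducing (PrimeSpectrum.comap (Ideal.Quotient.mk p0)) :=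
      PrimeSpectrum.comap_isInducing_of_surjective _ _ hsurj
    exact h2.comp h1
  have hrange : ∀ q : PrimeSpectrum Sg, PrimeSpectrum.comap φ q ∈ O := by
    intro q
    apply hgO
    show g ∉ (PrimeSpectrum.comap φ q).asIdeal
    intro hgq
    have hunit : IsUnit (φ g) := IsLocalization.Away.algebraMap_isUnit gbar
    exact q.2.ne_top (Ideal.eq_top_of_isUnit_mem _ hgq hunit)
  have hind' : Topology.IsInducing (Set.codRestrict (PrimeSpectrum.comap φ) O hrange) :=
    hind.codRestrict hrange
  have h1 := hind'.topologicalKrullDim_le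
  rw [PrimeSpectrum.topologicalKrullDim_eq_ringKrullDim, hSg] at h1
  have h2 := h1.trans hdim
  have h3 : n ≤ 1 := by exact_mod_cast h2
  omega

end Groth.Agent.Lib.Helper18.DimDense
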