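import Mathlib
import Groth.Agent.Lib.Helper18.DimDense

/-!
# Points outside a dense open of dimension `≤ 1` in a scheme locally of finite type over a field are closed (helper18)
-/

set_option autoImplicit false
universe u

namespace Groth.Agent.Lib.Helper18.DimDense

open AlgebraicGeometry CategoryTheory TopologicalSpace

/-- `X'` locally of finite type over a field, `V` a dense open of dimension `≤ 1`: every point outside `V`
is closed. -/
theorem isClosed_singleton_of_not_mem (k : Type u) [Field k] (X' : Scheme.{u})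
    [X'.Over (Spec (CommRingCat.of k))]
    [LocallyOfFiniteType (X' ↘ Spec (CommRingCat.of k))] (V : X'.Opens) (hV : Dense (V : Set X'))
    (hdim : topologicalKrullDim ↥V ≤ 1) (x : X') (hx : x ∉ V) : IsClosed ({x} : Set X') := by
  rw [← closure_eq_iff_isClosed]
  apply Set.Subset.antisymm _ subset_closure
  intro y hy
  have hxy : x ⤳ y := specializes_iff_mem_closure.mpr hy
  obtain ⟨W, hW, hyW, -⟩ := Opens.isBasis_iff_nbhd.mp X'.isBasis_affineOpens
    (show y ∈ (⊤ : X'.Opens) from trivial)
  have hxW : x ∈ W := hxy.mem_open W.isOpen hyW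
  let ρ : k →+* Γ(X', W) := ((X' ↘ Spec (CommRingCat.of k)).appLE ⊤ W le_top).hom.comp
    (Scheme.ΓSpecIso (CommRingCat.of k)).inv.hom
  letI : Algebra k Γ(X', W) := ρ.toAlgebra
  haveI : Algebra.FiniteType k Γ(X', W) := by
    have h1 : ((X' ↘ Spec (CommRingCat.of k)).appLE ⊤ W le_top).hom.FiniteType :=
      Scheme.Hom.finiteType_appLE _ (isAffineOpen_top _) hW _
    have h2 : (Scheme.ΓSpecIso (CommRingCat.of k)).inv.hom.FiniteType :=
      RingHom.FiniteType.of_surjective _
        ((ConcreteCategory.isIso_iff_bijective (Scheme.ΓSpecIso (CommRingCat.of k)).inv).mp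
          inferInstance).2
    exact h1.comp h2
  let j := hW.fromSpec
  have hjemb : Topology.IsOpenEmbedding j.base := j.isOpenEmbedding
  let O : Set (PrimeSpectrum Γ(X', W)) := j.base ⁻¹' (V : Set X')
  have hOo : IsOpen O := V.isOpen.preimage j.continuous
  have hOd : Dense O := hV.preimage hjemb.isOpenMap
  have hOdim : topologicalKrullDim ↥O ≤ 1 := by
    have hind : Topology.IsInducing (fun q : ↥O => (j.base q.1 : X')) :=
      hjemb.isInducing.comp Topology.IsInducing.subtypeVal
    have hind' : Topology.IsInducing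
        (Set.codRestrict (fun q : ↥O => (j.base q.1 : X')) (V : Set X') (fun q => q.2)) :=
      hind.codRestrict _
    exact hind'.topologicalKrullDim_le.trans hdim
  let p : PrimeSpectrum Γ(X', W) := hW.primeIdealOf ⟨x, hxW⟩
  let q : PrimeSpectrum Γ(X', W) := hW.primeIdealOf ⟨y, hyW⟩
  have hp : j.base p = x := hW.fromSpec_primeIdealOf ⟨x, hxW⟩
  have hq : j.base q = y := hW.fromSpec_primeIdealOf ⟨y, hyW⟩
  have hpO : p ∉ O := fun h => hx (by have : j.base p ∈ V := h; rwa [hp] at this)
  have hmax := isMaximal_of_not_mem k Γ(X', W) O hOo hOd hOdim p hpO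
  have hpcl : IsClosed ({p} : Set (PrimeSpectrum Γ(X', W))) :=
    (PrimeSpectrum.isClosed_singleton_iff_isMaximal p).mpr hmax
  have hpq : p ⤳ q := by
    have h : j.base p ⤳ j.base q := by rw [hp, hq]; exact hxy
    exact hjemb.isInducing.specializes_iff.mp h
  have hqp : q = p := hpq.mem_closed hpcl (Set.mem_singleton p)
  rw [Set.mem_singleton_iff, ← hq, hqp, hp]

end Groth.Agent.Lib.Helper18.DimDense
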