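import Mathlib
import Groth.Agent.Lib.Helper18.DimDense2
import Groth.Agent.Lib.Helper20.ZeroDimSupp
import Groth.Agent.Lib.Lead.CurveEuler

set_option autoImplicit false
universe u

namespace Groth.Agent.Lib.Helper18.BiratFinite

open AlgebraicGeometry CategoryTheory TopologicalSpace Groth.Agent.Lib.Helper18.DimDense

/-- a proper morphism to a proper `k`-scheme of dimension `≤ 1` which is an isomorphism over an open `U`
with dense preimage is finite -/
theorem isFinite_of_birational (k : Type u) [Field k] (X X' : Scheme.{u})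
    [X.Over (Spec (CommRingCat.of k))] [X'.Over (Spec (CommRingCat.of k))]
    [IsProper (X ↘ Spec (CommRingCat.of k))] (hdim : topologicalKrullDim X ≤ 1) (f : X' ⟶ X)
    [IsProper f] (hf : f ≫ (X ↘ Spec (CommRingCat.of k)) = X' ↘ Spec (CommRingCat.of k))
    (U : X.Opens) (hU' : Dense ((f ⁻¹ᵁ U : X'.Opens) : Set X')) (hfU : IsIso (f ∣_ U)) :
    IsFinite f := by
  haveI hprop' : IsProper (X' ↘ Spec (CommRingCat.of k)) := by rw [← hf]; infer_instance
  haveI := Groth.Agent.Lib.Lead.CurveEuler.isNoetherian k X'
  let V : X'.Opens := f ⁻¹ᵁ U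
  have hVdim : topologicalKrullDim ↥V ≤ 1 := by
    let e : ↥V ≃ₜ ↥U := Scheme.homeoOfIso (asIso (f ∣_ U))
    calc topologicalKrullDim ↥V = topologicalKrullDim ↥U :=
          IsHomeomorph.topologicalKrullDim_eq e e.isHomeomorph
      _ ≤ topologicalKrullDim X := topologicalKrullDim_subspace_le X (U : Set X)
      _ ≤ 1 := hdim
  have hcl : ∀ x ∉ V, IsClosed ({x} : Set X') := fun x hx =>
    isClosed_singleton_of_not_mem k X' V hU' hVdim x hx
  have hTfin : ((V : Set X')ᶜ).Finite :=
    Groth.Agent.Lib.Helper20.ZeroDimSupp.finite_of_isClosed_of_closed_points _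
      V.isOpen.isClosed_compl (fun x hx => hcl x hx)
  have hfib : ∀ x : X, (f.base ⁻¹' {x}).Finite := by
    intro x
    by_cases hxU : x ∈ U
    · apply Set.Subsingleton.finite
      intro a ha b hb
      have haV : a ∈ V := by
        show f.base a ∈ U
        rw [Set.mem_preimage, Set.mem_singleton_iff] at ha
        rw [ha]; exact hxU
      have hbV : b ∈ V := by
        show f.base b ∈ U
        rw [Set.mem_preimage, Set.mem_singleton_iff] at hb
        rw [hb]; exact hxU
      have hinj : Function.Injective (f ∣_ U).base :=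
        (Scheme.homeoOfIso (asIso (f ∣_ U))).injective
      have h1 : (f ∣_ U).base ⟨a, haV⟩ = (f ∣_ U).base ⟨b, hbV⟩ := by
        apply Subtype.ext
        rw [morphismRestrict_base_coe, morphismRestrict_base_coe]
        rw [Set.mem_preimage, Set.mem_singleton_iff] at ha hb
        exact ha.trans hb.symm
      exact congrArg Subtype.val (hinj h1)
    · apply hTfin.subset
      intro a ha hav
      apply hxU
      have : f.base a ∈ U := hav
      rw [Set.mem_preimage, Set.mem_singleton_iff] at ha
      rwa [ha] at this
  choose W hxW hW using fun x =>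
    exists_isFinite_morphismRestrict_of_finite_preimage_singleton f x (hfib x)
  refine IsZariskiLocalAtTarget.of_iSup_eq_top (P := @IsFinite) W ?_ hW
  exact top_le_iff.mp fun x _ => Opens.mem_iSup.mpr ⟨x, hxW x⟩

end Groth.Agent.Lib.Helper18.BiratFinite
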