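import Mathlib
import Groth.Agent.Lib.Helper18.CurveProj
import Groth.Agent.Lib.Helper12.UCAffine2

/-!
# Complements of finitely many closed points on an integral proper curve are affine (helper18)

`X` proper over a field `k`, `dim X ≤ 1`.
* `isAmple_of_nefq_pos`: an invertible module with positive degree on all integral curves is ample (Nakai, helper7).
* `isAffineOpen_compl_point`: `X` integral, `t` a non-generic closed point ⇒ `X ∖ {t}` affine.
* `isAffineOpen_compl_finite`: same for a nonempty finite set of non-generic closed points.
-/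

set_option autoImplicit false
set_option linter.style.haveILetI false
universe u
open CategoryTheory CategoryTheory.Limits AlgebraicGeometry TopologicalSpace Opposite
open Scheme.Modules

namespace Groth.Agent.Lib.Helper18.CurveCompl

open Groth.Agent.Lib.helper11.IsoLocus Groth.Agent.Lib.helper11.GenLocus
  Groth.Agent.Lib.helper11.InvMod Groth.Agent.Lib.Helper18.NefPull
  Groth.Agent.Lib.Lead.ModTensor Groth.Agent.Lib.Lead.DimOneAffine
  Groth.Agent.Lib.Helper18.CurveProj

variable (k : Type u) [Field k] (X : Scheme.{u}) [X.Over (Spec (CommRingCat.of k))]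
  [IsProper (X ↘ Spec (CommRingCat.of k))]

include k in
/-- on a proper scheme of dimension `≤ 1`, an invertible module of positive degree on all integral curves is ample -/
theorem isAmple_of_nefq_pos (hdim : topologicalKrullDim X ≤ 1) {L : X.Modules} (hL : PicF.IsInvertible L)
    (hpos : ∀ C : X.IdealSheafData, IsIntegral C.subscheme →
      topologicalKrullDim (C.support : Set X) = 1 → 0 < nefq k X C L) : CohB1.IsAmple L := by
  refine Groth.Agent.Lib.helper7.Nakai.isAmple_of_coeff_pos k X hL
    (fun Z hZ d hd0 hZd Q hQ => ?_)
  haveI := hZ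
  have hd1 : d = 1 := by
    have h1 : topologicalKrullDim ↥(Z.support : Set X) ≤ topologicalKrullDim X :=
      topologicalKrullDim_subspace_le _ _
    rw [hZd] at h1
    have h2 : ((d : ℕ) : WithBot ℕ∞) ≤ 1 := h1.trans hdim
    have h3 : d ≤ 1 := by exact_mod_cast h2
    omega
  subst hd1
  have hZd' : topologicalKrullDim ↥(Z.support : Set X) = 1 := by rw [hZd]; rfl
  have h1 := Groth.Agent.Lib.helper7.Nakai.nefq_eq_coeff_one k X Z hL hZd' Q hQ
  have h2 := hpos Z hZ hZd'
  rw [← h1]
  exact_mod_cast h2

include k in
/-- **the complement of a non-generic closed point of an integral proper curve is affine** -/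
theorem isAffineOpen_compl_point [IsIntegral X] (hdim : topologicalKrullDim X ≤ 1) (t : X)
    (ht : IsClosed ({t} : Set X)) (hne : t ≠ genericPoint X) :
    IsAffineOpen (⟨({t} : Set X)ᶜ, ht.isOpen_compl⟩ : X.Opens) := by
  haveI := Groth.Agent.Lib.Lead.CurveEuler.isNoetherian k X
  obtain ⟨L, s, hL, hs, hts⟩ :=
    Groth.Agent.Lib.Helper18.PtSection.exists_invertible_section_vanishing_at hdim t ht (genericPoint X)
      ((genericPoint_spec X).specializes trivial) (Ne.symm hne)
  have hample : CohB1.IsAmple L := by
    apply isAmple_of_nefq_pos k X hdim hL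
    intro C hCi hC
    haveI := hCi
    have h1 := (exists_goodPt_of_curve k X hdim C hC).1
    rw [irreducibleComponents_eq_singleton] at h1
    have htC : t ∈ (C.support : Set X) := by
      rw [Set.mem_singleton_iff.1 h1]
      trivial
    exact (Groth.Agent.Lib.Helper18.CurveDegPos.nefq_of_section k X hL s t hs C hC).2 htC hts
  have haff := Groth.Agent.Lib.Helper12.UCAffine.isAffineOpen_genLocus_of_universallyClosed
    (X ↘ Spec (CommRingCat.of k)) L hample s
  have heq : CohB1.genLocus L s = (⟨({t} : Set X)ᶜ, ht.isOpen_compl⟩ : X.Opens) := by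
    rw [genLocus_eq_isoLocus]
    apply le_antisymm
    · intro x hx
      show x ∈ ({t} : Set X)ᶜ
      intro hxt
      exact hts (Set.mem_singleton_iff.1 hxt ▸ hx)
    · intro x hx
      exact hs x hx
  rw [← heq]
  exact haff

include k in
/-- **the complement of a nonempty finite set of non-generic closed points of an integral proper curve is affine** -/
theorem isAffineOpen_compl_finite [IsIntegral X] (hdim : topologicalKrullDim X ≤ 1) (T : Set X)
    (hT : T.Finite) (hne : T.Nonempty) (hcl : ∀ t ∈ T, IsClosed ({t} : Set X))
    (hgen : genericPoint X ∉ T) (V : X.Opens) (hV : (V : Set X) = Tᶜ) : IsAffineOpen V := by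
  haveI := Groth.Agent.Lib.Lead.CurveEuler.isSeparated k X
  induction T, hT using Set.Finite.induction_on generalizing V with
  | empty => exact absurd hne Set.not_nonempty_empty
  | @insert a S ha hS ih =>
    have hacl : IsClosed ({a} : Set X) := hcl a (Set.mem_insert a S)
    have hane : a ≠ genericPoint X := fun h => hgen (h ▸ Set.mem_insert a S)
    have h1 := isAffineOpen_compl_point k X hdim a hacl hane
    by_cases hSe : S.Nonempty
    · have hScl : IsClosed S :=
        hS.isClosed_biUnion (s := S) (f := fun t => ({t} : Set X))
          (fun t ht => hcl t (Set.mem_insert_of_mem a ht)) |> fun h => by simpa using h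
      have h2 := ih hSe (fun t ht => hcl t (Set.mem_insert_of_mem a ht))
        (fun h => hgen (Set.mem_insert_of_mem a h)) ⟨Sᶜ, hScl.isOpen_compl⟩ rfl
      have h3 := h1.inf h2
      have heq : V = (⟨({a} : Set X)ᶜ, hacl.isOpen_compl⟩ : X.Opens) ⊓ ⟨Sᶜ, hScl.isOpen_compl⟩ := by
        apply Opens.ext
        rw [hV]
        ext x
        simp only [Set.mem_compl_iff, Set.mem_insert_iff, not_or, Opens.coe_inf, Opens.coe_mk,
          Set.mem_inter_iff, Set.mem_singleton_iff]
      rw [heq]
      exact h3
    · rw [Set.not_nonempty_iff_eq_empty] at hSe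
      subst hSe
      have heq : V = (⟨({a} : Set X)ᶜ, hacl.isOpen_compl⟩ : X.Opens) := by
        apply Opens.ext
        rw [hV]
        simp
      rw [heq]
      exact h1

end Groth.Agent.Lib.Helper18.CurveCompl
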