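import Mathlib
import Groth.Agent.Lib.Lead.TorsPure
import Groth.Agent.Lib.Lead.DimOneAffine
import Groth.Agent.Lib.Helper16.FLF6
import Groth.Agent.Lib.Helper11.InvMod
import Groth.Agent.Lib.Helper7.CohKer

/-!
# Generic rank of modules on an integral scheme (helper18)

For `X` integral with generic point `η`:
* `rk M : ℕ∞` : the length of `M_η` over the function field `O_{X,η}`.
* `rk_add` : additivity in short exact sequences (middle and right terms quasi-coherent).
* `rk_eq_zero_iff`, `rk_congr`, `rk_eq_one_of_isTrivOn`.
* `isZero_of_mono_of_rk_eq_zero` : a submodule of a quasi-coherent torsion-free module with vanishing generic stalk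
  is zero.
* `eq_zero_of_stalk_generic` : a morphism into a quasi-coherent torsion-free module that vanishes on the generic
  stalk is zero.
* `isTorsionFree_of_forall` : the naive stalkwise condition `a • m = 0 → a = 0 ∨ m = 0` gives `TorSh.IsTorsionFree`.
* `genericPoint_mem_of_nonempty`, `isClosed_singleton_of_ne_genericPoint` (dimension `≤ 1`).
* `rk_eq_zero_of_mono`, `rk_eq_zero_of_dim_support_lt`, `rk_sub_and_quot_of_rk_one` (a nonzero submodule of a
  torsion-free module of rank one has rank one, with quotient of rank zero), `mono_of_rk_one_of_ne_zero` (a nonzero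
  morphism from a torsion-free module of rank one to a torsion-free module is a monomorphism).
* `exists_open_of_rk_eq_zero` : a coherent module of generic rank zero on an integral scheme of dimension `≤ 1`
  has no sections on opens inside an open `W` whose complement consists of closed points.
-/

set_option autoImplicit false
set_option linter.style.haveILetI false
universe u
open CategoryTheory CategoryTheory.Limits AlgebraicGeometry TopologicalSpace Opposite

namespace Groth.Agent.Lib.Helper18.GenericRank

open Scheme.Modules Groth.Agent.Lib.helper17.FlatOver7 Groth.Agent.Lib.helper8.StalkLen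
  Groth.Agent.Lib.helper11.InvMod

variable {X : Scheme.{u}}

lemma enat_aux {a b : ℕ∞} (h1 : a ≠ 0) (h2 : 1 = a + b) : a = 1 ∧ b = 0 := by
  induction a using ENat.recTopCoe with
  | top => simp at h2
  | coe a =>
    induction b using ENat.recTopCoe with
    | top => simp at h2
    | coe b =>
      norm_cast at h1 h2 ⊢
      omega

/-- the naive stalkwise torsion-freeness condition implies `TorSh.IsTorsionFree` -/
theorem isTorsionFree_of_forall (F : X.Modules)
    (htf : ∀ (x : X) (a : X.presheaf.stalk x) (m : F.presheaf.stalk x), a • m = 0 → a = 0 ∨ m = 0) :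
    TorSh.IsTorsionFree F := by
  intro x
  refine ⟨fun r hr m₁ m₂ hm => ?_⟩
  have h1 : r • (m₁ - m₂) = 0 := by
    rw [smul_sub]
    exact sub_eq_zero.mpr hm
  rcases htf x r (m₁ - m₂) h1 with h | h
  · exact absurd h hr.ne_zero
  · exact sub_eq_zero.mp h

variable [IsIntegral X]

theorem genericPoint_mem_of_nonempty (V : X.Opens) (hV : (V : Set X).Nonempty) :
    genericPoint X ∈ V := by
  obtain ⟨x, hx⟩ := hV
  exact ((genericPoint_spec X).mem_open_set_iff V.isOpen).mpr ⟨x, trivial, hx⟩

/-- the generic rank -/
noncomputable def rk (M : X.Modules) : ℕ∞ :=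
  Module.length (X.presheaf.stalk (genericPoint X)) (M.presheaf.stalk (genericPoint X))

theorem rk_add (T : ShortComplex X.Modules) (hT : T.ShortExact)
    [T.X₂.IsQuasicoherent] [T.X₃.IsQuasicoherent] : rk T.X₂ = rk T.X₁ + rk T.X₃ :=
  length_stalk_add T hT _

theorem rk_eq_zero_iff (M : X.Modules) :
    rk M = 0 ↔ Subsingleton (M.presheaf.stalk (genericPoint X)) :=
  Module.length_eq_zero_iff

theorem rk_congr {M N : X.Modules} (e : M ≅ N) : rk M = rk N :=
  (stalkLinEquiv e _).length_eq

theorem rk_eq_one_of_isTrivOn (M : X.Modules) [M.IsQuasicoherent] (V : X.Opens)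
    (hV : (V : Set X).Nonempty) (h : IsTrivOn M V) : rk M = 1 := by
  obtain ⟨e⟩ := h
  have hη := genericPoint_mem_of_nonempty V hV
  obtain ⟨hfree, hfr⟩ := Groth.Agent.Lib.helper16.FLF.free_stalk_of_restrict_iso_freeMod M 1
    (e ≪≫ (Groth.Agent.Lib.helper16.FLF.freeModOneIso _).symm) (genericPoint X) hη
  haveI := hfree
  haveI : Module.Finite (X.presheaf.stalk (genericPoint X)) (M.presheaf.stalk (genericPoint X)) :=
    Module.finite_of_finrank_pos (by omega)
  unfold rk
  rw [Module.length_of_free_of_finite, hfr]
  haveI : IsSimpleModule (X.presheaf.stalk (genericPoint X)) (X.presheaf.stalk (genericPoint X)) := by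
    letI : Field (X.presheaf.stalk (genericPoint X)) :=
      inferInstanceAs (Field X.functionField)
    infer_instance
  rw [Module.length_eq_one]
  rfl

/-- a morphism into a quasi-coherent torsion-free module that kills all germs at the generic point is zero -/
theorem eq_zero_of_stalk_generic {T F : X.Modules} [F.IsQuasicoherent] (hF : TorSh.IsTorsionFree F)
    (φ : T ⟶ F) (h : ∀ m, stalkAdd φ (genericPoint X) m = 0) : φ = 0 := by
  apply Scheme.Modules.hom_ext
  intro U
  ext s
  change (φ.app U).hom s = 0
  refine TopCat.Presheaf.section_ext ⟨F.presheaf, F.isSheaf⟩ U _ 0 (fun x hx => ?_)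
  have hη : genericPoint X ∈ U := genericPoint_mem_of_nonempty U ⟨x, hx⟩
  have h1 : (F.presheaf.germ U (genericPoint X) hη).hom ((φ.app U).hom s) = 0 := by
    rw [← stalkAdd_germ]
    exact h _
  have h2 := Groth.Agent.Lib.Lead.TorsPure.germ_eq_zero_of_germ_genericPoint_eq_zero F hF x hx
    ((φ.app U).hom s) hη h1
  exact h2.trans (map_zero _).symm

/-- a submodule of a quasi-coherent torsion-free module with vanishing generic stalk is zero -/
theorem isZero_of_mono_of_rk_eq_zero {T F : X.Modules} [F.IsQuasicoherent]
    (hF : TorSh.IsTorsionFree F) (i : T ⟶ F) [Mono i] (h : rk T = 0) : IsZero T := by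
  rw [rk_eq_zero_iff] at h
  have h0 : i = 0 := eq_zero_of_stalk_generic hF i (fun m => by
    rw [Subsingleton.elim m 0]
    exact map_zero _)
  rw [IsZero.iff_id_eq_zero, ← cancel_mono i, zero_comp, Category.id_comp]
  exact h0

theorem rk_ne_zero_of_mono {T F : X.Modules} [F.IsQuasicoherent]
    (hF : TorSh.IsTorsionFree F) (i : T ⟶ F) [Mono i] (h : ¬ IsZero T) : rk T ≠ 0 :=
  fun h0 => h (isZero_of_mono_of_rk_eq_zero hF i h0)

theorem rk_eq_zero_of_mono {T Q : X.Modules} (j : T ⟶ Q) [Mono j] (h : rk Q = 0) : rk T = 0 := by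
  rw [rk_eq_zero_iff] at h ⊢
  exact (stalkAdd_injective_of_mono j _).subsingleton

/-- a coherent module whose support has smaller dimension than `X` has generic rank zero -/
theorem rk_eq_zero_of_dim_support_lt (Q : X.Modules) (hQ : Coh.IsCoh Q)
    (h : topologicalKrullDim (CohB1.support Q) < topologicalKrullDim X) : rk Q = 0 := by
  rw [rk_eq_zero_iff]
  by_contra hne
  have hcl := Groth.Agent.Lib.helper8.Dev.isClosed_support_of_isCoh Q hQ
  have hη : genericPoint X ∈ CohB1.support Q := hne
  have huniv : CohB1.support Q = Set.univ := by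
    refine Set.eq_univ_of_univ_subset ?_
    have h1 : closure ({genericPoint X} : Set X) ⊆ CohB1.support Q :=
      hcl.closure_subset_iff.mpr (Set.singleton_subset_iff.mpr hη)
    have h2 : closure ({genericPoint X} : Set X) = Set.univ := (genericPoint_spec X).def
    rwa [h2] at h1
  rw [huniv, (Homeomorph.Set.univ X).isHomeomorph.topologicalKrullDim_eq] at h
  exact lt_irrefl _ h

/-- a nonzero submodule of a quasi-coherent torsion-free module of rank one has rank one, and the quotient has
rank zero -/
theorem rk_sub_and_quot_of_rk_one {T F C : X.Modules} [F.IsQuasicoherent] [C.IsQuasicoherent]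
    (hF : TorSh.IsTorsionFree F) (hrk : rk F = 1) (i : T ⟶ F) (c : F ⟶ C) (w : i ≫ c = 0)
    (hS : (ShortComplex.mk i c w).ShortExact) (hT : ¬ IsZero T) : rk T = 1 ∧ rk C = 0 := by
  haveI : Mono i := hS.mono_f
  have h1 : rk T ≠ 0 := rk_ne_zero_of_mono hF i hT
  have h2 : rk F = rk T + rk C := rk_add (ShortComplex.mk i c w) hS
  rw [hrk] at h2
  exact enat_aux h1 h2

/-- a nonzero morphism from a torsion-free module of rank one to a torsion-free module is a monomorphism -/
theorem mono_of_rk_one_of_ne_zero {A B : X.Modules} [A.IsQuasicoherent] [B.IsQuasicoherent]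
    (hA : TorSh.IsTorsionFree A) (hB : TorSh.IsTorsionFree B) (hrk : rk A = 1) (φ : A ⟶ B)
    (hφ : φ ≠ 0) : Mono φ := by
  haveI : (kernel φ).IsQuasicoherent := Groth.Agent.Lib.helper7.CohKer.isQuasicoherent_kernel φ
  haveI : (cokernel (kernel.ι φ)).IsQuasicoherent :=
    Groth.Agent.Lib.helper7.CohKer.isQuasicoherent_cokernel (kernel.ι φ)
  have hS : (ShortComplex.mk (kernel.ι φ) (cokernel.π (kernel.ι φ))
      (cokernel.condition (kernel.ι φ))).ShortExact :=
    { exact := ShortComplex.exact_cokernel (kernel.ι φ) }
  have h2 : rk A = rk (kernel φ) + rk (cokernel (kernel.ι φ)) := rk_add _ hS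
  let m : cokernel (kernel.ι φ) ⟶ B := Abelian.factorThruCoimage φ
  haveI : Mono m := inferInstanceAs (Mono (Abelian.factorThruCoimage φ))
  have hm : cokernel.π (kernel.ι φ) ≫ m = φ := cokernel.π_desc _ _ _
  have hI : ¬ IsZero (cokernel (kernel.ι φ)) := by
    intro hz
    apply hφ
    rw [← hm, hz.eq_of_tgt (cokernel.π (kernel.ι φ)) 0, zero_comp]
  have h1 : rk (cokernel (kernel.ι φ)) ≠ 0 := rk_ne_zero_of_mono hB m hI
  have h0 : rk (kernel φ) = 0 := by
    rw [hrk, add_comm] at h2
    exact (enat_aux h1 h2).2
  have hz : IsZero (kernel φ) := isZero_of_mono_of_rk_eq_zero hA (kernel.ι φ) h0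
  exact Preadditive.mono_of_kernel_zero (hz.eq_of_src _ _)

/-- on an integral scheme of dimension `≤ 1`, every point other than the generic point is closed -/
theorem isClosed_singleton_of_ne_genericPoint (hdim : topologicalKrullDim X ≤ 1) (x : X)
    (hx : x ≠ genericPoint X) : IsClosed ({x} : Set X) := by
  refine Groth.Agent.Lib.Lead.DimOneAffine.isClosed_singleton_of_dim_le_one X hdim x ?_
  intro hgen
  apply hx
  have h1 : closure ({x} : Set X) = Set.univ := by
    have : closure ({x} : Set X) ∈ ({Set.univ} : Set (Set X)) := by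
      rw [← irreducibleComponents_eq_singleton]
      exact hgen
    exact this
  exact ((genericPoint_spec X).eq h1).symm

/-- a coherent module of generic rank zero on an integral scheme of dimension `≤ 1`: an open `W` off which the
module has no sections, whose complement consists of closed points -/
theorem exists_open_of_rk_eq_zero [IsLocallyNoetherian X] (hdim : topologicalKrullDim X ≤ 1)
    (C : X.Modules) (hC : Coh.IsCoh C) (h : rk C = 0) :
    ∃ W : X.Opens, (∀ P : X.Opens, P ≤ W → Subsingleton Γ(C, P)) ∧
      (∀ x, x ∉ W → IsClosed ({x} : Set X)) := by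
  rw [rk_eq_zero_iff] at h
  have hcl := Groth.Agent.Lib.helper8.Dev.isClosed_support_of_isCoh C hC
  let W : X.Opens := ⟨(CohB1.support C)ᶜ, hcl.isOpen_compl⟩
  refine ⟨W, fun P hP => ?_, fun x hx => ?_⟩
  · refine ⟨fun s t => ?_⟩
    refine TopCat.Presheaf.section_ext ⟨C.presheaf, C.isSheaf⟩ P _ _ (fun x hx => ?_)
    have h1 : x ∉ CohB1.support C := hP hx
    have h2 : Subsingleton (C.presheaf.stalk x) := by
      by_contra h2
      exact h1 h2
    exact h2.elim _ _
  · refine isClosed_singleton_of_ne_genericPoint hdim x ?_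
    rintro rfl
    apply hx
    change genericPoint X ∈ (CohB1.support C)ᶜ
    intro h3
    exact h3 h

end Groth.Agent.Lib.Helper18.GenericRank
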