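import Mathlib
import Groth.Agent.S12290

set_option autoImplicit false
set_option linter.style.haveILetI false
universe u
open CategoryTheory CategoryTheory.Limits AlgebraicGeometry TopologicalSpace Opposite

namespace Groth.Agent.Lib.Helper18.SmoothReg

/-- **regular ⇒ smooth over an algebraically closed field** (scheme version) -/
theorem smooth_of_isRegularLocalRing_stalk (k : Type u) [Field k] [IsAlgClosed k] {X : Scheme.{u}}
    (f : X ⟶ Spec (CommRingCat.of k)) [LocallyOfFiniteType f]
    (hreg : ∀ x : X, IsRegularLocalRing (X.presheaf.stalk x)) : Smooth f := by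
  refine IsZariskiLocalAtSource.iff_exists_resLE.mpr fun x => ?_
  obtain ⟨V, hV, hxV, -⟩ := exists_isAffineOpen_mem_and_subset (x := x) (U := ⊤) trivial
  refine ⟨⊤, V, hxV, le_top, ?_⟩
  haveI : IsAffine ((⊤ : (Spec (CommRingCat.of k)).Opens) : Scheme.{u}) := isAffineOpen_top _
  haveI : IsAffine (V : Scheme.{u}) := hV
  rw [HasRingHomProperty.iff_of_isAffine (P := @Smooth)]
  apply (RingHom.Smooth.propertyIsLocal.respectsIso.arrow_mk_iso_iff
    (arrowResLEAppIso f ⊤ V le_top)).mpr
  -- the `k`-algebra structure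
  let ρ : k →+* Γ(X, V) := (f.appLE ⊤ V le_top).hom.comp (Scheme.ΓSpecIso (CommRingCat.of k)).inv.hom
  have hρft : ρ.FiniteType := by
    have h1 : (f.appLE ⊤ V le_top).hom.FiniteType :=
      HasRingHomProperty.appLE (P := @LocallyOfFiniteType) f inferInstance
        ⟨⊤, isAffineOpen_top _⟩ ⟨V, hV⟩ le_top
    refine RingHom.FiniteType.comp h1 (RingHom.FiniteType.of_surjective _ ?_)
    exact (ConcreteCategory.bijective_of_isIso (Scheme.ΓSpecIso (CommRingCat.of k)).inv).2
  have hρ : ρ.Smooth := by
    letI : Algebra k Γ(X, V) := ρ.toAlgebra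
    haveI : Algebra.FiniteType k Γ(X, V) := hρft
    have hfs : Algebra.FormallySmooth k Γ(X, V) := by
      rw [Groth.Agent.S12290.formallySmooth_iff_regular k Γ(X, V)]
      intro p hp
      let y : PrimeSpectrum Γ(X, V) := ⟨p, hp⟩
      have hy : hV.fromSpec y ∈ V := hV.range_fromSpec.subset ⟨y, rfl⟩
      letI := TopCat.Presheaf.algebra_section_stalk X.presheaf (⟨hV.fromSpec y, hy⟩ : V)
      haveI : IsLocalization.AtPrime (X.presheaf.stalk (hV.fromSpec y)) p :=
        hV.isLocalization_stalk' y hy
      haveI := hreg (hV.fromSpec y)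
      exact IsRegularLocalRing.of_ringEquiv
        (IsLocalization.algEquiv p.primeCompl (X.presheaf.stalk (hV.fromSpec y))
          (Localization.AtPrime p)).toRingEquiv
    haveI : Algebra.FinitePresentation k Γ(X, V) :=
      Algebra.FinitePresentation.of_finiteType.mp inferInstance
    haveI : Algebra.Smooth k Γ(X, V) := ⟨hfs, inferInstance⟩
    exact RingHom.smooth_algebraMap.mpr inferInstance
  have hcomp : (f.appLE ⊤ V le_top).hom =
      ρ.comp (Scheme.ΓSpecIso (CommRingCat.of k)).hom.hom := by
    ext a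
    simp [ρ]
  rw [hcomp]
  exact RingHom.Smooth.comp (RingHom.Smooth.of_bijective
    (ConcreteCategory.bijective_of_isIso (Scheme.ΓSpecIso (CommRingCat.of k)).hom)) hρ

end Groth.Agent.Lib.Helper18.SmoothReg
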