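import Mathlib
import Groth.Agent.Lib.Helper18.CurvePt4
import Groth.Agent.Lib.Helper18.SmoothReg

set_option autoImplicit false
set_option linter.style.haveILetI false
universe u
open CategoryTheory CategoryTheory.Limits AlgebraicGeometry Opposite TopologicalSpace Module
open Scheme.Modules

namespace Groth.Agent.Lib.Helper18.CurvePt

open Groth.Agent.Lib.Helper18 Groth.Agent.Lib.helper11.IsoLocus Groth.Agent.Lib.helper11.InvMod
open Groth.Agent.Lib.Lead.ModTensor Groth.Agent.Lib.helper9.CurvePunctual
open Groth.Agent.Lib.helper9.CurveVanish Groth.Agent.Lib.helper9.CurveTwist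
open Groth.Agent.Lib.helper7 Groth.Agent.Lib.helper11.TwistH1
open Groth.Agent.Lib.Helper20.SplitH1 Groth.Agent.Lib.Helper18.RegPoint

section general

variable {X : Scheme.{u}}

/-- the local ring at a closed point with invertible ideal sheaf is regular -/
theorem isRegularLocalRing_stalk_of_goodPt [IsIntegral X] [IsLocallyNoetherian X] {x : X}
    (hx : GoodPt x) : IsRegularLocalRing (X.presheaf.stalk x) := by
  obtain ⟨hy, hinv⟩ := hx
  have hc := Groth.Agent.Lib.helper7.IdealCartier.effCartier_of_invertible _ hinv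
  obtain ⟨U, hxU, f, -, hI⟩ := hc x
  rw [vanishingIdeal_singleton_ideal_of_mem hy U hxU] at hI
  have hU : IsAffineOpen U.1 := U.2
  set 𝔭 := hU.primeIdealOf ⟨x, hxU⟩ with h𝔭
  letI := X.presheaf.algebra_section_stalk ⟨x, hxU⟩
  haveI : IsLocalization.AtPrime (X.presheaf.stalk x) 𝔭.asIdeal := hU.isLocalization_stalk ⟨x, hxU⟩
  have hmax : Ideal.map (algebraMap Γ(X, U.1) (X.presheaf.stalk x)) 𝔭.asIdeal =
      IsLocalRing.maximalIdeal (X.presheaf.stalk x) :=
    IsLocalization.AtPrime.map_eq_maximalIdeal 𝔭.asIdeal (X.presheaf.stalk x)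
  have hprin : (IsLocalRing.maximalIdeal (X.presheaf.stalk x)).IsPrincipal := by
    refine ⟨⟨algebraMap Γ(X, U.1) (X.presheaf.stalk x) f, ?_⟩⟩
    rw [← hmax]
    have : 𝔭.asIdeal = Ideal.span {f} := hI
    rw [this, Ideal.map_span, Set.image_singleton]
  haveI : IsDomain (X.presheaf.stalk x) := inferInstance
  haveI : IsPrincipalIdealRing (X.presheaf.stalk x) :=
    ((tfae_of_isNoetherianRing_of_isLocalRing_of_isDomain (X.presheaf.stalk x)).out 4 0).mp hprin
  infer_instance

theorem isRegularLocalRing_stalk_genericPoint [IsIntegral X] :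
    IsRegularLocalRing (X.presheaf.stalk (genericPoint X)) := by
  haveI : IsPrincipalIdealRing (X.functionField) := inferInstance
  exact (inferInstance : IsRegularLocalRing X.functionField)

end general

section curve

variable (k : Type u) [Field k] (X : Scheme.{u}) [X.Over (Spec (CommRingCat.of k))]
  [IsProper (X ↘ Spec (CommRingCat.of k))] [IsIntegral X]

open Groth.Agent.Lib.Lead in
/-- a nonzero map from `O` into a coherent submodule `F ⊆ J` of an invertible module with
`χ(F) = χ(O)` is an isomorphism -/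
theorem isIso_of_euler_eq (hdim : topologicalKrullDim X ≤ 1) {F J : X.Modules} (hFc : Coh.IsCoh F)
    (hJ : PicF.IsInvertible J) (j : F ⟶ J) [Mono j] (t : Coh.structureModule X ⟶ F) (ht : t ≠ 0)
    (hχ : Curv2.euler k X F = Curv2.euler k X (Coh.structureModule X)) : IsIso t := by
  haveI := CurveEuler.isNoetherian k X
  have hO := isInvertible_structureModule X
  have hs : t ≫ j ≠ 0 := fun h => ht ((cancel_mono j).mp (h.trans zero_comp.symm))
  set U := isoLocus (t ≫ j) with hUdef
  have hUne : ((U : X.Opens) : Set X).Nonempty := CurveInv.isoLocus_nonempty X hO hJ (t ≫ j) hs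
  have hUt : U ≤ isoLocus t := by
    rw [le_isoLocus_iff]
    haveI : Mono ((restrictFunctor U.ι).map j) := mono_restrict j U
    haveI : IsIso ((restrictFunctor U.ι).map t ≫ (restrictFunctor U.ι).map j) := by
      rw [← Functor.map_comp]
      exact isIso_restrict_isoLocus (t ≫ j)
    exact isIso_of_isIso_comp_mono ((restrictFunctor U.ι).map t) ((restrictFunctor U.ι).map j)
  haveI : Mono (t ≫ j) := CurveInv.mono_of_ne_zero hO hJ (t ≫ j) hs
  haveI : Mono t := mono_of_mono t j
  have hS : (ShortComplex.mk t (cokernel.π t) (cokernel.condition t)).ShortExact :=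
    { exact := ShortComplex.exact_cokernel t
      mono_f := inferInstance
      epi_g := inferInstanceAs (Epi (cokernel.π t)) }
  have hOc := CurveInv.isCoh_of_isInvertible X hO
  have hCc : Coh.IsCoh (cokernel t) := CohKer.isCoh_cokernel hOc hFc t
  have hadd := ProperEuler.euler_additive k hS hOc hCc
  simp only at hadd
  have hcl : ∀ x, x ∉ U → IsClosed ({x} : Set X) := fun x hx =>
    CurveInv.isClosed_singleton_of_not_mem hdim U hUne x hx
  have hsec : ∀ P : X.Opens, P ≤ U → Subsingleton Γ(cokernel t, P) := fun P hP =>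
    CurveInv.sections_cokernel_subsingleton t P (hP.trans hUt)
  have hχ0 : Curv2.euler k X (cokernel t) = (finrank k (Coh.HH X (cokernel t) 0) : ℤ) := by
    rw [HH.euler_eq_sum k (cokernel t) 0 (fun i hi => by
      obtain ⟨m, rfl⟩ : ∃ m, i = m + 1 := ⟨i - 1, by omega⟩
      exact DimOneVanish.subsingleton_HH_of_sections_vanish (cokernel t) U hcl hsec m)]
    simp
  haveI : Module.Finite k (Coh.HH X (cokernel t) 0) := ProperEuler.finite_HH k X _ hCc 0
  have h0 : finrank k (Coh.HH X (cokernel t) 0) = 0 := by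
    have : (finrank k (Coh.HH X (cokernel t) 0) : ℤ) = 0 := by linarith
    exact_mod_cast this
  haveI hsub : Subsingleton (Coh.HH X (cokernel t) 0) := (Module.finrank_zero_iff (R := k)).mp h0
  have htop : Subsingleton Γ(cokernel t, ⊤) := (HH.equiv₀ (cokernel t)).symm.toEquiv.subsingleton
  have hz : IsZero (cokernel t) := DimOneVanish.isZero_of_sections_vanish (cokernel t) U hcl hsec htop
  haveI : Epi t := Preadditive.epi_of_isZero_cokernel t hz
  exact isIso_of_mono_of_epi t

end curve

section algClosed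

variable (k : Type u) [Field k] [IsAlgClosed k] (X : Scheme.{u}) [X.Over (Spec (CommRingCat.of k))]
  [IsProper (X ↘ Spec (CommRingCat.of k))] [IsIntegral X]

open Groth.Agent.Lib.Lead in
/-- on an integral proper curve of arithmetic genus zero over an algebraically closed field, every
closed point has an invertible ideal sheaf -/
theorem goodPt_of_genus_zero (hdim : topologicalKrullDim X = 1) (hg : Curv2.genus k X = 0) {x : X}
    (hx : IsClosed ({x} : Set X)) : GoodPt x := by
  haveI := CurveEuler.isNoetherian k X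
  have h0 := finrank_H0_structureModule_eq_one k X
  obtain ⟨p, -, hp, hpinv⟩ := exists_goodPt_mem k X hdim ⊤ ⟨genericPoint X, trivial⟩
  set Zp := Scheme.IdealSheafData.vanishingIdeal ⟨{p}, hp⟩ with hZpdef
  obtain ⟨J, hJ, -, hJI⟩ := Groth.Agent.Lib.helper12.InvDual.exists_inverse hpinv
  have hdegI : Curv2.deg k X (ClSub.idealMod Zp) 1 = -1 :=
    deg_idealMod_point k X hdim.le hp hpinv (finrank_H0_quotMod_point k X hp)
  have hdegJ : Curv2.deg k X J 1 = 1 := by
    have := VBCurve.deg_add_deg_of_isInverseOf k X hdim.le hpinv hJ hJI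
    rw [hdegI] at this
    linarith
  set Z := Scheme.IdealSheafData.vanishingIdeal ⟨{x}, hx⟩ with hZdef
  have hZ : topologicalKrullDim (Z.support : Set X) ≤ 0 :=
    Groth.Agent.Lib.helper9.CurveGG.dim_support_vanishingIdeal_le X hx
  obtain ⟨hFc, heul, -⟩ := idealTwist_main k X hdim.le J hJ Z hZ
  rw [finrank_H0_quotMod_point k X hx] at heul
  have hO := isInvertible_structureModule X
  have hOc := CurveInv.isCoh_of_isInvertible X hO
  have hχO : Curv2.euler k X (Coh.structureModule X) = 1 := by
    rw [CurveEuler.euler_eq k X hdim.le _ hOc.1, h0]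
    have : finrank k (Coh.HH X (Coh.structureModule X) 1) = 0 := hg
    rw [this]
    simp
  have hχF : Curv2.euler k X (CohB1.tensorMod (ClSub.idealMod Z) J) =
      Curv2.euler k X (Coh.structureModule X) := by
    unfold Curv2.deg at hdegJ
    rw [heul]
    push_cast at hdegJ ⊢
    linarith
  have hpos : 0 < finrank k (Coh.HH X (CohB1.tensorMod (ClSub.idealMod Z) J) 0) := by
    have e1 := CurveEuler.euler_eq k X hdim.le _ hFc.1
    rw [hχF, hχO] at e1
    have : (0 : ℤ) < (finrank k (Coh.HH X (CohB1.tensorMod (ClSub.idealMod Z) J) 0) : ℤ) := by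
      have hnn : (0 : ℤ) ≤ (finrank k (Coh.HH X (CohB1.tensorMod (ClSub.idealMod Z) J) 1) : ℤ) :=
        Int.natCast_nonneg _
      linarith
    exact_mod_cast this
  obtain ⟨t, ht⟩ := CurveSec.exists_hom_ne_zero_of_finrank_pos k X _ hpos
  let ι : ClSub.idealMod Z ⟶ Coh.structureModule X := ClSub.idealModι Z
  let φ : CohB1.tensorMod (ClSub.idealMod Z) J ⟶ CohB1.tensorMod (Coh.structureModule X) J :=
    tensorMap ι (𝟙 J)
  haveI : Mono ι := IdealMod.mono_idealModι Z
  haveI hφmono : Mono φ := mono_tensorMap_left ι hJ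
  let j : CohB1.tensorMod (ClSub.idealMod Z) J ⟶ J := φ ≫ (leftUnitor J).hom
  haveI : Mono j := mono_comp φ (leftUnitor J).hom
  haveI := isIso_of_euler_eq k X hdim.le hFc hJ j t ht hχF
  obtain ⟨ε⟩ := hJI
  let e : ClSub.idealMod Z ≅ ClSub.idealMod Zp :=
    (rightUnitor (ClSub.idealMod Z)).symm ≪≫ tensorIso (Iso.refl _) ε.symm ≪≫
      (assoc (ClSub.idealMod Z) J (ClSub.idealMod Zp)).symm ≪≫
      tensorIso (asIso t).symm (Iso.refl _) ≪≫ leftUnitor (ClSub.idealMod Zp)
  exact ⟨hx, isInvertible_of_iso e.symm hpinv⟩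

end algClosed

end Groth.Agent.Lib.Helper18.CurvePt
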