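import Mathlib
import Groth.Agent.Lib.Lead.GenLocusInt
import Groth.Agent.Lib.Helper11.InvPullback

/-!
# Iso-loci of morphisms of invertible modules on reduced schemes (helper18)

* `isoLocus_zero`: the iso-locus of the zero morphism between invertible modules is empty.
* `isoLocus_ne_bot_of_isReduced`: on a reduced scheme a nonzero morphism of invertible modules is an
  isomorphism on a nonempty open.
-/

set_option autoImplicit false
universe u
open CategoryTheory CategoryTheory.Limits AlgebraicGeometry TopologicalSpace Opposite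
open Scheme.Modules
open Groth.Agent.Lib.helper11.IsoLocus Groth.Agent.Lib.helper11.InvMod
  Groth.Agent.Lib.helper11.GenLocus Groth.Agent.Lib.helper11.InvHom

namespace Groth.Agent.Lib.Helper18.IsoLocusRed

variable {X : Scheme.{u}}

/-- the iso-locus of the zero morphism between invertible modules is empty -/
theorem isoLocus_zero {M N : X.Modules} (hM : PicF.IsInvertible M)
    (hN : PicF.IsInvertible N) : isoLocus (0 : M ⟶ N) = ⊥ := by
  rw [eq_bot_iff]
  intro x hx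
  obtain ⟨U₁, hx₁, h₁⟩ := hM x
  obtain ⟨U₂, hx₂, h₂⟩ := hN x
  obtain ⟨eM⟩ : IsTrivOn M (U₁ ⊓ U₂) := IsTrivOn.of_le inf_le_left h₁
  obtain ⟨eN⟩ : IsTrivOn N (U₁ ⊓ U₂) := IsTrivOn.of_le inf_le_right h₂
  have h1 := isoLocus_inf_eq_basicOpen_localFn (0 : M ⟶ N) eM eN
  have h2 : localFn (0 : M ⟶ N) eM eN = 0 := by
    unfold localFn
    rw [localEnd_zero, fn_zero, map_zero]
  rw [h2, Scheme.basicOpen_zero] at h1
  have : x ∈ isoLocus (0 : M ⟶ N) ⊓ (U₁ ⊓ U₂) := ⟨hx, hx₁, hx₂⟩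
  rw [h1] at this
  exact this

/-- On a reduced scheme, a nonzero morphism between invertible modules is an isomorphism on a
nonempty open. -/
theorem isoLocus_ne_bot_of_isReduced [IsReduced X] {M N : X.Modules} (hM : PicF.IsInvertible M)
    (hN : PicF.IsInvertible N) (φ : M ⟶ N) (hφ : φ ≠ 0) : isoLocus φ ≠ ⊥ := by
  intro h
  apply hφ
  apply eq_zero_of_forall_exists_isZeroOn
  intro x
  obtain ⟨U₁, hx₁, h₁⟩ := hM x
  obtain ⟨U₂, hx₂, h₂⟩ := hN x
  obtain ⟨eM⟩ : IsTrivOn M (U₁ ⊓ U₂) := IsTrivOn.of_le inf_le_left h₁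
  obtain ⟨eN⟩ : IsTrivOn N (U₁ ⊓ U₂) := IsTrivOn.of_le inf_le_right h₂
  have h1 := isoLocus_inf_eq_basicOpen_localFn φ eM eN
  rw [h, bot_inf_eq] at h1
  have h2 : localFn φ eM eN = 0 := (basicOpen_eq_bot_iff _).1 h1.symm
  have h3 : fn (localEnd φ eM eN) ⊤ = 0 := by
    have hinj : Function.Injective ((U₁ ⊓ U₂).topIso.hom) :=
      (ConcreteCategory.bijective_of_isIso ((U₁ ⊓ U₂).topIso.hom)).1
    apply hinj
    rw [map_zero]
    exact h2
  have h4 : IsZeroOn φ ((U₁ ⊓ U₂).ι ''ᵁ ⊤) := (isZeroOn_image_iff φ eM eN ⊤).2 h3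
  rw [(U₁ ⊓ U₂).ι_image_top] at h4
  exact ⟨U₁ ⊓ U₂, ⟨hx₁, hx₂⟩, h4⟩

end Groth.Agent.Lib.Helper18.IsoLocusRed
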