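import Mathlib
import Groth.Agent.Lib.Helper18.CurvePt
import Groth.Prelude.Def_CurvBase
import Groth.Agent.Lib.Helper18.CurvePt4
import Groth.Agent.Lib.Lead.VBCurve15
import Groth.Agent.Lib.Lead.VBCurve4
import Groth.Agent.Lib.Helper12.InvDual2
import Groth.Agent.Lib.Helper12.TensorInv

set_option autoImplicit false
set_option linter.style.haveILetI false
universe u
open CategoryTheory CategoryTheory.Limits AlgebraicGeometry Opposite TopologicalSpace Module
open Scheme.Modules

attribute [local instance] Curv2.resAlgebra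

namespace Groth.Agent.Lib.Helper18.ResDeg

open Groth.Agent.Lib.Helper18

section point

variable (k : Type u) [Field k] (X : Scheme.{u}) [X.Over (Spec (CommRingCat.of k))]
  [IsProper (X ↘ Spec (CommRingCat.of k))]

/-- `h⁰(O_y) = [κ(y) : k]` for a closed point `y` of a proper `k`-scheme -/
theorem finrank_H0_quotMod_eq_finrank_residueField {y : X} (hy : IsClosed ({y} : Set X)) :
    finrank k (Coh.HH X (ClSub.quotMod (Scheme.IdealSheafData.vanishingIdeal ⟨{y}, hy⟩)) 0) =
      finrank k (X.residueField y) := by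
  set Z := Scheme.IdealSheafData.vanishingIdeal ⟨{y}, hy⟩ with hZdef
  haveI := Groth.Agent.Lib.Lead.CurveEuler.isNoetherian k X
  haveI := Groth.Agent.Lib.Helper18.CurvePt.isIntegral_subscheme_point X hy
  have hQc : Coh.IsCoh (ClSub.quotMod Z) :=
    Groth.Agent.Lib.helper8.Dev.isCoh_push_structureModule Z.subschemeι
  haveI : Module.Finite k (Coh.HH X (ClSub.quotMod Z) 0) :=
    Groth.Agent.Lib.Lead.ProperEuler.finite_HH k X _ hQc 0
  have hsupp : ((Z.support : Closeds X) : Set X) = {y} :=
    Scheme.IdealSheafData.coe_support_vanishingIdeal _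
  have hyr : y ∈ Set.range Z.subschemeι := by
    rw [Z.range_subschemeι, hsupp]
    rfl
  obtain ⟨z, hz⟩ := hyr
  have hsub : ∀ w : Z.subscheme, w = z := by
    intro w
    apply Z.subschemeι.isEmbedding.injective
    have hw : Z.subschemeι w ∈ Set.range Z.subschemeι := ⟨w, rfl⟩
    rw [Z.range_subschemeι, hsupp] at hw
    rw [hz]
    exact hw
  haveI : Nonempty (Z.subschemeι ⁻¹ᵁ (⊤ : X.Opens)) := ⟨⟨z, trivial⟩⟩
  haveI hdom : IsDomain Γ(Z.subscheme, Z.subschemeι ⁻¹ᵁ (⊤ : X.Opens)) :=
    IsIntegral.component_integral (X := Z.subscheme) (Z.subschemeι ⁻¹ᵁ (⊤ : X.Opens))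
  let R : Type u := Γ(Z.subscheme, Z.subschemeι ⁻¹ᵁ (⊤ : X.Opens))
  letI : CommRing R := inferInstanceAs (CommRing Γ(Z.subscheme, Z.subschemeι ⁻¹ᵁ (⊤ : X.Opens)))
  haveI : IsDomain R := hdom
  letI modR : Module k R := HH.sectionsModuleOver k (ClSub.quotMod Z)
  letI : Algebra k R := Algebra.ofModule (fun a x y => by
      show ((Z.subschemeι.app ⊤).hom (Coh.toGlobal (X ↘ Spec (CommRingCat.of k)) a) * x) * y =
        (Z.subschemeι.app ⊤).hom (Coh.toGlobal (X ↘ Spec (CommRingCat.of k)) a) * (x * y)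
      exact mul_assoc _ _ _) (fun a x y => by
      show x * ((Z.subschemeι.app ⊤).hom (Coh.toGlobal (X ↘ Spec (CommRingCat.of k)) a) * y) =
        (Z.subschemeι.app ⊤).hom (Coh.toGlobal (X ↘ Spec (CommRingCat.of k)) a) * (x * y)
      exact mul_left_comm _ _ _)
  let e : Coh.HH X (ClSub.quotMod Z) 0 ≃ₗ[k] R := HH.equiv₀Over k (ClSub.quotMod Z)
  have hfin : @Module.Finite k R _ _ modR := Module.Finite.equiv e
  haveI : @Module.Finite k R _ _ Algebra.toModule := hfin
  haveI : Algebra.IsIntegral k R := Algebra.IsIntegral.of_finite k R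
  have hunit : ∀ r : R, r ≠ 0 → IsUnit r := fun r hr =>
    (Algebra.IsIntegral.isIntegral (R := k) r).isUnit hr
  -- the germ map `R → O_{Z,z}` is bijective
  let gZ : R →+* Z.subscheme.presheaf.stalk z :=
    (Z.subscheme.presheaf.germ (Z.subschemeι ⁻¹ᵁ (⊤ : X.Opens)) z trivial).hom
  have hgsurj : Function.Surjective gZ := by
    intro t
    obtain ⟨U, hzU, s, rfl⟩ := TopCat.Presheaf.exists_germ_eq Z.subscheme.presheaf t
    obtain rfl : U = Z.subschemeι ⁻¹ᵁ (⊤ : X.Opens) := by
      ext w
      rw [hsub w]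
      exact ⟨fun _ => trivial, fun _ => hzU⟩
    exact ⟨s, rfl⟩
  have hginj : Function.Injective gZ := by
    rw [injective_iff_map_eq_zero]
    intro r hr
    by_contra hr0
    have h1 : IsUnit (gZ r) := (hunit r hr0).map gZ
    rw [hr] at h1
    exact not_isUnit_zero h1
  -- the stalk map `O_{X,ι z} → O_{Z,z}`
  let ψ : X.presheaf.stalk (Z.subschemeι z) →+* Z.subscheme.presheaf.stalk z :=
    (Z.subschemeι.stalkMap z).hom
  have hψsurj : Function.Surjective ψ := Z.subschemeι.stalkMap_surjective z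
  have hker : RingHom.ker ψ = IsLocalRing.maximalIdeal (X.presheaf.stalk (Z.subschemeι z)) := by
    apply le_antisymm
    · apply IsLocalRing.le_maximalIdeal
      exact RingHom.ker_ne_top ψ
    · intro a ha
      rw [RingHom.mem_ker]
      obtain ⟨r, hr⟩ := hgsurj (ψ a)
      by_contra h0
      have hr0 : r ≠ 0 := by
        rintro rfl
        rw [map_zero] at hr
        exact h0 hr.symm
      have h1 : IsUnit (ψ a) := hr ▸ (hunit r hr0).map gZ
      have h2 : IsUnit a := (isUnit_map_iff ψ a).mp h1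
      exact (IsLocalRing.mem_maximalIdeal a).mp ha h2
  -- `κ(ι z) ≃ O_{Z,z}`
  let θ : X.residueField (Z.subschemeι z) ≃+* Z.subscheme.presheaf.stalk z :=
    (Ideal.quotEquivOfEq hker.symm).trans (RingHom.quotientKerEquivOfSurjective hψsurj)
  have hθ : ∀ a : X.presheaf.stalk (Z.subschemeι z),
      θ ((X.residue (Z.subschemeι z)).hom a) = ψ a := fun a => rfl
  let τ : R ≃+* X.residueField (Z.subschemeι z) :=
    (RingEquiv.ofBijective gZ ⟨hginj, hgsurj⟩).trans θ.symm
  have hτ : ∀ a : k, τ (algebraMap k R a) = algebraMap k (X.residueField (Z.subschemeι z)) a := by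
    intro a
    have h1 : algebraMap k R a =
        (Z.subschemeι.app ⊤).hom (Coh.toGlobal (X ↘ Spec (CommRingCat.of k)) a) := by
      change (Z.subschemeι.app ⊤).hom (Coh.toGlobal (X ↘ Spec (CommRingCat.of k)) a) * 1 = _
      exact mul_one _
    change θ.symm (gZ (algebraMap k R a)) = _
    rw [RingEquiv.symm_apply_eq, h1]
    change _ = θ ((X.residue (Z.subschemeι z)).hom ((X.presheaf.germ ⊤ (Z.subschemeι z) trivial).hom
      (Coh.toGlobal (X ↘ Spec (CommRingCat.of k)) a)))
    rw [hθ]
    exact (Scheme.Hom.germ_stalkMap_apply Z.subschemeι ⊤ z trivial _).symm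
  let τl : R ≃ₗ[k] X.residueField (Z.subschemeι z) :=
    { τ with
      map_smul' := fun a r => by
        change τ (a • r) = a • τ r
        rw [Algebra.smul_def, Algebra.smul_def, map_mul, hτ] }
  have htr : ∀ (a b : X), a = b → finrank k (X.residueField a) = finrank k (X.residueField b) := by
    rintro a _ rfl
    rfl
  rw [e.finrank_eq, τl.finrank_eq]
  exact htr _ _ hz

end point

section curve

open Groth.Agent.Lib.helper11.InvMod Groth.Agent.Lib.helper9.CurveTwist

variable (k : Type u) [Field k] (X : Scheme.{u}) [X.Over (Spec (CommRingCat.of k))]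
  [IsProper (X ↘ Spec (CommRingCat.of k))] [IsIntegral X]

/-- `deg I_y = -h⁰(O_y)` for an invertible point ideal -/
theorem deg_idealMod_closedPoint (hdim : topologicalKrullDim X ≤ 1) {y : X}
    (hy : IsClosed ({y} : Set X))
    (hinv : PicF.IsInvertible (ClSub.idealMod (Scheme.IdealSheafData.vanishingIdeal ⟨{y}, hy⟩))) :
    Curv2.deg k X (ClSub.idealMod (Scheme.IdealSheafData.vanishingIdeal ⟨{y}, hy⟩)) 1 =
      -(finrank k (X.residueField y) : ℤ) := by
  haveI := Groth.Agent.Lib.Lead.CurveEuler.isNoetherian k X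
  rw [← finrank_H0_quotMod_eq_finrank_residueField k X hy]
  set Z := Scheme.IdealSheafData.vanishingIdeal ⟨{y}, hy⟩ with hZdef
  have hO := isInvertible_structureModule X
  have hZ : topologicalKrullDim (Z.support : Set X) ≤ 0 :=
    Groth.Agent.Lib.helper9.CurveGG.dim_support_vanishingIdeal_le X hy
  obtain ⟨-, heul, -⟩ := idealTwist_main k X hdim (Coh.structureModule X) hO Z hZ
  have h2 := Groth.Agent.Lib.helper9.CurveDegAdd.deg_tensorMod k X hdim hinv hO
  rw [Groth.Agent.Lib.Lead.CurveEuler.deg_structureModule k X, add_zero] at h2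
  rw [← h2]
  unfold Curv2.deg
  rw [heul]
  push_cast
  ring

/-- the subgroup of `ℤ` of degrees of invertible modules -/
noncomputable def degSubgroup (hdim : topologicalKrullDim X ≤ 1) : AddSubgroup ℤ where
  carrier := {d | ∃ L : X.Modules, PicF.IsInvertible L ∧ Curv2.deg k X L 1 = d}
  zero_mem' := ⟨Coh.structureModule X, isInvertible_structureModule X,
    Groth.Agent.Lib.Lead.CurveEuler.deg_structureModule k X⟩
  add_mem' := by
    rintro a b ⟨L, hL, rfl⟩ ⟨M, hM, rfl⟩
    exact ⟨CohB1.tensorMod L M, Groth.Agent.Lib.helper12.TensorInv.isInvertible_tensorMod hL hM,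
      Groth.Agent.Lib.helper9.CurveDegAdd.deg_tensorMod k X hdim hL hM⟩
  neg_mem' := by
    rintro a ⟨L, hL, rfl⟩
    obtain ⟨N, hN, hLN, hNL⟩ := Groth.Agent.Lib.helper12.InvDual.exists_inverse hL
    refine ⟨N, hN, ?_⟩
    have := Groth.Agent.Lib.Lead.VBCurve.deg_add_deg_of_isInverseOf k X hdim hL hN hNL
    linarith

theorem mem_degSubgroup_iff (hdim : topologicalKrullDim X ≤ 1) (d : ℤ) :
    d ∈ degSubgroup k X hdim ↔ ∃ L : X.Modules, PicF.IsInvertible L ∧ Curv2.deg k X L 1 = d :=
  Iff.rfl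

/-- a subgroup of `ℤ` containing `f x` for `x ∈ s` contains their gcd -/
theorem natCast_gcd_mem (D : AddSubgroup ℤ) {α : Type*} (s : Finset α) (f : α → ℕ)
    (h : ∀ x ∈ s, (f x : ℤ) ∈ D) : ((s.gcd f : ℕ) : ℤ) ∈ D := by
  classical
  induction s using Finset.induction_on with
  | empty => simp
  | insert a s ha ih =>
    rw [Finset.gcd_insert]
    have h1 := h a (Finset.mem_insert_self a s)
    have h2 := ih (fun x hx => h x (Finset.mem_insert_of_mem hx))
    show ((Nat.gcd (f a) (s.gcd f) : ℕ) : ℤ) ∈ D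
    rw [Nat.gcd_eq_gcd_ab]
    refine D.add_mem ?_ ?_
    · have := D.zsmul_mem h1 (Nat.gcdA (f a) (s.gcd f))
      rwa [smul_eq_mul, mul_comm] at this
    · have := D.zsmul_mem h2 (Nat.gcdB (f a) (s.gcd f))
      rwa [smul_eq_mul, mul_comm] at this

/-- the residue degree of a closed point with integrally closed local ring is the degree of an
invertible module -/
theorem finrank_residueField_mem_degSubgroup (hdim : topologicalKrullDim X = 1) {y : X}
    (hy : IsClosed ({y} : Set X)) (hn : IsIntegrallyClosed (X.presheaf.stalk y)) :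
    (finrank k (X.residueField y) : ℤ) ∈ degSubgroup k X hdim.le := by
  haveI := Groth.Agent.Lib.Lead.CurveEuler.isNoetherian k X
  haveI : IsDomain (X.presheaf.stalk y) := inferInstance
  have hpid : IsPrincipalIdealRing (X.presheaf.stalk y) :=
    Groth.Agent.Lib.Lead.VBCurve.isPrincipalIdealRing_of_normal_local _
      ((Groth.Agent.Lib.Lead.VBCurve.ringKrullDim_stalk_le X y).trans hdim.le)
  have hgen := Groth.Agent.Lib.Helper18.CurvePt.ne_genericPoint_of_isClosed hdim hy
  obtain ⟨t, ht⟩ := (hpid.principal (IsLocalRing.maximalIdeal (X.presheaf.stalk y))).principal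
  have ht0 : t ≠ 0 := by
    rintro rfl
    apply Groth.Agent.Lib.Helper18.RegPoint.maximalIdeal_stalk_ne_bot hy hgen
    rw [ht]
    simp
  obtain ⟨_, hinv⟩ := Groth.Agent.Lib.Helper18.CurvePt.goodPt_of_uniformizer hy t ht0 ht
  have h1 : -(finrank k (X.residueField y) : ℤ) ∈ degSubgroup k X hdim.le :=
    ⟨_, hinv, deg_idealMod_closedPoint k X hdim.le hy hinv⟩
  simpa using (degSubgroup k X hdim.le).neg_mem h1

end curve

end Groth.Agent.Lib.Helper18.ResDeg
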