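import Mathlib
import Groth.Agent.Lib.Helper9.CurveGG
import Groth.Agent.Lib.Helper18.IsoLocusRed
import Groth.Agent.Lib.Helper18.ResDeg
import Groth.Agent.Lib.Helper18.RegPoint2
import Groth.Agent.Lib.Helper18.CurvePt5

/-!
# Closed points of small degree on genus-zero curves over an infinite field (helper18)

`X` an integral proper curve over a field `k` with `H¹(X, O_X) = 0` (no assumption on `H⁰(O_X)`).

* `h1_h0_of_deg_nonneg`: `deg L ≥ 0` ⇒ `H¹(L) = 0` and `h⁰(L) = deg L + h⁰(O)`.
* `finrank_H0_idealTwist_lt`: `deg L ≥ 0` ⇒ `h⁰(I_y ⊗ L) < h⁰(L)` for every closed point `y`.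
* `exists_hom_mem_isoLocus` (`k` infinite): a nonzero section of `L` generating `L` at finitely many given
  closed points.
* `exists_closedPoint_deg_le` (`k` infinite): if `deg N > 0` and `T` is a finite set of closed points there is a
  closed point `Q ∉ T` with `h⁰(O_Q) ≤ deg N`.
-/

set_option autoImplicit false
set_option linter.style.haveILetI false
universe u
open CategoryTheory CategoryTheory.Limits AlgebraicGeometry Opposite TopologicalSpace Module
open Scheme.Modules

namespace Groth.Agent.Lib.Helper18.GenusZeroPts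

open Groth.Agent.Lib.Helper18 Groth.Agent.Lib.helper11.IsoLocus Groth.Agent.Lib.helper11.InvMod
open Groth.Agent.Lib.Lead.ModTensor Groth.Agent.Lib.helper11.GenLocus
open Groth.Agent.Lib.helper9.CurveGen Groth.Agent.Lib.Helper20.SplitH1
open Groth.Agent.Lib.helper11.TwistH1 Groth.Agent.Lib.helper11.IdealGG
open Groth.Agent.Lib.helper12.TensorInv Groth.Agent.Lib.helper7
open Groth.Agent.Lib.helper9.CurveGG Groth.Agent.Lib.helper9.CurveTwist
open Groth.Agent.Lib.Lead.CurveInv Groth.Agent.Lib.Lead.CurveEuler Groth.Agent.Lib.Lead.CurveSec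
open Groth.Agent.Lib.helper9.CurveLinSer

section curve

variable (k : Type u) [Field k] (X : Scheme.{u}) [X.Over (Spec (CommRingCat.of k))]
  [IsProper (X ↘ Spec (CommRingCat.of k))] [IsIntegral X]

/-- `h⁰(O) > 0` -/
theorem finrank_H0_structureModule_pos :
    0 < finrank k (Coh.HH X (Coh.structureModule X) 0) := by
  have hOc := isCoh_of_isInvertible X (isInvertible_structureModule X)
  haveI : Module.Finite k (Coh.HH X (Coh.structureModule X) 0) :=
    Groth.Agent.Lib.Lead.ProperEuler.finite_HH k X _ hOc 0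
  haveI : Nontrivial ((Coh.structureModule X).val.obj (op ⊤)) :=
    inferInstanceAs (Nontrivial Γ(X, ⊤))
  haveI : Nontrivial (Coh.HH X (Coh.structureModule X) 0) :=
    (HH.equiv₀ (Coh.structureModule X)).toEquiv.nontrivial
  exact Module.finrank_pos

/-- genus zero, `deg L ≥ 0`: `H¹(L) = 0` and `h⁰(L) = deg L + h⁰(O)` -/
theorem h1_h0_of_deg_nonneg (hdim : topologicalKrullDim X ≤ 1)
    (h1 : Subsingleton (Coh.HH X (Coh.structureModule X) 1))
    {L : X.Modules} (hL : PicF.IsInvertible L) (hdeg : 0 ≤ Curv2.deg k X L 1) :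
    Subsingleton (Coh.HH X L 1) ∧
      (finrank k (Coh.HH X L 0) : ℤ) =
        Curv2.deg k X L 1 + (finrank k (Coh.HH X (Coh.structureModule X) 0) : ℤ) := by
  have hO := isInvertible_structureModule X
  have hOc := isCoh_of_isInvertible X hO
  have hLc := isCoh_of_isInvertible X hL
  have eO := euler_eq k X hdim _ hOc.1
  have eL := euler_eq k X hdim _ hLc.1
  rw [finrank_zero_of_subsingleton (M := Coh.HH X (Coh.structureModule X) 1)] at eO
  have hd : Curv2.deg k X L 1 = Curv2.euler k X L - 1 * Curv2.euler k X (Coh.structureModule X) := rfl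
  have hpos0 := finrank_H0_structureModule_pos k X
  have hpos : 0 < finrank k (Coh.HH X L 0) := by
    have hnn : (0 : ℤ) ≤ (finrank k (Coh.HH X L 1) : ℤ) := Int.natCast_nonneg _
    have : (0 : ℤ) < (finrank k (Coh.HH X L 0) : ℤ) := by
      have : (0 : ℤ) < (finrank k (Coh.HH X (Coh.structureModule X) 0) : ℤ) := by exact_mod_cast hpos0
      push_cast at eO
      linarith
    exact_mod_cast this
  obtain ⟨s, hs⟩ := exists_hom_ne_zero_of_finrank_pos k X L hpos
  have hsub := subsingleton_H1_of_section k X hdim h1 hL s hs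
  refine ⟨hsub, ?_⟩
  rw [finrank_zero_of_subsingleton (M := Coh.HH X L 1)] at eL
  push_cast at eO eL
  linarith

/-- genus zero, `deg L ≥ 0`: `h⁰(I_y ⊗ L) < h⁰(L)` for every closed point `y` -/
theorem finrank_H0_idealTwist_lt (hdim : topologicalKrullDim X ≤ 1)
    (h1 : Subsingleton (Coh.HH X (Coh.structureModule X) 1))
    {L : X.Modules} (hL : PicF.IsInvertible L) (hdeg : 0 ≤ Curv2.deg k X L 1) {y : X}
    (hy : IsClosed ({y} : Set X)) :
    finrank k (Coh.HH X (CohB1.tensorMod
      (ClSub.idealMod (Scheme.IdealSheafData.vanishingIdeal ⟨{y}, hy⟩)) L) 0) <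
      finrank k (Coh.HH X L 0) := by
  set Z := Scheme.IdealSheafData.vanishingIdeal ⟨{y}, hy⟩ with hZdef
  have hZ := dim_support_vanishingIdeal_le X hy
  obtain ⟨hFc, heul, hsurj⟩ := idealTwist_main k X hdim L hL Z hZ
  obtain ⟨hL1, hL0⟩ := h1_h0_of_deg_nonneg k X hdim h1 hL hdeg
  have hpos0 := finrank_H0_structureModule_pos k X
  have hLpos : 0 < finrank k (Coh.HH X L 0) := by
    have : (0 : ℤ) < (finrank k (Coh.HH X L 0) : ℤ) := by
      have : (0 : ℤ) < (finrank k (Coh.HH X (Coh.structureModule X) 0) : ℤ) := by exact_mod_cast hpos0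
      linarith
    exact_mod_cast this
  by_cases hF0 : finrank k (Coh.HH X (CohB1.tensorMod (ClSub.idealMod Z) L) 0) = 0
  · rw [hF0]; exact hLpos
  · obtain ⟨s, hs⟩ := exists_hom_ne_zero_of_finrank_pos k X _ (Nat.pos_of_ne_zero hF0)
    have hs1 := hsurj s hs
    haveI : Subsingleton (Coh.HH X (CohB1.tensorMod (ClSub.idealMod Z) L) 1) :=
      hs1.subsingleton
    have hLc := isCoh_of_isInvertible X hL
    have eF := euler_eq k X hdim _ hFc.1
    have eL := euler_eq k X hdim _ hLc.1
    rw [finrank_zero_of_subsingleton (M := Coh.HH X (CohB1.tensorMod (ClSub.idealMod Z) L) 1)] at eF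
    rw [finrank_zero_of_subsingleton (M := Coh.HH X L 1)] at eL
    have hq := finrank_H0_quotMod_pos k X hy
    have : (finrank k (Coh.HH X (CohB1.tensorMod (ClSub.idealMod Z) L) 0) : ℤ) <
        (finrank k (Coh.HH X L 0) : ℤ) := by
      have hq' : (0 : ℤ) < (finrank k (Coh.HH X (ClSub.quotMod Z) 0) : ℤ) := by exact_mod_cast hq
      push_cast at eF eL
      linarith
    exact_mod_cast this

/-- genus zero, `k` infinite, `deg L ≥ 0`: a nonzero section of `L` generating `L` at finitely many given closed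
points -/
theorem exists_hom_mem_isoLocus [Infinite k] (hdim : topologicalKrullDim X ≤ 1)
    (h1 : Subsingleton (Coh.HH X (Coh.structureModule X) 1))
    {L : X.Modules} (hL : PicF.IsInvertible L) (hdeg : 0 ≤ Curv2.deg k X L 1) (T : Finset X)
    (hT : ∀ y ∈ T, IsClosed ({y} : Set X)) :
    ∃ t : Coh.structureModule X ⟶ L, t ≠ 0 ∧ ∀ y ∈ T, y ∈ isoLocus t := by
  classical
  let OL := CohB1.tensorMod (Coh.structureModule X) L
  have hOL0 : finrank k (Coh.HH X OL 0) = finrank k (Coh.HH X L 0) :=
    finrank_HH_eq_of_iso k (leftUnitor L) 0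
  obtain ⟨-, hL0⟩ := h1_h0_of_deg_nonneg k X hdim h1 hL hdeg
  have hpos0 := finrank_H0_structureModule_pos k X
  have hLpos : 0 < finrank k (Coh.HH X L 0) := by
    have : (0 : ℤ) < (finrank k (Coh.HH X L 0) : ℤ) := by
      have : (0 : ℤ) < (finrank k (Coh.HH X (Coh.structureModule X) 0) : ℤ) := by exact_mod_cast hpos0
      linarith
    exact_mod_cast this
  let Zy : {y // y ∈ T} → X.IdealSheafData := fun y =>
    Scheme.IdealSheafData.vanishingIdeal ⟨{y.1}, hT y.1 y.2⟩
  let φ : ∀ y : {y // y ∈ T}, CohB1.tensorMod (ClSub.idealMod (Zy y)) L ⟶ OL := fun y =>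
    tensorMap (ClSub.idealModι (Zy y)) (𝟙 L)
  let p : Option {y // y ∈ T} → Subspace k (Coh.HH X OL 0) := fun o =>
    match o with
    | none => ⊥
    | some y => LinearMap.range (HH.mapOver k (φ y) 0)
  have hne : ⋃ i, (p i : Set (Coh.HH X OL 0)) ≠ Set.univ := by
    intro hcov
    obtain ⟨i, hi⟩ := Subspace.exists_eq_top_of_iUnion_eq_univ hcov
    cases i with
    | none =>
      have h2 : (⊥ : Subspace k (Coh.HH X OL 0)) = ⊤ := hi
      have h3 : finrank k (Coh.HH X OL 0) = 0 := by
        rw [← finrank_top k (Coh.HH X OL 0), ← h2]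
        exact finrank_bot k _
      omega
    | some y =>
      have h2 : LinearMap.range (HH.mapOver k (φ y) 0) = ⊤ := hi
      have hs : Function.Surjective (HH.mapOver k (φ y) 0) := LinearMap.range_eq_top.mp h2
      have hZ := dim_support_vanishingIdeal_le X (hT y.1 y.2)
      obtain ⟨hFc, -, -⟩ := idealTwist_main k X hdim L hL (Zy y) hZ
      haveI : Module.Finite k (Coh.HH X (CohB1.tensorMod (ClSub.idealMod (Zy y)) L) 0) :=
        Groth.Agent.Lib.Lead.ProperEuler.finite_HH k X _ hFc 0
      have h' : finrank k (Coh.HH X OL 0) ≤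
          finrank k (Coh.HH X (CohB1.tensorMod (ClSub.idealMod (Zy y)) L) 0) :=
        LinearMap.finrank_le_finrank_of_surjective hs
      have hlt := finrank_H0_idealTwist_lt k X hdim h1 hL hdeg (hT y.1 y.2)
      rw [hOL0] at h'
      exact absurd hlt (not_lt.mpr h')
  obtain ⟨x, hx⟩ : ∃ x : Coh.HH X OL 0, ∀ i, x ∉ (p i : Set (Coh.HH X OL 0)) := by
    by_contra hcon
    push Not at hcon
    apply hne
    ext x
    simp only [Set.mem_iUnion, Set.mem_univ, iff_true]
    exact hcon x
  have hx0 : x ≠ 0 := by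
    intro h0
    apply hx none
    show x ∈ (⊥ : Subspace k (Coh.HH X OL 0))
    rw [h0]
    exact Submodule.zero_mem _
  set x' : Γ(OL, ⊤) := HH.equiv₀ OL x with hx'def
  have hx'0 : x' ≠ 0 := by
    intro h0
    apply hx0
    apply (HH.equiv₀ OL).injective
    rw [map_zero]
    exact h0
  refine ⟨homOfGlobal OL x' ≫ (leftUnitor L).hom, ?_, ?_⟩
  · intro h0
    have h2 : homOfGlobal OL x' = 0 := by
      have := congrArg (fun f => f ≫ (leftUnitor L).inv) h0
      simpa using this
    apply hx'0
    rw [← homOfGlobal_top OL x', h2]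
    rfl
  · intro y hyT
    rw [isoLocus_comp_of_isIso_right]
    by_contra hcon
    obtain ⟨a, ha⟩ := exists_preimage_of_not_mem_isoLocus hL (hT y hyT) x' hcon
    apply hx (some ⟨y, hyT⟩)
    show x ∈ LinearMap.range (HH.mapOver k (φ ⟨y, hyT⟩) 0)
    refine ⟨(HH.equiv₀ _).symm a, ?_⟩
    rw [HH.mapOver_apply, HH.equiv₀_symm_naturality]
    apply (HH.equiv₀ OL).injective
    rw [LinearEquiv.apply_symm_apply]
    exact ha

open Groth.Agent.Lib.helper9.CurveDegAdd in
/-- genus zero, `k` infinite: if `deg N > 0` and `T` is a finite set of closed points, there is a closed point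
`Q ∉ T` with `h⁰(O_Q) ≤ deg N` -/
theorem exists_closedPoint_deg_le [Infinite k] (hdim : topologicalKrullDim X ≤ 1)
    (h1 : Subsingleton (Coh.HH X (Coh.structureModule X) 1))
    {N : X.Modules} (hN : PicF.IsInvertible N) (hdeg : 0 < Curv2.deg k X N 1) (T : Finset X)
    (hT : ∀ y ∈ T, IsClosed ({y} : Set X)) :
    ∃ (Q : X) (hQ : IsClosed ({Q} : Set X)), Q ∉ T ∧
      (finrank k (Coh.HH X (ClSub.quotMod (Scheme.IdealSheafData.vanishingIdeal ⟨{Q}, hQ⟩)) 0) : ℤ) ≤
        Curv2.deg k X N 1 := by
  haveI := Groth.Agent.Lib.Lead.CurveEuler.isNoetherian k X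
  have hO := isInvertible_structureModule X
  have hOc := isCoh_of_isInvertible X hO
  obtain ⟨t, ht0, htT⟩ := exists_hom_mem_isoLocus k X hdim h1 hN hdeg.le T hT
  have hnotiso : ¬ IsIso t := by
    intro hiso
    have := deg_eq_of_iso k X (asIso t) 1
    rw [deg_structureModule k X] at this
    omega
  have hne_top : isoLocus t ≠ ⊤ := fun h => hnotiso ((isoLocus_eq_top_iff t).mp h)
  obtain ⟨Q, hQ⟩ : ∃ Q : X, Q ∉ isoLocus t := by
    by_contra hcon
    push Not at hcon
    exact hne_top (top_le_iff.mp fun x _ => hcon x)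
  have hQc : IsClosed ({Q} : Set X) := (finite_compl_isoLocus k X hdim hO hN t ht0).2 Q hQ
  refine ⟨Q, hQc, fun hQT => hQ (htT Q hQT), ?_⟩
  set Z := Scheme.IdealSheafData.vanishingIdeal ⟨{Q}, hQc⟩ with hZdef
  have hZ := dim_support_vanishingIdeal_le X hQc
  obtain ⟨hFc, heul, -⟩ := idealTwist_main k X hdim N hN Z hZ
  let OL := CohB1.tensorMod (Coh.structureModule X) N
  let ι := ClSub.idealModι Z
  let φ : CohB1.tensorMod (ClSub.idealMod Z) N ⟶ OL := tensorMap ι (𝟙 N)
  haveI : Mono ι := IdealMod.mono_idealModι Z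
  haveI hφmono : Mono φ := mono_tensorMap_left ι hN
  let j : CohB1.tensorMod (ClSub.idealMod Z) N ⟶ N := φ ≫ (leftUnitor N).hom
  haveI : Mono j := mono_comp φ (leftUnitor N).hom
  -- the section of `O ⊗ N` corresponding to `t`
  set x' : Γ(OL, ⊤) := ((t ≫ (leftUnitor N).inv).val.app (op ⊤)).hom
    (1 : X.ringCatSheaf.obj.obj (op ⊤)) with hx'def
  have hx't : homOfGlobal OL x' = t ≫ (leftUnitor N).inv := by
    apply hom_ext_top
    rw [homOfGlobal_top]
  have hQ' : Q ∉ isoLocus (homOfGlobal OL x') := by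
    rw [hx't, isoLocus_comp_of_isIso_right]
    exact hQ
  obtain ⟨a, ha⟩ := exists_preimage_of_not_mem_isoLocus hN hQc x' hQ'
  let t' : Coh.structureModule X ⟶ CohB1.tensorMod (ClSub.idealMod Z) N := homOfGlobal _ a
  have ht'φ : t' ≫ φ = homOfGlobal OL x' := by
    apply hom_ext_top
    rw [homOfGlobal_top]
    change (φ.val.app (op ⊤)).hom ((t'.val.app (op ⊤)).hom (1 : X.ringCatSheaf.obj.obj (op ⊤))) = x'
    rw [homOfGlobal_top]
    exact ha
  have ht'j : t' ≫ j = t := by
    change t' ≫ φ ≫ (leftUnitor N).hom = t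
    rw [← Category.assoc, ht'φ, hx't, Category.assoc, Iso.inv_hom_id, Category.comp_id]
  haveI : Mono t := mono_of_ne_zero hO hN t ht0
  haveI : Mono (t' ≫ j) := by rw [ht'j]; infer_instance
  haveI : Mono t' := mono_of_mono t' j
  set U := isoLocus t with hUdef
  have hUne : ((U : X.Opens) : Set X).Nonempty := isoLocus_nonempty X hO hN t ht0
  have hUt : U ≤ isoLocus t' := by
    rw [le_isoLocus_iff]
    haveI : Mono ((restrictFunctor U.ι).map j) := mono_restrict j U
    haveI : IsIso ((restrictFunctor U.ι).map t' ≫ (restrictFunctor U.ι).map j) := by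
      rw [← Functor.map_comp, ht'j]
      exact isIso_restrict_isoLocus t
    exact isIso_of_isIso_comp_mono ((restrictFunctor U.ι).map t') ((restrictFunctor U.ι).map j)
  have hsub := euler_sub_of_mono k X hdim hOc hFc t' U hUt hUne
  have hnn : (0 : ℤ) ≤ (finrank k (Coh.HH X (cokernel t') 0) : ℤ) := Int.natCast_nonneg _
  have hd : Curv2.deg k X N 1 = Curv2.euler k X N - 1 * Curv2.euler k X (Coh.structureModule X) := rfl
  rw [hd]
  linarith

include k in
open Groth.Agent.Lib.Helper18.CurvePt Groth.Agent.Lib.Helper18.RegPoint in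
/-- on an integral curve of finite type over a field all closed points outside a finite set of closed points are
regular -/
theorem exists_finset_regular (hdim : topologicalKrullDim X = 1) :
    ∃ S : Finset X, (∀ y ∈ S, IsClosed ({y} : Set X)) ∧
      ∀ x : X, IsClosed ({x} : Set X) → x ∉ S → IsRegularLocalRing (X.presheaf.stalk x) := by
  haveI := Groth.Agent.Lib.Lead.CurveEuler.isNoetherian k X
  obtain ⟨V, hVne, hV⟩ := exists_open_uniformizer k (X ↘ Spec (CommRingCat.of k)) hdim.le
  have hcl : ∀ x, x ∉ V → IsClosed ({x} : Set X) := fun x hx =>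
    isClosed_singleton_of_not_mem hdim.le V hVne x hx
  have hSfin : ((V : Set X)ᶜ).Finite :=
    finite_of_forall_isClosed_singleton _ V.2.isClosed_compl (fun x hx => hcl x hx)
  refine ⟨hSfin.toFinset, fun y hy => hcl y (hSfin.mem_toFinset.mp hy), fun x hxc hxS => ?_⟩
  have hxV : x ∈ V := by
    by_contra h
    exact hxS (hSfin.mem_toFinset.mpr h)
  obtain ⟨t, ht0, ht⟩ := hV x hxV hxc (ne_genericPoint_of_isClosed hdim hxc)
  exact isRegularLocalRing_stalk_of_goodPt (goodPt_of_uniformizer hxc t ht0 ht)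

include k in
/-- a closed point exists -/
theorem exists_isClosed_notMem (T : Finset X) (hdim : topologicalKrullDim X = 1) :
    ∃ y : X, IsClosed ({y} : Set X) ∧ y ∉ T := by
  haveI := Groth.Agent.Lib.Lead.CurveEuler.isNoetherian k X
  haveI : JacobsonSpace X := LocallyOfFiniteType.jacobsonSpace (X ↘ Spec (CommRingCat.of k))
  by_contra hcon
  push Not at hcon
  -- all closed points lie in `T`, so the closed points form a finite set
  have hfin : (closedPoints X).Finite := T.finite_toSet.subset (fun y hy => hcon y hy)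
  have hX : (Set.univ : Set X) = closure (closedPoints X) := by
    have := JacobsonSpace.closure_inter_closedPoints (X := X) isClosed_univ
    simpa using this.symm
  have hclosed : IsClosed (closedPoints X) := by
    have := hfin.isClosed_biUnion (f := fun y => ({y} : Set X)) (fun y hy => hy)
    rwa [Set.biUnion_of_singleton] at this
  rw [hclosed.closure_eq] at hX
  have hη : genericPoint X ∈ closedPoints X := hX ▸ Set.mem_univ _
  exact Groth.Agent.Lib.Helper18.CurvePt.ne_genericPoint_of_isClosed hdim hη rfl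

include k in
open Groth.Agent.Lib.Helper18.CurvePt Groth.Agent.Lib.Helper18.RegPoint in
/-- the ideal sheaf of a regular closed point of an integral curve is invertible -/
theorem isInvertible_idealMod_of_regular (hdim : topologicalKrullDim X = 1) {x : X}
    (hx : IsClosed ({x} : Set X)) (hreg : IsRegularLocalRing (X.presheaf.stalk x)) :
    PicF.IsInvertible (ClSub.idealMod (Scheme.IdealSheafData.vanishingIdeal ⟨{x}, hx⟩)) := by
  haveI := Groth.Agent.Lib.Lead.CurveEuler.isNoetherian k X
  obtain ⟨t, ht0, ht⟩ := exists_uniformizer_of_isRegularLocalRing hdim.le hx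
    (ne_genericPoint_of_isClosed hdim hx) hreg
  obtain ⟨_, hinv⟩ := goodPt_of_uniformizer hx t ht0 ht
  exact hinv

/-- `deg I_y = -h⁰(O_y)` for an invertible point ideal -/
theorem deg_idealMod_eq_neg (hdim : topologicalKrullDim X ≤ 1) {y : X}
    (hy : IsClosed ({y} : Set X))
    (hinv : PicF.IsInvertible (ClSub.idealMod (Scheme.IdealSheafData.vanishingIdeal ⟨{y}, hy⟩))) :
    Curv2.deg k X (ClSub.idealMod (Scheme.IdealSheafData.vanishingIdeal ⟨{y}, hy⟩)) 1 =
      -(finrank k (Coh.HH X (ClSub.quotMod (Scheme.IdealSheafData.vanishingIdeal ⟨{y}, hy⟩)) 0) : ℤ) := by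
  haveI := Groth.Agent.Lib.Lead.CurveEuler.isNoetherian k X
  set Z := Scheme.IdealSheafData.vanishingIdeal ⟨{y}, hy⟩ with hZdef
  have hO := isInvertible_structureModule X
  have hZ : topologicalKrullDim (Z.support : Set X) ≤ 0 := dim_support_vanishingIdeal_le X hy
  obtain ⟨-, heul, -⟩ := idealTwist_main k X hdim (Coh.structureModule X) hO Z hZ
  have h2 := Groth.Agent.Lib.helper9.CurveDegAdd.deg_tensorMod k X hdim hinv hO
  rw [Groth.Agent.Lib.Lead.CurveEuler.deg_structureModule k X, add_zero] at h2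
  rw [← h2]
  unfold Curv2.deg
  rw [heul]
  push_cast
  ring

/-- genus zero, `k` infinite: if `deg N > 0` and `T` is a finite set of closed points, there is a REGULAR closed
point `Q ∉ T` with `h⁰(O_Q) ≤ deg N` -/
theorem exists_regular_closedPoint_deg_le [Infinite k] (hdim : topologicalKrullDim X = 1)
    (h1 : Subsingleton (Coh.HH X (Coh.structureModule X) 1))
    {N : X.Modules} (hN : PicF.IsInvertible N) (hdeg : 0 < Curv2.deg k X N 1) (T : Finset X)
    (hT : ∀ y ∈ T, IsClosed ({y} : Set X)) :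
    ∃ (Q : X) (hQ : IsClosed ({Q} : Set X)), Q ∉ T ∧ IsRegularLocalRing (X.presheaf.stalk Q) ∧
      (finrank k (Coh.HH X (ClSub.quotMod (Scheme.IdealSheafData.vanishingIdeal ⟨{Q}, hQ⟩)) 0) : ℤ) ≤
        Curv2.deg k X N 1 := by
  classical
  obtain ⟨S, hS, hreg⟩ := exists_finset_regular k X hdim
  obtain ⟨Q, hQ, hQT, hle⟩ := exists_closedPoint_deg_le k X hdim.le h1 hN hdeg (S ∪ T)
    (fun y hy => (Finset.mem_union.mp hy).elim (hS y) (hT y))
  exact ⟨Q, hQ, fun h => hQT (Finset.mem_union_right _ h),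
    hreg Q hQ (fun h => hQT (Finset.mem_union_left _ h)), hle⟩

end curve

end Groth.Agent.Lib.Helper18.GenusZeroPts
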