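import Mathlib
import Groth.Agent.Lib.Lead.ModTensor
import Groth.Agent.Lib.Helper20.TensorEquiv
import Groth.Agent.Lib.Helper25.MVMod
import Groth.Agent.Lib.Helper12.PullTensor
import Groth.Agent.Lib.Helper11.IsoLocus
import Groth.Agent.Lib.Helper18.HHLoc1

/-!
# The Koszul short exact sequence of two generating sections (base-point-free pencil trick) (helper18)

For an `O_X`-module `D` with two sections `s₀ s₁ : O ⟶ D` and any `O_X`-module `G`:
* `nu s G : G ⟶ G ⊗ D` (multiplication by `s`), natural in `G` (`nu_naturality`), an isomorphism over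
  `X_s` (`genLocus_le_isoLocus_nu`).
* `koszul s₀ s₁ G : G ⟶ (G ⊗ D) ⊞ (G ⊗ D) ⟶ (G ⊗ D) ⊗ D`, `g ↦ (s₁ g, -s₀ g)`, `(a, b) ↦ s₀ a + s₁ b`.
* `koszul_shortExact`: if `X_{s₀} ∪ X_{s₁} = X` the Koszul complex is short exact (no flatness needed:
  it is split over `X_{s₀}` and over `X_{s₁}`).
-/

set_option autoImplicit false
universe u
open CategoryTheory CategoryTheory.Limits AlgebraicGeometry Opposite

namespace Groth.Agent.Lib.Helper18.PencilTrick

open AlgebraicGeometry.Scheme.Modules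
open Groth.Agent.Lib.Lead.ModTensor Groth.Agent.Lib.Helper20.TensorEquiv
open Groth.Agent.Lib.helper11.IsoLocus Groth.Agent.Lib.Helper25.MVMod

variable {X : Scheme.{u}} {D : X.Modules}

/-- multiplication by the section `s` of `D`: `G ⟶ G ⊗ D`. -/
noncomputable def nu (s : Coh.structureModule X ⟶ D) (G : X.Modules) :
    G ⟶ CohB1.tensorMod G D :=
  (rightUnitor G).inv ≫ tensorMap (𝟙 G) s

lemma nu_naturality (s : Coh.structureModule X ⟶ D) {G G' : X.Modules} (f : G ⟶ G') :
    f ≫ nu s G' = nu s G ≫ tensorMap f (𝟙 D) := by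
  unfold nu
  have h1 : f ≫ (rightUnitor G').inv =
      (rightUnitor G).inv ≫ tensorMap f (𝟙 (Coh.structureModule X)) := by
    rw [Iso.eq_inv_comp, ← Category.assoc, ← rightUnitor_naturality, Category.assoc,
      Iso.hom_inv_id, Category.comp_id]
  rw [← Category.assoc, h1, Category.assoc, Category.assoc, tensorMap_exchange]

lemma genLocus_le_isoLocus_nu (s : Coh.structureModule X ⟶ D) (G : X.Modules) :
    CohB1.genLocus D s ≤ isoLocus (nu s G) := by
  unfold nu
  rw [isoLocus_comp_of_isIso_left, genLocus_eq_isoLocus]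
  refine le_trans ?_ (Groth.Agent.Lib.helper12.PullTensor.isoLocus_inf_le_tensorMap (𝟙 G) s)
  rw [(isoLocus_eq_top_iff (𝟙 G)).mpr inferInstance]
  simp

lemma genLocus_le_isoLocus_tensorMap_nu (s : Coh.structureModule X ⟶ D) (G : X.Modules) :
    CohB1.genLocus D s ≤ isoLocus (tensorMap (nu s G) (𝟙 D)) := by
  refine le_trans ?_
    (Groth.Agent.Lib.helper12.PullTensor.isoLocus_inf_le_tensorMap (nu s G) (𝟙 D))
  rw [(isoLocus_eq_top_iff (𝟙 D)).mpr inferInstance]
  simpa using genLocus_le_isoLocus_nu s G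

/-- The (twisted) Koszul complex `G ⟶ (G ⊗ D) ⊞ (G ⊗ D) ⟶ (G ⊗ D) ⊗ D` of two sections of `D`. -/
noncomputable def koszul (s₀ s₁ : Coh.structureModule X ⟶ D) (G : X.Modules) :
    ShortComplex X.Modules :=
  ShortComplex.mk
    (biprod.lift (nu s₁ G) (-(nu s₀ G)))
    (biprod.desc (tensorMap (nu s₀ G) (𝟙 D)) (nu s₁ (CohB1.tensorMod G D)))
    (by
      rw [biprod.lift_desc, Preadditive.neg_comp, nu_naturality s₁ (nu s₀ G), add_neg_cancel])

attribute [local instance] preservesFiniteColimits_restrict additive_restrict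

/-- over `X_{s₁}` the Koszul complex is split -/
noncomputable def koszulSplitting₁ (s₀ s₁ : Coh.structureModule X ⟶ D) (G : X.Modules)
    (U : X.Opens) (hU : U ≤ CohB1.genLocus D s₁) :
    ((koszul s₀ s₁ G).map (restrictFunctor U.ι)).Splitting := by
  let F := restrictFunctor U.ι
  haveI h1 : IsIso (((koszul s₀ s₁ G).map F).f ≫ F.map biprod.fst) := by
    have e1 : F.map (biprod.lift (nu s₁ G) (-(nu s₀ G))) ≫ F.map biprod.fst = F.map (nu s₁ G) := by
      rw [← Functor.map_comp, biprod.lift_fst]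
    change IsIso (F.map (biprod.lift (nu s₁ G) (-(nu s₀ G))) ≫ F.map biprod.fst)
    rw [e1]
    exact (le_isoLocus_iff _ U).mp (hU.trans (genLocus_le_isoLocus_nu s₁ G))
  haveI h2 : IsIso (F.map biprod.inr ≫ ((koszul s₀ s₁ G).map F).g) := by
    have e2 : F.map biprod.inr ≫ F.map (biprod.desc (tensorMap (nu s₀ G) (𝟙 D))
        (nu s₁ (CohB1.tensorMod G D))) = F.map (nu s₁ (CohB1.tensorMod G D)) := by
      rw [← Functor.map_comp, biprod.inr_desc]
    change IsIso (F.map biprod.inr ≫ F.map (biprod.desc (tensorMap (nu s₀ G) (𝟙 D))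
        (nu s₁ (CohB1.tensorMod G D))))
    rw [e2]
    exact (le_isoLocus_iff _ U).mp (hU.trans (genLocus_le_isoLocus_nu s₁ _))
  have k2 : F.map (biprod.inr : CohB1.tensorMod G D ⟶ CohB1.tensorMod G D ⊞ CohB1.tensorMod G D) ≫
      F.map biprod.snd = 𝟙 _ := by
    rw [← Functor.map_comp, biprod.inr_snd, CategoryTheory.Functor.map_id]
  have k4 : F.map (biprod.inr : CohB1.tensorMod G D ⟶ CohB1.tensorMod G D ⊞ CohB1.tensorMod G D) ≫
      F.map biprod.fst = 0 := by
    rw [← Functor.map_comp, biprod.inr_fst, Functor.map_zero]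
  have ktot : F.map (biprod.fst : CohB1.tensorMod G D ⊞ CohB1.tensorMod G D ⟶ _) ≫
      F.map biprod.inl + F.map biprod.snd ≫ F.map biprod.inr = 𝟙 _ := by
    rw [← Functor.map_comp, ← Functor.map_comp, ← Functor.map_add, biprod.total,
      CategoryTheory.Functor.map_id]
  exact splittingOfBicone _ _ _ _ _ k2 k4 ktot h1 h2

/-- over `X_{s₀}` the Koszul complex is split -/
noncomputable def koszulSplitting₀ (s₀ s₁ : Coh.structureModule X ⟶ D) (G : X.Modules)
    (U : X.Opens) (hU : U ≤ CohB1.genLocus D s₀) :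
    ((koszul s₀ s₁ G).map (restrictFunctor U.ι)).Splitting := by
  let F := restrictFunctor U.ι
  haveI h0 : IsIso (F.map (nu s₀ G)) :=
    (le_isoLocus_iff _ U).mp (hU.trans (genLocus_le_isoLocus_nu s₀ G))
  haveI h1 : IsIso (((koszul s₀ s₁ G).map F).f ≫ F.map biprod.snd) := by
    have e1 : F.map (biprod.lift (nu s₁ G) (-(nu s₀ G))) ≫ F.map biprod.snd =
        -F.map (nu s₀ G) := by
      rw [← Functor.map_comp, biprod.lift_snd, Functor.map_neg]
    change IsIso (F.map (biprod.lift (nu s₁ G) (-(nu s₀ G))) ≫ F.map biprod.snd)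
    rw [e1]
    exact isIso_neg' _
  haveI h2 : IsIso (F.map biprod.inl ≫ ((koszul s₀ s₁ G).map F).g) := by
    have e2 : F.map biprod.inl ≫ F.map (biprod.desc (tensorMap (nu s₀ G) (𝟙 D))
        (nu s₁ (CohB1.tensorMod G D))) = F.map (tensorMap (nu s₀ G) (𝟙 D)) := by
      rw [← Functor.map_comp, biprod.inl_desc]
    change IsIso (F.map biprod.inl ≫ F.map (biprod.desc (tensorMap (nu s₀ G) (𝟙 D))
        (nu s₁ (CohB1.tensorMod G D))))
    rw [e2]
    exact (le_isoLocus_iff _ U).mp (hU.trans (genLocus_le_isoLocus_tensorMap_nu s₀ G))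
  have k2 : F.map (biprod.inl : CohB1.tensorMod G D ⟶ CohB1.tensorMod G D ⊞ CohB1.tensorMod G D) ≫
      F.map biprod.fst = 𝟙 _ := by
    rw [← Functor.map_comp, biprod.inl_fst, CategoryTheory.Functor.map_id]
  have k4 : F.map (biprod.inl : CohB1.tensorMod G D ⟶ CohB1.tensorMod G D ⊞ CohB1.tensorMod G D) ≫
      F.map biprod.snd = 0 := by
    rw [← Functor.map_comp, biprod.inl_snd, Functor.map_zero]
  have ktot : F.map (biprod.snd : CohB1.tensorMod G D ⊞ CohB1.tensorMod G D ⟶ _) ≫
      F.map biprod.inr + F.map biprod.fst ≫ F.map biprod.inl = 𝟙 _ := by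
    rw [← Functor.map_comp, ← Functor.map_comp, ← Functor.map_add, add_comm, biprod.total,
      CategoryTheory.Functor.map_id]
  exact splittingOfBicone _ _ _ _ _ k2 k4 ktot h1 h2

/-- **Koszul / base-point-free pencil trick**: if the two sections `s₀, s₁` generate `D`, then
`0 ⟶ G ⟶ (G ⊗ D)² ⟶ (G ⊗ D) ⊗ D ⟶ 0` is short exact, for every `O_X`-module `G`. -/
theorem koszul_shortExact (s₀ s₁ : Coh.structureModule X ⟶ D)
    (h : CohB1.genLocus D s₀ ⊔ CohB1.genLocus D s₁ = ⊤) (G : X.Modules) :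
    (koszul s₀ s₁ G).ShortExact := by
  haveI := Groth.Agent.Lib.Helper18.HHLoc.preservesLimits_restrictFunctor (CohB1.genLocus D s₀).ι
  haveI := Groth.Agent.Lib.Helper18.HHLoc.preservesLimits_restrictFunctor (CohB1.genLocus D s₁).ι
  haveI : PreservesFiniteLimits (restrictFunctor (CohB1.genLocus D s₀).ι) :=
    (PreservesLimitsOfSize.preservesFiniteLimits.{u, u}
      (restrictFunctor (CohB1.genLocus D s₀).ι) :)
  haveI : PreservesFiniteLimits (restrictFunctor (CohB1.genLocus D s₁).ι) :=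
    (PreservesLimitsOfSize.preservesFiniteLimits.{u, u}
      (restrictFunctor (CohB1.genLocus D s₁).ι) :)
  exact shortExact_of_restrict _ _ h _ (koszulSplitting₀ s₀ s₁ G _ le_rfl).shortExact
    (koszulSplitting₁ s₀ s₁ G _ le_rfl).shortExact

end Groth.Agent.Lib.Helper18.PencilTrick
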