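import Mathlib
import Groth.Agent.Lib.Helper18.PencilTrick
import Groth.Agent.Lib.Helper18.HHLES
import Groth.Agent.Lib.Helper18.HHSum
import Groth.Agent.Lib.Helper9.CurveVanish
import Groth.Agent.Lib.Helper11.IdealGG
import Groth.Agent.Lib.Helper11.FiniteAffine
import Groth.Agent.Lib.Helper25.KLinUnit

/-!
# Numerical form of the base-point-free pencil trick (helper18)

`X` over a field `k`, `D` an `O_X`-module with sections `s₀ s₁` such that `X_{s₀} ∪ X_{s₁} = X`.
* `two_mul_finrank_le`: `2 hⁿ(G ⊗ D) ≤ hⁿ(G) + hⁿ((G ⊗ D) ⊗ D)` for every module `G` and every `n`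
  (finite-dimensionality of the three groups as instance hypotheses).
* `exists_secHom_eq`: every `t : O ⟶ F` is `secHom F y`.
* `genLocus_secHom_smul_le`: `X_{c s} ⊆ X_s` for a constant `c`.
* `exists_two_sections`: `D` invertible, globally generated with `h⁰(D) = 2` ⇒ two sections generate.
-/

set_option autoImplicit false
set_option linter.style.haveILetI false
universe u
open CategoryTheory CategoryTheory.Limits AlgebraicGeometry Opposite Module

namespace Groth.Agent.Lib.Helper18.PencilTrick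

open Groth.Agent.Lib.Helper18 Groth.Agent.Lib.helper11.IsoLocus
open Groth.Agent.Lib.helper9.CurveVanish Groth.Agent.Lib.Helper20.SplitH1

/-- middle term of an exact sequence of finite-dimensional spaces -/
theorem finrank_le_of_exact {k V₁ V₂ V₃ : Type*} [Field k] [AddCommGroup V₁] [AddCommGroup V₂]
    [AddCommGroup V₃] [Module k V₁] [Module k V₂] [Module k V₃] [Module.Finite k V₁]
    [Module.Finite k V₂] [Module.Finite k V₃] (f : V₁ →ₗ[k] V₂) (g : V₂ →ₗ[k] V₃)
    (h : Function.Exact f g) : finrank k V₂ ≤ finrank k V₁ + finrank k V₃ := by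
  have h1 := LinearMap.finrank_range_add_finrank_ker g
  have h2 : LinearMap.ker g = LinearMap.range f := (LinearMap.exact_iff.mp h)
  have h3 := LinearMap.finrank_range_le f
  have h4 : finrank k (LinearMap.range g) ≤ finrank k V₃ := Submodule.finrank_le _
  rw [h2] at h1
  omega

variable (k : Type u) [Field k] {X : Scheme.{u}} [X.Over (Spec (CommRingCat.of k))]
  {D : X.Modules}

/-- the numerical form of the base-point-free pencil trick, in every cohomological degree:
`2 hⁿ(G ⊗ D) ≤ hⁿ(G) + hⁿ((G ⊗ D) ⊗ D)` -/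
theorem two_mul_finrank_le (s₀ s₁ : Coh.structureModule X ⟶ D)
    (h : CohB1.genLocus D s₀ ⊔ CohB1.genLocus D s₁ = ⊤) (G : X.Modules) (n : ℕ)
    [Module.Finite k (Coh.HH X G n)] [Module.Finite k (Coh.HH X (CohB1.tensorMod G D) n)]
    [Module.Finite k (Coh.HH X (CohB1.tensorMod (CohB1.tensorMod G D) D) n)] :
    2 * finrank k (Coh.HH X (CohB1.tensorMod G D) n) ≤
      finrank k (Coh.HH X G n) +
        finrank k (Coh.HH X (CohB1.tensorMod (CohB1.tensorMod G D) D) n) := by
  have hS := koszul_shortExact s₀ s₁ h G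
  have hex := HH.exactOver₂ hS k n
  let e := HH.biprodEquivOver k (CohB1.tensorMod G D) (CohB1.tensorMod G D) n
  haveI : Module.Finite k (Coh.HH X (koszul s₀ s₁ G).X₂ n) :=
    Module.Finite.equiv e.symm
  haveI : Module.Finite k (Coh.HH X (koszul s₀ s₁ G).X₁ n) := ‹Module.Finite k (Coh.HH X G n)›
  haveI : Module.Finite k (Coh.HH X (koszul s₀ s₁ G).X₃ n) :=
    ‹Module.Finite k (Coh.HH X (CohB1.tensorMod (CohB1.tensorMod G D) D) n)›
  have h1 := finrank_le_of_exact _ _ hex
  have h2 : finrank k (Coh.HH X (koszul s₀ s₁ G).X₂ n) =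
      finrank k (Coh.HH X (CohB1.tensorMod G D) n) +
        finrank k (Coh.HH X (CohB1.tensorMod G D) n) := by
    have := LinearEquiv.finrank_eq e
    rw [Module.finrank_prod] at this
    exact this
  change finrank k (Coh.HH X (koszul s₀ s₁ G).X₂ n) ≤
    finrank k (Coh.HH X G n) +
      finrank k (Coh.HH X (CohB1.tensorMod (CohB1.tensorMod G D) D) n) at h1
  omega

/-- every morphism `O ⟶ F` is `secHom` of a class -/
theorem exists_secHom_eq {F : X.Modules} (t : Coh.structureModule X ⟶ F) :
    ∃ y : Coh.HH X F 0, secHom F y = t := by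
  refine ⟨(HH.equiv₀ F).symm ((t.val.app (op ⊤)).hom (1 : X.ringCatSheaf.obj.obj (op ⊤))), ?_⟩
  apply hom_ext_top
  rw [secHom_top, LinearEquiv.apply_symm_apply]

/-- scaling a section by a constant does not enlarge the locus where it generates -/
theorem genLocus_secHom_smul_le (hD : PicF.IsInvertible D) (c : k) (y : Coh.HH X D 0) :
    CohB1.genLocus D (secHom D (c • y)) ≤ CohB1.genLocus D (secHom D y) := by
  have e1 : secHom D (c • y) =
      secHom D y ≫ Formal.smulModΓ D (Coh.toGlobal (X ↘ Spec (CommRingCat.of k)) c) :=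
    secHom_smul D _ y
  rw [e1]
  by_cases hc : c = 0
  · subst hc
    rw [map_zero, Groth.Agent.Lib.helper8.FF.smulModΓ_zero, comp_zero,
      Groth.Agent.Lib.helper11.FiniteAffine.genLocus_zero hD]
    exact bot_le
  · haveI : IsIso (Formal.smulModΓ D (Coh.toGlobal (X ↘ Spec (CommRingCat.of k)) c)) :=
      Groth.Agent.Lib.Helper25.KLinUnit.isIso_smulModΓ D _
        ((IsUnit.mk0 c hc).map (Coh.toGlobal (X ↘ Spec (CommRingCat.of k))))
    rw [genLocus_eq_isoLocus, genLocus_eq_isoLocus, isoLocus_comp_of_isIso_right]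

/-- a globally generated invertible module with a two-dimensional space of sections is generated by
two sections -/
theorem exists_two_sections (hD : PicF.IsInvertible D) (hgg : Curv2.IsGloballyGenerated D)
    (h0 : finrank k (Coh.HH X D 0) = 2) :
    ∃ s₀ s₁ : Coh.structureModule X ⟶ D, CohB1.genLocus D s₀ ⊔ CohB1.genLocus D s₁ = ⊤ := by
  haveI : Module.Finite k (Coh.HH X D 0) := Module.finite_of_finrank_pos (by omega)
  let b := Module.finBasisOfFinrankEq k (Coh.HH X D 0) h0
  refine ⟨secHom D (b 0), secHom D (b 1), ?_⟩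
  rw [eq_top_iff]
  intro x _
  obtain ⟨κ, p, hp⟩ := hgg
  have hx : x ∈ isoLocus (𝟙 D) := by
    rw [(isoLocus_eq_top_iff (𝟙 D)).mpr inferInstance]; trivial
  obtain ⟨i, hi⟩ := @Groth.Agent.Lib.helper11.IdealGG.exists_mem_genLocus_of_epi_comp _ _ _ hD κ p hp
    (𝟙 D) x hx
  obtain ⟨y, hy⟩ := exists_secHom_eq (SheafOfModules.ιFree i ≫ p ≫ 𝟙 D)
  rw [← hy] at hi
  have hy2 : y = b.repr y 0 • b 0 + b.repr y 1 • b 1 := by
    conv_lhs => rw [← b.sum_repr y]
    rw [Fin.sum_univ_two]
  rw [hy2, secHom_add] at hi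
  rcases Groth.Agent.Lib.helper11.FiniteAffine.genLocus_add_le hD _ _ hi with h1 | h1
  · exact Or.inl (genLocus_secHom_smul_le k hD _ _ h1)
  · exact Or.inr (genLocus_secHom_smul_le k hD _ _ h1)

end Groth.Agent.Lib.Helper18.PencilTrick
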