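import Mathlib
import Groth.Agent.Lib.Helper18.CurvePt5

set_option autoImplicit false
set_option linter.style.haveILetI false
universe u
open CategoryTheory CategoryTheory.Limits AlgebraicGeometry Opposite TopologicalSpace Module
open Scheme.Modules

namespace Groth.Agent.Lib.Helper18.TwoSec

open Groth.Agent.Lib.Helper18 Groth.Agent.Lib.helper11.IsoLocus Groth.Agent.Lib.helper11.InvMod
open Groth.Agent.Lib.Lead.ModTensor Groth.Agent.Lib.helper9.CurvePunctual
open Groth.Agent.Lib.helper9.CurveVanish Groth.Agent.Lib.helper9.CurveTwist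
open Groth.Agent.Lib.helper7 Groth.Agent.Lib.helper11.TwistH1
open Groth.Agent.Lib.Helper20.SplitH1 Groth.Agent.Lib.Helper18.CurvePt

section general

variable {X : Scheme.{u}}

/-- a section of `L` not generating at the closed point `y` factors through `I_y ⊗ L` -/
theorem exists_factor {L : X.Modules} (hL : PicF.IsInvertible L) (s : Coh.structureModule X ⟶ L)
    {y : X} (hy : IsClosed ({y} : Set X)) (hys : y ∉ isoLocus s) :
    ∃ s' : Coh.structureModule X ⟶
        CohB1.tensorMod (ClSub.idealMod (Scheme.IdealSheafData.vanishingIdeal ⟨{y}, hy⟩)) L,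
      s' ≫ tensorMap (ClSub.idealModι (Scheme.IdealSheafData.vanishingIdeal ⟨{y}, hy⟩)) (𝟙 L) ≫
        (leftUnitor L).hom = s := by
  set Z := Scheme.IdealSheafData.vanishingIdeal ⟨{y}, hy⟩ with hZdef
  let lam : CohB1.tensorMod (Coh.structureModule X) L ≅ L := leftUnitor L
  let s₁ : Coh.structureModule X ⟶ CohB1.tensorMod (Coh.structureModule X) L := s ≫ lam.inv
  let x' : (CohB1.tensorMod (Coh.structureModule X) L).val.obj (op ⊤) :=
    (s₁.val.app (op ⊤)).hom (1 : X.ringCatSheaf.obj.obj (op ⊤))
  have hs₁ : homOfGlobal (CohB1.tensorMod (Coh.structureModule X) L) x' = s₁ := by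
    apply hom_ext_top
    rw [homOfGlobal_top]
  have hiso : isoLocus s₁ = isoLocus s := isoLocus_comp_of_isIso_right s lam.inv
  have hx : y ∉ isoLocus (homOfGlobal (CohB1.tensorMod (Coh.structureModule X) L) x') := by
    rw [hs₁, hiso]; exact hys
  obtain ⟨a, ha⟩ := Groth.Agent.Lib.helper9.CurveGG.exists_preimage_of_not_mem_isoLocus hL hy x' hx
  refine ⟨homOfGlobal _ a, ?_⟩
  have h1 : homOfGlobal (CohB1.tensorMod (ClSub.idealMod Z) L) a ≫
      tensorMap (ClSub.idealModι Z) (𝟙 L) = s₁ := by
    apply hom_ext_top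
    change ((tensorMap (ClSub.idealModι Z) (𝟙 L)).val.app (op ⊤)).hom
      (((homOfGlobal (CohB1.tensorMod (ClSub.idealMod Z) L) a).val.app (op ⊤)).hom
        (1 : X.ringCatSheaf.obj.obj (op ⊤))) = x'
    rw [homOfGlobal_top]
    exact ha
  rw [← Category.assoc, h1]
  simp [s₁, lam]

end general

section curve

variable (k : Type u) [Field k] (X : Scheme.{u}) [X.Over (Spec (CommRingCat.of k))]
  [IsProper (X ↘ Spec (CommRingCat.of k))] [IsIntegral X]

open Groth.Agent.Lib.Lead in
/-- a nonzero map from `O` into a coherent submodule `F ⊆ J` of an invertible module with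
`χ(F) ≤ χ(O)` is an isomorphism -/
theorem isIso_of_euler_le (hdim : topologicalKrullDim X ≤ 1) {F J : X.Modules} (hFc : Coh.IsCoh F)
    (hJ : PicF.IsInvertible J) (j : F ⟶ J) [Mono j] (t : Coh.structureModule X ⟶ F) (ht : t ≠ 0)
    (hχ : Curv2.euler k X F ≤ Curv2.euler k X (Coh.structureModule X)) : IsIso t := by
  haveI := CurveEuler.isNoetherian k X
  have hO := isInvertible_structureModule X
  have hs : t ≫ j ≠ 0 := fun h => ht ((cancel_mono j).mp (h.trans zero_comp.symm))
  set U := isoLocus (t ≫ j) with hUdef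
  have hUne : ((U : X.Opens) : Set X).Nonempty := CurveInv.isoLocus_nonempty X hO hJ (t ≫ j) hs
  have hUt : U ≤ isoLocus t := by
    rw [le_isoLocus_iff]
    haveI : Mono ((restrictFunctor U.ι).map j) := mono_restrict j U
    haveI : IsIso ((restrictFunctor U.ι).map t ≫ (restrictFunctor U.ι).map j) := by
      rw [← Functor.map_comp]
      exact isIso_restrict_isoLocus (t ≫ j)
    exact isIso_of_isIso_comp_mono ((restrictFunctor U.ι).map t) ((restrictFunctor U.ι).map j)
  haveI : Mono (t ≫ j) := CurveInv.mono_of_ne_zero hO hJ (t ≫ j) hs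
  haveI : Mono t := mono_of_mono t j
  have hS : (ShortComplex.mk t (cokernel.π t) (cokernel.condition t)).ShortExact :=
    { exact := ShortComplex.exact_cokernel t
      mono_f := inferInstance
      epi_g := inferInstanceAs (Epi (cokernel.π t)) }
  have hOc := CurveInv.isCoh_of_isInvertible X hO
  have hCc : Coh.IsCoh (cokernel t) := CohKer.isCoh_cokernel hOc hFc t
  have hadd := ProperEuler.euler_additive k hS hOc hCc
  simp only at hadd
  have hcl : ∀ x, x ∉ U → IsClosed ({x} : Set X) := fun x hx =>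
    CurveInv.isClosed_singleton_of_not_mem hdim U hUne x hx
  have hsec : ∀ P : X.Opens, P ≤ U → Subsingleton Γ(cokernel t, P) := fun P hP =>
    CurveInv.sections_cokernel_subsingleton t P (hP.trans hUt)
  have hχ0 : Curv2.euler k X (cokernel t) = (finrank k (Coh.HH X (cokernel t) 0) : ℤ) := by
    rw [HH.euler_eq_sum k (cokernel t) 0 (fun i hi => by
      obtain ⟨m, rfl⟩ : ∃ m, i = m + 1 := ⟨i - 1, by omega⟩
      exact DimOneVanish.subsingleton_HH_of_sections_vanish (cokernel t) U hcl hsec m)]
    simp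
  haveI : Module.Finite k (Coh.HH X (cokernel t) 0) := ProperEuler.finite_HH k X _ hCc 0
  have h0 : finrank k (Coh.HH X (cokernel t) 0) = 0 := by
    have h1 : (0 : ℤ) ≤ (finrank k (Coh.HH X (cokernel t) 0) : ℤ) := Int.natCast_nonneg _
    have : (finrank k (Coh.HH X (cokernel t) 0) : ℤ) = 0 := by linarith
    exact_mod_cast this
  haveI hsub : Subsingleton (Coh.HH X (cokernel t) 0) := (Module.finrank_zero_iff (R := k)).mp h0
  have htop : Subsingleton Γ(cokernel t, ⊤) := (HH.equiv₀ (cokernel t)).symm.toEquiv.subsingleton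
  have hz : IsZero (cokernel t) := DimOneVanish.isZero_of_sections_vanish (cokernel t) U hcl hsec htop
  haveI : Epi t := Preadditive.epi_of_isZero_cokernel t hz
  exact isIso_of_mono_of_epi t

/-- on an integral proper curve, two sections of an invertible module of degree `≤ 1` which both
fail to generate at the closed point `y` differ by an endomorphism of `O` -/
theorem exists_endo_of_not_mem_isoLocus (hdim : topologicalKrullDim X ≤ 1) {L : X.Modules}
    (hL : PicF.IsInvertible L) (hdeg : Curv2.deg k X L 1 ≤ 1)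
    (s t : Coh.structureModule X ⟶ L) (hs : s ≠ 0) {y : X} (hy : IsClosed ({y} : Set X))
    (hys : y ∉ isoLocus s) (hyt : y ∉ isoLocus t) :
    ∃ u : Coh.structureModule X ⟶ Coh.structureModule X, t = u ≫ s := by
  haveI := Groth.Agent.Lib.Lead.CurveEuler.isNoetherian k X
  set Z := Scheme.IdealSheafData.vanishingIdeal ⟨{y}, hy⟩ with hZdef
  have hZ : topologicalKrullDim (Z.support : Set X) ≤ 0 :=
    Groth.Agent.Lib.helper9.CurveGG.dim_support_vanishingIdeal_le X hy
  obtain ⟨hFc, heul, -⟩ := idealTwist_main k X hdim L hL Z hZ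
  obtain ⟨s', hs'⟩ := exists_factor hL s hy hys
  obtain ⟨t', ht'⟩ := exists_factor hL t hy hyt
  haveI : Mono (ClSub.idealModι Z) := IdealMod.mono_idealModι Z
  haveI hφmono : Mono (tensorMap (ClSub.idealModι Z) (𝟙 L)) := mono_tensorMap_left _ hL
  let j : CohB1.tensorMod (ClSub.idealMod Z) L ⟶ L :=
    tensorMap (ClSub.idealModι Z) (𝟙 L) ≫ (leftUnitor L).hom
  haveI : Mono j := mono_comp _ _
  have hs'0 : s' ≠ 0 := by
    intro h0
    apply hs
    rw [← hs', h0, zero_comp]
  have hpos := Groth.Agent.Lib.helper9.CurveGG.finrank_H0_quotMod_pos k X hy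
  have hχ : Curv2.euler k X (CohB1.tensorMod (ClSub.idealMod Z) L) ≤
      Curv2.euler k X (Coh.structureModule X) := by
    rw [heul]
    have h1 : Curv2.euler k X L - 1 * Curv2.euler k X (Coh.structureModule X) ≤ 1 := hdeg
    have h2 : (1 : ℤ) ≤ (finrank k (Coh.HH X (ClSub.quotMod Z) 0) : ℤ) := by exact_mod_cast hpos
    linarith
  haveI : IsIso s' := isIso_of_euler_le k X hdim hFc hL j s' hs'0 hχ
  refine ⟨t' ≫ inv s', ?_⟩
  rw [← ht', ← hs', Category.assoc, IsIso.inv_hom_id_assoc]

end curve

end Groth.Agent.Lib.Helper18.TwoSec
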