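import Mathlib
import Groth.Prelude.Def_LinSer
import Groth.Agent.Lib.Helper18.PencilTrick2
import Groth.Agent.Lib.Helper18.Clifford
import Groth.Agent.Lib.Helper18.TwoSec
import Groth.Agent.Lib.Helper18.GenusZeroPts
import Groth.Agent.Lib.Helper18.GenericRank
import Groth.Agent.Lib.Helper18.CurvePt4
import Groth.Agent.Lib.Helper9.CurveDegAdd
import Groth.Agent.Lib.Helper12.InvDual2

/-!
# Numerical toolkit for invertible modules on integral proper curves (helper18)

* `deg_eq_of_iso`, `le_finrank_of_linIndep` (`LinSer.LinIndep` sections bound `h⁰` from below),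
  `secHom_injective`, `secHom_map` (naturality of helper9's `secHom`).
* over an algebraically closed field: `rr` (Riemann–Roch `h⁰ - h¹ = deg + 1 - g`), `finite_HH`,
  `clifford_or` (`2 h⁰ ≤ deg + 2` or `h⁰ = deg + 1 - g`, for `h⁰ > 0`; duality-free),
  `exists_gen_sections` (a complete `g¹₂` on a regular curve of genus `≥ 1` is generated by two sections).
* `nonempty_iso_of_deg_le_zero_of_section`: degree `≤ 0` with a nonzero section ⇒ trivial.
-/

set_option autoImplicit false
set_option linter.unusedSectionVars false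
universe u
open CategoryTheory CategoryTheory.Limits AlgebraicGeometry

namespace Groth.Agent.Lib.Helper18.CurveNum

open Groth.Agent.Lib.Helper18 Groth.Agent.Lib.Helper18.PencilTrick Module Opposite
open Groth.Agent.Lib.Lead.ModTensor Groth.Agent.Lib.helper9.CurveVanish
open Groth.Agent.Lib.helper11.IsoLocus Groth.Agent.Lib.Helper20.SplitH1

theorem deg_eq_of_iso (k : Type u) [Field k] (X : Scheme.{u}) [X.Over (Spec (CommRingCat.of k))]
    [IsProper (X ↘ Spec (CommRingCat.of k))] {F G : X.Modules} (e : F ≅ G) (n : ℕ) :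
    Curv2.deg k X F n = Curv2.deg k X G n := by
  unfold Curv2.deg
  rw [Groth.Agent.Lib.Lead.CurveEuler.euler_eq_of_iso k X e]

/-- `k`-linearly independent sections give a lower bound for `h⁰` -/
theorem le_finrank_of_linIndep (k : Type u) [Field k] (X : Scheme.{u})
    [X.Over (Spec (CommRingCat.of k))] (M : X.Modules) {n : ℕ} (s : Fin n → LinSer.Sect X M)
    (h : LinSer.LinIndep k X M s) [Module.Finite k (Coh.HH X M 0)] :
    n ≤ finrank k (Coh.HH X M 0) := by
  letI := HH.sectionsModuleOver k M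
  haveI : Module.Finite k (M.val.obj (op ⊤)) := Module.Finite.equiv (HH.equiv₀Over k M)
  have hli : LinearIndependent k s := by
    rw [Fintype.linearIndependent_iff]
    intro c hc i
    have := h c hc
    rw [this]
    rfl
  have := hli.fintype_card_le_finrank
  rw [Fintype.card_fin] at this
  rwa [(HH.equiv₀Over k M).finrank_eq]

variable {X : Scheme.{u}}

theorem secHom_injective (M : X.Modules) {x y : Coh.HH X M 0} (h : secHom M x = secHom M y) :
    x = y := by
  apply (HH.equiv₀ M).injective
  rw [← secHom_top, ← secHom_top, h]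

theorem secHom_map {F M : X.Modules} (j : F ⟶ M) (y : Coh.HH X F 0) :
    secHom M (HH.map j 0 y) = secHom F y ≫ j := by
  apply hom_ext_top
  rw [secHom_top, HH.equiv₀_naturality]
  change _ = (j.val.app (op ⊤)).hom (((secHom F y).val.app (op ⊤)).hom
    (1 : X.ringCatSheaf.obj.obj (op ⊤)))
  rw [secHom_top]

section curve

variable (k : Type u) [Field k] [IsAlgClosed k] (X : Scheme.{u}) [X.Over (Spec (CommRingCat.of k))]
  [IsIntegral X] [IsProper (X ↘ (Spec (CommRingCat.of k)))]

/-- Riemann–Roch -/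
theorem rr (hdim : topologicalKrullDim X ≤ 1) {L : X.Modules} (hL : PicF.IsInvertible L) :
    (finrank k (Coh.HH X L 0) : ℤ) - (finrank k (Coh.HH X L 1) : ℤ) =
      Curv2.deg k X L 1 + 1 - (Curv2.genus k X : ℤ) := by
  have hO := finrank_H0_structureModule_eq_one k X
  have := Groth.Agent.Lib.Lead.CurveEuler.riemann_roch' k X hdim hO L
    (Groth.Agent.Lib.Lead.CurveInv.isCoh_of_isInvertible X hL).1 1
  push_cast at this
  linarith

theorem finite_HH {L : X.Modules} (hL : PicF.IsInvertible L) (i : ℕ) :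
    Module.Finite k (Coh.HH X L i) :=
  Groth.Agent.Lib.Lead.ProperEuler.finite_HH k X _
    (Groth.Agent.Lib.Lead.CurveInv.isCoh_of_isInvertible X hL) i

/-- the bound `2 h⁰ ≤ deg + 2` or `h⁰ = deg + 1 - g` -/
theorem clifford_or (hdim : topologicalKrullDim X ≤ 1) {L : X.Modules} (hL : PicF.IsInvertible L)
    (h0 : 0 < finrank k (Coh.HH X L 0)) :
    2 * (finrank k (Coh.HH X L 0) : ℤ) ≤ Curv2.deg k X L 1 + 2 ∨
      (finrank k (Coh.HH X L 0) : ℤ) = Curv2.deg k X L 1 + 1 - (Curv2.genus k X : ℤ) := by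
  haveI := finite_HH k X hL 0
  haveI := finite_HH k X hL 1
  by_cases h1 : finrank k (Coh.HH X L 1) = 0
  · right
    have := rr k X hdim hL
    rw [h1] at this
    push_cast at this
    linarith
  · left
    exact Clifford.clifford k X hdim hL
      (Module.nontrivial_of_finrank_pos (R := k) h0)
      (Module.nontrivial_of_finrank_pos (R := k) (Nat.pos_of_ne_zero h1))

/-- a `g¹₂` on a curve of positive genus has no base points -/
theorem exists_gen_sections (hdim : topologicalKrullDim X = 1)
    (hreg : ∀ x : X, IsRegularLocalRing (X.presheaf.stalk x)) (hg : 1 ≤ Curv2.genus k X)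
    {M : X.Modules} (hM : PicF.IsInvertible M) (hdeg : Curv2.deg k X M 1 = 2)
    (h0 : finrank k (Coh.HH X M 0) = 2) :
    ∃ s₀ s₁ : Coh.structureModule X ⟶ M, CohB1.genLocus M s₀ ⊔ CohB1.genLocus M s₁ = ⊤ := by
  have hdim' : topologicalKrullDim X ≤ 1 := hdim.le
  haveI := finite_HH k X hM 0
  let b := Module.finBasisOfFinrankEq k (Coh.HH X M 0) h0
  refine ⟨secHom M (b 0), secHom M (b 1), ?_⟩
  rw [eq_top_iff]
  intro x _
  by_contra hx
  have hx0 : x ∉ isoLocus (secHom M (b 0)) := fun h => hx (Or.inl h)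
  have hx1 : x ∉ isoLocus (secHom M (b 1)) := fun h => hx (Or.inr h)
  have hs0 : secHom M (b 0) ≠ 0 := fun h => b.ne_zero 0 ((secHom_eq_zero_iff M _).mp h)
  have hO := Groth.Agent.Lib.helper11.InvMod.isInvertible_structureModule X
  have hne := Groth.Agent.Lib.Lead.CurveInv.isoLocus_nonempty X hO hM _ hs0
  have hgen := GenericRank.genericPoint_mem_of_nonempty _ hne
  have hxg : x ≠ genericPoint X := fun h => hx0 (h ▸ hgen)
  have hxc : IsClosed ({x} : Set X) := GenericRank.isClosed_singleton_of_ne_genericPoint hdim' x hxg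
  set Z := Scheme.IdealSheafData.vanishingIdeal ⟨{x}, hxc⟩ with hZdef
  set F := CohB1.tensorMod (ClSub.idealMod Z) M with hFdef
  let j : F ⟶ M := tensorMap (ClSub.idealModι Z) (𝟙 M) ≫ (leftUnitor M).hom
  obtain ⟨t0, ht0⟩ := TwoSec.exists_factor hM (secHom M (b 0)) hxc hx0
  obtain ⟨t1, ht1⟩ := TwoSec.exists_factor hM (secHom M (b 1)) hxc hx1
  have hinv : PicF.IsInvertible (ClSub.idealMod Z) :=
    GenusZeroPts.isInvertible_idealMod_of_regular k X hdim hxc (hreg x)
  have hF : PicF.IsInvertible F :=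
    Groth.Agent.Lib.helper12.TensorInv.isInvertible_tensorMod hinv hM
  have hdF : Curv2.deg k X F 1 = 1 := by
    rw [Groth.Agent.Lib.helper9.CurveDegAdd.deg_tensorMod k X hdim' hinv hM,
      CurvePt.deg_idealMod_point k X hdim' hxc hinv (CurvePt.finrank_H0_quotMod_point k X hxc), hdeg]
    norm_num
  haveI := finite_HH k X hF 0
  -- `H⁰(F) → H⁰(M)` is onto
  obtain ⟨y0, hy0⟩ := exists_secHom_eq t0
  obtain ⟨y1, hy1⟩ := exists_secHom_eq t1
  have e0 : HH.map j 0 y0 = b 0 := secHom_injective M (by rw [secHom_map, hy0]; exact ht0)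
  have e1 : HH.map j 0 y1 = b 1 := secHom_injective M (by rw [secHom_map, hy1]; exact ht1)
  have hsurj : Function.Surjective (HH.mapOver k j 0) := by
    intro y
    refine ⟨b.repr y 0 • y0 + b.repr y 1 • y1, ?_⟩
    rw [map_add, map_smul, map_smul, HH.mapOver_apply, HH.mapOver_apply, e0, e1]
    conv_rhs => rw [← b.sum_repr y]
    rw [Fin.sum_univ_two]
  have h2 : 2 ≤ finrank k (Coh.HH X F 0) := by
    rw [← h0]
    exact LinearMap.finrank_le_finrank_of_surjective hsurj
  rcases clifford_or k X hdim' hF (by omega) with h | h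
  · rw [hdF] at h
    omega
  · rw [hdF] at h
    omega

end curve


section curve2

variable (k : Type u) [Field k] (X : Scheme.{u}) [X.Over (Spec (CommRingCat.of k))]
  [IsIntegral X] [IsProper (X ↘ (Spec (CommRingCat.of k)))]

/-- an invertible module of degree `≤ 0` with a nonzero section is trivial (integral proper curve) -/
theorem nonempty_iso_of_deg_le_zero_of_section (hdim : topologicalKrullDim X ≤ 1) {G : X.Modules}
    (hG : PicF.IsInvertible G) (hdG : Curv2.deg k X G 1 ≤ 0)
    (h0 : finrank k (Coh.HH X G 0) ≠ 0) : Nonempty (Coh.structureModule X ≅ G) := by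
  haveI : Module.Finite k (Coh.HH X G 0) :=
    Groth.Agent.Lib.Lead.ProperEuler.finite_HH k X _
      (Groth.Agent.Lib.Lead.CurveInv.isCoh_of_isInvertible X hG) 0
  have hnt : Nontrivial (Coh.HH X G 0) :=
    Module.nontrivial_of_finrank_pos (R := k) (Nat.pos_of_ne_zero h0)
  obtain ⟨y, hy⟩ := exists_ne (0 : Coh.HH X G 0)
  have ht : secHom G y ≠ 0 := fun h => hy ((secHom_eq_zero_iff G y).mp h)
  have hχ : Curv2.euler k X G ≤ Curv2.euler k X (Coh.structureModule X) := by
    unfold Curv2.deg at hdG
    push_cast at hdG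
    linarith
  haveI : IsIso (secHom G y) :=
    Groth.Agent.Lib.Helper18.TwoSec.isIso_of_euler_le k X hdim
      (Groth.Agent.Lib.Lead.CurveInv.isCoh_of_isInvertible X hG) hG (𝟙 G) (secHom G y) ht hχ
  exact ⟨asIso (secHom G y)⟩

end curve2

end Groth.Agent.Lib.Helper18.CurveNum
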