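import Mathlib
import Groth.Agent.Lib.Helper18.CurveDualizing
import Groth.Agent.Lib.Helper18.GenericRank
import Groth.Agent.Lib.Helper7.SurfH2a

/-!
# The dualizing module of an integral proper curve has generic rank one (helper18)

* `rk_dualizingMod` : for `X` integral and proper over a field `k`, of dimension one, the dualizing module
  `DCoh.dualizingMod (X ↘ Spec k) h OY 1` has generic rank one (`GenericRank.rk ω = 1`).
-/

set_option autoImplicit false
set_option linter.unusedSectionVars false
set_option linter.unusedVariables false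
set_option linter.style.haveILetI false

universe u

open CategoryTheory Limits AlgebraicGeometry Opposite Abelian

namespace Groth.Agent.Lib.Helper18.CurveOmegaRank

open Groth.Agent.Lib.Helper20.DualDev Groth.Agent.Lib.Helper18.GenericRank

attribute [local instance] HasDerivedCategory.standard

variable (k : Type u) [Field k] (X : Scheme.{u}) [X.Over (Spec (CommRingCat.of k))]
  [IsProper (X ↘ Spec (CommRingCat.of k))]
  [DCoh.HasRpush (X ↘ Spec (CommRingCat.of k))]
  (h : DCoh.RpushPreservesQCoh (X ↘ Spec (CommRingCat.of k)))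
  [DCoh.HasShriek (X ↘ Spec (CommRingCat.of k)) h]
  (OY : DCoh.DQCoh (Spec (CommRingCat.of k)))
  (hOY : Nonempty (OY.obj ≅ DCoh.inD (Spec (CommRingCat.of k))
      (Coh.structureModule (Spec (CommRingCat.of k)))))

include hOY in
/-- the dualizing module of an integral proper curve has generic rank one -/
theorem rk_dualizingMod [IsIntegral X] (hdim : topologicalKrullDim X = 1) :
    rk (DCoh.dualizingMod (X ↘ Spec (CommRingCat.of k)) h OY 1) = 1 := by
  have hωq : (DCoh.dualizingMod (X ↘ Spec (CommRingCat.of k)) h OY 1).IsQuasicoherent :=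
    ((DCoh.shriek (X ↘ Spec (CommRingCat.of k)) h).obj OY).property (-1)
  obtain ⟨N, ι, hcl, hι⟩ := Groth.Agent.Lib.Helper18.CurveProj.exists_closedImmersion k X hdim.le
  obtain ⟨ω', hω', t', ht', V, hV, htriv⟩ :=
    Groth.Agent.Lib.helper7.SurfH2.exists_dualizing_generic k N ι hι 1 (by rw [hdim]; rfl)
  obtain ⟨t, ht⟩ := Groth.Agent.Lib.helper13.CurveDual.exists_dualizing_pair k X hdim.le h OY hOY
  haveI := Groth.Agent.Lib.Lead.CurveEuler.isNoetherian k X
  obtain ⟨b, -⟩ := Groth.Agent.Lib.Helper18.DualUniq.nonempty_iso_of_good_coh k t t' hω' hωq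
    (fun F hF => ht F hF.1) ht'
  haveI : ω'.IsQuasicoherent := hω'.1
  rw [← rk_congr b]
  exact rk_eq_one_of_isTrivOn ω' V hV htriv

end Groth.Agent.Lib.Helper18.CurveOmegaRank
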