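import Mathlib
import Groth.Agent.S1640

/-!
# Functions with poles at finitely many dimension-one points (helper18; Stacks 09NN, first half)

`X` integral and separated, `U` a nonempty affine open, `x_i ∉ U` finitely many points whose local rings are Noetherian of
dimension one.

* `secRing U`, `stalkRing x`: the subrings `Γ(X, U)`, `O_{X,x}` of the function field.
* `secRing_sup_stalkRing`: `Γ(X,U)` and `O_{X,x}` generate the function field (uses separatedness through
  `ext_of_isDominant`: the two maps `Spec (A·B) → X` agree).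
* `rangeEquiv`, `isFractionRing_range`: transfer to the image subring.
* `exists_pole_function`: `a ∈ Γ(X,U)` and `g_i ∈ 𝔪_{x_i}` with `a · g_i = 1` in the function field (from `S1640`).
-/

set_option autoImplicit false
universe u
open CategoryTheory AlgebraicGeometry

namespace Groth.Agent.Lib.Helper18.DimOneGlue

variable {X : Scheme.{u}} [IsIntegral X]

/-- the subring of the function field given by the sections over `U` -/
noncomputable def secRing (U : X.Opens) [Nonempty U] : Subring X.functionField :=
  (algebraMap Γ(X, U) X.functionField).range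

/-- the subring of the function field given by the local ring at `x` -/
noncomputable def stalkRing (x : X) : Subring X.functionField :=
  (algebraMap (X.presheaf.stalk x) X.functionField).range

theorem genericPoint_mem (U : X.Opens) [h : Nonempty U] : genericPoint X ∈ U :=
  ((genericPoint_spec X).mem_open_set_iff U.isOpen).mpr (by simpa using h)

theorem secRing_sup_stalkRing [X.IsSeparated] {U : X.Opens} (hU : IsAffineOpen U) [Nonempty U] (x : X)
    (hx : x ∉ U) (hdim : ringKrullDim (X.presheaf.stalk x) ≤ 1) : secRing U ⊔ stalkRing x = ⊤ := by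
  by_contra hne
  have hA : secRing U ≤ secRing U ⊔ stalkRing x := le_sup_left
  have hB : stalkRing x ≤ secRing U ⊔ stalkRing x := le_sup_right
  generalize secRing U ⊔ stalkRing x = R at hne hA hB
  -- `R` is not a field
  have hnf : ¬ IsField R := by
    intro hf
    apply hne
    rw [eq_top_iff]
    intro z _
    haveI := functionField_isFractionRing_of_isAffineOpen X U hU
    obtain ⟨a, b, hb, rfl⟩ := IsFractionRing.div_surjective Γ(X, U) z
    have ha' : algebraMap Γ(X, U) X.functionField a ∈ R := hA ⟨a, rfl⟩
    have hb' : algebraMap Γ(X, U) X.functionField b ∈ R := hA ⟨b, rfl⟩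
    have hb0 : algebraMap Γ(X, U) X.functionField b ≠ 0 := by
      intro h0
      have := (IsFractionRing.injective Γ(X, U) X.functionField) (h0.trans (map_zero _).symm)
      exact nonZeroDivisors.ne_zero hb this
    obtain ⟨c, hc⟩ := hf.mul_inv_cancel (a := (⟨_, hb'⟩ : R)) (fun h => hb0 (congrArg Subtype.val h))
    have hc' : algebraMap Γ(X, U) X.functionField b * (c : X.functionField) = 1 := congrArg Subtype.val hc
    have : (algebraMap Γ(X, U) X.functionField b)⁻¹ = (c : X.functionField) := by
      rw [inv_eq_iff_eq_inv]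
      exact eq_inv_of_mul_eq_one_left hc'
    rw [div_eq_mul_inv, this]
    exact R.mul_mem ha' c.2
  obtain ⟨n, hn0, hnp⟩ := Ring.not_isField_iff_exists_prime.1 hnf
  let φ₁ : Γ(X, U) →+* R := (algebraMap Γ(X, U) X.functionField).codRestrict R (fun a => hA ⟨a, rfl⟩)
  let φ₂ : X.presheaf.stalk x →+* R :=
    (algebraMap (X.presheaf.stalk x) X.functionField).codRestrict R (fun a => hB ⟨a, rfl⟩)
  let f₁ : Spec (CommRingCat.of R) ⟶ X := Spec.map (CommRingCat.ofHom φ₁) ≫ hU.fromSpec
  let f₂ : Spec (CommRingCat.of R) ⟶ X := Spec.map (CommRingCat.ofHom φ₂) ≫ X.fromSpecStalk x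
  let ι : Spec (CommRingCat.of X.functionField) ⟶ Spec (CommRingCat.of R) :=
    Spec.map (CommRingCat.ofHom R.subtype)
  haveI : IsDominant ι := by
    refine ⟨?_⟩
    have : DenseRange (PrimeSpectrum.comap (R.subtype)) := by
      rw [PrimeSpectrum.denseRange_comap_iff_ker_le_nilRadical]
      rw [(RingHom.injective_iff_ker_eq_bot _).1 (Subtype.val_injective)]
      exact bot_le
    exact this
  have h1 : ι ≫ f₁ = X.fromSpecStalk (genericPoint X) := by
    rw [← hU.fromSpecStalk_eq_fromSpecStalk (genericPoint_mem U)]
    change Spec.map _ ≫ Spec.map _ ≫ _ = Spec.map _ ≫ _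
    rw [← Category.assoc, ← Spec.map_comp]
    rfl
  have h2 : ι ≫ f₂ = X.fromSpecStalk (genericPoint X) := by
    rw [← Scheme.SpecMap_stalkSpecializes_fromSpecStalk ((genericPoint_spec X).specializes trivial : genericPoint X ⤳ x)]
    change Spec.map _ ≫ Spec.map _ ≫ _ = Spec.map _ ≫ _
    rw [← Category.assoc, ← Spec.map_comp]
    rfl
  have h12 : f₁ = f₂ := ext_of_isDominant ι (h1.trans h2.symm)
  let p : Spec (CommRingCat.of R) := ⟨n, hnp⟩
  have hp1 : f₁ p ∈ U := by
    have : f₁ p ∈ Set.range hU.fromSpec := ⟨Spec.map (CommRingCat.ofHom φ₁) p, rfl⟩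
    rwa [hU.range_fromSpec] at this
  have hp2 : f₂ p = x := by
    have hcl : Spec.map (CommRingCat.ofHom φ₂) p = IsLocalRing.closedPoint (X.presheaf.stalk x) := by
      apply PrimeSpectrum.ext
      change Ideal.comap φ₂ n = IsLocalRing.maximalIdeal _
      haveI : Ring.KrullDimLE 1 (X.presheaf.stalk x) := Ring.krullDimLE_iff.2 hdim
      have hne' : Ideal.comap φ₂ n ≠ ⊥ := by
        obtain ⟨r, hr, hr0⟩ := Submodule.exists_mem_ne_zero_of_ne_bot hn0
        obtain ⟨b, c, hc, hbc⟩ := IsFractionRing.div_surjective (X.presheaf.stalk x) (r : X.functionField)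
        have hc0 : algebraMap (X.presheaf.stalk x) X.functionField c ≠ 0 := by
          intro h0
          have := (IsFractionRing.injective (X.presheaf.stalk x) X.functionField) (h0.trans (map_zero _).symm)
          exact nonZeroDivisors.ne_zero hc this
        intro hbot
        have hbn : b ∈ Ideal.comap φ₂ n := by
          rw [Ideal.mem_comap]
          have : φ₂ b = r * φ₂ c := Subtype.ext (by
            change algebraMap (X.presheaf.stalk x) X.functionField b =
              (r : X.functionField) * algebraMap (X.presheaf.stalk x) X.functionField c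
            rw [← hbc, div_mul_cancel₀ _ hc0])
          rw [this]
          exact n.mul_mem_right _ hr
        rw [hbot, Ideal.mem_bot] at hbn
        rw [hbn, map_zero, zero_div] at hbc
        exact hr0 (Subtype.ext hbc.symm)
      exact IsLocalRing.eq_maximalIdeal ((Ideal.comap_isPrime φ₂ n).isMaximal_of_ne_bot hne')
    change X.fromSpecStalk x (Spec.map (CommRingCat.ofHom φ₂) p) = x
    rw [hcl]
    exact Scheme.fromSpecStalk_closedPoint
  rw [h12, hp2] at hp1
  exact hx hp1

section Transfer

variable {S K : Type u} [CommRing S] [Field K] [Algebra S K] [IsFractionRing S K]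

/-- the ring isomorphism of `S` with its image in its fraction field -/
noncomputable def rangeEquiv : S ≃+* (algebraMap S K).range :=
  RingEquiv.ofBijective (algebraMap S K).rangeRestrict
    ⟨fun a b h => IsFractionRing.injective S K (congrArg Subtype.val h), (algebraMap S K).rangeRestrict_surjective⟩

theorem rangeEquiv_coe (s : S) : ((rangeEquiv (S := S) (K := K) s : (algebraMap S K).range) : K) = algebraMap S K s := rfl

instance isFractionRing_range : IsFractionRing (algebraMap S K).range K := by
  haveI : IsDomain S := (IsFractionRing.injective S K).isDomain _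
  apply IsFractionRing.of_field
  intro z
  obtain ⟨a, b, hb, rfl⟩ := IsFractionRing.div_surjective S z
  exact ⟨⟨_, a, rfl⟩, ⟨_, b, rfl⟩, rfl⟩

end Transfer

theorem exists_pole_function [X.IsSeparated] {U : X.Opens} (hU : IsAffineOpen U) [Nonempty U]
    (r : ℕ) (x : Fin r → X) (hx : ∀ i, x i ∉ U)
    (hloc : ∀ i, IsNoetherianRing (X.presheaf.stalk (x i)) ∧ ringKrullDim (X.presheaf.stalk (x i)) = 1) :
    ∃ (a : Γ(X, U)) (g : ∀ i, X.presheaf.stalk (x i)),
      (∀ i, g i ∈ IsLocalRing.maximalIdeal (X.presheaf.stalk (x i))) ∧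
      (∀ i, algebraMap Γ(X, U) X.functionField a *
        algebraMap (X.presheaf.stalk (x i)) X.functionField (g i) = 1) := by
  haveI := functionField_isFractionRing_of_isAffineOpen X U hU
  haveI : IsFractionRing (secRing U) X.functionField := isFractionRing_range (S := Γ(X, U))
  haveI : ∀ i, IsFractionRing (stalkRing (x i)) X.functionField := fun i =>
    isFractionRing_range (S := X.presheaf.stalk (x i))
  let e : ∀ i, X.presheaf.stalk (x i) ≃+* stalkRing (x i) := fun i => rangeEquiv
  haveI : ∀ i, IsNoetherianRing (stalkRing (x i)) := fun i =>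
    haveI := (hloc i).1
    isNoetherianRing_of_ringEquiv _ (e i)
  haveI : ∀ i, IsLocalRing (stalkRing (x i)) := fun i => (e i).isLocalRing
  have hdim : ∀ i, ringKrullDim (stalkRing (x i)) = 1 := fun i =>
    (ringKrullDim_eq_of_ringEquiv (e i)).symm.trans (hloc i).2
  have hsl : ∀ i, Finite (MaximalSpectrum (stalkRing (x i))) := fun i => inferInstance
  have hgen : ∀ i, secRing U ⊔ stalkRing (x i) = ⊤ := fun i =>
    secRing_sup_stalkRing hU (x i) (hx i) (hloc i).2.le
  obtain ⟨f, ⟨a, ha⟩, hf0, hf⟩ := Groth.Agent.S1640.result X.functionField (secRing U) r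
    (fun i => stalkRing (x i)) hdim hsl hgen
  choose hfB hfJ using hf
  have hg : ∀ i, ∃ g : X.presheaf.stalk (x i),
      algebraMap (X.presheaf.stalk (x i)) X.functionField g = f⁻¹ := fun i => hfB i
  choose g hg using hg
  refine ⟨a, g, ?_, ?_⟩
  · intro i
    rw [IsLocalRing.mem_maximalIdeal, mem_nonunits_iff]
    intro hu
    have hu' : IsUnit (e i (g i)) := hu.map (e i)
    have heq : e i (g i) = ⟨f⁻¹, hfB i⟩ := Subtype.ext (hg i)
    rw [heq] at hu'
    have h1 : (1 : stalkRing (x i)) ∈ (⊥ : Ideal (stalkRing (x i))).jacobson := by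
      obtain ⟨v, hv⟩ := hu'
      have := Ideal.mul_mem_left _ (↑v⁻¹ : stalkRing (x i)) (hfJ i)
      rwa [← hv, Units.inv_mul] at this
    have h2 : (⊥ : Ideal (stalkRing (x i))).jacobson = ⊤ := (Ideal.eq_top_iff_one _).2 h1
    rw [Ideal.jacobson_eq_top_iff] at h2
    exact bot_ne_top h2
  · intro i
    rw [hg i]
    have : algebraMap Γ(X, U) X.functionField a = f := ha
    rw [this, mul_inv_cancel₀ hf0]

end Groth.Agent.Lib.Helper18.DimOneGlue
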