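import Mathlib
import Groth.Agent.Lib.Helper18.PtSection

/-!
# An invertible module with two sections glued from mutually inverse functions (helper18; Stacks 09NN, second half)

* `exists_invertible_two_sections W V f a hfa hcov`: for a cover `{W, V}`, `f ∈ Γ(W)`, `a ∈ Γ(V)` with `f · a = 1` on
  `W ∩ V`: an invertible `L` with sections `s = (f on W, 1 on V)`, `t = (1 on W, a on V)`; `V ≤ isoLocus s`,
  `W ≤ isoLocus t`, and on `W` the section `s` generates only where `f` is invertible.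
-/

set_option autoImplicit false
universe u
open CategoryTheory CategoryTheory.Limits AlgebraicGeometry TopologicalSpace Opposite
open Scheme.Modules

namespace Groth.Agent.Lib.Helper18.DimOneGlue

open Groth.Agent.Lib.Helper18.PtSection
open Groth.Agent.Lib.helper11.IsoLocus Groth.Agent.Lib.helper11.GenLocus

variable {X : Scheme.{u}}

/-- **an invertible module with two sections** glued from mutually inverse functions `f` on `W` and `a` on `V`:
`s = (f on W, 1 on V)` and `t = (1 on W, a on V)`. -/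
theorem exists_invertible_two_sections (W V : X.Opens) (f : Γ(X, W)) (a : Γ(X, V))
    (hfa : (X.presheaf.map (homOfLE (inf_le_left : W ⊓ V ≤ W)).op).hom f *
      (X.presheaf.map (homOfLE (inf_le_right : W ⊓ V ≤ V)).op).hom a = 1)
    (hcov : ∀ x : X, x ∈ W ∨ x ∈ V) :
    ∃ (L : X.Modules) (s t : Coh.structureModule X ⟶ L), PicF.IsInvertible L ∧
      V ≤ isoLocus s ∧ W ≤ isoLocus t ∧
      (∀ x ∈ W, x ∈ isoLocus s → x ∈ X.basicOpen f) := by
  have hf : ∀ x ∈ W, x ∈ V → x ∈ X.basicOpen f := by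
    intro x hxW hxV
    have hu : IsUnit ((X.presheaf.map (homOfLE (inf_le_left : W ⊓ V ≤ W)).op).hom f) :=
      IsUnit.of_mul_eq_one _ hfa
    rw [X.mem_basicOpen f x hxW]
    have h2 := hu.map (X.presheaf.germ (W ⊓ V) x ⟨hxW, hxV⟩).hom
    rwa [TopCat.Presheaf.germ_res_apply] at h2
  obtain ⟨L, gs, hL, hbij, hrel⟩ := Groth.Agent.S10963.result X (cov W V) (iSup_cov W V hcov)
    (eta W V f hf) (eta_cocycle W V f hf)
  let gW : Γ(L, W) := gs ⟨true⟩
  let gV : Γ(L, V) := gs ⟨false⟩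
  let F : TopCat.Sheaf Ab X := ⟨L.presheaf, L.isSheaf⟩
  -- relations
  have hrelWV : L.presheaf.map (homOfLE (inf_le_left : W ⊓ V ≤ W)).op gW =
      ((uf f hf (W ⊓ V) inf_le_left inf_le_right)⁻¹ : (Γ(X, W ⊓ V))ˣ) •
        L.presheaf.map (homOfLE (inf_le_right : W ⊓ V ≤ V)).op gV := hrel ⟨true⟩ ⟨false⟩
  have hrelVW : L.presheaf.map (homOfLE (inf_le_left : V ⊓ W ≤ V)).op gV =
      ((uf f hf (V ⊓ W) inf_le_right inf_le_left) : (Γ(X, V ⊓ W))ˣ) •
        L.presheaf.map (homOfLE (inf_le_right : V ⊓ W ≤ W)).op gW := hrel ⟨false⟩ ⟨true⟩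
  have hfaO : ∀ (O : X.Opens) (hOW : O ≤ W) (hOV : O ≤ V),
      (X.presheaf.map (homOfLE hOW).op).hom f * (X.presheaf.map (homOfLE hOV).op).hom a = 1 := by
    intro O hOW hOV
    have := congrArg (X.presheaf.map (homOfLE (le_inf hOW hOV)).op).hom hfa
    rw [map_mul, map_one, ← CommRingCat.comp_apply, ← CommRingCat.comp_apply, ← Functor.map_comp,
      ← Functor.map_comp] at this
    exact this
  -- first section
  let t₁ : ∀ i : ULift.{u} Bool, Γ(L, cov W V i)
    | ⟨false⟩ => gV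
    | ⟨true⟩ => (show Γ(L, W) from f • gW)
  have compat₁ : TopCat.Presheaf.IsCompatible F.1 (cov W V) t₁ := by
    rintro ⟨i⟩ ⟨j⟩
    cases i <;> cases j
    · rfl
    · have h2 := Scheme.Modules.map_smul L (homOfLE (inf_le_right : V ⊓ W ≤ W)) f gW
      exact hrelVW.trans h2.symm
    · have h2 := Scheme.Modules.map_smul L (homOfLE (inf_le_left : W ⊓ V ≤ W)) f gW
      refine h2.trans ?_
      rw [hrelWV]
      have h4 : (X.presheaf.map (homOfLE (inf_le_left : W ⊓ V ≤ W)).op).hom f =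
          ((uf f hf (W ⊓ V) inf_le_left inf_le_right : (Γ(X, W ⊓ V))ˣ) : Γ(X, W ⊓ V)) := rfl
      rw [h4, Units.smul_def, ← mul_smul, Units.mul_inv, one_smul]
      rfl
    · rfl
  obtain ⟨σ₁, hσ₁, -⟩ := F.existsUnique_gluing' (cov W V) ⊤ (fun i => homOfLE le_top)
    (by rw [iSup_cov W V hcov]) t₁ compat₁
  -- second section
  let t₂ : ∀ i : ULift.{u} Bool, Γ(L, cov W V i)
    | ⟨false⟩ => (show Γ(L, V) from a • gV)
    | ⟨true⟩ => gW
  have compat₂ : TopCat.Presheaf.IsCompatible F.1 (cov W V) t₂ := by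
    rintro ⟨i⟩ ⟨j⟩
    cases i <;> cases j
    · rfl
    · have h2 := Scheme.Modules.map_smul L (homOfLE (inf_le_left : V ⊓ W ≤ V)) a gV
      refine h2.trans ?_
      rw [hrelVW, Units.smul_def, ← mul_smul]
      have h4 : ((uf f hf (V ⊓ W) inf_le_right inf_le_left : (Γ(X, V ⊓ W))ˣ) : Γ(X, V ⊓ W)) =
          (X.presheaf.map (homOfLE (inf_le_right : V ⊓ W ≤ W)).op).hom f := rfl
      rw [h4, mul_comm, hfaO (V ⊓ W) inf_le_right inf_le_left, one_smul]
      rfl
    · have h2 := Scheme.Modules.map_smul L (homOfLE (inf_le_right : W ⊓ V ≤ V)) a gV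
      refine Eq.trans ?_ h2.symm
      refine hrelWV.trans ?_
      have h4 : (((uf f hf (W ⊓ V) inf_le_left inf_le_right)⁻¹ : (Γ(X, W ⊓ V))ˣ) : Γ(X, W ⊓ V)) =
          (X.presheaf.map (homOfLE (inf_le_right : W ⊓ V ≤ V)).op).hom a :=
        Units.inv_eq_of_mul_eq_one_right (hfaO (W ⊓ V) inf_le_left inf_le_right)
      rw [Units.smul_def, h4]
    · rfl
  obtain ⟨σ₂, hσ₂, -⟩ := F.existsUnique_gluing' (cov W V) ⊤ (fun i => homOfLE le_top)
    (by rw [iSup_cov W V hcov]) t₂ compat₂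
  let s : Coh.structureModule X ⟶ L := Groth.Agent.Lib.Helper20.SplitH1.homOfGlobal L σ₁
  let t : Coh.structureModule X ⟶ L := Groth.Agent.Lib.Helper20.SplitH1.homOfGlobal L σ₂
  have hsec : ∀ O : X.Opens, sec s O = L.presheaf.map (homOfLE (le_top : O ≤ ⊤)).op σ₁ := fun O =>
    Groth.Agent.Lib.Helper20.SplitH1.homOfGlobal_app_one L σ₁ (op O)
  have hsect : ∀ O : X.Opens, sec t O = L.presheaf.map (homOfLE (le_top : O ≤ ⊤)).op σ₂ := fun O =>
    Groth.Agent.Lib.Helper20.SplitH1.homOfGlobal_app_one L σ₂ (op O)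
  have hsecV : ∀ (O : X.Opens) (h : O ≤ V), sec s O = L.presheaf.map (homOfLE h).op gV := by
    intro O h
    rw [hsec O]
    have h1 : L.presheaf.map (homOfLE (le_top : V ≤ ⊤)).op σ₁ = gV := hσ₁ ⟨false⟩
    rw [← h1, ← ConcreteCategory.comp_apply, ← Functor.map_comp]
    rfl
  have hsectW : ∀ (O : X.Opens) (h : O ≤ W), sec t O = L.presheaf.map (homOfLE h).op gW := by
    intro O h
    rw [hsect O]
    have h1 : L.presheaf.map (homOfLE (le_top : W ≤ ⊤)).op σ₂ = gW := hσ₂ ⟨true⟩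
    rw [← h1, ← ConcreteCategory.comp_apply, ← Functor.map_comp]
    rfl
  have hsecW : sec s W = f • gW := by
    rw [hsec W]
    exact hσ₁ ⟨true⟩
  refine ⟨L, s, t, hL, ?_, ?_, fun x hxW hx =>
    mem_basicOpen_of_mem_isoLocus s f gW (fun O h => hbij ⟨true⟩ O h) hsecW x hxW hx⟩
  · rw [le_isoLocus_iff, isIso_restrict_iff_app]
    intro O hO
    rw [ConcreteCategory.isIso_iff_bijective]
    have key : ∀ b : Γ(X, O), (s.app O).hom (b : Γ(Coh.structureModule X, O)) =
        b • L.presheaf.map (homOfLE hO).op gV := fun b => by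
      rw [app_apply, hsecV O hO]
    have hb := hbij ⟨false⟩ O hO
    constructor
    · intro b c hbc
      exact hb.1 ((key b).symm.trans (hbc.trans (key c)))
    · intro m
      obtain ⟨b, hb'⟩ := hb.2 m
      exact ⟨b, (key b).trans hb'⟩
  · rw [le_isoLocus_iff, isIso_restrict_iff_app]
    intro O hO
    rw [ConcreteCategory.isIso_iff_bijective]
    have key : ∀ b : Γ(X, O), (t.app O).hom (b : Γ(Coh.structureModule X, O)) =
        b • L.presheaf.map (homOfLE hO).op gW := fun b => by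
      rw [app_apply, hsectW O hO]
    have hb := hbij ⟨true⟩ O hO
    constructor
    · intro b c hbc
      exact hb.1 ((key b).symm.trans (hbc.trans (key c)))
    · intro m
      obtain ⟨b, hb'⟩ := hb.2 m
      exact ⟨b, (key b).trans hb'⟩

end Groth.Agent.Lib.Helper18.DimOneGlue
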