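import Mathlib
import Groth.Agent.S1645
import Groth.Agent.S1664
import Groth.Agent.Lib.Helper18.RegPoint
import Groth.Agent.Lib.Helper18.AbsCurveDiv
import Groth.Agent.Lib.Lead.DimOneAffine

/-!
# Integral Noetherian separated schemes of dimension `≤ 1` have an ample invertible module (helper18)

(Stacks 09NZ, integral case: S1645 + S1664.)

* `eq_genericPoint_of_isField`, `ringKrullDim_stalk_eq_one`.
* `exists_isAmple_of_isIntegral`.
-/

set_option autoImplicit false
universe u
open CategoryTheory AlgebraicGeometry TopologicalSpace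

namespace Groth.Agent.Lib.Helper18.DimOneAmple

variable {X : Scheme.{u}}

/-- on an integral scheme, a point whose local ring is a field is the generic point -/
theorem eq_genericPoint_of_isField [IsIntegral X] (x : X) (h : IsField (X.presheaf.stalk x)) :
    x = genericPoint X := by
  have hη : genericPoint X ⤳ x := (genericPoint_spec X).specializes trivial
  have : genericPoint X ∈ Set.range (X.fromSpecStalk x) := by
    rw [Scheme.range_fromSpecStalk]
    exact hη
  obtain ⟨q, hq⟩ := this
  have hbot : ∀ p : Ideal (X.presheaf.stalk x), p.IsPrime → p = ⊥ := by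
    intro p hp
    rw [eq_bot_iff]
    intro a ha
    by_contra ha0
    obtain ⟨b, hb⟩ := h.mul_inv_cancel ha0
    exact hp.ne_top ((Ideal.eq_top_iff_one p).2 (hb ▸ p.mul_mem_right b ha))
  have hsub : q = IsLocalRing.closedPoint (X.presheaf.stalk x) :=
    PrimeSpectrum.ext ((hbot _ q.2).trans (hbot _ (IsLocalRing.closedPoint (X.presheaf.stalk x)).2).symm)
  rw [← hq, hsub, Scheme.fromSpecStalk_closedPoint]

/-- on an integral scheme of dimension `≤ 1`, the local ring at a non-generic point has dimension one -/
theorem ringKrullDim_stalk_eq_one [IsIntegral X] (hdim : topologicalKrullDim X ≤ 1) (x : X)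
    (hx : x ≠ genericPoint X) : ringKrullDim (X.presheaf.stalk x) = 1 := by
  have h1 : ringKrullDim (X.presheaf.stalk x) ≤ 1 :=
    (Groth.Agent.Lib.Helper18.RegPoint.ringKrullDim_stalk_le x).trans hdim
  have h0 : ¬ ringKrullDim (X.presheaf.stalk x) ≤ 0 := fun h => by
    haveI : Ring.KrullDimLE 0 (X.presheaf.stalk x) := Ring.krullDimLE_iff.mpr h
    exact hx (eq_genericPoint_of_isField x Ring.KrullDimLE.isField_of_isDomain)
  exact le_antisymm h1 (Order.succ_le_of_lt (lt_of_not_ge h0))

/-- **an integral Noetherian separated scheme of dimension `≤ 1` has an ample invertible module** -/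
theorem exists_isAmple_of_isIntegral (X : Scheme.{u}) [IsIntegral X] [IsNoetherian X] [X.IsSeparated]
    (hdim : topologicalKrullDim X ≤ 1) : ∃ L : X.Modules, CohB1.IsAmple L := by
  haveI : NoetherianSpace X := IsNoetherian.noetherianSpace (X := X)
  apply Groth.Agent.S1664.result X
  intro x
  obtain ⟨U, hU, hxU⟩ : ∃ U : X.Opens, IsAffineOpen U ∧ x ∈ U := by
    obtain ⟨_, ⟨U, hU, rfl⟩, hxU, -⟩ :=
      X.isBasis_affineOpens.exists_subset_of_mem_open (Set.mem_univ x) isOpen_univ
    exact ⟨U, hU, hxU⟩
  haveI : Nonempty U := ⟨⟨x, hxU⟩⟩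
  have hη : genericPoint X ∈ U := ((genericPoint_spec X).mem_open_set_iff U.isOpen).mpr ⟨x, trivial, hxU⟩
  have hne : ∀ y : X, y ∉ U → y ≠ genericPoint X := fun y hy h => hy (h ▸ hη)
  have hcl : ∀ y : X, y ∉ U → IsClosed ({y} : Set X) := by
    intro y hy
    apply Groth.Agent.Lib.Lead.DimOneAffine.isClosed_singleton_of_dim_le_one X hdim y
    intro hgen
    -- closure {y} is an irreducible component, hence everything
    have h1 : closure ({y} : Set X) = Set.univ := by
      have : irreducibleComponents X = {Set.univ} := irreducibleComponents_eq_singleton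
      have h2 : closure ({y} : Set X) ∈ irreducibleComponents X := hgen
      rw [this] at h2
      exact h2
    have : IsGenericPoint y (Set.univ : Set X) := h1
    exact hne y hy ((genericPoint_spec X).eq this).symm
  have hfin : ((U : Set X)ᶜ).Finite := by
    have := Groth.Agent.Lib.Helper18.AbsCurveDiv.finite_inter_of_forall_isClosed_singleton
      ((U : Set X)ᶜ) Set.univ U.isOpen.isClosed_compl isOpen_univ (fun y hy => hcl y hy.1)
    rwa [Set.inter_univ] at this
  obtain ⟨L, s, hL, hgg, hs⟩ := Groth.Agent.S1645.result X U hU ⟨x, hxU⟩ hfin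
    (fun y hy => ⟨inferInstance, ringKrullDim_stalk_eq_one hdim y (hne y hy)⟩)
  exact ⟨L, s, hL, hgg, hs ▸ hxU, hs ▸ hU⟩

end Groth.Agent.Lib.Helper18.DimOneAmple
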