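import Mathlib
import Groth.Prelude.Def_MeroDiv
import Groth.Agent.Lib.Helper18.InvGen
import Groth.Agent.Lib.Helper26.KSections
import Groth.Agent.S5096

set_option autoImplicit false
universe u
open CategoryTheory CategoryTheory.Limits AlgebraicGeometry TopologicalSpace Opposite

namespace Groth.Agent.Lib.Helper18.DivModGen

open Groth.Agent.Lib.Helper18.InvGen Groth.Agent.Lib.helper26 Groth.Agent.S5096 Mero

variable {X : Scheme.{u}}

theorem invSection_smul_apply (D : Mero.Divisor X) {U : X.Opens} (f : (Γ(Mero.kmod X, U))ˣ)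
    (hf : ∀ y : U, D.1 y.1 = Mero.germOf f y) {W V₁ : X.Opens} (hW : W ≤ U) (h₁ : V₁ ≤ W)
    (r : Γ(X, V₁)) (z : V₁) :
    (r • (Mero.divMod D).presheaf.map (homOfLE h₁).op (invSection D f hf W hW)).1 z =
      algebraMap (X.presheaf.stalk z.1) (Mero.KStalk X z.1) (X.presheaf.germ V₁ z.1 z.2 r) *
        (((valU f ⟨z.1, hW (h₁ z.2)⟩)⁻¹ : (Mero.KStalk X z.1)ˣ) : Mero.KStalk X z.1) := by
  show X.presheaf.germ V₁ z.1 z.2 r • ((↑(f⁻¹) : Γ(Mero.kmod X, U))).1 ⟨z.1, hW (h₁ z.2)⟩ = _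
  rw [Algebra.smul_def, valU_inv_coe]

/-- `f⁻¹` generates `O_X(D)` where `D` is the divisor of `f` -/
theorem isGen_invSection (D : Mero.Divisor X) {U : X.Opens} (f : (Γ(Mero.kmod X, U))ˣ)
    (hf : ∀ y : U, D.1 y.1 = Mero.germOf f y) (W : X.Opens) (hW : W ≤ U) :
    IsGen (Mero.divMod D) W (invSection D f hf W hW) := by
  intro y hy
  constructor
  · intro a b hab
    have h0 : (a - b) • ((Mero.divMod D).presheaf.germ W y hy (invSection D f hf W hW) :
        (Mero.divMod D).presheaf.stalk y) = 0 := by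
      rw [sub_smul]
      exact sub_eq_zero.mpr hab
    obtain ⟨V₀, hyV₀, r₀, hr₀⟩ := X.presheaf.exists_germ_eq (a - b)
    let V₁ : X.Opens := V₀ ⊓ W
    have hyV₁ : y ∈ V₁ := ⟨hyV₀, hy⟩
    have h₁ : V₁ ≤ W := inf_le_right
    let r : Γ(X, V₁) := X.presheaf.map (homOfLE (inf_le_left : V₁ ≤ V₀)).op r₀
    have hr : X.presheaf.germ V₁ y hyV₁ r = a - b := by
      rw [← hr₀]
      exact TopCat.Presheaf.germ_res_apply X.presheaf (homOfLE (inf_le_left : V₁ ≤ V₀)) y hyV₁ r₀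
    have h1 : (Mero.divMod D).presheaf.germ V₁ y hyV₁
        (r • (Mero.divMod D).presheaf.map (homOfLE h₁).op (invSection D f hf W hW)) =
        (Mero.divMod D).presheaf.germ V₁ y hyV₁ 0 := by
      rw [germ_smul_res, hr, h0, map_zero]
    obtain ⟨V₂, hyV₂, i₁, i₂, h2⟩ :=
      TopCat.Presheaf.germ_eq (Mero.divMod D).presheaf y hyV₁ hyV₁ _ _ h1
    have h3 := congrArg (fun t : Γ(Mero.divMod D, V₂) => t.1 ⟨y, hyV₂⟩) h2
    have h4 : algebraMap (X.presheaf.stalk y) (Mero.KStalk X y) (X.presheaf.germ V₁ y hyV₁ r) *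
        (((valU f ⟨y, hW hy⟩)⁻¹ : (Mero.KStalk X y)ˣ) : Mero.KStalk X y) = 0 := by
      rw [← invSection_smul_apply D f hf hW h₁ r ⟨y, hyV₁⟩]
      exact h3.trans (by rw [map_zero]; rfl)
    have h4' := (Units.mul_left_eq_zero _).mp h4
    have h5 := (map_eq_zero_iff _ (Mero.algebraMap_KStalk_injective y)).mp h4'
    rw [hr] at h5
    exact sub_eq_zero.mp h5
  · intro m
    obtain ⟨V₀, hyV₀, t₀, ht₀⟩ := (Mero.divMod D).presheaf.exists_germ_eq m
    let V₁ : X.Opens := V₀ ⊓ W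
    have hyV₁ : y ∈ V₁ := ⟨hyV₀, hy⟩
    have h₁ : V₁ ≤ W := inf_le_right
    let t : Γ(Mero.divMod D, V₁) :=
      (Mero.divMod D).presheaf.map (homOfLE (inf_le_left : V₁ ≤ V₀)).op t₀
    have ht : (Mero.divMod D).presheaf.germ V₁ y hyV₁ t = m := by
      rw [← ht₀]
      exact TopCat.Presheaf.germ_res_apply (Mero.divMod D).presheaf
        (homOfLE (inf_le_left : V₁ ≤ V₀)) y hyV₁ t₀
    let fV : Γ(Mero.kmod X, V₁) :=
      (Mero.kmod X).presheaf.map (homOfLE (h₁.trans hW)).op (f : Γ(Mero.kmod X, U))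
    let t'' : Γ(Mero.kmod X, V₁) := ⟨t.1, t.2.1⟩
    let k : Γ(Mero.kmod X, V₁) := t'' * fV
    have hkz : ∀ z : V₁, k.1 z = t.1 z *
        ((valU f ⟨z.1, hW (h₁ z.2)⟩ : (Mero.KStalk X z.1)ˣ) : Mero.KStalk X z.1) := fun z => rfl
    have hk : ∀ z : V₁, k.1 z ∈ (algebraMap (X.presheaf.stalk z.1) (Mero.KStalk X z.1)).range := by
      intro z
      rw [hkz z]
      exact t.2.2 z (valU f ⟨z.1, hW (h₁ z.2)⟩) (hf ⟨z.1, hW (h₁ z.2)⟩)
    obtain ⟨r, hr⟩ := exists_section_of_forall_mem_range V₁ k hk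
    refine ⟨X.presheaf.germ V₁ y hyV₁ r, ?_⟩
    show X.presheaf.germ V₁ y hyV₁ r •
      (Mero.divMod D).presheaf.germ W y hy (invSection D f hf W hW) = m
    rw [← ht, ← germ_smul_res (Mero.divMod D) (invSection D f hf W hW) h₁ r y hyV₁]
    congr 1
    refine Subtype.ext (funext fun z => ?_)
    rw [invSection_smul_apply, ← hr z, hkz z, mul_assoc, Units.mul_inv, mul_one]

end Groth.Agent.Lib.Helper18.DivModGen
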