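import Mathlib
import Groth.Agent.Lib.Helper8.ZConn6

/-!
# Étale rings of global functions from geometric reducedness (helper18)

* `etale_of_isReduced_of_isAlgClosed`: a reduced finite algebra over an algebraically closed field is étale.
* `etale_of_isPushout_isReduced`: a finite algebra over a field which becomes reduced over an algebraically
  closed extension is étale.
* `etale_of_isPushout_left` / `etale_of_isPushout_right`: étaleness along pushout squares of commutative
  rings (base change, and descent along a faithfully flat map).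
* `isPushout_appTop_field`: flat base change of global functions along a field extension, as a pushout
  square of rings.
* `etale_appTop_iff_of_isPullback`: for a cartesian square over a field extension the ring of functions of
  the base change is étale iff the original one is.
* `etale_of_isPullback_isReduced`: **a proper scheme over a field whose base change to an algebraically
  closed field is reduced has an étale algebra of global functions**.
* `etale_of_geometricallyReduced`: the same for a proper geometrically reduced morphism to `Spec K`.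
-/

set_option autoImplicit false
universe u

open TensorProduct CategoryTheory CategoryTheory.Limits AlgebraicGeometry

namespace Groth.Agent.Lib.Helper18.EtGR

section algebra

attribute [local instance] IsArtinianRing.fieldOfSubtypeIsMaximal in
/-- a reduced finite algebra over an algebraically closed field is étale -/
theorem etale_of_isReduced_of_isAlgClosed (Ω C : Type u) [Field Ω] [IsAlgClosed Ω] [CommRing C]
    [Algebra Ω C] [Module.Finite Ω C] [IsReduced C] : Algebra.Etale Ω C := by
  haveI : IsArtinianRing C := isArtinian_of_tower Ω inferInstance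
  rw [Algebra.Etale.iff_exists_algEquiv_prod]
  refine ⟨MaximalSpectrum C, inferInstance, fun m => C ⧸ m.asIdeal, inferInstance, inferInstance,
    (IsArtinianRing.equivPi C).restrictScalars Ω, fun m => ⟨inferInstance, ?_⟩⟩
  haveI : Algebra.IsAlgebraic Ω (C ⧸ m.asIdeal) := Algebra.IsAlgebraic.of_finite _ _
  infer_instance

/-- descent: a finite algebra over a field which becomes reduced over an algebraically closed
extension is étale -/
theorem etale_of_isPushout_isReduced (k B Ω C : Type u) [Field k] [CommRing B] [Algebra k B]
    [Module.Finite k B] [Field Ω] [IsAlgClosed Ω] [Algebra k Ω] [CommRing C] [Algebra k C]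
    [Algebra B C] [Algebra Ω C] [IsScalarTower k B C] [IsScalarTower k Ω C]
    [Algebra.IsPushout k B Ω C] [IsReduced C] : Algebra.Etale k B := by
  have hpo : Algebra.IsPushout k Ω B C := Algebra.IsPushout.symm inferInstance
  haveI : Module.Finite Ω C := by
    have e := hpo.equiv
    exact Module.Finite.of_surjective e.toLinearMap e.surjective
  haveI := etale_of_isReduced_of_isAlgClosed Ω C
  have h1 : (algebraMap k B).Etale := by
    refine RingHom.Etale.codescendsAlong_faithfullyFlat (R := k) (S := B) (R' := Ω) (S' := C) ?_ ?_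
    · show (algebraMap k Ω).FaithfullyFlat
      rw [RingHom.faithfullyFlat_algebraMap_iff]
      infer_instance
    · show (algebraMap Ω C).Etale
      rw [RingHom.etale_algebraMap]
      infer_instance
  rwa [RingHom.etale_algebraMap] at h1

/-- étaleness is stable under pushouts of commutative rings -/
theorem etale_of_isPushout_left {R S R' S' : CommRingCat.{u}} {a : R ⟶ S} {b : R ⟶ R'}
    {c : S ⟶ S'} {d : R' ⟶ S'} (h : IsPushout a b c d) (ha : a.hom.Etale) : d.hom.Etale := by
  algebraize [a.hom, b.hom, c.hom, d.hom, c.hom.comp a.hom]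
  haveI : IsScalarTower R R' S' := IsScalarTower.of_algebraMap_eq' (by
    show c.hom.comp a.hom = d.hom.comp b.hom
    rw [← CommRingCat.hom_comp, ← CommRingCat.hom_comp, h.w])
  haveI : Algebra.IsPushout R S R' S' := CommRingCat.isPushout_iff_isPushout.mp h
  exact RingHom.Etale.isStableUnderBaseChange R S R' S' ha

/-- étaleness descends along faithfully flat pushouts of commutative rings -/
theorem etale_of_isPushout_right {R S R' S' : CommRingCat.{u}} {a : R ⟶ S} {b : R ⟶ R'}
    {c : S ⟶ S'} {d : R' ⟶ S'} (h : IsPushout a b c d) (hb : b.hom.FaithfullyFlat)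
    (hd : d.hom.Etale) : a.hom.Etale := by
  algebraize [a.hom, b.hom, c.hom, d.hom, c.hom.comp a.hom]
  haveI : IsScalarTower R R' S' := IsScalarTower.of_algebraMap_eq' (by
    show c.hom.comp a.hom = d.hom.comp b.hom
    rw [← CommRingCat.hom_comp, ← CommRingCat.hom_comp, h.w])
  haveI : Algebra.IsPushout R S R' S' := CommRingCat.isPushout_iff_isPushout.mp h
  exact RingHom.Etale.codescendsAlong_faithfullyFlat (R := R) (S := S) (R' := R') (S' := S') hb hd

end algebra

section geometry

variable {Z W : Scheme.{u}} {K K' : Type u} [Field K] [Field K']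

/-- **flat base change of global functions along a field extension**, as a pushout square -/
theorem isPushout_appTop_field (g : Z ⟶ Spec (.of K)) [QuasiCompact g] [QuasiSeparated g]
    (φ : K →+* K') (fst : W ⟶ Z) (snd : W ⟶ Spec (.of K'))
    (h : IsPullback fst snd g (Spec.map (CommRingCat.ofHom φ))) :
    IsPushout ((Scheme.ΓSpecIso (.of K)).inv ≫ g.appTop) (CommRingCat.ofHom φ) fst.appTop
      ((Scheme.ΓSpecIso (.of K')).inv ≫ snd.appTop) := by
  haveI : Flat (Spec.map (CommRingCat.ofHom φ)) := by
    rw [HasRingHomProperty.Spec_iff (P := @Flat)]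
    letI := φ.toAlgebra
    show (algebraMap K K').Flat
    rw [RingHom.flat_algebraMap_iff]
    infer_instance
  haveI : CompactSpace Z := QuasiCompact.compactSpace_of_compactSpace g
  haveI : QuasiSeparatedSpace Z := quasiSeparatedSpace_of_quasiSeparated g
  have hiso := isIso_pushoutSection_of_isQuasiSeparated_of_flat_right h
    (US := ⊤) (UT := ⊤) (UX := ⊤) (UY := ⊤) le_top le_top (by simp)
    (isAffineOpen_top _) (isAffineOpen_top _) (by simpa using CompactSpace.isCompact_univ)
    (by simpa using isQuasiSeparated_univ (α := Z))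
  have hpo := (isIso_pushoutSection_iff h le_top le_top (by simp)).mp hiso
  refine IsPushout.of_iso hpo (Scheme.ΓSpecIso (.of K)) (Iso.refl _) (Scheme.ΓSpecIso (.of K'))
    (Iso.refl _) ?_ ?_ ?_ ?_
  · rw [Iso.refl_hom, Category.comp_id, Iso.hom_inv_id_assoc]
    exact (Scheme.Hom.app_eq_appLE ..).symm
  · show (Spec.map (CommRingCat.ofHom φ)).appLE ⊤ ⊤ _ ≫ (Scheme.ΓSpecIso (.of K')).hom =
      (Scheme.ΓSpecIso (.of K)).hom ≫ CommRingCat.ofHom φ
    rw [← Scheme.ΓSpecIso_naturality]
    congr 1
  · rw [Iso.refl_hom, Category.comp_id, Iso.refl_hom, Category.id_comp]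
    exact (Scheme.Hom.app_eq_appLE ..).symm
  · rw [Iso.refl_hom, Category.comp_id, Iso.hom_inv_id_assoc]
    exact (Scheme.Hom.app_eq_appLE ..).symm

/-- for a cartesian square over a field extension the ring of functions of the base change is étale iff
the original one is -/
theorem etale_appTop_iff_of_isPullback (g : Z ⟶ Spec (.of K)) [QuasiCompact g] [QuasiSeparated g]
    (φ : K →+* K') (fst : W ⟶ Z) (snd : W ⟶ Spec (.of K'))
    (h : IsPullback fst snd g (Spec.map (CommRingCat.ofHom φ))) :
    ((Scheme.ΓSpecIso (.of K')).inv ≫ snd.appTop).hom.Etale ↔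
      ((Scheme.ΓSpecIso (.of K)).inv ≫ g.appTop).hom.Etale := by
  have hpo := isPushout_appTop_field g φ fst snd h
  refine ⟨fun hd => etale_of_isPushout_right hpo ?_ hd, fun ha => etale_of_isPushout_left hpo ha⟩
  letI := φ.toAlgebra
  show (algebraMap K K').FaithfullyFlat
  rw [RingHom.faithfullyFlat_algebraMap_iff]
  infer_instance

/-- **Part A**: a proper scheme over a field `K` whose base change to an algebraically closed field
is reduced has an étale `K`-algebra of global functions. -/
theorem etale_of_isPullback_isReduced {Ω : Type u} [Field Ω]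
    [IsAlgClosed Ω] (g : Z ⟶ Spec (.of K)) [IsProper g] (φ : K →+* Ω) (fst : W ⟶ Z)
    (snd : W ⟶ Spec (.of Ω)) (h : IsPullback fst snd g (Spec.map (CommRingCat.ofHom φ)))
    [IsReduced W] :
    ((Scheme.ΓSpecIso (.of K)).inv ≫ g.appTop).hom.Etale := by
  have hpo := isPushout_appTop_field g φ fst snd h
  -- algebra structures
  letI : Algebra K Ω := φ.toAlgebra
  letI : Algebra K Γ(Z, ⊤) := ((Scheme.ΓSpecIso (.of K)).inv ≫ g.appTop).hom.toAlgebra
  letI : Algebra Ω Γ(W, ⊤) := ((Scheme.ΓSpecIso (.of Ω)).inv ≫ snd.appTop).hom.toAlgebra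
  letI : Algebra Γ(Z, ⊤) Γ(W, ⊤) := fst.appTop.hom.toAlgebra
  letI : Algebra K Γ(W, ⊤) := ((algebraMap Γ(Z, ⊤) Γ(W, ⊤)).comp (algebraMap K Γ(Z, ⊤))).toAlgebra
  haveI : IsScalarTower K Γ(Z, ⊤) Γ(W, ⊤) := IsScalarTower.of_algebraMap_eq' rfl
  have hcomm : (algebraMap Ω Γ(W, ⊤)).comp (algebraMap K Ω) = algebraMap K Γ(W, ⊤) :=
    RingHom.ext fun x => congr($(hpo.w).hom x).symm
  haveI : IsScalarTower K Ω Γ(W, ⊤) := IsScalarTower.of_algebraMap_eq' hcomm.symm
  have hpo' : Algebra.IsPushout K Γ(Z, ⊤) Ω Γ(W, ⊤) := by
    rw [← CommRingCat.isPushout_iff_isPushout]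
    exact hpo
  haveI : Module.Finite K Γ(Z, ⊤) := by
    haveI : IsNoetherianRing Γ(Spec (CommRingCat.of K), ⊤) :=
      isNoetherianRing_of_ringEquiv K (Scheme.ΓSpecIso (.of K)).symm.commRingCatIsoToRingEquiv
    have h1 : g.appTop.hom.Finite := Groth.Agent.Lib.helper8.ZConn.finite_appTop_of_isProper g
    have h2 : (g.appTop.hom.comp (Scheme.ΓSpecIso (.of K)).inv.hom).Finite :=
      RingHom.Finite.comp h1 (RingHom.Finite.of_surjective _
        (Scheme.ΓSpecIso (.of K)).symm.commRingCatIsoToRingEquiv.surjective)
    exact h2
  haveI := etale_of_isPushout_isReduced K Γ(Z, ⊤) Ω Γ(W, ⊤)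
  exact RingHom.etale_algebraMap.mpr inferInstance

/-- a proper geometrically reduced scheme over a field has an étale algebra of global functions -/
theorem etale_of_geometricallyReduced (g : Z ⟶ Spec (.of K)) [IsProper g]
    [GeometricallyReduced g] :
    ((Scheme.ΓSpecIso (.of K)).inv ≫ g.appTop).hom.Etale := by
  have hpb : IsPullback (pullback.fst g (Spec.map (CommRingCat.ofHom
      (algebraMap K (AlgebraicClosure K))))) (pullback.snd g _) g _ := IsPullback.of_hasPullback _ _
  haveI : IsReduced (pullback g (Spec.map (CommRingCat.ofHom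
      (algebraMap K (AlgebraicClosure K))))) :=
    GeometricallyReduced.geometrically_isReduced _ _ _ hpb
  exact etale_of_isPullback_isReduced g (algebraMap K (AlgebraicClosure K)) _ _ hpb

end geometry

end Groth.Agent.Lib.Helper18.EtGR
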