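import Groth.Agent.Lib.Helper18.EtGR9
import Groth.Agent.Lib.Helper8.ZConn6
import Groth.Prelude.Def_MoreMor

/-!
# The number of geometric connected components of the fibres (helper18)

* `card_connectedComponents_eq`: a continuous surjection with connected fibres onto a discrete space.
* `card_primeSpectrum_of_etale`: `#Spec R = dim R` for `R` étale over a separably closed field.
* `card_connectedComponents_of_etale`: for `Z` proper over a separably closed field `Ω` with étale ring of
  functions, `#π₀(Z) = dim_Ω Γ(Z, O)` (Stein factorization + Zariski's connectedness theorem).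
* `nGeomConnComp_eq_rankAtStalk`: over a good chart, `MoreMor.nGeomConnComp f s` is the rank of the finite projective
  algebra `Γ(X, f⁻¹ V)` at `s`.
* `isLocallyConstant_nGeomConnComp`.
-/

set_option autoImplicit false
universe u

open TensorProduct CategoryTheory CategoryTheory.Limits AlgebraicGeometry Opposite TopologicalSpace

namespace Groth.Agent.Lib.Helper18.EtGR

open Groth.Agent.Lib.Helper18.BCHom Groth.Agent.Lib.Helper18.NNComplex
  Groth.Agent.Lib.Helper18.NNChart Groth.Agent.Lib.Helper18.NNMaster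
  Groth.Agent.Lib.Helper18.Strat Groth.Agent.Lib.Helper18.SplitAlg
  Groth.Agent.Lib.helper8.GenBCChart Groth.Agent.Lib.Helper18.EtH0
  Groth.Agent.Lib.helper7.R1Free Groth.Agent.Lib.Helper18.NNLocal
open Scheme.Modules

section topo

/-- a continuous surjection with connected fibres onto a discrete space identifies the connected components
with the points of the target -/
theorem card_connectedComponents_eq {Z N : Type*} [TopologicalSpace Z] [TopologicalSpace N]
    [DiscreteTopology N] (q : Z → N) (hq : Continuous q) (hs : Function.Surjective q)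
    (hc : ∀ n, IsPreconnected (q ⁻¹' {n})) :
    ENat.card (_root_.ConnectedComponents Z) = ENat.card N := by
  refine ENat.card_congr (Equiv.ofBijective hq.connectedComponentsLift ⟨?_, ?_⟩)
  · intro a b hab
    obtain ⟨a, rfl⟩ := ConnectedComponents.surjective_coe a
    obtain ⟨b, rfl⟩ := ConnectedComponents.surjective_coe b
    rw [Continuous.connectedComponentsLift_apply_coe, Continuous.connectedComponentsLift_apply_coe]
      at hab
    rw [ConnectedComponents.coe_eq_coe']
    exact (hc (q b)).subset_connectedComponent (x := b) rfl hab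
  · intro n
    obtain ⟨z, rfl⟩ := hs n
    exact ⟨↑z, hq.connectedComponentsLift_apply_coe z⟩

/-- the number of points of the spectrum of an étale algebra over a separably closed field -/
theorem card_primeSpectrum_of_etale (Ω R : Type u) [Field Ω] [IsSepClosed Ω] [CommRing R] [Algebra Ω R]
    [Algebra.Etale Ω R] : ENat.card (PrimeSpectrum R) = Module.finrank Ω R := by
  haveI : Module.Finite Ω R := Algebra.FormallyUnramified.finite_of_free Ω R
  haveI : IsArtinianRing R := IsArtinianRing.of_finite Ω R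
  haveI : Finite (PrimeSpectrum R) := inferInstance
  letI := Fintype.ofFinite (PrimeSpectrum R)
  have e := Algebra.FormallyEtale.equivPiOfIsSepClosed Ω R
  rw [e.toLinearEquiv.finrank_eq, Module.finrank_fintype_fun_eq_card, ENat.card_eq_coe_fintype_card]

end topo

section count

open Groth.Agent.Lib.helper8.ZConn in
/-- the number of connected components of a proper scheme over a separably closed field whose ring of
functions is étale is the dimension of the ring of functions -/
theorem card_connectedComponents_of_etale {Ω : Type u} [Field Ω] [IsSepClosed Ω] {Z : Scheme.{u}}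
    (h : Z ⟶ Spec (CommRingCat.of Ω)) [IsProper h]
    (het : ((Scheme.ΓSpecIso (CommRingCat.of Ω)).inv ≫ h.appTop).hom.Etale) :
    letI := ((Scheme.ΓSpecIso (CommRingCat.of Ω)).inv ≫ h.appTop).hom.toAlgebra
    ENat.card (_root_.ConnectedComponents Z) = Module.finrank Ω Γ(Z, ⊤) := by
  letI algE : Algebra Ω Γ(Z, ⊤) := ((Scheme.ΓSpecIso (CommRingCat.of Ω)).inv ≫ h.appTop).hom.toAlgebra
  haveI etE : Algebra.Etale Ω Γ(Z, ⊤) := het
  haveI : IsProper h.toNormalization := isProper_toNormalization h
  haveI : GeometricallyConnected h.toNormalization := geometricallyConnected_toNormalization h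
  haveI : IsAffine h.normalization := isAffine_of_isAffineHom h.fromNormalization
  -- the ring of functions of the normalization
  letI algR : Algebra Ω Γ(h.normalization, ⊤) :=
    ((Scheme.ΓSpecIso (CommRingCat.of Ω)).inv ≫ h.fromNormalization.appTop).hom.toAlgebra
  have hbij : Function.Bijective h.toNormalization.appTop.hom := by
    refine ⟨toNormalization_app_injective h (isAffineOpen_top _), fun b => ?_⟩
    letI := (h.app ⊤).hom.toAlgebra
    haveI : IsNoetherianRing Γ(Spec (CommRingCat.of Ω), ⊤) :=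
      isNoetherianRing_of_ringEquiv Ω
        (Scheme.ΓSpecIso (CommRingCat.of Ω)).symm.commRingCatIsoToRingEquiv
    haveI : Module.Finite Γ(Spec (CommRingCat.of Ω), ⊤) Γ(Z, h ⁻¹ᵁ ⊤) := finite_appTop_of_isProper h
    have h1 := h.normalizationObjIso_hom_val (isAffineOpen_top _)
    have hb : (b : Γ(Z, h ⁻¹ᵁ ⊤)) ∈ integralClosure Γ(Spec (CommRingCat.of Ω), ⊤) Γ(Z, h ⁻¹ᵁ ⊤) :=
      Algebra.IsIntegral.isIntegral _
    refine ⟨(h.normalizationObjIso (isAffineOpen_top _)).inv ⟨b, hb⟩, ?_⟩
    have h2 := congr($(h1).hom ((h.normalizationObjIso (isAffineOpen_top _)).inv ⟨b, hb⟩))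
    simp only [CommRingCat.comp_apply] at h2
    have h3 : (h.normalizationObjIso (isAffineOpen_top _)).hom
        ((h.normalizationObjIso (isAffineOpen_top _)).inv ⟨b, hb⟩) = ⟨b, hb⟩ :=
      congr($((h.normalizationObjIso (isAffineOpen_top _)).inv_hom_id).hom ⟨b, hb⟩)
    rw [h3] at h2
    have h4 : h.toNormalization.appLE (h.fromNormalization ⁻¹ᵁ ⊤) (h ⁻¹ᵁ ⊤)
        (by simp) = h.toNormalization.appTop := by
      show h.toNormalization.app ⊤ ≫ Z.presheaf.map (𝟙 _) = _
      rw [Z.presheaf.map_id, Category.comp_id]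
    rw [h4] at h2
    exact h2.symm
  let e : Γ(h.normalization, ⊤) ≃ₐ[Ω] Γ(Z, ⊤) :=
    { RingEquiv.ofBijective h.toNormalization.appTop.hom hbij with
      commutes' := fun r => by
        show h.toNormalization.appTop.hom ((h.fromNormalization.appTop).hom
          ((Scheme.ΓSpecIso (CommRingCat.of Ω)).inv.hom r)) =
            h.appTop.hom ((Scheme.ΓSpecIso (CommRingCat.of Ω)).inv.hom r)
        rw [← CommRingCat.comp_apply, ← Scheme.Hom.comp_appTop,
          h.toNormalization_fromNormalization] }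
  haveI : Algebra.Etale Ω Γ(h.normalization, ⊤) := Algebra.Etale.of_equiv e.symm
  have hN : ENat.card h.normalization = Module.finrank Ω Γ(Z, ⊤) := by
    rw [← e.toLinearEquiv.finrank_eq, ← card_primeSpectrum_of_etale Ω Γ(h.normalization, ⊤)]
    exact ENat.card_congr (Scheme.homeoOfIso h.normalization.isoSpec).toEquiv
  haveI : DiscreteTopology h.normalization := by
    haveI : Module.Finite Ω Γ(h.normalization, ⊤) := Algebra.FormallyUnramified.finite_of_free Ω _
    haveI : IsArtinianRing Γ(h.normalization, ⊤) := IsArtinianRing.of_finite Ω _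
    haveI : DiscreteTopology (PrimeSpectrum Γ(h.normalization, ⊤)) := inferInstance
    exact DiscreteTopology.of_continuous_injective
      (Scheme.homeoOfIso h.normalization.isoSpec).continuous
      (Scheme.homeoOfIso h.normalization.isoSpec).injective
  rw [← hN]
  refine card_connectedComponents_eq h.toNormalization h.toNormalization.continuous ?_ ?_
  · have hd : DenseRange h.toNormalization := h.toNormalization.denseRange
    have hc : IsClosed (Set.range h.toNormalization) :=
      h.toNormalization.isClosedMap.isClosed_range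
    rw [← Set.range_eq_univ, ← hc.closure_eq]
    exact hd.closure_range
  · intro n
    rw [← h.toNormalization.range_fiberι n]
    exact isPreconnected_range (h.toNormalization.fiberι n).continuous

end count

section main

variable {X S : Scheme.{u}} (f : X ⟶ S) [IsProper f] (hgr : EtaleH0 f)
  {V : S.Opens} {hV : IsAffineOpen V}

include hgr in
/-- over a good chart the number of geometric connected components of the fibres is the rank of the finite
projective algebra of functions -/
theorem nGeomConnComp_eq_rankAtStalk (C : ChartData f (Coh.structureModule X) hV) (r : ℕ)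
    (hJ : C.J r = ⊥) (hK : C.K r = ⊤) (s : S) (hs : s ∈ V) :
    letI := (f.app V).hom.toAlgebra
    ∃ q : PrimeSpectrum Γ(S, V), hV.fromSpec q = s ∧
      MoreMor.nGeomConnComp f s = Module.rankAtStalk (R := Γ(S, V)) Γ(X, f ⁻¹ᵁ V) q := by
  haveI := isQuasicoherent_structureModule X
  obtain ⟨hneg, hM, -⟩ := chart_split_of_fitt C r hJ hK
  have hg1 : GSplit (C.L.sc ((0 : ℕ) : ℤ)) 1 :=
    (gsplit_iff_dsplit C.L (show (ComplexShape.up ℤ).Rel 0 1 by simp) 1).mpr hM
  obtain ⟨hfin, hproj⟩ := projective_sections_of_fitt f _ C r hJ hK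
  -- the geometric point
  set Ω := SeparableClosure (S.residueField s) with hΩ
  set φ₀ := CommRingCat.ofHom (algebraMap (S.residueField s) Ω) with hφ₀
  set v : Spec (CommRingCat.of Ω) ⟶ S := Spec.map φ₀ ≫ S.fromSpecResidueField s with hv
  set h : MoreMor.geomFiber f s ⟶ Spec (CommRingCat.of Ω) :=
    pullback.snd (f.fiberToSpecResidueField s) (Spec.map φ₀) with hh
  set gX : MoreMor.geomFiber f s ⟶ X :=
    pullback.fst (f.fiberToSpecResidueField s) (Spec.map φ₀) ≫ f.fiberι s with hgX
  have hsq : IsPullback gX h f v :=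
    (IsPullback.of_hasPullback (f.fiberToSpecResidueField s) (Spec.map φ₀)).paste_horiz
      (IsPullback.of_hasPullback f (S.fromSpecResidueField s))
  have hvs : ∀ x, v x = s := fun x => by
    rw [hv, Scheme.Hom.comp_apply]
    exact Scheme.fromSpecResidueField_apply _ _
  have hle : (⊤ : (Spec (CommRingCat.of Ω)).Opens) ≤ v ⁻¹ᵁ V := fun x _ => by
    show v x ∈ V
    rw [hvs]
    exact hs
  have P := isPushout_sections_of_gsplit f hV C.L C.comp v gX h hsq (isAffineOpen_top _) hle 1 hg1
    (by rw [map_one]; exact isUnit_one)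
  have P' : IsPushout (f.app V) (v.appLE V ⊤ hle ≫ (Scheme.ΓSpecIso (CommRingCat.of Ω)).hom)
      (gX.appLE (f ⁻¹ᵁ V) (h ⁻¹ᵁ ⊤) (chart_le f v gX h hsq hle))
      ((Scheme.ΓSpecIso (CommRingCat.of Ω)).inv ≫ h.app ⊤) := by
    refine IsPushout.of_iso P (Iso.refl _) (Iso.refl _) (Scheme.ΓSpecIso (CommRingCat.of Ω))
      (Iso.refl _) ?_ ?_ ?_ ?_ <;> simp
  -- étaleness
  have het : ((Scheme.ΓSpecIso (CommRingCat.of Ω)).inv ≫ h.appTop).hom.Etale := by
    have h0 := hgr Ω v
    have hiso : h = hsq.isoPullback.hom ≫ pullback.snd f v := (hsq.isoPullback_hom_snd).symm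
    rw [hiso, Scheme.Hom.comp_appTop, ← Category.assoc]
    haveI : IsIso hsq.isoPullback.hom.appTop := by
      show IsIso (hsq.isoPullback.hom.app ⊤)
      infer_instance
    exact (RingHom.Etale.respectsIso.cancel_right_isIso _ _).mpr h0
  haveI : IsProper (f.fiberToSpecResidueField s) :=
    inferInstanceAs (IsProper (pullback.snd f (S.fromSpecResidueField s)))
  haveI : IsProper h := by
    rw [hh]
    exact MorphismProperty.pullback_snd _ _ ‹IsProper (f.fiberToSpecResidueField s)›
  have hcard := card_connectedComponents_of_etale h het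
  -- algebra structures
  letI algAB : Algebra Γ(S, V) Γ(X, f ⁻¹ᵁ V) := (f.app V).hom.toAlgebra
  letI algAΩ : Algebra Γ(S, V) Ω :=
    (v.appLE V ⊤ hle ≫ (Scheme.ΓSpecIso (CommRingCat.of Ω)).hom).hom.toAlgebra
  letI algΩE : Algebra Ω Γ(MoreMor.geomFiber f s, ⊤) :=
    ((Scheme.ΓSpecIso (CommRingCat.of Ω)).inv ≫ h.appTop).hom.toAlgebra
  letI algBE : Algebra Γ(X, f ⁻¹ᵁ V) Γ(MoreMor.geomFiber f s, ⊤) :=
    (gX.appLE (f ⁻¹ᵁ V) (h ⁻¹ᵁ ⊤) (chart_le f v gX h hsq hle)).hom.toAlgebra
  letI algAE : Algebra Γ(S, V) Γ(MoreMor.geomFiber f s, ⊤) :=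
    ((algebraMap Γ(X, f ⁻¹ᵁ V) Γ(MoreMor.geomFiber f s, ⊤)).comp
      (algebraMap Γ(S, V) Γ(X, f ⁻¹ᵁ V))).toAlgebra
  haveI : IsScalarTower Γ(S, V) Γ(X, f ⁻¹ᵁ V) Γ(MoreMor.geomFiber f s, ⊤) :=
    IsScalarTower.of_algebraMap_eq' rfl
  haveI : IsScalarTower Γ(S, V) Ω Γ(MoreMor.geomFiber f s, ⊤) :=
    IsScalarTower.of_algebraMap_eq' (RingHom.ext fun x => congr($(P'.w).hom x))
  haveI : Module.Finite Γ(S, V) Γ(X, f ⁻¹ᵁ V) := hfin
  haveI : Module.Projective Γ(S, V) Γ(X, f ⁻¹ᵁ V) := hproj
  haveI : Algebra.IsPushout Γ(S, V) Γ(X, f ⁻¹ᵁ V) Ω Γ(MoreMor.geomFiber f s, ⊤) :=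
    CommRingCat.isPushout_iff_isPushout.mp P'
  let x₀ : PrimeSpectrum Ω := ⟨⊥, Ideal.isPrime_bot⟩
  have hrank := Algebra.rankAtStalk_eq_of_isPushout Γ(S, V) Γ(X, f ⁻¹ᵁ V) Ω
    Γ(MoreMor.geomFiber f s, ⊤) x₀
  refine ⟨PrimeSpectrum.comap (algebraMap Γ(S, V) Ω) x₀, ?_, ?_⟩
  · have h1 := IsAffineOpen.SpecMap_appLE_fromSpec v hV (isAffineOpen_top _) hle
    have h2 : PrimeSpectrum.comap (algebraMap Γ(S, V) Ω) x₀ =
        (Spec.map (v.appLE V ⊤ hle))
          ((Spec.map (Scheme.ΓSpecIso (CommRingCat.of Ω)).hom) x₀) := rfl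
    rw [h2, ← Scheme.Hom.comp_apply, h1, Scheme.Hom.comp_apply]
    exact hvs _
  · rw [← hrank, Module.rankAtStalk_eq_finrank_of_free]
    exact hcard

include hgr in
/-- the number of geometric connected components of the fibres is locally constant -/
theorem isLocallyConstant_nGeomConnComp [LocallyOfFinitePresentation f]
    (hfl : FlatMod.IsFlatOver f (Coh.structureModule X)) :
    IsLocallyConstant (fun s : S => MoreMor.nGeomConnComp f s) := by
  rw [IsLocallyConstant.iff_exists_open]
  intro s₀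
  obtain ⟨V, hV, C, r, hs₀V, hJ, hK⟩ := exists_fitt_chart f hgr hfl s₀
  letI := (f.app V).hom.toAlgebra
  obtain ⟨hfin, hproj⟩ := projective_sections_of_fitt f _ C r hJ hK
  haveI : Module.Finite Γ(S, V) Γ(X, f ⁻¹ᵁ V) := hfin
  haveI : Module.Projective Γ(S, V) Γ(X, f ⁻¹ᵁ V) := hproj
  haveI : Module.FinitePresentation Γ(S, V) Γ(X, f ⁻¹ᵁ V) :=
    Module.finitePresentation_of_projective _ _
  have hlc := Module.isLocallyConstant_rankAtStalk (R := Γ(S, V)) (M := Γ(X, f ⁻¹ᵁ V))
  obtain ⟨q₀, hq₀, hn₀⟩ := nGeomConnComp_eq_rankAtStalk f hgr C r hJ hK s₀ hs₀V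
  have hopen : IsOpen {q : PrimeSpectrum Γ(S, V) |
      Module.rankAtStalk (R := Γ(S, V)) Γ(X, f ⁻¹ᵁ V) q =
        Module.rankAtStalk (R := Γ(S, V)) Γ(X, f ⁻¹ᵁ V) q₀} := hlc.isOpen_fiber _
  refine ⟨hV.fromSpec '' {q : PrimeSpectrum Γ(S, V) |
      Module.rankAtStalk (R := Γ(S, V)) Γ(X, f ⁻¹ᵁ V) q =
        Module.rankAtStalk (R := Γ(S, V)) Γ(X, f ⁻¹ᵁ V) q₀},
    hV.fromSpec.isOpenEmbedding.isOpenMap _ hopen, ⟨q₀, rfl, hq₀⟩, ?_⟩
  rintro s ⟨q, hq, rfl⟩
  have hsV : hV.fromSpec q ∈ V := by
    have := Set.mem_range_self (f := hV.fromSpec) q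
    rwa [hV.range_fromSpec] at this
  obtain ⟨q', hq', hn⟩ := nGeomConnComp_eq_rankAtStalk f hgr C r hJ hK _ hsV
  have hqq : q' = q := hV.fromSpec.isOpenEmbedding.injective hq'
  show MoreMor.nGeomConnComp f (hV.fromSpec q) = MoreMor.nGeomConnComp f s₀
  rw [hn, hqq, hn₀]
  exact congrArg _ hq

end main

end Groth.Agent.Lib.Helper18.EtGR
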