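import Groth.Agent.Lib.Helper18.EtGR10
import Groth.Agent.Lib.Helper9.GROpen3

/-!
# The number of geometric connected components near a geometrically reduced fibre (helper18)

* `nGeomConnComp_eq_rankAtStalk_of_fibre`: the pointwise form of `nGeomConnComp_eq_rankAtStalk` (only the fibre at
  the point is assumed geometrically reduced).
* `isOpen_setOf_geometricallyReduced_and_nGeomConnComp_eq`: for `f` proper flat finitely presented the set of
  points with geometrically reduced fibre having exactly `k` geometric connected components is open (EGA IV 15.5.9).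
-/

set_option autoImplicit false
universe u

open TensorProduct CategoryTheory CategoryTheory.Limits AlgebraicGeometry Opposite TopologicalSpace

namespace Groth.Agent.Lib.Helper18.EtGR

open Groth.Agent.Lib.Helper18.BCHom Groth.Agent.Lib.Helper18.NNComplex
  Groth.Agent.Lib.Helper18.NNChart Groth.Agent.Lib.Helper18.NNMaster
  Groth.Agent.Lib.Helper18.Strat Groth.Agent.Lib.Helper18.SplitAlg
  Groth.Agent.Lib.helper8.GenBCChart Groth.Agent.Lib.Helper18.EtH0
  Groth.Agent.Lib.helper7.R1Free Groth.Agent.Lib.Helper18.NNLocal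
open Scheme.Modules

section main

variable {X S : Scheme.{u}} (f : X ⟶ S) [IsProper f]
  {V : S.Opens} {hV : IsAffineOpen V}

/-- over a good chart the number of geometric connected components of the fibres is the rank of the finite
projective algebra of functions -/
theorem nGeomConnComp_eq_rankAtStalk_of_fibre (C : ChartData f (Coh.structureModule X) hV) (r : ℕ)
    (hJ : C.J r = ⊥) (hK : C.K r = ⊤) (s : S) (hs : s ∈ V)
    (hgrs : GeometricallyReduced (f.fiberToSpecResidueField s)) :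
    letI := (f.app V).hom.toAlgebra
    ∃ q : PrimeSpectrum Γ(S, V), hV.fromSpec q = s ∧
      MoreMor.nGeomConnComp f s = Module.rankAtStalk (R := Γ(S, V)) Γ(X, f ⁻¹ᵁ V) q := by
  haveI := isQuasicoherent_structureModule X
  obtain ⟨hneg, hM, -⟩ := chart_split_of_fitt C r hJ hK
  have hg1 : GSplit (C.L.sc ((0 : ℕ) : ℤ)) 1 :=
    (gsplit_iff_dsplit C.L (show (ComplexShape.up ℤ).Rel 0 1 by simp) 1).mpr hM
  obtain ⟨hfin, hproj⟩ := projective_sections_of_fitt f _ C r hJ hK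
  -- the geometric point
  set Ω := SeparableClosure (S.residueField s) with hΩ
  set φ₀ := CommRingCat.ofHom (algebraMap (S.residueField s) Ω) with hφ₀
  set v : Spec (CommRingCat.of Ω) ⟶ S := Spec.map φ₀ ≫ S.fromSpecResidueField s with hv
  set h : MoreMor.geomFiber f s ⟶ Spec (CommRingCat.of Ω) :=
    pullback.snd (f.fiberToSpecResidueField s) (Spec.map φ₀) with hh
  set gX : MoreMor.geomFiber f s ⟶ X :=
    pullback.fst (f.fiberToSpecResidueField s) (Spec.map φ₀) ≫ f.fiberι s with hgX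
  have hsq : IsPullback gX h f v :=
    (IsPullback.of_hasPullback (f.fiberToSpecResidueField s) (Spec.map φ₀)).paste_horiz
      (IsPullback.of_hasPullback f (S.fromSpecResidueField s))
  have hvs : ∀ x, v x = s := fun x => by
    rw [hv, Scheme.Hom.comp_apply]
    exact Scheme.fromSpecResidueField_apply _ _
  have hle : (⊤ : (Spec (CommRingCat.of Ω)).Opens) ≤ v ⁻¹ᵁ V := fun x _ => by
    show v x ∈ V
    rw [hvs]
    exact hs
  have P := isPushout_sections_of_gsplit f hV C.L C.comp v gX h hsq (isAffineOpen_top _) hle 1 hg1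
    (by rw [map_one]; exact isUnit_one)
  have P' : IsPushout (f.app V) (v.appLE V ⊤ hle ≫ (Scheme.ΓSpecIso (CommRingCat.of Ω)).hom)
      (gX.appLE (f ⁻¹ᵁ V) (h ⁻¹ᵁ ⊤) (chart_le f v gX h hsq hle))
      ((Scheme.ΓSpecIso (CommRingCat.of Ω)).inv ≫ h.app ⊤) := by
    refine IsPushout.of_iso P (Iso.refl _) (Iso.refl _) (Scheme.ΓSpecIso (CommRingCat.of Ω))
      (Iso.refl _) ?_ ?_ ?_ ?_ <;> simp
  -- étaleness
  haveI : IsProper (f.fiberToSpecResidueField s) :=
    inferInstanceAs (IsProper (pullback.snd f (S.fromSpecResidueField s)))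
  haveI : IsProper h := by
    rw [hh]
    exact MorphismProperty.pullback_snd _ _ ‹IsProper (f.fiberToSpecResidueField s)›
  haveI : GeometricallyReduced h := by
    rw [hh]
    exact MorphismProperty.pullback_snd _ _ hgrs
  have het : ((Scheme.ΓSpecIso (CommRingCat.of Ω)).inv ≫ h.appTop).hom.Etale :=
    etale_of_geometricallyReduced h
  have hcard := card_connectedComponents_of_etale h het
  -- algebra structures
  letI algAB : Algebra Γ(S, V) Γ(X, f ⁻¹ᵁ V) := (f.app V).hom.toAlgebra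
  letI algAΩ : Algebra Γ(S, V) Ω :=
    (v.appLE V ⊤ hle ≫ (Scheme.ΓSpecIso (CommRingCat.of Ω)).hom).hom.toAlgebra
  letI algΩE : Algebra Ω Γ(MoreMor.geomFiber f s, ⊤) :=
    ((Scheme.ΓSpecIso (CommRingCat.of Ω)).inv ≫ h.appTop).hom.toAlgebra
  letI algBE : Algebra Γ(X, f ⁻¹ᵁ V) Γ(MoreMor.geomFiber f s, ⊤) :=
    (gX.appLE (f ⁻¹ᵁ V) (h ⁻¹ᵁ ⊤) (chart_le f v gX h hsq hle)).hom.toAlgebra
  letI algAE : Algebra Γ(S, V) Γ(MoreMor.geomFiber f s, ⊤) :=
    ((algebraMap Γ(X, f ⁻¹ᵁ V) Γ(MoreMor.geomFiber f s, ⊤)).comp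
      (algebraMap Γ(S, V) Γ(X, f ⁻¹ᵁ V))).toAlgebra
  haveI : IsScalarTower Γ(S, V) Γ(X, f ⁻¹ᵁ V) Γ(MoreMor.geomFiber f s, ⊤) :=
    IsScalarTower.of_algebraMap_eq' rfl
  haveI : IsScalarTower Γ(S, V) Ω Γ(MoreMor.geomFiber f s, ⊤) :=
    IsScalarTower.of_algebraMap_eq' (RingHom.ext fun x => congr($(P'.w).hom x))
  haveI : Module.Finite Γ(S, V) Γ(X, f ⁻¹ᵁ V) := hfin
  haveI : Module.Projective Γ(S, V) Γ(X, f ⁻¹ᵁ V) := hproj
  haveI : Algebra.IsPushout Γ(S, V) Γ(X, f ⁻¹ᵁ V) Ω Γ(MoreMor.geomFiber f s, ⊤) :=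
    CommRingCat.isPushout_iff_isPushout.mp P'
  let x₀ : PrimeSpectrum Ω := ⟨⊥, Ideal.isPrime_bot⟩
  have hrank := Algebra.rankAtStalk_eq_of_isPushout Γ(S, V) Γ(X, f ⁻¹ᵁ V) Ω
    Γ(MoreMor.geomFiber f s, ⊤) x₀
  refine ⟨PrimeSpectrum.comap (algebraMap Γ(S, V) Ω) x₀, ?_, ?_⟩
  · have h1 := IsAffineOpen.SpecMap_appLE_fromSpec v hV (isAffineOpen_top _) hle
    have h2 : PrimeSpectrum.comap (algebraMap Γ(S, V) Ω) x₀ =
        (Spec.map (v.appLE V ⊤ hle))
          ((Spec.map (Scheme.ΓSpecIso (CommRingCat.of Ω)).hom) x₀) := rfl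
    rw [h2, ← Scheme.Hom.comp_apply, h1, Scheme.Hom.comp_apply]
    exact hvs _
  · rw [← hrank, Module.rankAtStalk_eq_finrank_of_free]
    exact hcard


/-- **EGA IV 15.5.9**: openness of the locus of geometrically reduced fibres with a given number of geometric
connected components -/
theorem isOpen_setOf_geometricallyReduced_and_nGeomConnComp_eq [Flat f]
    [LocallyOfFinitePresentation f] (k : ℕ∞) :
    IsOpen {y : S | GeometricallyReduced (f.fiberToSpecResidueField y) ∧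
      MoreMor.nGeomConnComp f y = k} := by
  have hfl := Groth.Agent.Lib.helper21.GCStein.isFlatOver_structureModule f
  have hU : IsOpen {y : S | GeometricallyReduced (f.fiberToSpecResidueField y)} :=
    Groth.Agent.Lib.helper9.GROpen.isOpen_geometricallyReduced f
  rw [isOpen_iff_forall_mem_open]
  rintro s₀ ⟨hgr₀, hk₀⟩
  have hpr₀ : IsProper (f.fiberToSpecResidueField s₀) :=
    inferInstanceAs (IsProper (pullback.snd f (S.fromSpecResidueField s₀)))
  have het₀ : Algebra.Etale (S.residueField s₀) Γ(f.fiber s₀, ⊤) :=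
    @etale_of_geometricallyReduced (f.fiber s₀) (S.residueField s₀) _ (f.fiberToSpecResidueField s₀) hpr₀ hgr₀
  obtain ⟨V, hV, C, r, hs₀V, hJ, hK⟩ := exists_chart_fitt_gen f hfl s₀ het₀
  letI := (f.app V).hom.toAlgebra
  obtain ⟨hfin, hproj⟩ := projective_sections_of_fitt f _ C r hJ hK
  haveI : Module.Finite Γ(S, V) Γ(X, f ⁻¹ᵁ V) := hfin
  haveI : Module.Projective Γ(S, V) Γ(X, f ⁻¹ᵁ V) := hproj
  haveI : Module.FinitePresentation Γ(S, V) Γ(X, f ⁻¹ᵁ V) :=
    Module.finitePresentation_of_projective _ _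
  have hlc := Module.isLocallyConstant_rankAtStalk (R := Γ(S, V)) (M := Γ(X, f ⁻¹ᵁ V))
  obtain ⟨q₀, hq₀, hn₀⟩ := nGeomConnComp_eq_rankAtStalk_of_fibre f C r hJ hK s₀ hs₀V hgr₀
  have hopen : IsOpen {q : PrimeSpectrum Γ(S, V) |
      Module.rankAtStalk (R := Γ(S, V)) Γ(X, f ⁻¹ᵁ V) q =
        Module.rankAtStalk (R := Γ(S, V)) Γ(X, f ⁻¹ᵁ V) q₀} := hlc.isOpen_fiber _
  refine ⟨hV.fromSpec '' {q : PrimeSpectrum Γ(S, V) |
      Module.rankAtStalk (R := Γ(S, V)) Γ(X, f ⁻¹ᵁ V) q =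
        Module.rankAtStalk (R := Γ(S, V)) Γ(X, f ⁻¹ᵁ V) q₀} ∩
      {y : S | GeometricallyReduced (f.fiberToSpecResidueField y)}, ?_,
    (hV.fromSpec.isOpenEmbedding.isOpenMap _ hopen).inter hU, ⟨⟨q₀, rfl, hq₀⟩, hgr₀⟩⟩
  rintro s ⟨⟨q, hq, rfl⟩, hgrs⟩
  refine ⟨hgrs, ?_⟩
  have hsV : hV.fromSpec q ∈ V := by
    have := Set.mem_range_self (f := hV.fromSpec) q
    rwa [hV.range_fromSpec] at this
  obtain ⟨q', hq', hn⟩ := nGeomConnComp_eq_rankAtStalk_of_fibre f C r hJ hK _ hsV hgrs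
  have hqq : q' = q := hV.fromSpec.isOpenEmbedding.injective hq'
  rw [hn, hqq, ← hk₀, hn₀]
  exact congrArg _ hq

end main

end Groth.Agent.Lib.Helper18.EtGR
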