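import Mathlib
import Groth.Agent.Lib.Helper11.ConsMod3
import Groth.Agent.Lib.Helper11.LimFlatSch
import Groth.Agent.S2074
import Groth.Agent.S4849

/-!
# Noetherian models of proper flat families with a finitely presented flat module (helper18)

`fX : X ⟶ Spec A` proper and locally of finite presentation, `F` quasi-coherent of finite presentation and
flat over `A`: then `(X, F)` is the base change of a proper `X₀ ⟶ Spec A₀` with `A₀` Noetherian and of a
coherent module `F₀` on `X₀` flat over `A₀`.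
-/

set_option autoImplicit false
set_option backward.isDefEq.respectTransparency false
set_option linter.style.haveILetI false
universe u
open CategoryTheory CategoryTheory.Limits AlgebraicGeometry Topology TopologicalSpace

namespace Groth.Agent.Lib.Helper18.NNModel

open Groth.Agent.Lib.helper5.ConsFibre Groth.Agent.Lib.helper5.ConsApprox
  Groth.Agent.Lib.helper5.FGLimit Groth.Agent.Lib.helper11.ConsMod

attribute [local instance] ULift.algebra'

section Squares

variable {S₁ S₀ X₀ Xi Yi : Scheme.{u}}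

/-- a model over a base change of the identity is a model over the base -/
theorem isPullback_of_id (φ : S₁ ⟶ S₀) (u₀ : X₀ ⟶ S₀) (fi : Xi ⟶ Yi) (gi : Yi ⟶ S₁)
    (pY : Yi ⟶ S₀) (pX : Xi ⟶ X₀) (h1 : IsPullback pY gi (𝟙 S₀) φ) (h2 : IsPullback pX fi u₀ pY) :
    IsPullback pX (fi ≫ gi) u₀ φ := by
  have := h2.paste_vert h1
  rwa [Category.comp_id] at this

theorem isIso_of_id (φ : S₁ ⟶ S₀) (gi : Yi ⟶ S₁) (pY : Yi ⟶ S₀)
    (h1 : IsPullback pY gi (𝟙 S₀) φ) : IsIso gi :=
  MorphismProperty.of_isPullback (P := MorphismProperty.isomorphisms Scheme.{u}) h1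
    (MorphismProperty.isomorphisms.infer_property (𝟙 S₀))

end Squares

section Model

variable {I : Type u} [SmallCategory I] [IsCofiltered I] (D : I ⥤ Scheme.{u}) (c : Cone D)
  (hc : IsLimit c) [hD : ∀ (i j : I) (f : i ⟶ j), IsAffineHom (D.map f)]
  [hcomp : ∀ i, CompactSpace (D.obj i)] [hqs : ∀ i, QuasiSeparatedSpace (D.obj i)]

include hc in
/-- a proper finitely presented family with a finitely presented flat module over a limit comes from a
stage, with properness and flatness at that stage -/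
theorem exists_proper_flat_model {X : Scheme.{u}} (u : X ⟶ c.pt)
    [IsProper u] [LocallyOfFinitePresentation u]
    (F : X.Modules) [F.IsQuasicoherent] (hF : CohB1.IsFP F) (hfl : FlatMod.IsFlatOver u F) :
    ∃ (k : I) (Xk : Scheme.{u}) (uk : Xk ⟶ D.obj k) (e : X ⟶ Xk) (Fk : Xk.Modules),
      IsProper uk ∧ LocallyOfFinitePresentation uk ∧
      IsPullback e u uk (c.π.app k) ∧ Fk.IsQuasicoherent ∧ CohB1.IsFP Fk ∧
      FlatMod.IsFlatOver uk Fk ∧
      Nonempty (F ≅ (Scheme.Modules.pullback e).obj Fk) := by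
  obtain ⟨k, Xk, uk, e, Fk, h1, h2, h3, sq, hq, hfp, ⟨iso⟩⟩ := exists_mod_model D c hc u F hF
  haveI := h1; haveI := h2; haveI := h3; haveI := hq
  haveI : CompactSpace Xk := QuasiCompact.compactSpace_of_compactSpace uk
  haveI : QuasiSeparatedSpace Xk := quasiSeparatedSpace_of_quasiSeparated uk
  have hY : IsPullback (c.π.app k) (𝟙 c.pt) (𝟙 (D.obj k)) (c.π.app k) := IsPullback.id_vert _
  -- properness at a stage
  obtain ⟨i₁, φ₁, Xi, Yi, fi, gi, pY, pX, q1, q2, q3⟩ :=
    Groth.Agent.S2074.result D c hc k uk (𝟙 (D.obj k)) u (𝟙 c.pt) (c.π.app k) e hY sq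
  haveI := q3
  haveI := isIso_of_id (D.map φ₁) gi pY q1
  have sq₁ : IsPullback pX (fi ≫ gi) uk (D.map φ₁) := isPullback_of_id _ _ _ _ _ _ q1 q2
  -- flatness at a stage
  have hfl' : FlatMod.IsFlatOver u ((Scheme.Modules.pullback e).obj Fk) :=
    (Groth.Agent.Lib.helper17.FlatOver7.isFlatOver_iff_of_iso u iso).mp hfl
  obtain ⟨i₂, φ₂, Xi', Yi', fi', gi', pY', pX', r1, r2, r3⟩ :=
    (Groth.Agent.S4849.result D c hc k uk (𝟙 (D.obj k)) Fk hfp u (𝟙 c.pt) (c.π.app k) e hY sq).mp
      hfl'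
  haveI := isIso_of_id (D.map φ₂) gi' pY' r1
  have sq₂ : IsPullback pX' (fi' ≫ gi') uk (D.map φ₂) := isPullback_of_id _ _ _ _ _ _ r1 r2
  have r3' : FlatMod.IsFlatOver (fi' ≫ gi') ((Scheme.Modules.pullback pX').obj Fk) := by
    have hsq : IsPullback (𝟙 Xi') (fi' ≫ gi') fi' (inv gi') :=
      IsPullback.of_horiz_isIso ⟨by simp⟩
    exact Groth.Agent.Lib.helper11.LimFlatSch.isFlatOver_of_isPullback hsq Fk pX' pX'
      (Category.id_comp _) r3
  -- a common stage
  obtain ⟨j, ψ₁, ψ₂, hψ⟩ := IsCofiltered.cospan φ₁ φ₂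
  let φ : j ⟶ k := ψ₁ ≫ φ₁
  let Xj := pullback (D.map φ) uk
  let uj : Xj ⟶ D.obj j := pullback.fst (D.map φ) uk
  let pj : Xj ⟶ Xk := pullback.snd (D.map φ) uk
  have sqj : IsPullback pj uj uk (D.map φ) := (IsPullback.of_hasPullback _ _).flip
  -- the map to the proper model
  let ℓ₁ : Xj ⟶ Xi := sq₁.lift pj (uj ≫ D.map ψ₁) (by
    rw [Category.assoc, ← D.map_comp]
    exact sqj.w)
  have hℓ₁ : IsPullback ℓ₁ uj (fi ≫ gi) (D.map ψ₁) := by
    refine IsPullback.of_right ?_ (sq₁.lift_snd _ _ _) sq₁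
    rw [sq₁.lift_fst, ← D.map_comp]
    exact sqj
  haveI : IsProper uj := MorphismProperty.of_isPullback (P := @IsProper) hℓ₁ inferInstance
  haveI : LocallyOfFinitePresentation uj :=
    MorphismProperty.of_isPullback (P := @LocallyOfFinitePresentation) sqj inferInstance
  -- the map to the flat model
  have hφ₂ : φ = ψ₂ ≫ φ₂ := hψ
  let ℓ₂ : Xj ⟶ Xi' := sq₂.lift pj (uj ≫ D.map ψ₂) (by
    rw [Category.assoc, ← D.map_comp, ← hφ₂]
    exact sqj.w)
  have hℓ₂ : IsPullback ℓ₂ uj (fi' ≫ gi') (D.map ψ₂) := by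
    refine IsPullback.of_right ?_ (sq₂.lift_snd _ _ _) sq₂
    rw [sq₂.lift_fst, ← D.map_comp, ← hφ₂]
    exact sqj
  have hflj : FlatMod.IsFlatOver uj ((Scheme.Modules.pullback pj).obj Fk) :=
    Groth.Agent.Lib.helper11.LimFlatSch.isFlatOver_of_isPullback hℓ₂ Fk pX' pj
      (sq₂.lift_fst _ _ _) r3'
  -- the map from `X`
  let ej : X ⟶ Xj := sqj.lift e (u ≫ c.π.app j) (by
    rw [Category.assoc, c.w]
    exact sq.w)
  have hej : IsPullback ej u uj (c.π.app j) := by
    refine IsPullback.of_right ?_ (sqj.lift_snd _ _ _) sqj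
    rw [sqj.lift_fst, c.w]
    exact sq
  refine ⟨j, Xj, uj, ej, (Scheme.Modules.pullback pj).obj Fk, inferInstance, inferInstance, hej,
    Groth.Agent.Lib.helper16.QCohPullback.isQuasicoherent_pullback pj Fk,
    Groth.Agent.Lib.helper16.QCohPullback2.isFinitePresentation_pullback pj Fk hfp, hflj, ⟨?_⟩⟩
  exact iso ≪≫ ((Scheme.Modules.pullbackCongr (sqj.lift_fst _ _ _)).app Fk).symm ≪≫
    ((Scheme.Modules.pullbackComp ej pj).app Fk).symm

end Model

section Ring

/-- **Noetherian model over a ring.**  `fX : X ⟶ Spec A` proper, locally of finite presentation, `F`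
quasi-coherent of finite presentation and flat over `A`: there are a Noetherian ring `A₀` with `A` an
`A₀`-algebra, a proper `f₀ : X₀ ⟶ Spec A₀`, a coherent `F₀` on `X₀` flat over `A₀`, and a cartesian square
exhibiting `(X, F)` as the base change of `(X₀, F₀)`. -/
theorem exists_noetherian_proper_flat_model (A : Type u) [CommRing A] {X : Scheme.{u}}
    (fX : X ⟶ Spec (CommRingCat.of A)) [IsProper fX] [LocallyOfFinitePresentation fX]
    (F : X.Modules) [F.IsQuasicoherent] (hF : CohB1.IsFP F) (hfl : FlatMod.IsFlatOver fX F) :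
    ∃ (A₀ : Type u) (_ : CommRing A₀) (_ : IsNoetherianRing A₀) (_ : Algebra A₀ A)
      (X₀ : Scheme.{u}) (f₀ : X₀ ⟶ Spec (CommRingCat.of A₀)) (e : X ⟶ X₀) (F₀ : X₀.Modules),
      IsProper f₀ ∧ IsPullback e fX f₀ (Spec.map (CommRingCat.ofHom (algebraMap A₀ A))) ∧
      Coh.IsCoh F₀ ∧ FlatMod.IsFlatOver f₀ F₀ ∧
      Nonempty (F ≅ (Scheme.Modules.pullback e).obj F₀) := by
  let u' : X ⟶ (specCone (ULift.{u} ℤ) A).pt := fX
  haveI : IsProper u' := inferInstanceAs (IsProper fX)
  haveI : LocallyOfFinitePresentation u' := inferInstanceAs (LocallyOfFinitePresentation fX)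
  obtain ⟨k, Xk, uk, e, Fk, h1, h2, sq, hq, hfp, hflk, hiso⟩ :=
    exists_proper_flat_model (specDiagram (ULift.{u} ℤ) A) (specCone (ULift.{u} ℤ) A)
      (isLimitSpecCone (ULift.{u} ℤ) A) u' F hF hfl
  letI : Algebra (adj (ULift.{u} ℤ) A k.unop) A := (adj (ULift.{u} ℤ) A k.unop).val.toRingHom.toAlgebra
  exact ⟨adj (ULift.{u} ℤ) A k.unop, inferInstance, isNoetherianRing_adj A k.unop, inferInstance,
    Xk, uk, e, Fk, h1, sq, isCoh_of_isFP Fk hfp, hflk, hiso⟩

end Ring

end Groth.Agent.Lib.Helper18.NNModel
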