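import Mathlib
import Groth.Agent.Lib.Helper8.GenBCChart2

/-!
# Charts for the base change maps `CohCmp.GenBC` over affine opens of the base (helper18)

`f : X ⟶ S` separated quasi-compact, `W ⊆ S` affine, `g : S' ⟶ S`, `W' ⊆ S'` affine with `W' ≤ g⁻¹W`.
The map `Γ(W, R^n f_* F) → Γ(W', R^n f'_* g'^*F)` induced by `B.φ n F` corresponds, under the comparison
isomorphisms `ε`, to the pullback `H^n(f⁻¹W, F) → H^n(f'⁻¹W', (g'|)^* F|)` along the restricted morphism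
(`chart_square`).
-/

set_option autoImplicit false
universe u
open CategoryTheory CategoryTheory.Limits Opposite TopologicalSpace AlgebraicGeometry

namespace Groth.Agent.Lib.Helper18.NNChart

open Groth.Agent.Lib.helper8.PullbackUnit Groth.Agent.Lib.helper8.EpsAffine
open Groth.Agent.Lib.helper8.PullModComp Groth.Agent.Lib.helper8.GenBCChart
open Groth.Agent.Lib.helper21.GCCech
open Scheme.Modules CohCmp

section eps

variable {X S : Scheme.{u}} (f : X ⟶ S) [QuasiCompact f] [QuasiSeparated f]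
  [HasInjectiveResolutions X.Modules]
  {Δ : RDer.DerivedLES (pushforward f)} (E : CohCmp.SectCmp f Δ)
  (F : X.Modules) [Coh.IsQCoh F]
  {W : S.Opens} (hW : IsAffineOpen W) (p : ℕ)

omit [QuasiCompact f] [QuasiSeparated f] [HasInjectiveResolutions X.Modules] in
theorem toGlobal_fU_self (r : Γ(S, W)) :
    Coh.toGlobal (A := Γ(S, W)) (fU f hW (le_refl (f ⁻¹ᵁ W))) r = θ f W r := by
  rw [toGlobal_fU]
  unfold θ
  rw [RingHom.comp_apply, Scheme.Hom.appLE_eq_app]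

/-- `ε_W` as a `Γ(S, W)`-linear equivalence (chart over the affine open `W` of the base) -/
noncomputable def epsEquiv₁ :
    letI := modHH (fU f hW (le_refl (f ⁻¹ᵁ W))) (F.restrict (f ⁻¹ᵁ W).ι) p
    Coh.HHon X F (f ⁻¹ᵁ W) p ≃ₗ[Γ(S, W)] Γ((Coh.Rpush f p).obj F, W) :=
  letI := modHH (fU f hW (le_refl (f ⁻¹ᵁ W))) (F.restrict (f ⁻¹ᵁ W).ι) p
  { AddEquiv.ofBijective (E.ε W F p) (eps_bijective_of_isAffineOpen f E F hW p) with
    map_smul' := fun r x => by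
      show E.ε W F p (Coh.toGlobal (A := Γ(S, W)) (fU f hW (le_refl (f ⁻¹ᵁ W))) r • x) =
        r • E.ε W F p x
      rw [toGlobal_fU_self, eps_smul] }

theorem epsEquiv₁_apply (x : Coh.HHon X F (f ⁻¹ᵁ W) p) :
    epsEquiv₁ f E F hW p x = E.ε W F p x := rfl

end eps

section Main

variable {X S X' S' : Scheme.{u}} (f : X ⟶ S) [IsSeparated f] [QuasiCompact f]
    (g : S' ⟶ S) (gX : X' ⟶ X) (f' : X' ⟶ S') (hX : IsPullback gX f' f g)
    [HasInjectiveResolutions X.Modules] [HasInjectiveResolutions X'.Modules]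
    (F : X.Modules) [Coh.IsQCoh F]
    {Δ : RDer.DerivedLES (pushforward f)} {Δ' : RDer.DerivedLES (pushforward f')}
    (E : CohCmp.SectCmp f Δ) (E' : CohCmp.SectCmp f' Δ')
    (B : CohCmp.GenBC f g f' gX hX.w E E') (n : ℕ)
    {W : S.Opens} (hW : IsAffineOpen W)
    {W' : S'.Opens} (hW' : IsAffineOpen W') (hW'W : W' ≤ g ⁻¹ᵁ W)

omit [IsSeparated f] [QuasiCompact f] [HasInjectiveResolutions X.Modules]
  [HasInjectiveResolutions X'.Modules] in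
include hX hW'W in
theorem chart_le : f' ⁻¹ᵁ W' ≤ gX ⁻¹ᵁ (f ⁻¹ᵁ W) :=
  (f'.preimage_mono hW'W).trans (sqLE f g f' gX hX.w W)

omit [IsSeparated f] [QuasiCompact f] [HasInjectiveResolutions X.Modules]
  [HasInjectiveResolutions X'.Modules] in
include hX in
/-- the chart square is cartesian -/
theorem isPullback_chart₁ :
    IsPullback (gX.resLE (f ⁻¹ᵁ W) (f' ⁻¹ᵁ W') (chart_le f g gX f' hX hW'W))
      (fU f' hW' (le_refl (f' ⁻¹ᵁ W'))) (fU f hW (le_refl (f ⁻¹ᵁ W)))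
      (Spec.map (g.appLE W W' hW'W)) := by
  have hU' : f' ⁻¹ᵁ W' = gX ⁻¹ᵁ (f ⁻¹ᵁ W) ⊓ f' ⁻¹ᵁ W' :=
    (inf_eq_right.mpr (chart_le f g gX f' hX hW'W)).symm
  exact Groth.Agent.Lib.helper8.GenBCChart.isPullback_chart hX hW hW' hW'W (le_refl _) hU'

/-- **the chart square**: under the comparison isomorphisms, the base change map on sections over
`W' ≤ g⁻¹W` is the pullback of cohomology classes along the restricted morphism. -/
theorem chart_square :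
    letI := modHH (fU f hW (le_refl (f ⁻¹ᵁ W))) (F.restrict (f ⁻¹ᵁ W).ι) n
    letI := modHH (fU f' hW' (le_refl (f' ⁻¹ᵁ W')))
      ((Scheme.Modules.pullback (gX.resLE (f ⁻¹ᵁ W) (f' ⁻¹ᵁ W')
        (chart_le f g gX f' hX hW'W))).obj (F.restrict (f ⁻¹ᵁ W).ι)) n
    ∃ (eB : Coh.HH (↑(f' ⁻¹ᵁ W') : Scheme.{u})
        ((Scheme.Modules.pullback (gX.resLE (f ⁻¹ᵁ W) (f' ⁻¹ᵁ W')
          (chart_le f g gX f' hX hW'W))).obj (F.restrict (f ⁻¹ᵁ W).ι)) n ≃ₗ[Γ(S', W')]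
        Γ((Coh.Rpush f' n).obj ((Scheme.Modules.pullback gX).obj F), W')),
      ∀ x, ρv g hW'W (B.φ n F) (epsEquiv₁ f E F hW n x) =
        eB (CohPull.pullMod (gX.resLE (f ⁻¹ᵁ W) (f' ⁻¹ᵁ W') (chart_le f g gX f' hX hW'W))
          (F.restrict (f ⁻¹ᵁ W).ι) n x) := by
  haveI : IsSeparated f' := MorphismProperty.of_isPullback (P := @IsSeparated) hX inferInstance
  haveI : QuasiCompact f' := MorphismProperty.of_isPullback (P := @QuasiCompact) hX inferInstance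
  haveI : Coh.IsQCoh ((Scheme.Modules.pullback gX).obj F) :=
    Groth.Agent.Lib.helper16.QCohPullback.isQuasicoherent_pullback gX F
  have h₁ : f' ⁻¹ᵁ (g ⁻¹ᵁ W) ≤ gX ⁻¹ᵁ (f ⁻¹ᵁ W) := sqLE f g f' gX hX.w W
  have h₂ : f' ⁻¹ᵁ W' ≤ f' ⁻¹ᵁ (g ⁻¹ᵁ W) := f'.preimage_mono hW'W
  obtain ⟨e, he⟩ := resLE_pullOn gX (f ⁻¹ᵁ W) h₁ h₂ F n
  letI := modHH (fU f hW (le_refl (f ⁻¹ᵁ W))) (F.restrict (f ⁻¹ᵁ W).ι) n
  letI mB1 := modHH (fU f' hW' (le_refl (f' ⁻¹ᵁ W')))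
    ((Scheme.Modules.pullback (gX.resLE (f ⁻¹ᵁ W) (f' ⁻¹ᵁ W')
      (chart_le f g gX f' hX hW'W))).obj (F.restrict (f ⁻¹ᵁ W).ι)) n
  letI mB2 := modHH (fU f' hW' (le_refl (f' ⁻¹ᵁ W')))
    (((Scheme.Modules.pullback gX).obj F).restrict (f' ⁻¹ᵁ W').ι) n
  let eB : Coh.HH (↑(f' ⁻¹ᵁ W') : Scheme.{u})
      ((Scheme.Modules.pullback (gX.resLE (f ⁻¹ᵁ W) (f' ⁻¹ᵁ W')
        (chart_le f g gX f' hX hW'W))).obj (F.restrict (f ⁻¹ᵁ W).ι)) n ≃ₗ[Γ(S', W')]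
      Coh.HHon X' ((Scheme.Modules.pullback gX).obj F) (f' ⁻¹ᵁ W') n :=
    { e.toAddEquiv with
      map_smul' := fun s y =>
        e.map_smul (Coh.toGlobal (A := Γ(S', W')) (fU f' hW' (le_refl (f' ⁻¹ᵁ W'))) s) y }
  refine ⟨eB.trans (epsEquiv₁ f' E' ((Scheme.Modules.pullback gX).obj F) hW' n), fun x => ?_⟩
  show ρv g hW'W (B.φ n F) (E.ε W F n x) =
    E'.ε W' ((Scheme.Modules.pullback gX).obj F) n (e (CohPull.pullMod
      (gX.resLE (f ⁻¹ᵁ W) (f' ⁻¹ᵁ W') (chart_le f g gX f' hX hW'W))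
      (F.restrict (f ⁻¹ᵁ W).ι) n x))
  rw [ρv_apply, B.compat W F n x,
    eps_res f' E' n ((Scheme.Modules.pullback gX).obj F) hW'W, ← he x]

end Main

end Groth.Agent.Lib.Helper18.NNChart
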