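import Mathlib
import Groth.Prelude.Def_ega3
import Groth.Prelude.Def_DRing2
import Groth.Agent.Lib.Helper11.GCAlg4

/-!
# A quasi-isomorphism from a bounded above flat complex stays one after base change (helper18)

`φ : L ⟶ K` a quasi-isomorphism of complexes of flat `A`-modules (`A` any commutative ring), `L^i = 0`
for `i ≥ N`, and `H^i(K ⊗_A B) = 0` for all `A`-algebras `B` and `i ≥ N`.  Then `φ` stays a
quasi-isomorphism after every tensor-like functor, in particular after `extendScalars ψ`.
(The second half of helper11's `GCAlg.exists_finite_free_quasiIso_univ`, which needs no Noetherian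
hypothesis.)
-/

set_option autoImplicit false
universe u
open CategoryTheory CategoryTheory.Limits TensorProduct

attribute [local instance] HasDerivedCategory.standard

namespace Groth.Agent.Lib.Helper18.UnivQIso

open Groth.Agent.Lib.helper23.TA Groth.Agent.Lib.helper23 Groth.Agent.Lib.helper11.GCAlg

theorem quasiIso_map_of_univ (A : Type u) [CommRing A]
    {L K : CochainComplex (ModuleCat.{u} A) ℤ} (φ : L ⟶ K) (hq : QuasiIso φ)
    (hLflat : ∀ i, Module.Flat A (L.X i))
    (hflat : ∀ i, Module.Flat A (K.X i))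
    (N : ℤ) (hLz : ∀ i : ℤ, N ≤ i → IsZero (L.X i))
    (hN : ∀ (B : Type u) [CommRing B] [Algebra A B] (i : ℤ), N ≤ i →
      IsZero ((CohIII.bcCx (algebraMap A B) K).homology i))
    (B : Type u) [CommRing B] (G : ModuleCat.{u} A ⥤ ModuleCat.{u} B) [G.Additive]
    (hG : TensorLike G) : QuasiIso ((G.mapHomologicalComplex (ComplexShape.up ℤ)).map φ) := by
  have hKuniv : ∀ (N' : Type u) [AddCommGroup N'] [Module A N'] (k : ℤ), N ≤ k + 1 →
      Function.Exact ((K.d k (k + 1)).hom.lTensor N')
        ((K.d (k + 1) (k + 1 + 1)).hom.lTensor N') :=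
    fun N' _ _ k hk => lTensor_exact_of_bc N' K k (fun B _ _ => hN B (k + 1) hk)
  have hLflat' : DRing.TermwiseFlat L := hLflat
  have hCflat := termwiseFlat_mappingCone φ hLflat' hflat
  have hQ : IsIso (DerivedCategory.Q.map φ) := (DerivedCategory.isIso_Q_map_iff_quasiIso _ φ).2 hq
  have hCex : ∀ i, (CochainComplex.mappingCone φ).ExactAt i :=
    fun i => PCohLib.exactAt_mappingCone φ hQ i
  have hCuniv : ∀ (N' : Type u) [AddCommGroup N'] [Module A N'] (i : ℤ), N - 1 ≤ i →
      Function.Exact (((CochainComplex.mappingCone φ).d i (i + 1)).hom.lTensor N')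
        (((CochainComplex.mappingCone φ).d (i + 1) (i + 1 + 1)).hom.lTensor N') :=
    fun N' _ _ i hi => lTensor_exact_cone_of φ N' i (hLz _ (by omega)) (hLz _ (by omega))
      (hLz _ (by omega)) (hKuniv N' i (by omega))
  have hB : ∀ i, ((G.mapHomologicalComplex (ComplexShape.up ℤ)).obj
      (CochainComplex.mappingCone φ)).ExactAt i :=
    map_exactAt_of_eventually G hG _ hCflat hCex (N - 1) hCuniv
  have hI : IsIso (DerivedCategory.Q.map
      ((G.mapHomologicalComplex (ComplexShape.up ℤ)).map φ)) := by
    apply isIso_Q_map_of_exactAt_mappingCone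
    intro i
    have h1 := hB i
    rw [HomologicalComplex.exactAt_iff_isZero_homology] at h1 ⊢
    exact h1.of_iso ((HomologicalComplex.homologyFunctor _ _ i).mapIso
      (CochainComplex.mappingCone.mapHomologicalComplexIso φ G).symm)
  exact (DerivedCategory.isIso_Q_map_iff_quasiIso _ _).1 hI

/-- base change form -/
theorem quasiIso_bcCx_of_univ (A : Type u) [CommRing A]
    {L K : CochainComplex (ModuleCat.{u} A) ℤ} (φ : L ⟶ K) (hq : QuasiIso φ)
    (hLflat : ∀ i, Module.Flat A (L.X i))
    (hflat : ∀ i, Module.Flat A (K.X i))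
    (N : ℤ) (hLz : ∀ i : ℤ, N ≤ i → IsZero (L.X i))
    (hN : ∀ (B : Type u) [CommRing B] [Algebra A B] (i : ℤ), N ≤ i →
      IsZero ((CohIII.bcCx (algebraMap A B) K).homology i))
    (B : Type u) [CommRing B] (ψ : A →+* B) :
    QuasiIso (((ModuleCat.extendScalars.{u, u, u} ψ).mapHomologicalComplex
      (ComplexShape.up ℤ)).map φ) :=
  quasiIso_map_of_univ A φ hq hLflat hflat N hLz hN B _ (tensorLike_extendScalars ψ)

end Groth.Agent.Lib.Helper18.UnivQIso
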