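import Mathlib
import Groth.Agent.Lib.Helper18.NNModel
import Groth.Agent.Lib.Helper18.BCHomCech
import Groth.Agent.Lib.Helper18.UnivQIso
import Groth.Agent.Lib.Helper11.CechBC
import Groth.Agent.Lib.Helper8.PullModComp2
import Groth.Agent.Lib.Helper2.TpGlobal

/-!
# The Grothendieck complex over an arbitrary base ring, with naturality (helper18)

`fX : X ⟶ Spec A` proper and locally of finite presentation (`A` ANY commutative ring), `F` quasi-coherent of finite
presentation and flat over `A`.  Then there is a bounded above complex `L` of finite free `A`-modules which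
computes the cohomology of `F` universally AND naturally:
`e₀ : H^p(L) ≃ H^p(X, F)` (`A`-linear), and for every `A`-algebra `B` and pullback square `X' = X ×_A B`,
`e : H^p(L ⊗_A B) ≃ H^p(X', g'^*F)` (`B`-linear) with `e (ιH x) = pullMod g' F p (e₀ x)`.
-/

set_option autoImplicit false
universe u

open CategoryTheory CategoryTheory.Limits Opposite TopologicalSpace AlgebraicGeometry

namespace Groth.Agent.Lib.Helper18.NNComplex

open Groth.Agent.Lib.Helper18.BCHom Groth.Agent.Lib.helper21.GCCech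
  Groth.Agent.Lib.helper8.PullModComp Groth.Agent.Lib.helper11.CechPush

/-- `L` computes the cohomology of `F` universally and compatibly with the base change maps. -/
def ComputesNat (A : Type u) [CommRing A] {X : Scheme.{u}} (fX : X ⟶ Spec (CommRingCat.of A))
    (F : X.Modules) (L : CochainComplex (ModuleCat.{u} A) ℤ) : Prop :=
  ∀ p : ℕ, ∃ e₀ : L.homology (p : ℤ) ≃+ Coh.HH X F p,
    (∀ (a : A) (x : L.homology (p : ℤ)), e₀ (a • x) = Coh.toGlobal fX a • e₀ x) ∧
    ∀ (B : Type u) [CommRing B] [Algebra A B] (X' : Scheme.{u})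
      (fX' : X' ⟶ Spec (CommRingCat.of B)) (g' : X' ⟶ X)
      (_ : IsPullback g' fX' fX (Spec.map (CommRingCat.ofHom (algebraMap A B)))),
      ∃ e : (CohIII.bcCx (algebraMap A B) L).homology (p : ℤ) ≃+
          Coh.HH X' ((Scheme.Modules.pullback g').obj F) p,
        (∀ (b : B) (x : (CohIII.bcCx (algebraMap A B) L).homology (p : ℤ)),
          e (b • x) = Coh.toGlobal fX' b • e x) ∧
        ∀ x : L.homology (p : ℤ),
          e (ιH (algebraMap A B) L (p : ℤ) x) = CohPull.pullMod g' F p (e₀ x)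

section transport

variable {A : Type u} [CommRing A] {X : Scheme.{u}} (fX : X ⟶ Spec (CommRingCat.of A))

/-- `ComputesNat` is invariant under isomorphisms of the module -/
theorem ComputesNat.of_iso {F F' : X.Modules} (α : F' ≅ F)
    {L : CochainComplex (ModuleCat.{u} A) ℤ} (hL : ComputesNat A fX F' L) :
    ComputesNat A fX F L := by
  intro p
  obtain ⟨e₀, he₀, H⟩ := hL p
  refine ⟨e₀.trans (mapEquiv α p).toAddEquiv, fun a x => ?_, ?_⟩
  · show mapEquiv α p (e₀ (a • x)) = Coh.toGlobal fX a • mapEquiv α p (e₀ x)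
    rw [he₀, map_smul]
  · intro B _ _ X' fX' g' h
    obtain ⟨e, he, hnat⟩ := H B X' fX' g' h
    refine ⟨e.trans (mapEquiv ((Scheme.Modules.pullback g').mapIso α) p).toAddEquiv,
      fun b x => ?_, fun x => ?_⟩
    · show mapEquiv ((Scheme.Modules.pullback g').mapIso α) p (e (b • x)) =
        Coh.toGlobal fX' b • mapEquiv ((Scheme.Modules.pullback g').mapIso α) p (e x)
      rw [he, map_smul]
    · show mapEquiv ((Scheme.Modules.pullback g').mapIso α) p
        (e (ιH (algebraMap A B) L (p : ℤ) x)) =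
        CohPull.pullMod g' F p (mapEquiv α p (e₀ x))
      rw [hnat, pullMod_naturalIso]

end transport

section cech

variable {A : Type u} [CommRing A] {X : Scheme.{u}} (fX : X ⟶ Spec (CommRingCat.of A))
  (M : X.Modules) [M.IsQuasicoherent]
  {ι : Type u} [Finite ι] (U : ι → X.Opens)
  (hU : ∀ (n : ℕ) (a : Fin (n + 1) → ι), IsAffineOpen (∏ᶜ (U ∘ a) : X.Opens))
  (hcov : iSup U = ⊤)

include hU hcov in
/-- a universal quasi-isomorphism to the Čech module complex computes cohomology naturally -/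
theorem computesNat_of_quasiIso {L : CochainComplex (ModuleCat.{u} A) ℤ}
    (φ : L ⟶ cechMod fX M U) (hq : QuasiIso φ)
    (hφ : ∀ (B : Type u) [CommRing B] (ψ : A →+* B),
      QuasiIso (((ModuleCat.extendScalars.{u, u, u} ψ).mapHomologicalComplex
        (ComplexShape.up ℤ)).map φ)) :
    ComputesNat A fX M L := by
  intro p
  haveI : IsIso (HomologicalComplex.homologyMap φ (p : ℤ)) := by
    have := hq.quasiIsoAt (p : ℤ)
    rwa [quasiIsoAt_iff_isIso_homologyMap] at this
  letI := modHH fX M p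
  refine ⟨((asIso (HomologicalComplex.homologyMap φ (p : ℤ))).toLinearEquiv.trans
    (cechModHomology fX M U hU hcov p)).toAddEquiv, fun a x => ?_, ?_⟩
  · exact ((asIso (HomologicalComplex.homologyMap φ (p : ℤ))).toLinearEquiv.trans
      (cechModHomology fX M U hU hcov p)).map_smul a x
  · intro B _ _ X' fX' g' h
    haveI : IsIso (HomologicalComplex.homologyMap
        (((ModuleCat.extendScalars.{u, u, u} (algebraMap A B)).mapHomologicalComplex
          (ComplexShape.up ℤ)).map φ) (p : ℤ)) := by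
      have := (hφ B (algebraMap A B)).quasiIsoAt (p : ℤ)
      rwa [quasiIsoAt_iff_isIso_homologyMap] at this
    letI := modHH fX' ((Scheme.Modules.pullback g').obj M) p
    refine ⟨((asIso (HomologicalComplex.homologyMap
        (((ModuleCat.extendScalars.{u, u, u} (algebraMap A B)).mapHomologicalComplex
          (ComplexShape.up ℤ)).map φ) (p : ℤ))).toLinearEquiv.trans
      (cechModBCHomology fX fX' g' h M U hU hcov p)).toAddEquiv, fun b x => ?_, fun x => ?_⟩
    · exact ((asIso (HomologicalComplex.homologyMap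
        (((ModuleCat.extendScalars.{u, u, u} (algebraMap A B)).mapHomologicalComplex
          (ComplexShape.up ℤ)).map φ) (p : ℤ))).toLinearEquiv.trans
        (cechModBCHomology fX fX' g' h M U hU hcov p)).map_smul b x
    · show cechModBCHomology fX fX' g' h M U hU hcov p
          ((HomologicalComplex.homologyMap
            (((ModuleCat.extendScalars.{u, u, u} (algebraMap A B)).mapHomologicalComplex
              (ComplexShape.up ℤ)).map φ) (p : ℤ)).hom (ιH (algebraMap A B) L (p : ℤ) x)) =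
        CohPull.pullMod g' M p (cechModHomology fX M U hU hcov p
          ((HomologicalComplex.homologyMap φ (p : ℤ)).hom x))
      rw [← ιH_naturality, cechModBCHomology_ιH]

end cech

section main

open Groth.Agent.Lib.helper8.FlatHomBC

lemma finite_free_extendScalars {A B : Type u} [CommRing A] [CommRing B] [Algebra A B]
    (M : ModuleCat.{u} A) [Module.Finite A M] [Module.Free A M] :
    Module.Finite B ((ModuleCat.extendScalars (algebraMap A B)).obj M) ∧
      Module.Free B ((ModuleCat.extendScalars (algebraMap A B)).obj M) :=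
  ⟨Module.Finite.equiv (Groth.Agent.S2380.eM (κ := B) M).symm,
    Module.Free.of_equiv (Groth.Agent.S2380.eM (κ := B) M).symm⟩

/-- **The Grothendieck complex over an arbitrary base ring.** -/
theorem exists_complex (A : Type u) [CommRing A] {X : Scheme.{u}}
    (fX : X ⟶ Spec (CommRingCat.of A)) [IsProper fX] [LocallyOfFinitePresentation fX]
    (F : X.Modules) [F.IsQuasicoherent] (hF : CohB1.IsFP F) (hfl : FlatMod.IsFlatOver fX F) :
    ∃ L : CochainComplex (ModuleCat.{u} A) ℤ,
      (∀ i, Module.Finite A (L.X i) ∧ Module.Free A (L.X i)) ∧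
      (∃ N : ℕ, ∀ i : ℤ, (N : ℤ) ≤ i → IsZero (L.X i)) ∧
      (∀ (B : Type u) [CommRing B] [Algebra A B] (i : ℤ), i < 0 →
        IsZero ((CohIII.bcCx (algebraMap A B) L).homology i)) ∧
      ComputesNat A fX F L := by
  obtain ⟨A₀, _, _, _, X₀, f₀, e, F₀, hprop₀, hpb, hcoh₀, hfl₀, ⟨α⟩⟩ :=
    Groth.Agent.Lib.Helper18.NNModel.exists_noetherian_proper_flat_model A fX F hF hfl
  haveI : IsProper f₀ := hprop₀
  haveI : F₀.IsQuasicoherent := hcoh₀.1
  -- the Čech complex of the Noetherian model
  haveI : CompactSpace X₀ := QuasiCompact.compactSpace_of_compactSpace f₀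
  have hd₀ := affine_inf_of_isSeparated f₀
  obtain ⟨ι, hfin, U₀, hUa₀, hcov₀⟩ := exists_finite_affine_cover X₀
  have hU₀ : ∀ (n : ℕ) (a : Fin (n + 1) → ι), IsAffineOpen (∏ᶜ (U₀ ∘ a) : X₀.Opens) :=
    fun n a => Groth.Agent.Lib.Lead.CechLoc.isAffineOpen_prod U₀
      (isAffineOpen_biInf hd₀ U₀ hUa₀) n a
  have hflat₀ := flat_cechMod f₀ F₀ U₀ hfl₀ hU₀
  have hfin₀ : ∀ i, Module.Finite A₀ ((cechMod f₀ F₀ U₀).homology i) := by
    intro i
    by_cases hi : i < 0
    · haveI : Subsingleton ((cechMod f₀ F₀ U₀).homology i) :=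
        ModuleCat.subsingleton_of_isZero (isZero_cechMod_homology f₀ F₀ U₀ i hi)
      infer_instance
    · obtain ⟨p, rfl⟩ : ∃ n : ℕ, (n : ℤ) = i := ⟨i.toNat, by omega⟩
      letI : X₀.Over (Spec (CommRingCat.of A₀)) := ⟨f₀⟩
      haveI : IsProper (X₀ ↘ Spec (CommRingCat.of A₀)) := hprop₀
      have h0 := Groth.Agent.S0002.result A₀ X₀ F₀ hcoh₀ p
      letI := modHH f₀ F₀ p
      haveI : Module.Finite A₀ (Coh.HH X₀ F₀ p) := h0
      exact Module.Finite.equiv (cechModHomology f₀ F₀ U₀ hU₀ hcov₀ p).symm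
  have hN₀ : ∀ (B : Type u) [CommRing B] [Algebra A₀ B] (i : ℤ), (Nat.card ι : ℤ) ≤ i →
      IsZero ((CohIII.bcCx (algebraMap A₀ B) (cechMod f₀ F₀ U₀)).homology i) :=
    fun B _ _ i hi => isZero_bcCx_cechMod f₀ F₀ U₀ hUa₀ hU₀ hcov₀ B i hi
  obtain ⟨L₀, φ₀, hff₀, hLz₀, -, hu₀, -⟩ :=
    Groth.Agent.Lib.helper11.GCAlg.exists_finite_free_quasiIso_bc_tensor A₀ (cechMod f₀ F₀ U₀)
      hflat₀ hfin₀ (Nat.card ι) hN₀
  -- over `A`
  let F' : X.Modules := (Scheme.Modules.pullback e).obj F₀
  haveI : F'.IsQuasicoherent :=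
    Groth.Agent.Lib.helper16.QCohPullback.isQuasicoherent_pullback e F₀
  have hfl' : FlatMod.IsFlatOver fX F' :=
    (Groth.Agent.Lib.helper17.FlatOver7.isFlatOver_iff_of_iso fX α).mp hfl
  haveI : IsAffineHom e := MorphismProperty.of_isPullback hpb.flip inferInstance
  let U : ι → X.Opens := preU e U₀
  have hUa : ∀ i, IsAffineOpen (U i) := fun i => (hUa₀ i).preimage e
  have hU : ∀ (n : ℕ) (a : Fin (n + 1) → ι), IsAffineOpen (∏ᶜ (U ∘ a) : X.Opens) := by
    intro n a
    rw [← preimage_prod e U₀ a]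
    exact (hU₀ n a).preimage e
  have hcov : iSup U = ⊤ := by
    show (⨆ i, e ⁻¹ᵁ U₀ i) = ⊤
    rw [← Scheme.Hom.preimage_iSup, hcov₀]
    rfl
  let ψ := Groth.Agent.Lib.helper11.CechBC.cechModBCIso f₀ fX e hpb F₀ U₀ hU₀
  let L : CochainComplex (ModuleCat.{u} A) ℤ := CohIII.bcCx (algebraMap A₀ A) L₀
  let φ : L ⟶ cechMod fX F' U :=
    ((ModuleCat.extendScalars.{u, u, u} (algebraMap A₀ A)).mapHomologicalComplex
      (ComplexShape.up ℤ)).map φ₀ ≫ ψ.hom
  have hq : QuasiIso φ := by
    haveI := hu₀ A (algebraMap A₀ A)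
    infer_instance
  have hLff : ∀ i, Module.Finite A (L.X i) ∧ Module.Free A (L.X i) := by
    intro i
    haveI := (hff₀ i).1
    haveI := (hff₀ i).2
    exact finite_free_extendScalars (L₀.X i)
  have hLz : ∀ i : ℤ, (Nat.card ι : ℤ) ≤ i → IsZero (L.X i) := fun i hi =>
    (ModuleCat.extendScalars.{u, u, u} (algebraMap A₀ A)).map_isZero (hLz₀ i hi)
  have hLflat : ∀ i, Module.Flat A (L.X i) := fun i => by
    haveI := (hLff i).1
    haveI := (hLff i).2
    infer_instance
  have hKflat := flat_cechMod fX F' U hfl' hU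
  have hN : ∀ (B : Type u) [CommRing B] [Algebra A B] (i : ℤ), (Nat.card ι : ℤ) ≤ i →
      IsZero ((CohIII.bcCx (algebraMap A B) (cechMod fX F' U)).homology i) :=
    fun B _ _ i hi => isZero_bcCx_cechMod fX F' U hUa hU hcov B i hi
  have hφ : ∀ (B : Type u) [CommRing B] (χ : A →+* B),
      QuasiIso (((ModuleCat.extendScalars.{u, u, u} χ).mapHomologicalComplex
        (ComplexShape.up ℤ)).map φ) :=
    fun B _ χ => Groth.Agent.Lib.Helper18.UnivQIso.quasiIso_bcCx_of_univ A φ hq hLflat hKflat
      (Nat.card ι) hLz hN B χ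
  refine ⟨L, hLff, ⟨Nat.card ι, hLz⟩, ?_, ?_⟩
  · intro B _ _ i hi
    have h1 := (hφ B (algebraMap A B)).quasiIsoAt i
    rw [quasiIsoAt_iff_isIso_homologyMap] at h1
    have h2 : IsZero ((CohIII.bcCx (algebraMap A B) (cechMod fX F' U)).X i) :=
      (ModuleCat.extendScalars.{u, u, u} (algebraMap A B)).map_isZero
        (isZero_cechMod_X fX F' U i hi)
    have h3 : IsZero ((CohIII.bcCx (algebraMap A B) (cechMod fX F' U)).homology i) :=
      ShortComplex.isZero_homology_of_isZero_X₂ _ h2
    exact h3.of_iso (asIso (HomologicalComplex.homologyMap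
      (((ModuleCat.extendScalars.{u, u, u} (algebraMap A B)).mapHomologicalComplex
        (ComplexShape.up ℤ)).map φ) i))
  · exact (computesNat_of_quasiIso fX F' U hU hcov φ hq hφ).of_iso fX α.symm

end main

end Groth.Agent.Lib.Helper18.NNComplex
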