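import Mathlib
import Groth.Agent.Lib.Helper18.NNComplex
import Groth.Agent.Lib.Helper18.NNChart
import Groth.Agent.Lib.Helper21.GCBase
import Groth.Agent.Lib.Helper11.FPExt1
import Groth.Agent.Lib.Helper16.CohFP

/-!
# The master chart theorem for cohomology and base change without Noetherian hypotheses (helper18)

`f : X ⟶ S` proper and locally of finite presentation, `F` quasi-coherent of finite presentation, flat over `S`,
`W ⊆ S` an affine open, `A = Γ(S, W)`.  There is a bounded above complex `L` of finite free `A`-modules and,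
for every `n`, an `A`-linear isomorphism `ΘA : H^n(L) ≃ Γ(W, R^n f_* F)` such that for every cartesian square over
`g : S' ⟶ S`, every pinned base change datum `B` and every affine open `W' ≤ g⁻¹W` of `S'` there is a
`Γ(S', W')`-linear isomorphism `ΘB : H^n(L ⊗_A Γ(S', W')) ≃ Γ(W', R^n f'_* g'^*F)` with
`(B.φ n F restricted to W') ∘ ΘA = ΘB ∘ ιH`.
-/

set_option autoImplicit false
universe u

open CategoryTheory CategoryTheory.Limits Opposite TopologicalSpace AlgebraicGeometry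

namespace Groth.Agent.Lib.Helper18.NNMaster

open Groth.Agent.Lib.Helper18.BCHom Groth.Agent.Lib.Helper18.NNComplex
  Groth.Agent.Lib.Helper18.NNChart Groth.Agent.Lib.helper8.GenBCChart
  Groth.Agent.Lib.helper8.PullbackUnit Groth.Agent.Lib.helper21.GCCech
  Groth.Agent.Lib.helper21.GCBase
open Scheme.Modules CohCmp

section chart

variable {X S : Scheme.{u}} (f : X ⟶ S) {W : S.Opens} (hW : IsAffineOpen W)

lemma fU_eq_fA : fU f hW (le_refl (f ⁻¹ᵁ W)) = fA f hW := by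
  unfold fU fA
  rw [Scheme.Hom.resLE_eq_morphismRestrict]

instance isProper_fU [IsProper f] : IsProper (fU f hW (le_refl (f ⁻¹ᵁ W))) := by
  rw [fU_eq_fA]
  infer_instance

instance lfp_fU [LocallyOfFinitePresentation f] :
    LocallyOfFinitePresentation (fU f hW (le_refl (f ⁻¹ᵁ W))) := by
  rw [fU_eq_fA]
  unfold fA
  haveI : LocallyOfFinitePresentation (f ∣_ W) :=
    MorphismProperty.of_isPullback (isPullback_morphismRestrict f W).flip inferInstance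
  infer_instance

lemma isFP_restrict (F : X.Modules) (hF : CohB1.IsFP F) (U : X.Opens) :
    CohB1.IsFP (F.restrict U.ι) := by
  haveI : F.IsQuasicoherent := inferInstance
  exact Groth.Agent.Lib.helper11.FPExt.isFP_restrict_of_fpOn F U
    (fun V hV _ => Groth.Agent.Lib.helper16.CohFP.fp_sections_of_isFinitePresentation F hF hV)

variable [IsProper f] [LocallyOfFinitePresentation f]
  (F : X.Modules) [F.IsQuasicoherent] (hfp : CohB1.IsFP F) (hfl : FlatMod.IsFlatOver f F)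

include hfp hfl in
/-- the Grothendieck complex over an affine chart of the base -/
theorem exists_chart_complex :
    ∃ L : CochainComplex (ModuleCat.{u} Γ(S, W)) ℤ,
      (∀ i, Module.Finite Γ(S, W) (L.X i) ∧ Module.Free Γ(S, W) (L.X i)) ∧
      (∃ N : ℕ, ∀ i : ℤ, (N : ℤ) ≤ i → IsZero (L.X i)) ∧
      (∀ (B : Type u) [CommRing B] [Algebra Γ(S, W) B] (i : ℤ), i < 0 →
        IsZero ((CohIII.bcCx (algebraMap Γ(S, W) B) L).homology i)) ∧
      ComputesNat Γ(S, W) (fU f hW (le_refl (f ⁻¹ᵁ W))) (F.restrict (f ⁻¹ᵁ W).ι) L := by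
  haveI : (F.restrict (f ⁻¹ᵁ W).ι).IsQuasicoherent :=
    Scheme.Modules.isQuasicoherent_restrictFunctor (f ⁻¹ᵁ W).ι F
  exact exists_complex Γ(S, W) (fU f hW (le_refl (f ⁻¹ᵁ W))) (F.restrict (f ⁻¹ᵁ W).ι)
    (isFP_restrict F hfp _) (isFlatOver_fU f hW (le_refl _) F hfl)

end chart

section master

variable {X S : Scheme.{u}} (f : X ⟶ S) [IsProper f] [LocallyOfFinitePresentation f]
  [HasInjectiveResolutions X.Modules]
  (F : X.Modules) [F.IsQuasicoherent] (hfp : CohB1.IsFP F) (hfl : FlatMod.IsFlatOver f F)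
  {Δ : RDer.DerivedLES (pushforward f)} (E : CohCmp.SectCmp f Δ)
  {W : S.Opens} (hW : IsAffineOpen W)

include hfp hfl in
/-- **the master chart theorem** -/
theorem master :
    ∃ L : CochainComplex (ModuleCat.{u} Γ(S, W)) ℤ,
      (∀ i, Module.Finite Γ(S, W) (L.X i) ∧ Module.Free Γ(S, W) (L.X i)) ∧
      (∃ N : ℕ, ∀ i : ℤ, (N : ℤ) ≤ i → IsZero (L.X i)) ∧
      (∀ (B : Type u) [CommRing B] [Algebra Γ(S, W) B] (i : ℤ), i < 0 →
        IsZero ((CohIII.bcCx (algebraMap Γ(S, W) B) L).homology i)) ∧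
      ComputesNat Γ(S, W) (fU f hW (le_refl (f ⁻¹ᵁ W))) (F.restrict (f ⁻¹ᵁ W).ι) L ∧
      ∀ n : ℕ, ∃ ΘA : L.homology (n : ℤ) ≃ₗ[Γ(S, W)] Γ((Coh.Rpush f n).obj F, W),
        ∀ {X' S' : Scheme.{u}} (g : S' ⟶ S) (gX : X' ⟶ X) (f' : X' ⟶ S')
          (hX : IsPullback gX f' f g) [HasInjectiveResolutions X'.Modules]
          {Δ' : RDer.DerivedLES (pushforward f')} (E' : CohCmp.SectCmp f' Δ')
          (B : CohCmp.GenBC f g f' gX hX.w E E') {W' : S'.Opens} (_ : IsAffineOpen W')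
          (hW'W : W' ≤ g ⁻¹ᵁ W),
          letI : Algebra Γ(S, W) Γ(S', W') := (g.appLE W W' hW'W).hom.toAlgebra
          ∃ ΘB : (CohIII.bcCx (algebraMap Γ(S, W) Γ(S', W')) L).homology (n : ℤ) ≃ₗ[Γ(S', W')]
              Γ((Coh.Rpush f' n).obj ((Scheme.Modules.pullback gX).obj F), W'),
            ∀ x, ρv g hW'W (B.φ n F) (ΘA x) =
              ΘB (ιH (algebraMap Γ(S, W) Γ(S', W')) L (n : ℤ) x) := by
  obtain ⟨L, h1, h2, h3, hL⟩ := exists_chart_complex f hW F hfp hfl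
  refine ⟨L, h1, h2, h3, hL, fun n => ?_⟩
  obtain ⟨e₀, he₀, H⟩ := hL n
  letI mA := modHH (fU f hW (le_refl (f ⁻¹ᵁ W))) (F.restrict (f ⁻¹ᵁ W).ι) n
  let e₀' : L.homology (n : ℤ) ≃ₗ[Γ(S, W)] Coh.HH (↑(f ⁻¹ᵁ W) : Scheme.{u})
      (F.restrict (f ⁻¹ᵁ W).ι) n :=
    { e₀ with map_smul' := fun a x => he₀ a x }
  refine ⟨e₀'.trans (epsEquiv₁ f E F hW n), ?_⟩
  intro X' S' g gX f' hX _ Δ' E' B W' hW' hW'W
  letI : Algebra Γ(S, W) Γ(S', W') := (g.appLE W W' hW'W).hom.toAlgebra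
  obtain ⟨eB, heB⟩ := chart_square f g gX f' hX F E E' B n hW hW' hW'W
  have hpb : IsPullback (gX.resLE (f ⁻¹ᵁ W) (f' ⁻¹ᵁ W') (chart_le f g gX f' hX hW'W))
      (fU f' hW' (le_refl (f' ⁻¹ᵁ W'))) (fU f hW (le_refl (f ⁻¹ᵁ W)))
      (Spec.map (CommRingCat.ofHom (algebraMap Γ(S, W) Γ(S', W')))) :=
    isPullback_chart₁ f g gX f' hX hW hW' hW'W
  obtain ⟨e, he, hnat⟩ := H Γ(S', W') (↑(f' ⁻¹ᵁ W') : Scheme.{u})
    (fU f' hW' (le_refl (f' ⁻¹ᵁ W')))
    (gX.resLE (f ⁻¹ᵁ W) (f' ⁻¹ᵁ W') (chart_le f g gX f' hX hW'W)) hpb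
  letI mB := modHH (fU f' hW' (le_refl (f' ⁻¹ᵁ W')))
    ((Scheme.Modules.pullback (gX.resLE (f ⁻¹ᵁ W) (f' ⁻¹ᵁ W')
      (chart_le f g gX f' hX hW'W))).obj (F.restrict (f ⁻¹ᵁ W).ι)) n
  let e' : (CohIII.bcCx (algebraMap Γ(S, W) Γ(S', W')) L).homology (n : ℤ) ≃ₗ[Γ(S', W')]
      Coh.HH (↑(f' ⁻¹ᵁ W') : Scheme.{u})
        ((Scheme.Modules.pullback (gX.resLE (f ⁻¹ᵁ W) (f' ⁻¹ᵁ W')
          (chart_le f g gX f' hX hW'W))).obj (F.restrict (f ⁻¹ᵁ W).ι)) n :=
    { e with map_smul' := fun b x => he b x }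
  refine ⟨e'.trans eB, fun x => ?_⟩
  show ρv g hW'W (B.φ n F) (epsEquiv₁ f E F hW n (e₀ x)) =
    eB (e (ιH (algebraMap Γ(S, W) Γ(S', W')) L (n : ℤ) x))
  rw [heB, hnat]

end master

end Groth.Agent.Lib.Helper18.NNMaster
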