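import Mathlib
import Groth.Agent.Lib.Helper18.BCHomConc
import Groth.Agent.Lib.Helper8.PullbackUnit

/-!
# Split differentials and base change of homology (helper18)

`S` a short complex of `A`-modules (`A` any commutative ring).
* `GSplit S a`: there is `t : X₃ ⟶ X₂` with `g ≫ t ≫ g = a • g`;  `FSplit S a`: `t : X₂ ⟶ X₁`, `f ≫ t ≫ f = a • f`.
* `isBC_ιS_of_gsplit`: if `GSplit S a` and `a` is a unit in `B`, then `ιS : H(S) → H(S ⊗ B)` is a base change.
* `projective_homology_of_splits`: `f ≫ t₁ ≫ f = f`, `g ≫ t₂ ≫ g = g`, `X₂` finite projective ⇒ `H(S)` finite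
  projective.
* `fsplit_of_projective_homology`: `GSplit S a`, `H(S)` projective, `X₂` projective ⇒ `FSplit S a`.
-/

set_option autoImplicit false
universe u

open CategoryTheory CategoryTheory.Limits ChangeOfRings

namespace Groth.Agent.Lib.Helper18.SplitAlg

open Groth.Agent.Lib.Helper18.BCHom Groth.Agent.Lib.helper8.PullbackUnit

section ext

variable {A B : Type u} [CommRing A] [CommRing B] (φ : A →+* B) (M : ModuleCat.{u} A)

/-- the extension of scalars is spanned by the `1 ⊗ m` -/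
lemma span_unitAdd :
    Submodule.span B (Set.range (unitAdd φ M)) = ⊤ := by
  rw [eq_top_iff]
  intro w _
  have key : ∀ w : TensorProduct A ((ModuleCat.restrictScalars φ).obj (ModuleCat.of B B)) M,
      (show ((ModuleCat.extendScalars φ).obj M : Type u) from w) ∈
        Submodule.span B (Set.range (unitAdd φ M)) := by
    intro w
    refine TensorProduct.induction_on w (Submodule.zero_mem _) ?_ ?_
    · intro (b : B) m
      have h0 := ModuleCat.ExtendScalars.smul_tmul φ b (1 : B) m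
      rw [mul_one] at h0
      have h2 : b • unitAdd φ M m ∈ Submodule.span B (Set.range (unitAdd φ M)) :=
        Submodule.smul_mem _ _ (Submodule.subset_span ⟨m, rfl⟩)
      exact h0 ▸ h2
    · intro x y hx hy
      exact Submodule.add_mem _ hx hy
  exact key w

/-- `B`-linear maps out of the extension of scalars are determined on the `1 ⊗ m` -/
lemma ext_unitAdd {T : Type u} [AddCommGroup T] [Module B T]
    {h₁ h₂ : ((ModuleCat.extendScalars φ).obj M : Type u) →ₗ[B] T}
    (h : ∀ m, h₁ (unitAdd φ M m) = h₂ (unitAdd φ M m)) : h₁ = h₂ := by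
  apply LinearMap.ext_on_range (span_unitAdd φ M)
  exact h

/-- the `B`-linear extension of a `φ`-semilinear map -/
noncomputable def liftSemi {T : Type u} [AddCommGroup T] [Module B T] (h : M →+ T)
    (hh : ∀ (a : A) (m : M), h (a • m) = φ a • h m) :
    ((ModuleCat.extendScalars φ).obj M : Type u) →ₗ[B] T :=
  (((ModuleCat.extendRestrictScalarsAdj φ).homEquiv M (ModuleCat.of B T)).symm
    (ModuleCat.ofHom (Y := (ModuleCat.restrictScalars φ).obj (ModuleCat.of B T))
      { toFun := h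
        map_add' := h.map_add
        map_smul' := fun a m => hh a m })).hom

lemma liftSemi_unit {T : Type u} [AddCommGroup T] [Module B T] (h : M →+ T)
    (hh : ∀ (a : A) (m : M), h (a • m) = φ a • h m) (m : M) :
    liftSemi φ M h hh (unitAdd φ M m) = h m := by
  have h1 := ((ModuleCat.extendRestrictScalarsAdj φ).homEquiv M (ModuleCat.of B T)).apply_symm_apply
    (ModuleCat.ofHom (Y := (ModuleCat.restrictScalars φ).obj (ModuleCat.of B T))
      { toFun := h
        map_add' := h.map_add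
        map_smul' := fun a m => hh a m })
  exact congrArg (fun t => t.hom m) h1

end ext

section defs

variable {A : Type u} [CommRing A] (S : ShortComplex (ModuleCat.{u} A))

/-- `g ≫ t ≫ g = a • g` for some `t` -/
def GSplit (a : A) : Prop := ∃ t : S.X₃ ⟶ S.X₂, S.g ≫ t ≫ S.g = a • S.g

/-- `f ≫ t ≫ f = a • f` for some `t` -/
def FSplit (a : A) : Prop := ∃ t : S.X₂ ⟶ S.X₁, S.f ≫ t ≫ S.f = a • S.f

end defs

section R1

variable {A B : Type u} [CommRing A] [CommRing B] (φ : A →+* B)
  (S : ShortComplex (ModuleCat.{u} A))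

lemma unitCyc_smul (a : A) (z : LinearMap.ker S.g.hom) :
    unitCyc φ S (a • z) = φ a • unitCyc φ S z := by
  apply Subtype.ext
  exact unitAdd_smul φ S.X₂ a z.1

lemma unitCyc_add (z w : LinearMap.ker S.g.hom) :
    unitCyc φ S (z + w) = unitCyc φ S z + unitCyc φ S w := by
  apply Subtype.ext
  exact (unitAdd φ S.X₂).map_add z.1 w.1

/-- `ιS` is semilinear -/
theorem ιS_smul (a : A) (x : S.homology) : ιS φ S (a • x) = φ a • ιS φ S x := by
  obtain ⟨z, rfl⟩ := cls_surjective S x
  rw [← map_smul, ιS_cls, ιS_cls, unitCyc_smul, map_smul]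

/-- **a `g`-splitting up to a unit of `B` makes `ιS` a base change** -/
theorem isBC_ιS_of_gsplit (a : A) (hs : GSplit S a) (ha : IsUnit (φ a)) :
    IsBC φ (ιS φ S) := by
  obtain ⟨t, ht⟩ := hs
  obtain ⟨u, hu⟩ := ha.exists_left_inv
  have htg : ∀ m : S.X₂, S.g.hom (t.hom (S.g.hom m)) = a • S.g.hom m := fun m =>
    congrArg (fun ψ => ψ.hom m) ht
  -- the map `r = a - t g : X₂ → ker g`
  let r : S.X₂ →ₗ[A] LinearMap.ker S.g.hom :=
    LinearMap.codRestrict _ (a • LinearMap.id - t.hom ∘ₗ S.g.hom) (fun m => by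
      rw [LinearMap.mem_ker]
      show S.g.hom (a • m - t.hom (S.g.hom m)) = 0
      rw [map_sub, map_smul, htg, sub_self])
  have hr : ∀ m : S.X₂, (r m).1 = a • m - t.hom (S.g.hom m) := fun m => rfl
  have hrz : ∀ z : LinearMap.ker S.g.hom, r z.1 = a • z := by
    intro z
    apply Subtype.ext
    rw [hr, LinearMap.mem_ker.1 z.2, map_zero, sub_zero]
    rfl
  have hrf : ∀ x : S.X₁, cls S (r (S.f.hom x)) = 0 := by
    intro x
    rw [cls_eq_zero_iff]
    refine ⟨a • x, ?_⟩
    rw [hr, map_smul]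
    have : S.g.hom (S.f.hom x) = 0 := S.moduleCat_zero_apply x
    rw [this, map_zero, sub_zero]
  let SB := S.map (ModuleCat.extendScalars φ)
  have hsurj : Function.Surjective (cls SB) := cls_surjective SB
  -- `R_B : X₂ ⊗ B → ker g_B`, a retraction
  let RB : ((ModuleCat.extendScalars φ).obj S.X₂ : Type u) →ₗ[B] LinearMap.ker SB.g.hom :=
    liftSemi φ S.X₂
      { toFun := fun m => u • unitCyc φ S (r m)
        map_zero' := by rw [map_zero, ← zero_smul A (0 : LinearMap.ker S.g.hom), unitCyc_smul,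
          map_zero, zero_smul, smul_zero]
        map_add' := fun m m' => by rw [map_add, unitCyc_add, smul_add] }
      (fun a' m => by
        show u • unitCyc φ S (r (a' • m)) = φ a' • (u • unitCyc φ S (r m))
        rw [map_smul, unitCyc_smul, smul_comm])
  have hRB : ∀ m : S.X₂, RB (unitAdd φ S.X₂ m) = u • unitCyc φ S (r m) := fun m =>
    liftSemi_unit φ S.X₂ _ _ m
  have hRBid : ∀ w : LinearMap.ker SB.g.hom, RB w.1 = w := by
    have h1 : (LinearMap.ker SB.g.hom).subtype ∘ₗ RB =
        u • (φ a • LinearMap.id -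
          ((ModuleCat.extendScalars φ).map t).hom ∘ₗ ((ModuleCat.extendScalars φ).map S.g).hom) := by
      apply ext_unitAdd
      intro m
      show (RB (unitAdd φ S.X₂ m)).1 = u • (φ a • unitAdd φ S.X₂ m -
        ((ModuleCat.extendScalars φ).map t).hom
          (((ModuleCat.extendScalars φ).map S.g).hom (unitAdd φ S.X₂ m)))
      rw [hRB, unitAdd_naturality, unitAdd_naturality, ← unitAdd_smul, ← map_sub]
      rfl
    intro w
    apply Subtype.ext
    obtain ⟨w', hw'⟩ : ∃ w' : ((ModuleCat.extendScalars φ).obj S.X₂ : Type u), w' = w.1 :=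
      ⟨_, rfl⟩
    have h2 := congrArg (fun ψ => ψ w') h1
    have h3 : ((ModuleCat.extendScalars φ).map S.g).hom w' = 0 := by
      rw [hw']
      exact LinearMap.mem_ker.1 w.2
    have h4 : (RB w').1 = u • (φ a • w' - ((ModuleCat.extendScalars φ).map t).hom
      (((ModuleCat.extendScalars φ).map S.g).hom w')) := h2
    rw [h3, map_zero, sub_zero, smul_smul, hu, one_smul, hw'] at h4
    exact h4
  have hcRB : ∀ m : S.X₂, cls SB (RB (unitAdd φ S.X₂ m)) = u • ιS φ S (cls S (r m)) := by
    intro m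
    rw [hRB, map_smul, ιS_cls]
  constructor
  · exact ιS_smul φ S
  · intro T _ _ h hh
    -- existence
    let k : S.X₂ →+ T :=
      { toFun := fun m => u • h (cls S (r m))
        map_zero' := by rw [map_zero, map_zero, map_zero, smul_zero]
        map_add' := fun m m' => by rw [map_add, map_add, map_add, smul_add] }
    have hk : ∀ (a' : A) (m : S.X₂), k (a' • m) = φ a' • k m := by
      intro a' m
      show u • h (cls S (r (a' • m))) = φ a' • (u • h (cls S (r m)))
      rw [map_smul, map_smul, hh, smul_comm]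
    let k' := liftSemi φ S.X₂ k hk
    have hk' : ∀ m, k' (unitAdd φ S.X₂ m) = k m := liftSemi_unit φ S.X₂ k hk
    have hk'f : k' ∘ₗ ((ModuleCat.extendScalars φ).map S.f).hom = 0 := by
      apply ext_unitAdd
      intro x
      show k' (((ModuleCat.extendScalars φ).map S.f).hom (unitAdd φ S.X₁ x)) = 0
      rw [unitAdd_naturality, hk']
      show u • h (cls S (r (S.f.hom x))) = 0
      rw [hrf, map_zero, smul_zero]
    let K : LinearMap.ker SB.g.hom →ₗ[B] T := k' ∘ₗ (LinearMap.ker SB.g.hom).subtype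
    have hker : LinearMap.ker (cls SB) ≤ LinearMap.ker K := by
      intro w hw
      rw [LinearMap.mem_ker, cls_eq_zero_iff] at hw
      obtain ⟨x, hx⟩ := hw
      rw [LinearMap.mem_ker]
      show k' w.1 = 0
      rw [← hx]
      exact congrArg (fun ψ => ψ x) hk'f
    let h' : SB.homology →ₗ[B] T :=
      ((LinearMap.ker (cls SB)).liftQ K hker) ∘ₗ
        ((cls SB).quotKerEquivOfSurjective hsurj).symm.toLinearMap
    have hh' : ∀ w, h' (cls SB w) = K w := by
      intro w
      show ((LinearMap.ker (cls SB)).liftQ K hker)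
        (((cls SB).quotKerEquivOfSurjective hsurj).symm (cls SB w)) = K w
      have : ((cls SB).quotKerEquivOfSurjective hsurj).symm (cls SB w) =
          Submodule.Quotient.mk w := by
        rw [LinearEquiv.symm_apply_eq]
        rfl
      rw [this]
      rfl
    have hspec : ∀ x, h' (ιS φ S x) = h x := by
      intro x
      obtain ⟨z, rfl⟩ := cls_surjective S x
      rw [ιS_cls, hh']
      show k' (unitAdd φ S.X₂ z.1) = h (cls S z)
      rw [hk']
      show u • h (cls S (r z.1)) = h (cls S z)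
      rw [hrz, map_smul, hh, smul_smul, hu, one_smul]
    refine ⟨h', hspec, ?_⟩
    intro h'' hspec''
    have e1 : (h'' ∘ₗ cls SB) ∘ₗ RB = (h' ∘ₗ cls SB) ∘ₗ RB := by
      apply ext_unitAdd
      intro m
      show h'' (cls SB (RB (unitAdd φ S.X₂ m))) = h' (cls SB (RB (unitAdd φ S.X₂ m)))
      rw [hcRB, map_smul, map_smul, hspec'', hspec]
    apply LinearMap.ext
    intro y
    obtain ⟨w, rfl⟩ := hsurj y
    have e2 := congrArg (fun ψ => ψ w.1) e1
    have e3 : h'' (cls SB (RB w.1)) = h' (cls SB (RB w.1)) := e2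
    rw [hRBid] at e3
    exact e3

end R1

section span

variable {R R' : Type u} [CommRing R] [CommRing R'] {φ : R →+* R'} {N P : Type u}
    [AddCommGroup N] [Module R N] [AddCommGroup P] [Module R' P] {k : N →+ P}

/-- the image of a base change map spans the target -/
theorem span_range_of_isBC (hk : IsBC φ k) : Submodule.span R' (Set.range k) = ⊤ := by
  obtain ⟨h', -, hu⟩ := hk.existsUnique_lift (P ⧸ Submodule.span R' (Set.range k)) 0 (by
    intro r n
    simp)
  have h1 : (Submodule.span R' (Set.range k)).mkQ = h' := hu _ (by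
    intro n
    show (Submodule.span R' (Set.range k)).mkQ (k n) = 0
    rw [Submodule.mkQ_apply, Submodule.Quotient.mk_eq_zero]
    exact Submodule.subset_span ⟨n, rfl⟩)
  have h2 : (0 : P →ₗ[R'] P ⧸ Submodule.span R' (Set.range k)) = h' := hu _ (by
    intro n
    rfl)
  rw [eq_top_iff]
  intro x _
  have h3 : (Submodule.span R' (Set.range k)).mkQ x = 0 := by
    rw [h1, ← h2]
    rfl
  rwa [Submodule.mkQ_apply, Submodule.Quotient.mk_eq_zero] at h3

end span

section R4

variable {R : Type u} [CommRing R] (S : ShortComplex (ModuleCat.{u} R))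

/-- **two strict splittings make the homology a direct summand of `X₂`** -/
theorem projective_homology_of_splits (t₁ : S.X₂ ⟶ S.X₁) (t₂ : S.X₃ ⟶ S.X₂)
    (h₁ : S.f ≫ t₁ ≫ S.f = S.f) (h₂ : S.g ≫ t₂ ≫ S.g = S.g)
    [Module.Finite R S.X₂] [Module.Projective R S.X₂] :
    Module.Finite R S.homology ∧ Module.Projective R S.homology := by
  have hf : ∀ x : S.X₁, S.f.hom (t₁.hom (S.f.hom x)) = S.f.hom x := fun x =>
    congrArg (fun ψ => ψ.hom x) h₁
  have hg : ∀ m : S.X₂, S.g.hom (t₂.hom (S.g.hom m)) = S.g.hom m := fun m =>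
    congrArg (fun ψ => ψ.hom m) h₂
  have hgf : ∀ x : S.X₁, S.g.hom (S.f.hom x) = 0 := S.moduleCat_zero_apply
  let p₂ : S.X₂ →ₗ[R] LinearMap.ker S.g.hom :=
    LinearMap.codRestrict _ (LinearMap.id - t₂.hom ∘ₗ S.g.hom) (fun m => by
      rw [LinearMap.mem_ker]
      show S.g.hom (m - t₂.hom (S.g.hom m)) = 0
      rw [map_sub, hg, sub_self])
  have hp₂ : ∀ m : S.X₂, (p₂ m).1 = m - t₂.hom (S.g.hom m) := fun m => rfl
  let π : S.X₂ →ₗ[R] S.homology := cls S ∘ₗ p₂
  let ι₀ : LinearMap.ker S.g.hom →ₗ[R] S.X₂ :=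
    (LinearMap.id - S.f.hom ∘ₗ t₁.hom) ∘ₗ (LinearMap.ker S.g.hom).subtype
  have hι₀ : ∀ z : LinearMap.ker S.g.hom, ι₀ z = z.1 - S.f.hom (t₁.hom z.1) := fun z => rfl
  have hker : LinearMap.ker (cls S) ≤ LinearMap.ker ι₀ := by
    intro z hz
    rw [LinearMap.mem_ker, cls_eq_zero_iff] at hz
    obtain ⟨x, hx⟩ := hz
    rw [LinearMap.mem_ker, hι₀, ← hx, hf, sub_self]
  have hsurj := cls_surjective S
  let i : S.homology →ₗ[R] S.X₂ :=
    ((LinearMap.ker (cls S)).liftQ ι₀ hker) ∘ₗ
      ((cls S).quotKerEquivOfSurjective hsurj).symm.toLinearMap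
  have hi : ∀ z, i (cls S z) = ι₀ z := by
    intro z
    show ((LinearMap.ker (cls S)).liftQ ι₀ hker)
      (((cls S).quotKerEquivOfSurjective hsurj).symm (cls S z)) = ι₀ z
    have : ((cls S).quotKerEquivOfSurjective hsurj).symm (cls S z) =
        Submodule.Quotient.mk z := by
      rw [LinearEquiv.symm_apply_eq]
      rfl
    rw [this]
    rfl
  have hπi : ∀ x, π (i x) = x := by
    intro x
    obtain ⟨z, rfl⟩ := hsurj x
    rw [hi]
    show cls S (p₂ (ι₀ z)) = cls S z
    rw [cls_eq_iff]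
    refine ⟨- t₁.hom z.1, ?_⟩
    rw [hp₂, hι₀, map_neg, map_sub, LinearMap.mem_ker.1 z.2, hgf, sub_zero, map_zero, sub_zero]
    abel
  have hπsurj : Function.Surjective π := fun x => ⟨i x, hπi x⟩
  exact ⟨Module.Finite.of_surjective π hπsurj, Module.Projective.of_split i π (by
    ext x
    exact hπi x)⟩

/-- **a `g`-splitting and projective homology give an `f`-splitting** -/
theorem fsplit_of_projective_homology (a : R) (hs : GSplit S a)
    [Module.Projective R S.homology] [Module.Projective R S.X₂] : FSplit S a := by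
  obtain ⟨t, ht⟩ := hs
  have htg : ∀ m : S.X₂, S.g.hom (t.hom (S.g.hom m)) = a • S.g.hom m := fun m =>
    congrArg (fun ψ => ψ.hom m) ht
  have hgf : ∀ x : S.X₁, S.g.hom (S.f.hom x) = 0 := S.moduleCat_zero_apply
  let r : S.X₂ →ₗ[R] LinearMap.ker S.g.hom :=
    LinearMap.codRestrict _ (a • LinearMap.id - t.hom ∘ₗ S.g.hom) (fun m => by
      rw [LinearMap.mem_ker]
      show S.g.hom (a • m - t.hom (S.g.hom m)) = 0
      rw [map_sub, map_smul, htg, sub_self])
  have hr : ∀ m : S.X₂, (r m).1 = a • m - t.hom (S.g.hom m) := fun m => rfl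
  obtain ⟨σ, hσ⟩ := Module.projective_lifting_property (cls S) LinearMap.id (cls_surjective S)
  have hσ' : ∀ x, cls S (σ x) = x := fun x => congrArg (fun ψ => ψ x) hσ
  let e₀ : LinearMap.ker S.g.hom →ₗ[R] LinearMap.ker S.g.hom := LinearMap.id - σ ∘ₗ cls S
  have he₀ : ∀ z, cls S (e₀ z) = 0 := by
    intro z
    show cls S (z - σ (cls S z)) = 0
    rw [map_sub, hσ', sub_self]
  let e : S.X₂ →ₗ[R] S.X₂ := (LinearMap.ker S.g.hom).subtype ∘ₗ e₀ ∘ₗ r
  have herange : ∀ m, e m ∈ LinearMap.range S.f.hom := by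
    intro m
    obtain ⟨x, hx⟩ := (cls_eq_zero_iff S _).1 (he₀ (r m))
    exact ⟨x, hx⟩
  obtain ⟨t₁, ht₁⟩ := Module.projective_lifting_property S.f.hom.rangeRestrict
    (e.codRestrict (LinearMap.range S.f.hom) herange) S.f.hom.surjective_rangeRestrict
  have ht₁' : ∀ m, S.f.hom (t₁ m) = e m := fun m =>
    congrArg Subtype.val (congrArg (fun ψ => ψ m) ht₁)
  refine ⟨ModuleCat.ofHom t₁, ?_⟩
  ext x
  show S.f.hom (t₁ (S.f.hom x)) = a • S.f.hom x
  rw [ht₁']
  show (e₀ (r (S.f.hom x))).1 = a • S.f.hom x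
  have h1 : r (S.f.hom x) = a • (⟨S.f.hom x, LinearMap.mem_ker.2 (hgf x)⟩ :
      LinearMap.ker S.g.hom) := by
    apply Subtype.ext
    rw [hr]
    have h0 : t.hom (S.g.hom (S.f.hom x)) = 0 := by rw [hgf, map_zero]
    rw [h0, sub_zero]
    rfl
  have h2 : cls S (⟨S.f.hom x, LinearMap.mem_ker.2 (hgf x)⟩ : LinearMap.ker S.g.hom) = 0 :=
    (cls_eq_zero_iff S _).2 ⟨x, rfl⟩
  rw [h1, map_smul]
  show a • ((⟨S.f.hom x, LinearMap.mem_ker.2 (hgf x)⟩ : LinearMap.ker S.g.hom) -
    σ (cls S ⟨S.f.hom x, LinearMap.mem_ker.2 (hgf x)⟩)).1 = _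
  rw [h2, map_zero, sub_zero]

/-- a `g`-splitting and `a • ker g ≤ range f` give an `f`-splitting -/
theorem fsplit_of_smul_ker_le (a a' : R) (hs : GSplit S a)
    (hz : ∀ z ∈ LinearMap.ker S.g.hom, a' • z ∈ LinearMap.range S.f.hom)
    [Module.Projective R S.X₂] : FSplit S (a' * a) := by
  obtain ⟨t, ht⟩ := hs
  have htg : ∀ m : S.X₂, S.g.hom (t.hom (S.g.hom m)) = a • S.g.hom m := fun m =>
    congrArg (fun ψ => ψ.hom m) ht
  have hgf : ∀ x : S.X₁, S.g.hom (S.f.hom x) = 0 := S.moduleCat_zero_apply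
  let r : S.X₂ →ₗ[R] S.X₂ := a • LinearMap.id - t.hom ∘ₗ S.g.hom
  have hr : ∀ m : S.X₂, r m = a • m - t.hom (S.g.hom m) := fun m => rfl
  have hrker : ∀ m, r m ∈ LinearMap.ker S.g.hom := by
    intro m
    rw [LinearMap.mem_ker, hr, map_sub, map_smul, htg, sub_self]
  let e : S.X₂ →ₗ[R] S.X₂ := a' • r
  have herange : ∀ m, e m ∈ LinearMap.range S.f.hom := fun m => hz _ (hrker m)
  obtain ⟨t₁, ht₁⟩ := Module.projective_lifting_property S.f.hom.rangeRestrict
    (e.codRestrict (LinearMap.range S.f.hom) herange) S.f.hom.surjective_rangeRestrict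
  have ht₁' : ∀ m, S.f.hom (t₁ m) = e m := fun m =>
    congrArg Subtype.val (congrArg (fun ψ => ψ m) ht₁)
  refine ⟨ModuleCat.ofHom t₁, ?_⟩
  ext x
  show S.f.hom (t₁ (S.f.hom x)) = (a' * a) • S.f.hom x
  rw [ht₁']
  show a' • r (S.f.hom x) = _
  rw [hr, hgf, map_zero, sub_zero, smul_smul]

end R4

end Groth.Agent.Lib.Helper18.SplitAlg
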