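import Mathlib
import Groth.Agent.Lib.Helper18.SplitAlg
import Groth.Agent.Lib.Lead.AdjSplit
import Groth.Agent.Lib.Helper2.TpBC

/-!
# Split differentials from fibre conditions (helper18)

`S` a short complex of finite free `A`-modules, `κ` a field over `A`.
* `exists_gsplit_of_span`: if the image of `ιS : H(S) → H(S ⊗ κ)` spans, then `GSplit S a` for some `a`
  with nonzero image in `κ`.
* `exists_splits_of_subsingleton`: if `H(S ⊗ κ) = 0` then there is `a` (nonzero in `κ`) with `GSplit S a`,
  `FSplit S a`, and `H(S ⊗ B) = 0` for all `B` in which `a` becomes a unit.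
* `projective_homology_bc`: `FSplit S a`, `GSplit S a'`, units in `B` ⇒ `H(S ⊗ B)` finite projective.
-/

set_option autoImplicit false
universe u

open CategoryTheory CategoryTheory.Limits ChangeOfRings TensorProduct

namespace Groth.Agent.Lib.Helper18.SplitAlg

open Groth.Agent.Lib.Helper18.BCHom Groth.Agent.Lib.helper8.PullbackUnit
open Groth.Agent.S2380 Groth.Agent.Lib.helper2.TpLib

section spanlemma

variable {A B : Type u} [CommRing A] [CommRing B] (φ : A →+* B)
  (S : ShortComplex (ModuleCat.{u} A))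

/-- if the image of `ιS` spans, every cycle of `S ⊗ B` is a combination of the `1 ⊗ z`, `z` a cycle -/
theorem mem_span_unitAdd_ker (h : Submodule.span B (Set.range (ιS φ S)) = ⊤)
    (w : LinearMap.ker (S.map (ModuleCat.extendScalars φ)).g.hom) :
    (w.1 : ((ModuleCat.extendScalars φ).obj S.X₂ : Type u)) ∈
      Submodule.span B ((unitAdd φ S.X₂) '' (LinearMap.ker S.g.hom : Set S.X₂)) := by
  let SB := S.map (ModuleCat.extendScalars φ)
  let N : Submodule B (LinearMap.ker SB.g.hom) := Submodule.span B (Set.range (unitCyc φ S))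
  have hN : Submodule.map (cls SB) N = ⊤ := by
    rw [Submodule.map_span, ← h]
    congr 1
    ext y
    constructor
    · rintro ⟨_, ⟨z, rfl⟩, rfl⟩
      exact ⟨cls S z, ιS_cls φ S z⟩
    · rintro ⟨x, rfl⟩
      obtain ⟨z, rfl⟩ := cls_surjective S x
      exact ⟨unitCyc φ S z, ⟨z, rfl⟩, (ιS_cls φ S z).symm⟩
  have hNsub : Submodule.map (LinearMap.ker SB.g.hom).subtype N =
      Submodule.span B ((unitAdd φ S.X₂) '' (LinearMap.ker S.g.hom : Set S.X₂)) := by
    rw [Submodule.map_span]
    congr 1
    ext y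
    constructor
    · rintro ⟨_, ⟨z, rfl⟩, rfl⟩
      exact ⟨z.1, z.2, rfl⟩
    · rintro ⟨m, hm, rfl⟩
      exact ⟨unitCyc φ S ⟨m, hm⟩, ⟨⟨m, hm⟩, rfl⟩, rfl⟩
  have hw : cls SB w ∈ Submodule.map (cls SB) N := by
    rw [hN]
    trivial
  obtain ⟨v, hv, hvw⟩ := hw
  rw [cls_eq_iff] at hvw
  obtain ⟨x, hx⟩ := hvw
  -- `f_B x` lies in the span
  have hfx : ∀ x : ((ModuleCat.extendScalars φ).obj S.X₁ : Type u),
      ((ModuleCat.extendScalars φ).map S.f).hom x ∈
        Submodule.span B ((unitAdd φ S.X₂) '' (LinearMap.ker S.g.hom : Set S.X₂)) := by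
    intro x
    have hx : x ∈ Submodule.span B (Set.range (unitAdd φ S.X₁)) := by
      rw [span_unitAdd]
      trivial
    refine Submodule.span_induction ?_ ?_ ?_ ?_ hx
    · rintro _ ⟨m, rfl⟩
      rw [unitAdd_naturality]
      exact Submodule.subset_span ⟨S.f.hom m, LinearMap.mem_ker.2 (S.moduleCat_zero_apply m), rfl⟩
    · rw [map_zero]
      exact Submodule.zero_mem _
    · intro y y' _ _ hy hy'
      rw [map_add]
      exact Submodule.add_mem _ hy hy'
    · intro b y _ hy
      rw [map_smul]
      exact Submodule.smul_mem _ _ hy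
  have hv' : (v.1 : ((ModuleCat.extendScalars φ).obj S.X₂ : Type u)) ∈
      Submodule.span B ((unitAdd φ S.X₂) '' (LinearMap.ker S.g.hom : Set S.X₂)) := by
    rw [← hNsub]
    exact ⟨v, hv, rfl⟩
  obtain ⟨w', hw'⟩ : ∃ w' : ((ModuleCat.extendScalars φ).obj S.X₂ : Type u), w' = w.1 := ⟨_, rfl⟩
  obtain ⟨v', hv''⟩ : ∃ v' : ((ModuleCat.extendScalars φ).obj S.X₂ : Type u), v' = v.1 := ⟨_, rfl⟩
  have e : w' = v' - ((ModuleCat.extendScalars φ).map S.f).hom x := by
    have : ((ModuleCat.extendScalars φ).map S.f).hom x = v' - w' := by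
      rw [hw', hv'']
      exact hx
    rw [this]
    abel
  rw [← hw', e]
  rw [← hv''] at hv'
  exact Submodule.sub_mem _ hv' (hfx x)

end spanlemma

section field

variable {A : Type u} [CommRing A] (κ : Type u) [Field κ] [Algebra A κ]
  (S : ShortComplex (ModuleCat.{u} A))

lemma eM_map {M N : ModuleCat.{u} A} (g : M ⟶ N)
    (w : ((ModuleCat.extendScalars (algebraMap A κ)).obj M : Type u)) :
    eM (κ := κ) N (((ModuleCat.extendScalars (algebraMap A κ)).map g).hom w) =
      (g.hom.baseChange κ) (eM (κ := κ) M w) :=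
  congrArg (fun ψ => ψ.hom w) (eM_naturality_cat κ g)

lemma eM_unitAdd (M : ModuleCat.{u} A) (m : M) :
    eM (κ := κ) M (unitAdd (algebraMap A κ) M m) = (1 : κ) ⊗ₜ[A] m := rfl

/-- **`GSplit` from spanning at a field** -/
theorem exists_gsplit_of_span [Module.Finite A S.X₂] [Module.Free A S.X₂]
    [Module.Finite A S.X₃] [Module.Free A S.X₃]
    (h : Submodule.span κ (Set.range (ιS (algebraMap A κ) S)) = ⊤) :
    ∃ a : A, algebraMap A κ a ≠ 0 ∧ GSplit S a := by
  have hyp : LinearMap.ker (S.g.hom.baseChange κ) ≤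
      Submodule.span κ ((TensorProduct.mk A κ S.X₂ 1) '' (LinearMap.ker S.g.hom : Set S.X₂)) := by
    intro w hw
    have h1 : ((ModuleCat.extendScalars (algebraMap A κ)).map S.g).hom
        ((eM (κ := κ) S.X₂).symm w) = 0 := by
      apply (eM (κ := κ) S.X₃).injective
      rw [eM_map, LinearEquiv.apply_symm_apply, map_zero]
      exact LinearMap.mem_ker.1 hw
    have h2 := mem_span_unitAdd_ker (algebraMap A κ) S h ⟨(eM (κ := κ) S.X₂).symm w, h1⟩
    have h3 : (eM (κ := κ) S.X₂) ((eM (κ := κ) S.X₂).symm w) ∈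
        Submodule.map (eM (κ := κ) S.X₂).toLinearMap (Submodule.span κ
          ((unitAdd (algebraMap A κ) S.X₂) '' (LinearMap.ker S.g.hom : Set S.X₂))) :=
      ⟨_, h2, rfl⟩
    rw [LinearEquiv.apply_symm_apply, Submodule.map_span, ← Set.image_comp] at h3
    exact h3
  obtain ⟨a, t, ha, ht⟩ := Groth.Agent.Lib.Lead.AdjSplit.exists_gsplit_of_span S.g.hom hyp
  refine ⟨a, ha, ModuleCat.ofHom t, ?_⟩
  ext m
  exact congrArg (fun ψ => ψ m) ht

/-- **vanishing at a field annihilates the cycles modulo boundaries** -/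
theorem exists_smul_ker_le_range [Module.Finite A S.X₂] [Module.Free A S.X₂]
    [Module.Finite A S.X₃] [Module.Free A S.X₃]
    (h : Subsingleton (S.map (ModuleCat.extendScalars (algebraMap A κ))).homology) :
    ∃ a : A, algebraMap A κ a ≠ 0 ∧
      ∀ z ∈ LinearMap.ker S.g.hom, a • z ∈ LinearMap.range S.f.hom := by
  have hyp : LinearMap.ker (S.g.hom.baseChange κ) ≤ LinearMap.range (S.f.hom.baseChange κ) := by
    intro w hw
    have h1 : ((ModuleCat.extendScalars (algebraMap A κ)).map S.g).hom
        ((eM (κ := κ) S.X₂).symm w) = 0 := by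
      apply (eM (κ := κ) S.X₃).injective
      rw [eM_map, LinearEquiv.apply_symm_apply, map_zero]
      exact LinearMap.mem_ker.1 hw
    have h2 : cls (S.map (ModuleCat.extendScalars (algebraMap A κ)))
        ⟨(eM (κ := κ) S.X₂).symm w, h1⟩ = 0 := Subsingleton.elim _ _
    rw [cls_eq_zero_iff] at h2
    obtain ⟨x, hx⟩ := h2
    refine ⟨eM (κ := κ) S.X₁ x, ?_⟩
    have h3 : ((ModuleCat.extendScalars (algebraMap A κ)).map S.f).hom x =
        (eM (κ := κ) S.X₂).symm w := hx
    rw [← eM_map, h3, LinearEquiv.apply_symm_apply]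
  have hgf : S.g.hom ∘ₗ S.f.hom = 0 := by
    ext x
    exact S.moduleCat_zero_apply x
  exact Groth.Agent.Lib.Lead.AdjSplit.exists_smul_ker_le_range S.f.hom S.g.hom hgf hyp

end field

section vanishing

variable {A B : Type u} [CommRing A] [CommRing B] (φ : A →+* B)
  (S : ShortComplex (ModuleCat.{u} A))

/-- **universal vanishing** from a `g`-splitting and annihilation of the homology -/
theorem subsingleton_homology_bc (a a' : A) (hs : GSplit S a)
    (hz : ∀ z ∈ LinearMap.ker S.g.hom, a' • z ∈ LinearMap.range S.f.hom)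
    (ha : IsUnit (φ a)) (ha' : IsUnit (φ a')) :
    Subsingleton (S.map (ModuleCat.extendScalars φ)).homology := by
  have hbc := isBC_ιS_of_gsplit φ S a hs ha
  have hspan := span_range_of_isBC hbc
  have hzero : ∀ x : S.homology, ιS φ S x = 0 := by
    intro x
    obtain ⟨z, rfl⟩ := cls_surjective S x
    have h1 : a' • cls S z = 0 := by
      rw [← map_smul, cls_eq_zero_iff]
      obtain ⟨y, hy⟩ := hz z.1 z.2
      exact ⟨y, hy⟩
    have h2 : φ a' • ιS φ S (cls S z) = 0 := by
      rw [← ιS_smul, h1, map_zero]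
    obtain ⟨u, hu⟩ := ha'.exists_left_inv
    have h3 := congrArg (fun y => u • y) h2
    simp only [smul_smul, hu, one_smul, smul_zero] at h3
    exact h3
  have hrange : Set.range (ιS φ S) = {0} := by
    ext y
    constructor
    · rintro ⟨x, rfl⟩
      exact hzero x
    · rintro rfl
      exact ⟨0, map_zero _⟩
  rw [hrange, Submodule.span_singleton_eq_bot.2 rfl] at hspan
  exact (Submodule.subsingleton_iff B).1 (subsingleton_of_bot_eq_top hspan)

end vanishing

section projective

variable {A B : Type u} [CommRing A] [CommRing B] (φ : A →+* B)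
  (S : ShortComplex (ModuleCat.{u} A))

lemma extendScalars_map_smul {M N : ModuleCat.{u} A} (a : A) (g : M ⟶ N) :
    (ModuleCat.extendScalars φ).map (a • g) = φ a • (ModuleCat.extendScalars φ).map g := by
  apply ModuleCat.hom_ext
  apply ext_unitAdd
  intro m
  show ((ModuleCat.extendScalars φ).map (a • g)).hom (unitAdd φ M m) =
    φ a • ((ModuleCat.extendScalars φ).map g).hom (unitAdd φ M m)
  rw [unitAdd_naturality, unitAdd_naturality, ← unitAdd_smul]
  rfl

/-- strict `g`-splitting after base change -/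
theorem gsplit_bc (a : A) (hs : GSplit S a) (ha : IsUnit (φ a)) :
    ∃ t : (S.map (ModuleCat.extendScalars φ)).X₃ ⟶ (S.map (ModuleCat.extendScalars φ)).X₂,
      (S.map (ModuleCat.extendScalars φ)).g ≫ t ≫ (S.map (ModuleCat.extendScalars φ)).g =
        (S.map (ModuleCat.extendScalars φ)).g := by
  obtain ⟨t, ht⟩ := hs
  obtain ⟨u, hu⟩ := ha.exists_left_inv
  refine ⟨u • (ModuleCat.extendScalars φ).map t, ?_⟩
  show (ModuleCat.extendScalars φ).map S.g ≫ (u • (ModuleCat.extendScalars φ).map t) ≫
    (ModuleCat.extendScalars φ).map S.g = (ModuleCat.extendScalars φ).map S.g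
  rw [Linear.smul_comp, Linear.comp_smul, ← Functor.map_comp, ← Functor.map_comp, ht,
    extendScalars_map_smul, smul_smul, hu, one_smul]

/-- strict `f`-splitting after base change -/
theorem fsplit_bc (a : A) (hs : FSplit S a) (ha : IsUnit (φ a)) :
    ∃ t : (S.map (ModuleCat.extendScalars φ)).X₂ ⟶ (S.map (ModuleCat.extendScalars φ)).X₁,
      (S.map (ModuleCat.extendScalars φ)).f ≫ t ≫ (S.map (ModuleCat.extendScalars φ)).f =
        (S.map (ModuleCat.extendScalars φ)).f := by
  obtain ⟨t, ht⟩ := hs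
  obtain ⟨u, hu⟩ := ha.exists_left_inv
  refine ⟨u • (ModuleCat.extendScalars φ).map t, ?_⟩
  show (ModuleCat.extendScalars φ).map S.f ≫ (u • (ModuleCat.extendScalars φ).map t) ≫
    (ModuleCat.extendScalars φ).map S.f = (ModuleCat.extendScalars φ).map S.f
  rw [Linear.smul_comp, Linear.comp_smul, ← Functor.map_comp, ← Functor.map_comp, ht,
    extendScalars_map_smul, smul_smul, hu, one_smul]

/-- **the homology of the base change is finite projective** when both differentials split up to
units of `B` -/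
theorem projective_homology_bc (a a' : A) (hf : FSplit S a) (hg : GSplit S a')
    (ha : IsUnit (φ a)) (ha' : IsUnit (φ a'))
    [Module.Finite B ((ModuleCat.extendScalars φ).obj S.X₂)]
    [Module.Projective B ((ModuleCat.extendScalars φ).obj S.X₂)] :
    Module.Finite B (S.map (ModuleCat.extendScalars φ)).homology ∧
      Module.Projective B (S.map (ModuleCat.extendScalars φ)).homology := by
  obtain ⟨t₁, h₁⟩ := fsplit_bc φ S a hf ha
  obtain ⟨t₂, h₂⟩ := gsplit_bc φ S a' hg ha'
  haveI : Module.Finite B (S.map (ModuleCat.extendScalars φ)).X₂ :=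
    inferInstanceAs (Module.Finite B ((ModuleCat.extendScalars φ).obj S.X₂))
  haveI : Module.Projective B (S.map (ModuleCat.extendScalars φ)).X₂ :=
    inferInstanceAs (Module.Projective B ((ModuleCat.extendScalars φ).obj S.X₂))
  exact projective_homology_of_splits _ t₁ t₂ h₁ h₂

end projective

end Groth.Agent.Lib.Helper18.SplitAlg
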