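import Mathlib
import Groth.Agent.Lib.Helper18.SplitAlg2

/-!
# Split differentials: variants (helper18)

* versions of `exists_gsplit_of_span`, `exists_smul_ker_le_range` for a commutative ring `κ` with `IsField κ`
  and an arbitrary ring homomorphism `φ : A →+* κ`;
* the degree shift `GSplit (L.sc i) a ↔ FSplit (L.sc j) a` for `c.Rel i j`.
-/

set_option autoImplicit false
universe u

open CategoryTheory CategoryTheory.Limits ChangeOfRings TensorProduct

namespace Groth.Agent.Lib.Helper18.SplitAlg

open Groth.Agent.Lib.Helper18.BCHom Groth.Agent.Lib.helper8.PullbackUnit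

section isfield

variable {A κ : Type u} [CommRing A] [CommRing κ] (hκ : IsField κ) (φ : A →+* κ)
  (S : ShortComplex (ModuleCat.{u} A))

include hκ in
theorem exists_gsplit_of_span_isField [Module.Finite A S.X₂] [Module.Free A S.X₂]
    [Module.Finite A S.X₃] [Module.Free A S.X₃]
    (h : Submodule.span κ (Set.range (ιS φ S)) = ⊤) :
    ∃ a : A, φ a ≠ 0 ∧ GSplit S a := by
  letI : Field κ := hκ.toField
  letI : Algebra A κ := φ.toAlgebra
  exact exists_gsplit_of_span κ S h

include hκ in
theorem exists_smul_ker_le_range_isField [Module.Finite A S.X₂] [Module.Free A S.X₂]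
    [Module.Finite A S.X₃] [Module.Free A S.X₃]
    (h : Subsingleton (S.map (ModuleCat.extendScalars φ)).homology) :
    ∃ a : A, φ a ≠ 0 ∧ ∀ z ∈ LinearMap.ker S.g.hom, a • z ∈ LinearMap.range S.f.hom := by
  letI : Field κ := hκ.toField
  letI : Algebra A κ := φ.toAlgebra
  exact exists_smul_ker_le_range κ S h

end isfield

section shift

variable {A : Type u} [CommRing A] {ι : Type} {c : ComplexShape ι}
  (L : HomologicalComplex (ModuleCat.{u} A) c)

/-- `d ≫ t ≫ d = a • d` for the differential `i ⟶ j` -/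
def DSplit (i j : ι) (a : A) : Prop :=
  ∃ t : L.X j ⟶ L.X i, L.d i j ≫ t ≫ L.d i j = a • L.d i j

theorem gsplit_iff_dsplit {i j : ι} (hij : c.Rel i j) (a : A) :
    GSplit (L.sc i) a ↔ DSplit L i j a := by
  obtain rfl : c.next i = j := c.next_eq' hij
  exact Iff.rfl

theorem fsplit_iff_dsplit {i j : ι} (hij : c.Rel i j) (a : A) :
    FSplit (L.sc j) a ↔ DSplit L i j a := by
  obtain rfl : c.prev j = i := c.prev_eq' hij
  exact Iff.rfl

theorem fsplit_iff_gsplit {i j : ι} (hij : c.Rel i j) (a : A) :
    FSplit (L.sc j) a ↔ GSplit (L.sc i) a :=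
  (fsplit_iff_dsplit L hij a).trans (gsplit_iff_dsplit L hij a).symm

end shift

end Groth.Agent.Lib.Helper18.SplitAlg
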