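import Mathlib
import Groth.Agent.Lib.Helper18.NNMaster
import Groth.Agent.Lib.Helper18.SplitAlg3
import Groth.Agent.S0030

/-!
# Glue lemmas for the cohomology and base change rows (helper18)
-/

set_option autoImplicit false
universe u

open CategoryTheory CategoryTheory.Limits Opposite TopologicalSpace AlgebraicGeometry

namespace Groth.Agent.Lib.Helper18.NNRows

open Groth.Agent.Lib.helper8.PullbackUnit Groth.Agent.Lib.Helper18.SplitAlg
open Scheme.Modules CohCmp

section units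

variable {S S' : Scheme.{u}} (g : S' ⟶ S) {W : S.Opens} {W' : S'.Opens} (hW'W : W' ≤ g ⁻¹ᵁ W)

/-- a section which is invertible on the image of `W'` pulls back to a unit on `W'` -/
theorem isUnit_appLE_of_le_basicOpen (a : Γ(S, W)) (h : W' ≤ g ⁻¹ᵁ (S.basicOpen a)) :
    IsUnit ((g.appLE W W' hW'W).hom a) := by
  have h1 : S'.basicOpen ((g.appLE W W' hW'W).hom a) = W' := by
    have := Scheme.basicOpen_appLE g W' W hW'W a
    rw [this]
    exact inf_eq_left.mpr h
  apply S'.toRingedSpace.isUnit_of_isUnit_germ W'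
  intro x hx
  have hx' : x ∈ S'.basicOpen ((g.appLE W W' hW'W).hom a) := by rw [h1]; exact hx
  exact (S'.mem_basicOpen _ x hx).1 hx'

/-- conversely -/
theorem le_basicOpen_of_isUnit_appLE (a : Γ(S, W)) (h : IsUnit ((g.appLE W W' hW'W).hom a)) :
    W' ≤ g ⁻¹ᵁ (S.basicOpen a) := by
  have h1 := Scheme.basicOpen_appLE g W' W hW'W a
  have h2 : S'.basicOpen ((g.appLE W W' hW'W).hom a) = W' := S'.basicOpen_of_isUnit h
  have h3 : W' = W' ⊓ g ⁻¹ᵁ (S.basicOpen a) := h2.symm.trans h1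
  exact inf_eq_left.mp h3.symm

end units

section fibrepoint

variable {S : Scheme.{u}} (s : S) {W : S.Opens} (hs : s ∈ W)

include hs in
theorem top_le_preimage : (⊤ : (Spec (S.residueField s)).Opens) ≤
    (S.fromSpecResidueField s) ⁻¹ᵁ W := by
  intro z _
  show (S.fromSpecResidueField s) z ∈ W
  rw [Scheme.fromSpecResidueField_apply]
  exact hs

/-- global functions on `Spec κ(s)` form a field -/
theorem isField_Γ_residueField : IsField Γ(Spec (S.residueField s), ⊤) :=
  (Scheme.ΓSpecIso (S.residueField s)).commRingCatIsoToRingEquiv.toMulEquiv.isField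
    (Field.toIsField (S.residueField s))

/-- the point `s` lies in `D(a)` iff `a` does not vanish in `κ(s)` -/
theorem mem_basicOpen_iff_ne_zero (a : Γ(S, W)) :
    s ∈ S.basicOpen a ↔
      ((S.fromSpecResidueField s).appLE W ⊤ (top_le_preimage s hs)).hom a ≠ 0 := by
  have hfield := isField_Γ_residueField s
  constructor
  · intro h
    have h1 : (⊤ : (Spec (S.residueField s)).Opens) ≤
        (S.fromSpecResidueField s) ⁻¹ᵁ (S.basicOpen a) := by
      intro z _
      show (S.fromSpecResidueField s) z ∈ S.basicOpen a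
      rw [Scheme.fromSpecResidueField_apply]
      exact h
    have h2 := isUnit_appLE_of_le_basicOpen (S.fromSpecResidueField s) (top_le_preimage s hs) a h1
    haveI := hfield.nontrivial
    exact h2.ne_zero
  · intro h
    have h2 : IsUnit (((S.fromSpecResidueField s).appLE W ⊤ (top_le_preimage s hs)).hom a) := by
      obtain ⟨b, hb⟩ := hfield.mul_inv_cancel h
      exact IsUnit.of_mul_eq_one _ hb
    have h3 := le_basicOpen_of_isUnit_appLE (S.fromSpecResidueField s) (top_le_preimage s hs) a h2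
    have h4 : (S.fromSpecResidueField s) (IsLocalRing.closedPoint (S.residueField s)) ∈
        S.basicOpen a := h3 (show IsLocalRing.closedPoint (S.residueField s) ∈
          (⊤ : (Spec (S.residueField s)).Opens) from trivial)
    rwa [Scheme.fromSpecResidueField_apply] at h4

end fibrepoint

section glue

variable {S S' : Scheme.{u}} (g : S' ⟶ S) {W : S.Opens} {W' : S'.Opens}
  (hW : IsAffineOpen W) (hW' : IsAffineOpen W') (e : W' ≤ g ⁻¹ᵁ W)
  {A : S.Modules} [A.IsQuasicoherent] {B : S'.Modules}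

/-- sections of a morphism of modules, as a linear map -/
noncomputable def appLin {Y : Scheme.{u}} {M N : Y.Modules} (u : M ⟶ N) (V : Y.Opens) :
    Γ(M, V) →ₗ[Γ(Y, V)] Γ(N, V) :=
  { toFun := (u.app V).hom
    map_add' := fun x y => map_add _ x y
    map_smul' := fun r x => Scheme.Modules.Hom.app_smul u r x }

include hW hW' in
/-- the image of the adjoint of `v` on sections over `W'` is the span of the `(v a)|_{W'}` -/
theorem range_appLin_adj (v : A ⟶ (pushforward g).obj B) :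
    LinearMap.range (appLin (((pullbackPushforwardAdjunction g).homEquiv A B).symm v) W') =
      Submodule.span Γ(S', W') (Set.range (ρv g e v)) := by
  have h1 := span_range_of_isBC (isBC_ρ g hW hW' e A)
  rw [LinearMap.range_eq_map, ← h1, Submodule.map_span]
  congr 1
  ext y
  constructor
  · rintro ⟨_, ⟨a, rfl⟩, rfl⟩
    exact ⟨a, (app_ρ g e v a).symm⟩
  · rintro ⟨a, rfl⟩
    exact ⟨_, ⟨a, rfl⟩, app_ρ g e v a⟩

include hW hW' in
/-- if the adjoint of `v` is an epimorphism, the `(v a)|_{W'}` span -/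
theorem span_range_ρv_of_epi [B.IsQuasicoherent] (v : A ⟶ (pushforward g).obj B)
    [Epi (((pullbackPushforwardAdjunction g).homEquiv A B).symm v)] :
    Submodule.span Γ(S', W') (Set.range (ρv g e v)) = ⊤ := by
  rw [← range_appLin_adj g hW hW' e v, LinearMap.range_eq_top]
  haveI := Groth.Agent.Lib.helper16.QCohPullback.isQuasicoherent_pullback g A
  exact Groth.Agent.Lib.helper16.QCohEpi.surjective_app_of_epi _ hW'

/-- if the `(v a)|_{W'}` span for `W'` in an affine cover, the adjoint of `v` is an epimorphism -/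
theorem epi_of_span_range_ρv [B.IsQuasicoherent] (v : A ⟶ (pushforward g).obj B)
    {ι : Type*} (W : ι → S.Opens) (W' : ι → S'.Opens) (hW : ∀ i, IsAffineOpen (W i))
    (hW' : ∀ i, IsAffineOpen (W' i)) (e : ∀ i, W' i ≤ g ⁻¹ᵁ W i)
    (hcov : ∀ x : S', ∃ i, x ∈ W' i)
    (h : ∀ i, Submodule.span Γ(S', W' i) (Set.range (ρv g (e i) v)) = ⊤) :
    Epi (((pullbackPushforwardAdjunction g).homEquiv A B).symm v) := by
  refine Groth.Agent.Lib.helper16.QCohEpi.epi_of_surjective_on_affine_cover _ W' hW' hcov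
    (fun i => ?_)
  have h1 := range_appLin_adj g (hW i) (hW' i) (e i) v
  rw [h i, LinearMap.range_eq_top] at h1
  exact h1

end glue

section chartprop

open Groth.Agent.Lib.Helper18.BCHom Groth.Agent.Lib.Helper18.NNComplex
  Groth.Agent.Lib.Helper18.NNChart Groth.Agent.Lib.Helper18.NNMaster
  Groth.Agent.Lib.helper21.GCBase Groth.Agent.Lib.helper8.GenBCChart

variable {X S : Scheme.{u}} (f : X ⟶ S) [IsProper f]
  [HasInjectiveResolutions X.Modules]
  (F : X.Modules) [F.IsQuasicoherent]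
  {Δ : RDer.DerivedLES (pushforward f)} (E : CohCmp.SectCmp f Δ)
  {W : S.Opens} (hW : IsAffineOpen W)
  (L : CochainComplex (ModuleCat.{u} Γ(S, W)) ℤ) (n : ℕ)
  (ΘA : L.homology (n : ℤ) ≃ₗ[Γ(S, W)] Γ((Coh.Rpush f n).obj F, W))

/-- the compatibility of a chart `(L, ΘA)` of `R^n f_* F` over the affine open `W` with all pinned base change
maps -/
def ChartProp : Prop :=
  ∀ {X' S' : Scheme.{u}} (g : S' ⟶ S) (gX : X' ⟶ X) (f' : X' ⟶ S')
    (hX : IsPullback gX f' f g) [HasInjectiveResolutions X'.Modules]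
    {Δ' : RDer.DerivedLES (pushforward f')} (E' : CohCmp.SectCmp f' Δ')
    (B : CohCmp.GenBC f g f' gX hX.w E E') {W' : S'.Opens} (_ : IsAffineOpen W')
    (hW'W : W' ≤ g ⁻¹ᵁ W),
    letI : Algebra Γ(S, W) Γ(S', W') := (g.appLE W W' hW'W).hom.toAlgebra
    ∃ ΘB : (CohIII.bcCx (algebraMap Γ(S, W) Γ(S', W')) L).homology (n : ℤ) ≃ₗ[Γ(S', W')]
        Γ((Coh.Rpush f' n).obj ((Scheme.Modules.pullback gX).obj F), W'),
      ∀ x, ρv g hW'W (B.φ n F) (ΘA x) =
        ΘB (ιH (algebraMap Γ(S, W) Γ(S', W')) L (n : ℤ) x)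

/-- **the master chart theorem**, restated with `ChartProp` -/
theorem master' [LocallyOfFinitePresentation f] (hfp : CohB1.IsFP F) (hfl : FlatMod.IsFlatOver f F) :
    ∃ L : CochainComplex (ModuleCat.{u} Γ(S, W)) ℤ,
      (∀ i, Module.Finite Γ(S, W) (L.X i) ∧ Module.Free Γ(S, W) (L.X i)) ∧
      (∃ N : ℕ, ∀ i : ℤ, (N : ℤ) ≤ i → IsZero (L.X i)) ∧
      (∀ (B : Type u) [CommRing B] [Algebra Γ(S, W) B] (i : ℤ), i < 0 →
        IsZero ((CohIII.bcCx (algebraMap Γ(S, W) B) L).homology i)) ∧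
      ComputesNat Γ(S, W) (fU f hW (le_refl (f ⁻¹ᵁ W))) (F.restrict (f ⁻¹ᵁ W).ι) L ∧
      ∀ n : ℕ, ∃ ΘA : L.homology (n : ℤ) ≃ₗ[Γ(S, W)] Γ((Coh.Rpush f n).obj F, W),
        ChartProp f F E L n ΘA :=
  master f F hfp hfl E hW

variable {f F E L n ΘA}

include hW in
/-- a splitting of the differential `L^n ⟶ L^{n+1}` up to `a` makes `R^n f_* F` commute with every base
change landing in `D(a)` -/
theorem isIso_bc_of_gsplit (hΘ : ChartProp f F E L n ΘA) (a : Γ(S, W))
    (hs : GSplit (L.sc (n : ℤ)) a)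
    {X' S' : Scheme.{u}} (g' : X' ⟶ X) (f' : X' ⟶ S') (g : S' ⟶ S) (h : IsPullback g' f' f g)
    [HasInjectiveResolutions X'.Modules] {Δ' : RDer.DerivedLES (pushforward f')}
    (E' : CohCmp.SectCmp f' Δ') (B : CohCmp.GenBC f g f' g' h.w E E')
    (hU : ∀ z : S', g z ∈ S.basicOpen a) : IsIso (B.bc n F) := by
  haveI : ((Coh.Rpush f n).obj F).IsQuasicoherent := Groth.Agent.S0030.result f F n
  refine isIso_homEquiv_symm_of_isBC g (B.φ n F) {V' | IsAffineOpen V'}
    (S'.isBasis_affineOpens) ?_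
  intro V' hV'
  have hle : V' ≤ g ⁻¹ᵁ (S.basicOpen a) := fun z _ => hU z
  have e : V' ≤ g ⁻¹ᵁ W := hle.trans (fun z hz => S.basicOpen_le a hz)
  refine ⟨hV', W, hW, e, ?_⟩
  obtain ⟨ΘB, hΘB⟩ := hΘ g g' f' h E' B hV' e
  letI : Algebra Γ(S, W) Γ(S', V') := (g.appLE W V' e).hom.toAlgebra
  have hbc : IsBC (algebraMap Γ(S, W) Γ(S', V')) (ιH (algebraMap Γ(S, W) Γ(S', V')) L (n : ℤ)) :=
    isBC_ιS_of_gsplit _ (L.sc (n : ℤ)) a hs (isUnit_appLE_of_le_basicOpen g e a hle)
  refine hbc.of_equiv ΘA.symm ΘB.symm (ρv g e (B.φ n F)) (fun y => ?_)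
  rw [LinearEquiv.symm_apply_eq, ← hΘB, LinearEquiv.apply_symm_apply]

include hW in
/-- the base change map is an epimorphism over `W'` iff the image of `ιH` spans -/
theorem span_ιH_of_epi (hΘ : ChartProp f F E L n ΘA)
    {X' S' : Scheme.{u}} (g' : X' ⟶ X) (f' : X' ⟶ S') (g : S' ⟶ S) (h : IsPullback g' f' f g)
    [HasInjectiveResolutions X'.Modules] {Δ' : RDer.DerivedLES (pushforward f')}
    (E' : CohCmp.SectCmp f' Δ') (B : CohCmp.GenBC f g f' g' h.w E E')
    {W' : S'.Opens} (hW' : IsAffineOpen W') (e : W' ≤ g ⁻¹ᵁ W) (hepi : Epi (B.bc n F)) :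
    letI : Algebra Γ(S, W) Γ(S', W') := (g.appLE W W' e).hom.toAlgebra
    Submodule.span Γ(S', W') (Set.range (ιH (algebraMap Γ(S, W) Γ(S', W')) L (n : ℤ))) = ⊤ := by
  haveI : ((Coh.Rpush f n).obj F).IsQuasicoherent := Groth.Agent.S0030.result f F n
  haveI : IsProper f' := MorphismProperty.of_isPullback h inferInstance
  haveI : ((Scheme.Modules.pullback g').obj F).IsQuasicoherent :=
    Groth.Agent.Lib.helper16.QCohPullback.isQuasicoherent_pullback g' F
  haveI : ((Coh.Rpush f' n).obj ((Scheme.Modules.pullback g').obj F)).IsQuasicoherent :=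
    Groth.Agent.S0030.result f' _ n
  obtain ⟨ΘB, hΘB⟩ := hΘ g g' f' h E' B hW' e
  letI : Algebra Γ(S, W) Γ(S', W') := (g.appLE W W' e).hom.toAlgebra
  haveI : Epi (((pullbackPushforwardAdjunction g).homEquiv _ _).symm (B.φ n F)) := hepi
  have h1 := span_range_ρv_of_epi g hW hW' e (B.φ n F)
  have h2 : Submodule.map ΘB.symm.toLinearMap
      (Submodule.span Γ(S', W') (Set.range (ρv g e (B.φ n F)))) =
      Submodule.span Γ(S', W') (Set.range (ιH (algebraMap Γ(S, W) Γ(S', W')) L (n : ℤ))) := by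
    rw [Submodule.map_span]
    congr 1
    ext y
    constructor
    · rintro ⟨_, ⟨x, rfl⟩, rfl⟩
      refine ⟨ΘA.symm x, ?_⟩
      show _ = ΘB.symm _
      rw [LinearEquiv.eq_symm_apply, ← hΘB, LinearEquiv.apply_symm_apply]
    · rintro ⟨x, rfl⟩
      refine ⟨_, ⟨ΘA x, rfl⟩, ?_⟩
      show ΘB.symm _ = _
      rw [LinearEquiv.symm_apply_eq, hΘB]
  rw [← h2, h1, Submodule.map_top, LinearEquiv.range]

include hW in
/-- conversely, if the image of `ιH` spans over an affine cover of `S'`, the base change map is an epimorphism -/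
theorem epi_of_span_ιH (hΘ : ChartProp f F E L n ΘA)
    {X' S' : Scheme.{u}} (g' : X' ⟶ X) (f' : X' ⟶ S') (g : S' ⟶ S) (h : IsPullback g' f' f g)
    [HasInjectiveResolutions X'.Modules] {Δ' : RDer.DerivedLES (pushforward f')}
    (E' : CohCmp.SectCmp f' Δ') (B : CohCmp.GenBC f g f' g' h.w E E')
    {ι : Type*} (W' : ι → S'.Opens) (hW' : ∀ i, IsAffineOpen (W' i)) (e : ∀ i, W' i ≤ g ⁻¹ᵁ W)
    (hcov : ∀ x : S', ∃ i, x ∈ W' i)
    (hspan : ∀ i,
      letI : Algebra Γ(S, W) Γ(S', W' i) := (g.appLE W (W' i) (e i)).hom.toAlgebra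
      Submodule.span Γ(S', W' i)
        (Set.range (ιH (algebraMap Γ(S, W) Γ(S', W' i)) L (n : ℤ))) = ⊤) :
    Epi (B.bc n F) := by
  haveI : ((Coh.Rpush f n).obj F).IsQuasicoherent := Groth.Agent.S0030.result f F n
  haveI : IsProper f' := MorphismProperty.of_isPullback h inferInstance
  haveI : ((Scheme.Modules.pullback g').obj F).IsQuasicoherent :=
    Groth.Agent.Lib.helper16.QCohPullback.isQuasicoherent_pullback g' F
  haveI : ((Coh.Rpush f' n).obj ((Scheme.Modules.pullback g').obj F)).IsQuasicoherent :=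
    Groth.Agent.S0030.result f' _ n
  refine epi_of_span_range_ρv g (B.φ n F) (fun _ => W) W' (fun _ => hW) hW' e hcov (fun i => ?_)
  obtain ⟨ΘB, hΘB⟩ := hΘ g g' f' h E' B (hW' i) (e i)
  letI : Algebra Γ(S, W) Γ(S', W' i) := (g.appLE W (W' i) (e i)).hom.toAlgebra
  have h2 : Submodule.map ΘB.toLinearMap
      (Submodule.span Γ(S', W' i)
        (Set.range (ιH (algebraMap Γ(S, W) Γ(S', W' i)) L (n : ℤ)))) =
      Submodule.span Γ(S', W' i) (Set.range (ρv g (e i) (B.φ n F))) := by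
    rw [Submodule.map_span]
    congr 1
    ext y
    constructor
    · rintro ⟨_, ⟨x, rfl⟩, rfl⟩
      exact ⟨ΘA x, hΘB x⟩
    · rintro ⟨x, rfl⟩
      refine ⟨_, ⟨ΘA.symm x, rfl⟩, ?_⟩
      show ΘB _ = _
      rw [← hΘB, LinearEquiv.apply_symm_apply]
  rw [← h2, hspan i, Submodule.map_top, LinearEquiv.range]

end chartprop

end Groth.Agent.Lib.Helper18.NNRows
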