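import Mathlib
import Groth.Agent.Lib.Helper18.NNRows

/-!
# The fibre dictionary for charts (helper18)

`ComputesNat` implies helper21's `GCFibre.Computes`; hence for a chart `(W, L)` of `f, F` and a point `x` of
`Spec Γ(S, W)`, `H^p(X_s, F_s)` (`s = hW.fromSpec x`) and `H^p(L ⊗ κ(x))` have the same dimension.
-/

set_option autoImplicit false
universe u

open CategoryTheory CategoryTheory.Limits Opposite TopologicalSpace AlgebraicGeometry

namespace Groth.Agent.Lib.Helper18.NNFibre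

open Groth.Agent.Lib.Helper18.BCHom Groth.Agent.Lib.Helper18.NNComplex
  Groth.Agent.Lib.Helper18.NNChart Groth.Agent.Lib.Helper18.NNMaster
  Groth.Agent.Lib.helper21.GCBase Groth.Agent.Lib.helper8.GenBCChart
  Groth.Agent.Lib.helper21.GCFibre
open Scheme.Modules

section computes

variable {A : Type u} [CommRing A] {X : Scheme.{u}} (fX : X ⟶ Spec (CommRingCat.of A))
  (F : X.Modules) (L : CochainComplex (ModuleCat.{u} A) ℤ)

theorem computes_of_computesNat (hL : ComputesNat A fX F L) :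
    letI : X.Over (Spec (CommRingCat.of A)) := ⟨fX⟩
    Computes A X F L := by
  letI : X.Over (Spec (CommRingCat.of A)) := ⟨fX⟩
  intro B _ _ X' _ g' h p
  obtain ⟨e₀, he₀, H⟩ := hL p
  obtain ⟨e, he, -⟩ := H B X' (X' ↘ Spec (CommRingCat.of B)) g' h
  exact ⟨{ e with map_smul' := fun b x => he b x }⟩

end computes

section chart

variable {X S : Scheme.{u}} (f : X ⟶ S) {W : S.Opens} (hW : IsAffineOpen W)
  (F : X.Modules) (L : CochainComplex (ModuleCat.{u} Γ(S, W)) ℤ)
  (hL : ComputesNat Γ(S, W) (fU f hW (le_refl (f ⁻¹ᵁ W))) (F.restrict (f ⁻¹ᵁ W).ι) L)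

include hL in
theorem chart_computes :
    letI := overA f hW
    Computes Γ(S, W) (↑(f ⁻¹ᵁ W) : Scheme.{u}) (FA f (V := W) F) L := by
  have hL' : ComputesNat Γ(S, W) (fA f hW) (FA f (V := W) F) L := by
    rw [← fU_eq_fA]
    exact hL
  exact computes_of_computesNat (fA f hW) _ L hL'

include hL in
theorem subsingleton_fiberH_iff (x : ↑(Spec (CommRingCat.of Γ(S, W)))) (p : ℕ) :
    Subsingleton (CohIII.fiberH f F (hW.fromSpec x) p) ↔
      Subsingleton ((CohIII.bcCx (algebraMap Γ(S, W) x.asIdeal.ResidueField) L).homology (p : ℤ)) := by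
  letI := overA f hW
  have h := Groth.Agent.Lib.helper21.GCChart.subsingleton_fiberH_iff f Γ(S, W) hW.fromSpec
    (f ⁻¹ᵁ W).ι (isPullback_chart f hW) x F (FA f (V := W) F) (eF f (V := W) F) L
    (chart_computes f hW F L hL) p
  rw [h]
  constructor
  · intro h1
    exact ModuleCat.subsingleton_of_isZero h1
  · intro h1
    exact ModuleCat.isZero_of_subsingleton _

include hL in
theorem dRank_eq_fiberRank (x : ↑(Spec (CommRingCat.of Γ(S, W)))) (p : ℕ) :
    CohIII.dRank L (p : ℤ) x = CohIII.fiberRank f F p (hW.fromSpec x) := by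
  letI := overA f hW
  exact Groth.Agent.Lib.helper21.GCChart.dRank_eq_fiberRank f Γ(S, W) hW.fromSpec
    (f ⁻¹ᵁ W).ι (isPullback_chart f hW) x F (FA f (V := W) F) (eF f (V := W) F) L
    (chart_computes f hW F L hL) p

omit hL in
/-- `hW.fromSpec x ∈ D(a)` iff `a` does not vanish in `κ(x)` -/
theorem fromSpec_mem_basicOpen_iff (x : ↑(Spec (CommRingCat.of Γ(S, W)))) (a : Γ(S, W)) :
    hW.fromSpec x ∈ S.basicOpen a ↔ algebraMap Γ(S, W) x.asIdeal.ResidueField a ≠ 0 := by
  have h1 : hW.fromSpec x ∈ S.basicOpen a ↔ x ∈ hW.fromSpec ⁻¹ᵁ (S.basicOpen a) := Iff.rfl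
  rw [h1, hW.fromSpec_preimage_basicOpen]
  have h2 : x ∈ PrimeSpectrum.basicOpen a ↔ a ∉ x.asIdeal := PrimeSpectrum.mem_basicOpen a x
  refine h2.trans ?_
  rw [Ne, Ideal.algebraMap_residueField_eq_zero]

end chart

end Groth.Agent.Lib.Helper18.NNFibre
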