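import Mathlib
import Groth.Agent.Lib.Helper18.SplitAlg3

/-!
# Split differentials from vanishing of a fibre (helper18)
-/

set_option autoImplicit false
universe u

open CategoryTheory CategoryTheory.Limits ChangeOfRings TensorProduct

namespace Groth.Agent.Lib.Helper18.SplitAlg

open Groth.Agent.Lib.Helper18.BCHom Groth.Agent.Lib.helper8.PullbackUnit

section basic

variable {A : Type u} [CommRing A] {S : ShortComplex (ModuleCat.{u} A)}

theorem GSplit.smul {a : A} (b : A) (h : GSplit S a) : GSplit S (b * a) := by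
  obtain ⟨t, ht⟩ := h
  refine ⟨b • t, ?_⟩
  rw [Linear.smul_comp, Linear.comp_smul, ht, smul_smul]

theorem FSplit.smul {a : A} (b : A) (h : FSplit S a) : FSplit S (b * a) := by
  obtain ⟨t, ht⟩ := h
  refine ⟨b • t, ?_⟩
  rw [Linear.smul_comp, Linear.comp_smul, ht, smul_smul]

/-- if `a` maps cycles to boundaries, it kills the homology -/
theorem smul_homology_eq_zero {a : A}
    (hz : ∀ z ∈ LinearMap.ker S.g.hom, a • z ∈ LinearMap.range S.f.hom) (x : S.homology) :
    a • x = 0 := by
  obtain ⟨z, rfl⟩ := cls_surjective S x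
  rw [← map_smul, cls_eq_zero_iff]
  obtain ⟨y, hy⟩ := hz z.1 z.2
  exact ⟨y, hy⟩

end basic

section field

variable {A : Type u} [CommRing A] (κ : Type u) [Field κ] [Algebra A κ]
  (S : ShortComplex (ModuleCat.{u} A))

/-- **vanishing of the homology of `S ⊗ κ` splits both differentials of `S` generically** -/
theorem exists_splits_of_subsingleton [Module.Finite A S.X₂] [Module.Free A S.X₂]
    [Module.Finite A S.X₃] [Module.Free A S.X₃]
    (h : Subsingleton (S.map (ModuleCat.extendScalars (algebraMap A κ))).homology) :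
    ∃ a : A, algebraMap A κ a ≠ 0 ∧ GSplit S a ∧ FSplit S a ∧
      ∀ z ∈ LinearMap.ker S.g.hom, a • z ∈ LinearMap.range S.f.hom := by
  obtain ⟨a₁, ha₁, hz⟩ := exists_smul_ker_le_range κ S h
  have hspan : Submodule.span κ (Set.range (ιS (algebraMap A κ) S)) = ⊤ := by
    rw [eq_top_iff]
    intro w _
    rw [Subsingleton.elim w 0]
    exact Submodule.zero_mem _
  obtain ⟨a₂, ha₂, hs⟩ := exists_gsplit_of_span κ S hspan
  refine ⟨a₁ * a₂, ?_, hs.smul a₁, fsplit_of_smul_ker_le S a₂ a₁ hs hz, fun z hzk => ?_⟩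
  · rw [map_mul]
    exact mul_ne_zero ha₁ ha₂
  · obtain ⟨y, hy⟩ := hz z hzk
    refine ⟨a₂ • y, ?_⟩
    rw [map_smul, hy, smul_smul, mul_comm]

end field

end Groth.Agent.Lib.Helper18.SplitAlg
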