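import Mathlib
import Groth.Agent.Lib.Helper18.NNFibre
import Groth.Agent.Lib.Helper18.SplitAlg4
import Groth.Agent.Lib.Helper11.GCLocGeo
import Groth.Agent.Lib.Helper25.FLFLocus

/-!
# Local criteria for the cohomology and base change rows (helper18)
-/

set_option autoImplicit false
universe u

open CategoryTheory CategoryTheory.Limits Opposite TopologicalSpace AlgebraicGeometry

namespace Groth.Agent.Lib.Helper18.NNLocal

open Groth.Agent.Lib.Helper18.BCHom Groth.Agent.Lib.Helper18.NNComplex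
  Groth.Agent.Lib.Helper18.NNChart Groth.Agent.Lib.Helper18.NNMaster
  Groth.Agent.Lib.Helper18.NNRows Groth.Agent.Lib.Helper18.NNFibre
  Groth.Agent.Lib.Helper18.SplitAlg
  Groth.Agent.Lib.helper21.GCBase Groth.Agent.Lib.helper8.GenBCChart
  Groth.Agent.Lib.helper8.PullbackUnit
open Scheme.Modules CohCmp

section splitAt

variable {X S : Scheme.{u}} (f : X ⟶ S) [IsProper f]
  [HasInjectiveResolutions X.Modules]
  (F : X.Modules) [F.IsQuasicoherent]
  {Δ : RDer.DerivedLES (pushforward f)} (E : CohCmp.SectCmp f Δ) (n : ℕ)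

/-- near `t` there is a chart of `R^n f_* F` whose differential `L^n ⟶ L^{n+1}` is split up to a function
invertible at `t` -/
def SplitAt (t : S) : Prop :=
  ∃ (W : S.Opens) (_ : IsAffineOpen W) (L : CochainComplex (ModuleCat.{u} Γ(S, W)) ℤ)
    (ΘA : L.homology (n : ℤ) ≃ₗ[Γ(S, W)] Γ((Coh.Rpush f n).obj F, W))
    (_ : ChartProp f F E L n ΘA) (a : Γ(S, W)), t ∈ S.basicOpen a ∧ GSplit (L.sc (n : ℤ)) a

variable {f F E n}

/-- `R^n f_* F` commutes with every base change landing in the locus of `SplitAt` -/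
theorem isIso_bc_of_splitAt
    {X' S' : Scheme.{u}} (g' : X' ⟶ X) (f' : X' ⟶ S') (g : S' ⟶ S) (h : IsPullback g' f' f g)
    [HasInjectiveResolutions X'.Modules] {Δ' : RDer.DerivedLES (pushforward f')}
    (E' : CohCmp.SectCmp f' Δ') (B : CohCmp.GenBC f g f' g' h.w E E')
    (H : ∀ z : S', SplitAt f F E n (g z)) : IsIso (B.bc n F) := by
  haveI : ((Coh.Rpush f n).obj F).IsQuasicoherent := Groth.Agent.S0030.result f F n
  let 𝔅 : Set S'.Opens := {V' | IsAffineOpen V' ∧
    ∃ (W : S.Opens) (_ : IsAffineOpen W) (L : CochainComplex (ModuleCat.{u} Γ(S, W)) ℤ)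
      (ΘA : L.homology (n : ℤ) ≃ₗ[Γ(S, W)] Γ((Coh.Rpush f n).obj F, W))
      (_ : ChartProp f F E L n ΘA) (a : Γ(S, W)),
      V' ≤ g ⁻¹ᵁ (S.basicOpen a) ∧ GSplit (L.sc (n : ℤ)) a}
  have h𝔅 : Opens.IsBasis 𝔅 := by
    rw [Opens.isBasis_iff_nbhd]
    intro O z hz
    obtain ⟨W, hW, L, ΘA, hΘ, a, hta, hs⟩ := H z
    obtain ⟨V', hV', hzV', hle⟩ := Opens.isBasis_iff_nbhd.mp S'.isBasis_affineOpens
      (show z ∈ g ⁻¹ᵁ (S.basicOpen a) ⊓ O from ⟨hta, hz⟩)
    exact ⟨V', ⟨hV', W, hW, L, ΘA, hΘ, a, hle.trans inf_le_left, hs⟩, hzV', hle.trans inf_le_right⟩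
  refine isIso_homEquiv_symm_of_isBC g (B.φ n F) 𝔅 h𝔅 ?_
  rintro V' ⟨hV', W, hW, L, ΘA, hΘ, a, hle, hs⟩
  have e : V' ≤ g ⁻¹ᵁ W := hle.trans (fun z hz => S.basicOpen_le a hz)
  refine ⟨hV', W, hW, e, ?_⟩
  obtain ⟨ΘB, hΘB⟩ := hΘ g g' f' h E' B hV' e
  letI : Algebra Γ(S, W) Γ(S', V') := (g.appLE W V' e).hom.toAlgebra
  have hbc : IsBC (algebraMap Γ(S, W) Γ(S', V')) (ιH (algebraMap Γ(S, W) Γ(S', V')) L (n : ℤ)) :=
    isBC_ιS_of_gsplit _ (L.sc (n : ℤ)) a hs (isUnit_appLE_of_le_basicOpen g e a hle)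
  refine hbc.of_equiv ΘA.symm ΘB.symm (ρv g e (B.φ n F)) (fun y => ?_)
  rw [LinearEquiv.symm_apply_eq, ← hΘB, LinearEquiv.apply_symm_apply]

end splitAt

section kill

variable {S : Scheme.{u}} (M : S.Modules) [M.IsQuasicoherent]

/-- near `t`, the sections of `M` over an affine open are killed by a function invertible at `t` -/
def KillAt (t : S) : Prop :=
  ∃ (W : S.Opens) (_ : IsAffineOpen W) (a : Γ(S, W)), t ∈ S.basicOpen a ∧
    ∀ m : Γ(M, W), a • m = 0

variable {M}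

theorem subsingleton_stalk_of_killAt {t : S} (h : KillAt M t) :
    Subsingleton (M.presheaf.stalk t) := by
  obtain ⟨W, hW, a, hta, hkill⟩ := h
  have htW : t ∈ W := S.basicOpen_le a hta
  apply Groth.Agent.Lib.helper11.GCLoc.subsingleton_stalk_of_not_mem_support M hW t htW
  rw [Module.notMem_support_iff']
  intro m
  refine ⟨a, ?_, hkill m⟩
  have h1 : hW.fromSpec (hW.primeIdealOf ⟨t, htW⟩) = t := hW.fromSpec_primeIdealOf ⟨t, htW⟩
  have h2 : hW.primeIdealOf ⟨t, htW⟩ ∈ hW.fromSpec ⁻¹ᵁ (S.basicOpen a) := by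
    show hW.fromSpec (hW.primeIdealOf ⟨t, htW⟩) ∈ S.basicOpen a
    rw [h1]
    exact hta
  rw [hW.fromSpec_preimage_basicOpen] at h2
  exact (PrimeSpectrum.mem_basicOpen a _).mp h2

theorem isZero_restrict_of_killAt (U : S.Opens) (h : ∀ t ∈ U, KillAt M t) :
    IsZero (M.restrict U.ι) :=
  Groth.Agent.Lib.helper11.GCLoc.isZero_restrict_of_stalks_vanish M U
    (fun t ht => subsingleton_stalk_of_killAt (h t ht))

end kill

section vanish

variable {X S : Scheme.{u}} (f : X ⟶ S) {W : S.Opens} (hW : IsAffineOpen W)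
  (F : X.Modules) (L : CochainComplex (ModuleCat.{u} Γ(S, W)) ℤ)
  (hLff : ∀ i, Module.Finite Γ(S, W) (L.X i) ∧ Module.Free Γ(S, W) (L.X i))

include hLff in
/-- vanishing of `H^j(L ⊗ κ(x))` splits the differentials around `L^j` near `x` -/
theorem exists_splits_of_subsingleton_bc (x : ↑(Spec (CommRingCat.of Γ(S, W)))) (j : ℤ)
    (h : Subsingleton
      ((CohIII.bcCx (algebraMap Γ(S, W) x.asIdeal.ResidueField) L).homology j)) :
    ∃ a : Γ(S, W), hW.fromSpec x ∈ S.basicOpen a ∧ GSplit (L.sc j) a ∧ FSplit (L.sc j) a ∧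
      ∀ z ∈ LinearMap.ker (L.sc j).g.hom, a • z ∈ LinearMap.range (L.sc j).f.hom := by
  haveI : Module.Finite Γ(S, W) (L.sc j).X₂ := (hLff j).1
  haveI : Module.Free Γ(S, W) (L.sc j).X₂ := (hLff j).2
  haveI : Module.Finite Γ(S, W) (L.sc j).X₃ := (hLff ((ComplexShape.up ℤ).next j)).1
  haveI : Module.Free Γ(S, W) (L.sc j).X₃ := (hLff ((ComplexShape.up ℤ).next j)).2
  obtain ⟨a, ha, h1, h2, h3⟩ :=
    exists_splits_of_subsingleton x.asIdeal.ResidueField (L.sc j) h
  exact ⟨a, (fromSpec_mem_basicOpen_iff hW x a).mpr ha, h1, h2, h3⟩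

variable (hL : ComputesNat Γ(S, W) (fU f hW (le_refl (f ⁻¹ᵁ W))) (F.restrict (f ⁻¹ᵁ W).ι) L)

include hLff hL in
/-- vanishing of `H^p` of the fibre at `s` splits the differentials around `L^p` near `s` -/
theorem exists_splits_of_vanish (s : S) (hsW : s ∈ W) (p : ℕ)
    (hvan : Subsingleton (CohIII.fiberH f F s p)) :
    ∃ a : Γ(S, W), s ∈ S.basicOpen a ∧ GSplit (L.sc (p : ℤ)) a ∧ FSplit (L.sc (p : ℤ)) a ∧
      ∀ z ∈ LinearMap.ker (L.sc (p : ℤ)).g.hom, a • z ∈ LinearMap.range (L.sc (p : ℤ)).f.hom := by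
  have hx : hW.fromSpec (hW.primeIdealOf ⟨s, hsW⟩) = s := hW.fromSpec_primeIdealOf ⟨s, hsW⟩
  have h1 : Subsingleton (CohIII.fiberH f F (hW.fromSpec (hW.primeIdealOf ⟨s, hsW⟩)) p) := by
    rw [hx]; exact hvan
  have h2 := (subsingleton_fiberH_iff f hW F L hL (hW.primeIdealOf ⟨s, hsW⟩) p).mp h1
  obtain ⟨a, ha, h3⟩ := exists_splits_of_subsingleton_bc hW L hLff (hW.primeIdealOf ⟨s, hsW⟩)
    (p : ℤ) h2
  rw [hx] at ha
  exact ⟨a, ha, h3⟩

include hL in
/-- conversely, a splitting and a killing function, both invertible at `t`, force the vanishing of `H^p` of the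
fibre at `t` -/
theorem vanish_of_splits (t : S) (p : ℕ) (a a' : Γ(S, W)) (hta : t ∈ S.basicOpen a)
    (hta' : t ∈ S.basicOpen a') (hs : GSplit (L.sc (p : ℤ)) a)
    (hz : ∀ z ∈ LinearMap.ker (L.sc (p : ℤ)).g.hom,
      a' • z ∈ LinearMap.range (L.sc (p : ℤ)).f.hom) :
    Subsingleton (CohIII.fiberH f F t p) := by
  have htW : t ∈ W := S.basicOpen_le a hta
  have hx : hW.fromSpec (hW.primeIdealOf ⟨t, htW⟩) = t := hW.fromSpec_primeIdealOf ⟨t, htW⟩
  rw [← hx] at hta hta' ⊢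
  rw [subsingleton_fiberH_iff f hW F L hL (hW.primeIdealOf ⟨t, htW⟩) p]
  rw [fromSpec_mem_basicOpen_iff] at hta hta'
  exact subsingleton_homology_bc _ (L.sc (p : ℤ)) a a' hs hz hta.isUnit hta'.isUnit

end vanish

section proj

open Groth.Agent.Lib.helper16.CohFinite Groth.Agent.Lib.helper25.FLFLocus

variable {S : Scheme.{u}} (M : S.Modules) [M.IsQuasicoherent]

/-- a function on `W` which is invertible on `V ≤ W` restricts to a unit on `V` -/
theorem isUnit_res_of_le_basicOpen {W V : S.Opens} (h : V ≤ W) (a : Γ(S, W))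
    (hle : V ≤ S.basicOpen a) : IsUnit (resRing (X := S) h a) := by
  have h1 : S.basicOpen (S.presheaf.map (homOfLE h).op a) = V := by
    rw [Scheme.basicOpen_res]
    exact inf_eq_left.mpr hle
  apply S.toRingedSpace.isUnit_of_isUnit_germ V
  intro x hx
  have hx' : x ∈ S.basicOpen (S.presheaf.map (homOfLE h).op a) := by rw [h1]; exact hx
  exact (S.mem_basicOpen _ x hx).1 hx'

/-- a quasi-coherent module with finite projective sections over an affine open `D` is free near every point of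
`D` -/
theorem freeNear_of_projective_sections {D : S.Opens} (hD : IsAffineOpen D)
    (h1 : Module.Finite Γ(S, D) Γ(M, D)) (h2 : Module.Projective Γ(S, D) Γ(M, D))
    (x : S) (hx : x ∈ D) : FreeNear M x := by
  haveI : (M.restrict D.ι).IsQuasicoherent :=
    Scheme.Modules.isQuasicoherent_restrictFunctor D.ι M
  have key : FlatMod.IsFinLocFree (M.restrict hD.fromSpec) := by
    haveI hiso : IsIso (M.restrict hD.fromSpec).fromTildeΓ := inferInstance
    haveI : Module.Finite Γ(S, D) (Groth.Agent.Lib.helper16.QCohPullback.secMod M hD) :=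
      Module.Finite.equiv (Groth.Agent.Lib.helper16.QCohPullback.secEquiv M hD)
    haveI : Module.Projective Γ(S, D) (Groth.Agent.Lib.helper16.QCohPullback.secMod M hD) :=
      Module.Projective.of_equiv (Groth.Agent.Lib.helper16.QCohPullback.secEquiv M hD)
    have h2 : FlatMod.IsFinLocFree (tilde (Groth.Agent.Lib.helper16.QCohPullback.secMod M hD)) :=
      (Groth.Agent.S12451.result (Groth.Agent.Lib.helper16.QCohPullback.secMod M hD)).2
        ⟨inferInstance, inferInstance⟩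
    exact Groth.Agent.Lib.helper16.FLF.isFinLocFree_of_iso
      (asIso (M.restrict hD.fromSpec).fromTildeΓ) h2
  have hxr : x ∈ Set.range hD.fromSpec := by
    rw [hD.range_fromSpec]; exact hx
  obtain ⟨y, rfl⟩ := hxr
  obtain ⟨V, n, hyV, -, hV⟩ :=
    Groth.Agent.Lib.helper16.FLF.exists_iso_freeMod_of_isFinLocFree_restrict M hD.fromSpec key y
  exact ⟨V, n, hyV, hV⟩

variable {W : S.Opens} (hW : IsAffineOpen W)
  (T : ShortComplex (ModuleCat.{u} Γ(S, W)))
  (Θ : T.homology ≃ₗ[Γ(S, W)] Γ(M, W))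

include hW Θ in
/-- if both differentials of `T` are split up to functions invertible on `D(c)` and `H(T) ≅ Γ(M, W)`, the sections
of `M` over `D(c)` are finite projective -/
theorem projective_sections_basicOpen (c a a' : Γ(S, W)) (hf : FSplit T a) (hg : GSplit T a')
    (hle : S.basicOpen c ≤ S.basicOpen a) (hle' : S.basicOpen c ≤ S.basicOpen a')
    [Module.Finite Γ(S, W) T.X₂] [Module.Free Γ(S, W) T.X₂] :
    Module.Finite Γ(S, S.basicOpen c) Γ(M, S.basicOpen c) ∧
      Module.Projective Γ(S, S.basicOpen c) Γ(M, S.basicOpen c) := by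
  have h : S.basicOpen c ≤ W := S.basicOpen_le c
  letI := algOfLE (X := S) h
  letI := modOfLE M h
  haveI := isScalarTower_ofLE M h
  haveI : IsLocalization.Away c Γ(S, S.basicOpen c) := hW.isLocalization_basicOpen c
  haveI := isLocalizedModule_of_eq_basicOpen M hW c h rfl
  have hbase : IsBaseChange Γ(S, S.basicOpen c) (resLin M h) :=
    IsLocalizedModule.isBaseChange (Submonoid.powers c) _ _
  have hbc' : IsBC (algebraMap Γ(S, W) Γ(S, S.basicOpen c)) (resLin M h).toAddMonoidHom :=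
    IsBC.of_isBaseChange _ hbase
  have hua : IsUnit (algebraMap Γ(S, W) Γ(S, S.basicOpen c) a) :=
    isUnit_res_of_le_basicOpen h a hle
  have hua' : IsUnit (algebraMap Γ(S, W) Γ(S, S.basicOpen c) a') :=
    isUnit_res_of_le_basicOpen h a' hle'
  have hk : IsBC (algebraMap Γ(S, W) Γ(S, S.basicOpen c))
      (ιS (algebraMap Γ(S, W) Γ(S, S.basicOpen c)) T) :=
    isBC_ιS_of_gsplit _ T a' hg hua'
  have hk'' : IsBC (algebraMap Γ(S, W) Γ(S, S.basicOpen c))
      ((resLin M h).toAddMonoidHom.comp Θ.toLinearMap.toAddMonoidHom) :=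
    hbc'.of_equiv Θ (LinearEquiv.refl _ _) _ (fun n => rfl)
  obtain ⟨w, hw, -⟩ := hk.existsUnique_lift Γ(M, S.basicOpen c) _ hk''.map_smul
  have hbij := hk.bijective_of_comp hk'' w hw
  let ew := LinearEquiv.ofBijective w hbij
  haveI := (finite_free_extendScalars (B := Γ(S, S.basicOpen c)) T.X₂).1
  haveI := (finite_free_extendScalars (B := Γ(S, S.basicOpen c)) T.X₂).2
  obtain ⟨p1, p2⟩ := projective_homology_bc (algebraMap Γ(S, W) Γ(S, S.basicOpen c)) T a a'
    hf hg hua hua'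
  exact ⟨Module.Finite.equiv ew, Module.Projective.of_equiv ew⟩

end proj

end Groth.Agent.Lib.Helper18.NNLocal
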