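import Mathlib
import Groth.Agent.Lib.Helper18.NNLocal

/-!
# The local structure of `R^p f_* F` near a point where `H^p` of the fibre vanishes (helper18)
-/

set_option autoImplicit false
universe u

namespace Groth.Agent.Lib.Helper18.NNVanish

open AlgebraicGeometry CategoryTheory Scheme.Modules
open Groth.Agent.Lib.Helper18.NNLocal Groth.Agent.Lib.Helper18.NNRows
  Groth.Agent.Lib.Helper18.SplitAlg

/-- the local structure near a point where `H^p` of the fibre vanishes -/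
theorem local_of_vanish
    {X S : Scheme.{u}} (f : X ⟶ S) [IsProper f] [LocallyOfFinitePresentation f]
    [HasInjectiveResolutions X.Modules]
    (F : X.Modules) [F.IsQuasicoherent] (hfp : CohB1.IsFP F) (hfl : FlatMod.IsFlatOver f F) (p : ℕ)
    {Δ : RDer.DerivedLES (pushforward f)} (E : CohCmp.SectCmp f Δ)
    (s : S) (hvan : Subsingleton (CohIII.fiberH f F s p)) :
    ∃ O : S.Opens, s ∈ O ∧ ∀ t ∈ O, Subsingleton (CohIII.fiberH f F t p) ∧
      KillAt ((Coh.Rpush f p).obj F) t ∧ SplitAt f F E p t ∧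
      ∀ j : ℕ, j + 1 = p → SplitAt f F E j t := by
  obtain ⟨W, hW', hsW, -⟩ := TopologicalSpace.Opens.isBasis_iff_nbhd.mp S.isBasis_affineOpens
    (show s ∈ (⊤ : S.Opens) from trivial)
  have hW : IsAffineOpen W := hW'
  obtain ⟨L, hLff, -, -, hL, hΘ⟩ := master' f F E hW hfp hfl
  obtain ⟨a, hsa, hg, hf, hz⟩ := exists_splits_of_vanish f hW F L hLff hL s hsW p hvan
  refine ⟨S.basicOpen a, hsa, fun t hta => ⟨?_, ?_, ?_, ?_⟩⟩
  · exact vanish_of_splits f hW F L hL t p a a hta hta hg hz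
  · obtain ⟨ΘA, -⟩ := hΘ p
    refine ⟨W, hW, a, hta, fun m => ?_⟩
    obtain ⟨x, rfl⟩ := ΘA.surjective m
    have h0 : a • x = 0 := smul_homology_eq_zero (S := L.sc (p : ℤ)) hz x
    rw [← _root_.map_smul, h0, _root_.map_zero]
  · obtain ⟨ΘA, hΘA⟩ := hΘ p
    exact ⟨W, hW, L, ΘA, hΘA, a, hta, hg⟩
  · intro j hj
    obtain ⟨ΘA, hΘA⟩ := hΘ j
    refine ⟨W, hW, L, ΘA, hΘA, a, hta, ?_⟩
    have hrel : (ComplexShape.up ℤ).Rel (j : ℤ) (p : ℤ) := by
      show (j : ℤ) + 1 = (p : ℤ)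
      exact_mod_cast hj
    exact (fsplit_iff_gsplit L hrel a).mp hf

end Groth.Agent.Lib.Helper18.NNVanish
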