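import Mathlib
import Groth.Agent.Lib.Helper18.NNVanish
import Groth.Agent.Lib.Helper16.PuncAnn3

/-!
# Splittings from surjectivity of the fibre base change map; ranks (helper18)
-/

set_option autoImplicit false
universe u

open CategoryTheory CategoryTheory.Limits Opposite TopologicalSpace AlgebraicGeometry

namespace Groth.Agent.Lib.Helper18.NNFree

open Groth.Agent.Lib.Helper18.BCHom Groth.Agent.Lib.Helper18.NNComplex
  Groth.Agent.Lib.Helper18.NNChart Groth.Agent.Lib.Helper18.NNMaster
  Groth.Agent.Lib.Helper18.NNRows Groth.Agent.Lib.Helper18.NNFibre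
  Groth.Agent.Lib.Helper18.NNLocal
  Groth.Agent.Lib.Helper18.SplitAlg
  Groth.Agent.Lib.helper21.GCBase Groth.Agent.Lib.helper8.GenBCChart
  Groth.Agent.Lib.helper8.PullbackUnit
open Scheme.Modules CohCmp

section epi

variable {X S : Scheme.{u}} (f : X ⟶ S) [IsProper f]
  [HasInjectiveResolutions X.Modules]
  (F : X.Modules) [F.IsQuasicoherent]
  {Δ : RDer.DerivedLES (pushforward f)} (E : CohCmp.SectCmp f Δ)
  {W : S.Opens} (hW : IsAffineOpen W)
  (L : CochainComplex (ModuleCat.{u} Γ(S, W)) ℤ)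
  (hLff : ∀ i, Module.Finite Γ(S, W) (L.X i) ∧ Module.Free Γ(S, W) (L.X i))
  (n : ℕ) (ΘA : L.homology (n : ℤ) ≃ₗ[Γ(S, W)] Γ((Coh.Rpush f n).obj F, W))
  (hΘ : ChartProp f F E L n ΘA)

include hW hLff hΘ in
/-- surjectivity of the degree `n` base change map of the fibre at `s` splits `L^n ⟶ L^{n+1}` near `s` -/
theorem exists_gsplit_of_epi (s : S) (hsW : s ∈ W)
    [HasInjectiveResolutions (f.fiber s).Modules]
    {Δs : RDer.DerivedLES (pushforward (f.fiberToSpecResidueField s))}
    (Es : CohCmp.SectCmp (f.fiberToSpecResidueField s) Δs)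
    (Bs : CohCmp.GenBC f (S.fromSpecResidueField s) (f.fiberToSpecResidueField s) (f.fiberι s)
      (f.fiber_fac s) E Es)
    (hepi : Epi (Bs.bc n F)) :
    ∃ a : Γ(S, W), s ∈ S.basicOpen a ∧ GSplit (L.sc (n : ℤ)) a := by
  have hsq : IsPullback (f.fiberι s) (f.fiberToSpecResidueField s) f (S.fromSpecResidueField s) :=
    IsPullback.of_hasPullback _ _
  have htop := top_le_preimage s hsW
  have hspan := span_ιH_of_epi hW hΘ (f.fiberι s)
    (f.fiberToSpecResidueField s) (S.fromSpecResidueField s) hsq Es Bs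
    (isAffineOpen_top (Spec (S.residueField s))) htop hepi
  haveI : Module.Finite Γ(S, W) (L.sc (n : ℤ)).X₂ := (hLff (n : ℤ)).1
  haveI : Module.Free Γ(S, W) (L.sc (n : ℤ)).X₂ := (hLff (n : ℤ)).2
  haveI : Module.Finite Γ(S, W) (L.sc (n : ℤ)).X₃ := (hLff ((ComplexShape.up ℤ).next (n : ℤ))).1
  haveI : Module.Free Γ(S, W) (L.sc (n : ℤ)).X₃ := (hLff ((ComplexShape.up ℤ).next (n : ℤ))).2
  obtain ⟨a, ha, hsplit⟩ := exists_gsplit_of_span_isField (isField_Γ_residueField s)
    ((S.fromSpecResidueField s).appLE W ⊤ htop).hom (L.sc (n : ℤ)) hspan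
  exact ⟨a, (mem_basicOpen_iff_ne_zero s hsW a).mpr ha, hsplit⟩

include hW hΘ in
/-- conversely a splitting near `s` makes the degree `n` base change map of the fibre at `s` an isomorphism -/
theorem isIso_fibre_of_gsplit (s : S) (a : Γ(S, W)) (hsa : s ∈ S.basicOpen a)
    (hs : GSplit (L.sc (n : ℤ)) a)
    [HasInjectiveResolutions (f.fiber s).Modules]
    {Δs : RDer.DerivedLES (pushforward (f.fiberToSpecResidueField s))}
    (Es : CohCmp.SectCmp (f.fiberToSpecResidueField s) Δs)
    (Bs : CohCmp.GenBC f (S.fromSpecResidueField s) (f.fiberToSpecResidueField s) (f.fiberι s)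
      (f.fiber_fac s) E Es) :
    IsIso (Bs.bc n F) := by
  have hsq : IsPullback (f.fiberι s) (f.fiberToSpecResidueField s) f (S.fromSpecResidueField s) :=
    IsPullback.of_hasPullback _ _
  exact isIso_bc_of_gsplit hW hΘ a hs (f.fiberι s) (f.fiberToSpecResidueField s)
    (S.fromSpecResidueField s) hsq Es Bs
    (fun z => by rw [Scheme.fromSpecResidueField_apply]; exact hsa)

end epi

section rank

variable {A : Type u} [CommRing A] (T : ShortComplex (ModuleCat.{u} A))

/-- if `T ⟶ T ⊗ κ(x)` induces a base change on homology, the dimension of `H(T ⊗ κ(x))` is the rank of `H(T)`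
at `x` -/
theorem finrank_homology_bc_eq_rankAtStalk (x : PrimeSpectrum A) (a : A) (hs : GSplit T a)
    (hxa : algebraMap A x.asIdeal.ResidueField a ≠ 0)
    [Module.Finite A T.homology] [Module.Flat A T.homology] :
    Module.finrank x.asIdeal.ResidueField
        (T.map (ModuleCat.extendScalars (algebraMap A x.asIdeal.ResidueField))).homology =
      Module.rankAtStalk (R := A) T.homology x := by
  set κ := x.asIdeal.ResidueField
  set φ := algebraMap A κ
  have hbc : IsBC φ (ιS φ T) := isBC_ιS_of_gsplit φ T a hs hxa.isUnit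
  letI : Module A (T.map (ModuleCat.extendScalars φ)).homology :=
    Module.compHom _ φ
  haveI : IsScalarTower A κ (T.map (ModuleCat.extendScalars φ)).homology :=
    IsScalarTower.of_algebraMap_smul (fun r x => rfl)
  let k : T.homology →ₗ[A] (T.map (ModuleCat.extendScalars φ)).homology :=
    { toFun := ιS φ T
      map_add' := (ιS φ T).map_add
      map_smul' := fun r y => ιS_smul φ T r y }
  have hbase : IsBaseChange κ k := IsBC.isBaseChange k hbc
  rw [Module.rankAtStalk_eq]
  exact (hbase.equiv.finrank_eq).symm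

end rank

section locconst

variable {X S : Scheme.{u}} (f : X ⟶ S) {W : S.Opens} (hW : IsAffineOpen W)
  (F : X.Modules) (L : CochainComplex (ModuleCat.{u} Γ(S, W)) ℤ)
  (hL : ComputesNat Γ(S, W) (fU f hW (le_refl (f ⁻¹ᵁ W))) (F.restrict (f ⁻¹ᵁ W).ι) L)

include hL in
/-- over `D(a)`, where `L^p ⟶ L^{p+1}` is split up to `a`, the fibre rank in degree `p` is the rank of the
finite projective module `H^p(L)` -/
theorem fiberRank_eq_rankAtStalk (p : ℕ) (a : Γ(S, W)) (hs : GSplit (L.sc (p : ℤ)) a)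
    [Module.Finite Γ(S, W) (L.homology (p : ℤ))] [Module.Flat Γ(S, W) (L.homology (p : ℤ))]
    (t : S) (hta : t ∈ S.basicOpen a) :
    CohIII.fiberRank f F p t =
      Module.rankAtStalk (R := Γ(S, W)) (L.homology (p : ℤ))
        (hW.primeIdealOf ⟨t, S.basicOpen_le a hta⟩) := by
  have htW : t ∈ W := S.basicOpen_le a hta
  have hx : hW.fromSpec (hW.primeIdealOf ⟨t, htW⟩) = t := hW.fromSpec_primeIdealOf ⟨t, htW⟩
  have h1 := dRank_eq_fiberRank f hW F L hL (hW.primeIdealOf ⟨t, htW⟩) p
  rw [hx] at h1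
  rw [← h1]
  have hta' : hW.fromSpec (hW.primeIdealOf ⟨t, htW⟩) ∈ S.basicOpen a := by rw [hx]; exact hta
  rw [fromSpec_mem_basicOpen_iff] at hta'
  haveI : Module.Finite Γ(S, W) (L.sc (p : ℤ)).homology :=
    ‹Module.Finite Γ(S, W) (L.homology (p : ℤ))›
  haveI : Module.Flat Γ(S, W) (L.sc (p : ℤ)).homology :=
    ‹Module.Flat Γ(S, W) (L.homology (p : ℤ))›
  exact finrank_homology_bc_eq_rankAtStalk (L.sc (p : ℤ)) (hW.primeIdealOf ⟨t, htW⟩) a hs hta'

include hL in
theorem isLocallyConstant_fiberRank (p : ℕ) (a : Γ(S, W)) (hs : GSplit (L.sc (p : ℤ)) a)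
    [Module.Finite Γ(S, W) (L.homology (p : ℤ))]
    [Module.Projective Γ(S, W) (L.homology (p : ℤ))] :
    IsLocallyConstant (fun v : S.basicOpen a => CohIII.fiberRank f F p v.1) := by
  haveI : Module.FinitePresentation Γ(S, W) (L.homology (p : ℤ)) :=
    Module.finitePresentation_of_projective _ _
  have h1 : IsLocallyConstant (Module.rankAtStalk (R := Γ(S, W)) (L.homology (p : ℤ))) :=
    Module.isLocallyConstant_rankAtStalk
  let g : S.basicOpen a → PrimeSpectrum Γ(S, W) :=
    fun v => hW.primeIdealOf ⟨v.1, S.basicOpen_le a v.2⟩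
  have hg : Continuous g := by
    have h2 : Continuous (fun v : S.basicOpen a => (⟨v.1, S.basicOpen_le a v.2⟩ : W)) :=
      continuous_inclusion (S.basicOpen_le a)
    exact hW.isoSpec.hom.continuous.comp h2
  have h3 := h1.comp_continuous hg
  have h4 : (fun v : S.basicOpen a => CohIII.fiberRank f F p v.1) =
      Module.rankAtStalk (R := Γ(S, W)) (L.homology (p : ℤ)) ∘ g := by
    funext v
    exact fiberRank_eq_rankAtStalk f hW F L hL p a hs v.1 v.2
  rw [h4]
  exact h3

end locconst

end Groth.Agent.Lib.Helper18.NNFree
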