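import Mathlib
import Groth.Agent.Lib.Helper18.NNFree
import Groth.Agent.Lib.Helper12.AmpleCoprod

/-!
# The chart theorem without comparison data (helper18)

`master₀`: as `NNRows.master'` but without `E : SectCmp f Δ`; the identification `H^n(L) ≃ Γ(W, R^n f_* F)` comes
from helper21's `nonempty_sections_rpush_equiv`.
-/

set_option autoImplicit false
universe u

open CategoryTheory CategoryTheory.Limits Opposite TopologicalSpace AlgebraicGeometry

namespace Groth.Agent.Lib.Helper18.NNMaster0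

open Groth.Agent.Lib.Helper18.BCHom Groth.Agent.Lib.Helper18.NNComplex
  Groth.Agent.Lib.Helper18.NNChart Groth.Agent.Lib.Helper18.NNMaster
  Groth.Agent.Lib.helper21.GCBase Groth.Agent.Lib.helper8.GenBCChart
open Scheme.Modules

variable {X S : Scheme.{u}} (f : X ⟶ S) [IsProper f] [LocallyOfFinitePresentation f]
  [HasInjectiveResolutions X.Modules]
  (F : X.Modules) [F.IsQuasicoherent] (hfp : CohB1.IsFP F) (hfl : FlatMod.IsFlatOver f F)
  {W : S.Opens} (hW : IsAffineOpen W)

include hfp hfl in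
theorem master₀ :
    ∃ L : CochainComplex (ModuleCat.{u} Γ(S, W)) ℤ,
      (∀ i, Module.Finite Γ(S, W) (L.X i) ∧ Module.Free Γ(S, W) (L.X i)) ∧
      (∃ N : ℕ, ∀ i : ℤ, (N : ℤ) ≤ i → IsZero (L.X i)) ∧
      (∀ (B : Type u) [CommRing B] [Algebra Γ(S, W) B] (i : ℤ), i < 0 →
        IsZero ((CohIII.bcCx (algebraMap Γ(S, W) B) L).homology i)) ∧
      ComputesNat Γ(S, W) (fU f hW (le_refl (f ⁻¹ᵁ W))) (F.restrict (f ⁻¹ᵁ W).ι) L ∧
      ∀ n : ℕ, Nonempty (L.homology (n : ℤ) ≃ₗ[Γ(S, W)] Γ((Coh.Rpush f n).obj F, W)) := by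
  obtain ⟨L, h1, h2, h3, hL⟩ := exists_chart_complex f hW F hfp hfl
  refine ⟨L, h1, h2, h3, hL, fun n => ?_⟩
  obtain ⟨e₀, he₀, -⟩ := hL n
  letI := overA f hW
  obtain ⟨e'⟩ := nonempty_sections_rpush_equiv f hW F n
  let e₀' : L.homology (n : ℤ) ≃ₗ[Γ(S, W)] Coh.HH (↑(f ⁻¹ᵁ W) : Scheme.{u})
      (FA f (V := W) F) n :=
    { e₀ with
      map_smul' := fun a x => by
        have h := he₀ a x
        rw [fU_eq_fA] at h
        exact h }
  exact ⟨e₀'.trans e'.symm⟩

omit [IsProper f] [LocallyOfFinitePresentation f] [HasInjectiveResolutions X.Modules]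
  [F.IsQuasicoherent] in
/-- a quasi-coherent module all of whose stalks are killed locally is zero -/
theorem isZero_of_killAt (M : S.Modules) [M.IsQuasicoherent]
    (h : ∀ t : S, Groth.Agent.Lib.Helper18.NNLocal.KillAt M t) : Limits.IsZero M := by
  apply Groth.Agent.Lib.helper12.AmpleCoprod.isZero_of_subsingleton
  intro P
  refine ⟨fun a b => ?_⟩
  refine TopCat.Presheaf.section_ext (⟨M.presheaf, M.isSheaf⟩ : TopCat.Sheaf Ab S) P a b
    (fun z hz => ?_)
  have := Groth.Agent.Lib.Helper18.NNLocal.subsingleton_stalk_of_killAt (h z)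
  exact Subsingleton.elim _ _

end Groth.Agent.Lib.Helper18.NNMaster0
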