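import Mathlib
import Groth.Agent.Lib.Helper18.NNModel
import Groth.Agent.Lib.Helper7.R1Free
import Groth.Agent.S0591

/-!
# Noetherian models of proper families with flat structure sheaf (helper18)

Variant of `NNModel.exists_noetherian_proper_flat_model` in which the module is the structure sheaf on the
model as well: `fX : X ⟶ Spec A` proper, locally of finite presentation, `O_X` flat over `A`: then `X` is the
base change of a proper `X₀ ⟶ Spec A₀`, `A₀` Noetherian, with `O_{X₀}` flat over `A₀`.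
-/

set_option autoImplicit false
set_option backward.isDefEq.respectTransparency false
set_option linter.style.haveILetI false
universe u
open CategoryTheory CategoryTheory.Limits AlgebraicGeometry Topology TopologicalSpace

namespace Groth.Agent.Lib.Helper18.EtGR

open Groth.Agent.Lib.helper5.ConsFibre Groth.Agent.Lib.helper5.ConsApprox
  Groth.Agent.Lib.helper5.FGLimit Groth.Agent.Lib.helper11.ConsMod
  Groth.Agent.Lib.Helper18.NNModel Groth.Agent.Lib.helper7.R1Free
  Groth.Agent.Lib.helper11.InvMod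

attribute [local instance] ULift.algebra'

section Model

variable {I : Type u} [SmallCategory I] [IsCofiltered I] (D : I ⥤ Scheme.{u}) (c : Cone D)
  (hc : IsLimit c) [hD : ∀ (i j : I) (f : i ⟶ j), IsAffineHom (D.map f)]
  [hcomp : ∀ i, CompactSpace (D.obj i)] [hqs : ∀ i, QuasiSeparatedSpace (D.obj i)]

include hc in
/-- a proper finitely presented family with flat structure sheaf over a limit comes from a
stage, with properness and flatness at that stage -/
theorem exists_proper_flat_model_O {X : Scheme.{u}} (u : X ⟶ c.pt)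
    [IsProper u] [LocallyOfFinitePresentation u]
    (hfl : FlatMod.IsFlatOver u (Coh.structureModule X)) :
    ∃ (k : I) (Xk : Scheme.{u}) (uk : Xk ⟶ D.obj k) (e : X ⟶ Xk),
      IsProper uk ∧ LocallyOfFinitePresentation uk ∧
      IsPullback e u uk (c.π.app k) ∧
      FlatMod.IsFlatOver uk (Coh.structureModule Xk) := by
  obtain ⟨k, Xk, uk, e, h1, h2, h3, sq⟩ := Groth.Agent.S0591.result D c hc X u
  haveI := h1; haveI := h2; haveI := h3
  let Fk := Coh.structureModule Xk
  haveI hq : Fk.IsQuasicoherent := isQuasicoherent_structureModule Xk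
  have hfp : CohB1.IsFP Fk := isFP_structureModule Xk
  have iso : Coh.structureModule X ≅ (Scheme.Modules.pullback e).obj Fk := (pullbackUnitIso e).symm
  haveI : CompactSpace Xk := QuasiCompact.compactSpace_of_compactSpace uk
  haveI : QuasiSeparatedSpace Xk := quasiSeparatedSpace_of_quasiSeparated uk
  have hY : IsPullback (c.π.app k) (𝟙 c.pt) (𝟙 (D.obj k)) (c.π.app k) := IsPullback.id_vert _
  -- properness at a stage
  obtain ⟨i₁, φ₁, Xi, Yi, fi, gi, pY, pX, q1, q2, q3⟩ :=
    Groth.Agent.S2074.result D c hc k uk (𝟙 (D.obj k)) u (𝟙 c.pt) (c.π.app k) e hY sq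
  haveI := q3
  haveI := isIso_of_id (D.map φ₁) gi pY q1
  have sq₁ : IsPullback pX (fi ≫ gi) uk (D.map φ₁) := isPullback_of_id _ _ _ _ _ _ q1 q2
  -- flatness at a stage
  have hfl' : FlatMod.IsFlatOver u ((Scheme.Modules.pullback e).obj Fk) :=
    (Groth.Agent.Lib.helper17.FlatOver7.isFlatOver_iff_of_iso u iso).mp hfl
  obtain ⟨i₂, φ₂, Xi', Yi', fi', gi', pY', pX', r1, r2, r3⟩ :=
    (Groth.Agent.S4849.result D c hc k uk (𝟙 (D.obj k)) Fk hfp u (𝟙 c.pt) (c.π.app k) e hY sq).mp
      hfl'
  haveI := isIso_of_id (D.map φ₂) gi' pY' r1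
  have sq₂ : IsPullback pX' (fi' ≫ gi') uk (D.map φ₂) := isPullback_of_id _ _ _ _ _ _ r1 r2
  have r3' : FlatMod.IsFlatOver (fi' ≫ gi') ((Scheme.Modules.pullback pX').obj Fk) := by
    have hsq : IsPullback (𝟙 Xi') (fi' ≫ gi') fi' (inv gi') :=
      IsPullback.of_horiz_isIso ⟨by simp⟩
    exact Groth.Agent.Lib.helper11.LimFlatSch.isFlatOver_of_isPullback hsq Fk pX' pX'
      (Category.id_comp _) r3
  -- a common stage
  obtain ⟨j, ψ₁, ψ₂, hψ⟩ := IsCofiltered.cospan φ₁ φ₂
  let φ : j ⟶ k := ψ₁ ≫ φ₁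
  let Xj := pullback (D.map φ) uk
  let uj : Xj ⟶ D.obj j := pullback.fst (D.map φ) uk
  let pj : Xj ⟶ Xk := pullback.snd (D.map φ) uk
  have sqj : IsPullback pj uj uk (D.map φ) := (IsPullback.of_hasPullback _ _).flip
  -- the map to the proper model
  let ℓ₁ : Xj ⟶ Xi := sq₁.lift pj (uj ≫ D.map ψ₁) (by
    rw [Category.assoc, ← D.map_comp]
    exact sqj.w)
  have hℓ₁ : IsPullback ℓ₁ uj (fi ≫ gi) (D.map ψ₁) := by
    refine IsPullback.of_right ?_ (sq₁.lift_snd _ _ _) sq₁
    rw [sq₁.lift_fst, ← D.map_comp]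
    exact sqj
  haveI : IsProper uj := MorphismProperty.of_isPullback (P := @IsProper) hℓ₁ inferInstance
  haveI : LocallyOfFinitePresentation uj :=
    MorphismProperty.of_isPullback (P := @LocallyOfFinitePresentation) sqj inferInstance
  -- the map to the flat model
  have hφ₂ : φ = ψ₂ ≫ φ₂ := hψ
  let ℓ₂ : Xj ⟶ Xi' := sq₂.lift pj (uj ≫ D.map ψ₂) (by
    rw [Category.assoc, ← D.map_comp, ← hφ₂]
    exact sqj.w)
  have hℓ₂ : IsPullback ℓ₂ uj (fi' ≫ gi') (D.map ψ₂) := by
    refine IsPullback.of_right ?_ (sq₂.lift_snd _ _ _) sq₂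
    rw [sq₂.lift_fst, ← D.map_comp, ← hφ₂]
    exact sqj
  have hflj : FlatMod.IsFlatOver uj ((Scheme.Modules.pullback pj).obj Fk) :=
    Groth.Agent.Lib.helper11.LimFlatSch.isFlatOver_of_isPullback hℓ₂ Fk pX' pj
      (sq₂.lift_fst _ _ _) r3'
  -- the map from `X`
  let ej : X ⟶ Xj := sqj.lift e (u ≫ c.π.app j) (by
    rw [Category.assoc, c.w]
    exact sq.w)
  have hej : IsPullback ej u uj (c.π.app j) := by
    refine IsPullback.of_right ?_ (sqj.lift_snd _ _ _) sqj
    rw [sqj.lift_fst, c.w]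
    exact sq
  refine ⟨j, Xj, uj, ej, inferInstance, inferInstance, hej, ?_⟩
  exact (Groth.Agent.Lib.helper17.FlatOver7.isFlatOver_iff_of_iso uj (pullbackUnitIso pj)).mp hflj

end Model

section Ring

/-- **Noetherian model over a ring, structure sheaf version.**  `fX : X ⟶ Spec A` proper, locally of finite
presentation with `O_X` flat over `A`: there are a Noetherian ring `A₀` with `A` an `A₀`-algebra, a proper
`f₀ : X₀ ⟶ Spec A₀` locally of finite presentation with `O_{X₀}` flat over `A₀`, and a cartesian square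
exhibiting `X` as the base change of `X₀`. -/
theorem exists_noetherian_proper_flat_model_O (A : Type u) [CommRing A] {X : Scheme.{u}}
    (fX : X ⟶ Spec (CommRingCat.of A)) [IsProper fX] [LocallyOfFinitePresentation fX]
    (hfl : FlatMod.IsFlatOver fX (Coh.structureModule X)) :
    ∃ (A₀ : Type u) (_ : CommRing A₀) (_ : IsNoetherianRing A₀) (_ : Algebra A₀ A)
      (X₀ : Scheme.{u}) (f₀ : X₀ ⟶ Spec (CommRingCat.of A₀)) (e : X ⟶ X₀),
      IsProper f₀ ∧ LocallyOfFinitePresentation f₀ ∧
      IsPullback e fX f₀ (Spec.map (CommRingCat.ofHom (algebraMap A₀ A))) ∧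
      FlatMod.IsFlatOver f₀ (Coh.structureModule X₀) := by
  let u' : X ⟶ (specCone (ULift.{u} ℤ) A).pt := fX
  haveI : IsProper u' := inferInstanceAs (IsProper fX)
  haveI : LocallyOfFinitePresentation u' := inferInstanceAs (LocallyOfFinitePresentation fX)
  obtain ⟨k, Xk, uk, e, h1, h2, sq, hflk⟩ :=
    exists_proper_flat_model_O (specDiagram (ULift.{u} ℤ) A) (specCone (ULift.{u} ℤ) A)
      (isLimitSpecCone (ULift.{u} ℤ) A) u' hfl
  letI : Algebra (adj (ULift.{u} ℤ) A k.unop) A := (adj (ULift.{u} ℤ) A k.unop).val.toRingHom.toAlgebra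
  exact ⟨adj (ULift.{u} ℤ) A k.unop, inferInstance, isNoetherianRing_adj A k.unop, inferInstance,
    Xk, uk, e, h1, h2, sq, hflk⟩

end Ring

end Groth.Agent.Lib.Helper18.EtGR
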