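import Groth.Agent.Lib.Helper18.EtH0d

set_option autoImplicit false
universe u

open CategoryTheory CategoryTheory.Limits Opposite TopologicalSpace AlgebraicGeometry

namespace Groth.Agent.Lib.Helper18.EtH0

open Groth.Agent.Lib.Helper18.NNComplex Groth.Agent.Lib.Helper18.Strat
  Groth.Agent.Lib.helper7.R1Free Groth.Agent.Lib.Helper18.SplitAlg
  Groth.Agent.Lib.Helper18.NNPush Groth.Agent.Lib.Helper18.NNLocal
  Groth.Agent.Lib.helper25.FLFLocus Groth.Agent.Lib.Lead.EulerLC
open Scheme.Modules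

section conseq

variable {X S : Scheme.{u}} {f : X ⟶ S} {F : X.Modules} {V : S.Opens} {hV : IsAffineOpen V}

/-- a chart whose Fitting conditions hold identically is split in degrees `-1, 0, 1` with constant rank -/
theorem chart_split_of_fitt (C : ChartData f F hV) (r : ℕ) (hJ : C.J r = ⊥) (hK : C.K r = ⊤) :
    MSplit (C.L.d (-1) 0) 1 ∧ MSplit (C.L.d 0 1) 1 ∧
      ∀ y : PrimeSpectrum Γ(S, V), CohIII.dRank C.L 0 y = r := by
  haveI := (C.ff 1).1
  haveI := (C.ff 1).2
  haveI := (C.ff 0).2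
  have hn₁ : ∀ y : PrimeSpectrum Γ(S, V), rK C.L y 1 = C.n₁ := fun y => fr_free y (C.L.X 1)
  obtain ⟨hs, hr⟩ := split_of_fitt_MK C.L (fun i => (C.ff i).1) r C.n₁ hn₁
    (fun k hk => by
      have := C.fitt_map_eq_bot r (RingHom.id _) (by rw [Ideal.map_id]; exact hJ) k hk
      rwa [Ideal.map_id] at this)
    (fun k hk => by
      have := C.fitt_map_eq_top r (RingHom.id _) (by rw [Ideal.map_id]; exact hK) k hk
      rwa [Ideal.map_id] at this)
  exact ⟨msplit_one_of_locally _ (msplit_neg_locally C.L C.ff C.neg), hs, hr⟩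

end conseq

section flf

variable {X S : Scheme.{u}} (f : X ⟶ S) [IsProper f] (F : X.Modules) [F.IsQuasicoherent]
  {V : S.Opens} {hV : IsAffineOpen V}

omit [IsProper f] [F.IsQuasicoherent] in
/-- over a chart whose Fitting conditions hold identically the sections of `f_* F` are finite projective -/
theorem projective_sections_of_fitt (C : ChartData f F hV) (r : ℕ) (hJ : C.J r = ⊥)
    (hK : C.K r = ⊤) :
    Module.Finite Γ(S, V) Γ((pushforward f).obj F, V) ∧
      Module.Projective Γ(S, V) Γ((pushforward f).obj F, V) := by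
  obtain ⟨hneg, hM, -⟩ := chart_split_of_fitt C r hJ hK
  obtain ⟨Θ₀, -⟩ := chart_push f F hV C.L C.comp
  have hg1 : GSplit (C.L.sc ((0 : ℕ) : ℤ)) 1 :=
    (gsplit_iff_dsplit C.L (show (ComplexShape.up ℤ).Rel 0 1 by simp) 1).mpr hM
  have hf1 : FSplit (C.L.sc ((0 : ℕ) : ℤ)) 1 :=
    (fsplit_iff_dsplit C.L (show (ComplexShape.up ℤ).Rel (-1) 0 by simp) 1).mpr hneg
  obtain ⟨t₂, ht₂⟩ := hg1
  obtain ⟨t₁, ht₁⟩ := hf1
  rw [one_smul] at ht₁ ht₂
  haveI : Module.Finite Γ(S, V) (C.L.sc ((0 : ℕ) : ℤ)).X₂ := (C.ff _).1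
  haveI : Module.Free Γ(S, V) (C.L.sc ((0 : ℕ) : ℤ)).X₂ := (C.ff _).2
  obtain ⟨hfinH, hprojH⟩ := projective_homology_of_splits (C.L.sc ((0 : ℕ) : ℤ)) t₁ t₂ ht₁ ht₂
  haveI : Module.Finite Γ(S, V) (C.L.homology ((0 : ℕ) : ℤ)) := hfinH
  haveI : Module.Projective Γ(S, V) (C.L.homology ((0 : ℕ) : ℤ)) := hprojH
  exact ⟨Module.Finite.equiv Θ₀, Module.Projective.of_equiv Θ₀⟩

end flf

section main

variable {X S : Scheme.{u}} (f : X ⟶ S) [IsProper f] [Flat f] [LocallyOfFinitePresentation f]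
  [IsLocallyNoetherian S] (y : S)

/-- **`f_* O_X` is free near a point whose fibre has an étale ring of functions** -/
theorem freeNear_push_of_etale (het : Algebra.Etale (S.residueField y) Γ(f.fiber y, ⊤)) :
    FreeNear ((pushforward f).obj (Coh.structureModule X)) y := by
  haveI := isQuasicoherent_structureModule X
  haveI : ((pushforward f).obj (Coh.structureModule X)).IsQuasicoherent :=
    Groth.Agent.Lib.helper7.QCohPushQC.isQuasicoherent_pushforward f _
  obtain ⟨V', hV', C', hyV', hJ, hK⟩ := exists_chart_fitt f y het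
  obtain ⟨h1, h2⟩ := projective_sections_of_fitt f _ C' _ hJ hK
  exact freeNear_of_projective_sections _ hV' h1 h2 y hyV'

end main

end Groth.Agent.Lib.Helper18.EtH0
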