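import Groth.Agent.Lib.Helper18.EtGR1
import Groth.Agent.Lib.Helper18.EtGR2
import Groth.Agent.Lib.Helper18.EtH0e
import Groth.Agent.Lib.Helper7.BCUnit
import Groth.Agent.Lib.Helper16.FLF5

set_option autoImplicit false
universe u

open TensorProduct CategoryTheory CategoryTheory.Limits AlgebraicGeometry Opposite TopologicalSpace

namespace Groth.Agent.Lib.Helper18.EtGR

open Groth.Agent.Lib.Helper18.NNComplex Groth.Agent.Lib.Helper18.Strat
  Groth.Agent.Lib.helper7.R1Free Groth.Agent.Lib.Helper18.EtH0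
open Scheme.Modules

/-- étaleness of the ring of functions of a fibre is insensitive to base change -/
theorem etale_fiber_iff_of_isPullback {P X Y Z : Scheme.{u}} {fst : P ⟶ X}
    {snd : P ⟶ Y} {f : X ⟶ Z} {g : Y ⟶ Z} (h : IsPullback fst snd f g) (y : Y)
    [QuasiCompact f] [QuasiSeparated f] :
    Algebra.Etale (Y.residueField y) Γ(snd.fiber y, ⊤) ↔
      Algebra.Etale (Z.residueField (g y)) Γ(f.fiber (g y), ⊤) := by
  have hpb := isPullback_fiberToSpecResidueField_of_isPullback h y
  haveI : QuasiCompact (f.fiberToSpecResidueField (g y)) :=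
    MorphismProperty.pullback_snd _ _ inferInstance
  haveI : QuasiSeparated (f.fiberToSpecResidueField (g y)) :=
    MorphismProperty.pullback_snd _ _ inferInstance
  exact etale_appTop_iff_of_isPullback (K := Z.residueField (g y)) (K' := Y.residueField y)
    (f.fiberToSpecResidueField (g y)) (g.residueFieldMap y).hom _ _ hpb

section univ

variable {X S : Scheme.{u}} {f : X ⟶ S}

/-- `UnivFLF` only depends on the isomorphism class of the module -/
theorem UnivFLF.of_iso {F F' : X.Modules} {r : ℕ} (h : UnivFLF f F r) (e : F ≅ F') :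
    UnivFLF f F' r := by
  refine ⟨Groth.Agent.Lib.helper16.FLF.isFinLocFreeOfRank_of_iso
    ((pushforward f).mapIso e) h.1, ?_⟩
  intro X' S' gX f' g hsq
  haveI := h.2 gX f' g hsq
  have hn := Groth.Agent.Lib.helper7.BCUnit.bc0_naturality f g f' gX hsq.w e.hom
  have h2 : CohBC.bc0 f g f' gX hsq.w F' =
      inv ((Scheme.Modules.pullback g).map ((pushforward f).map e.hom)) ≫
        CohBC.bc0 f g f' gX hsq.w F ≫
          (pushforward f').map ((Scheme.Modules.pullback gX).map e.hom) := by
    rw [IsIso.eq_inv_comp]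
    exact hn
  rw [h2]
  infer_instance

end univ

section noeth

variable {X S : Scheme.{u}} (f : X ⟶ S) [IsProper f] [LocallyOfFinitePresentation f]
  [IsLocallyNoetherian S] (y : S)

/-- `EtH0.exists_chart_fitt` with flatness of the structure sheaf as a hypothesis -/
theorem exists_chart_fitt' (hfl : FlatMod.IsFlatOver f (Coh.structureModule X))
    (het : Algebra.Etale (S.residueField y) Γ(f.fiber y, ⊤)) :
    ∃ (V' : S.Opens) (hV' : IsAffineOpen V') (C' : ChartData f (Coh.structureModule X) hV'),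
      y ∈ V' ∧ C'.J (CohIII.fiberRank f (Coh.structureModule X) 0 y) = ⊥ ∧
        C'.K (CohIII.fiberRank f (Coh.structureModule X) 0 y) = ⊤ := by
  have hfp := isFP_structureModule X
  haveI := isQuasicoherent_structureModule X
  set d := CohIII.fiberRank f (Coh.structureModule X) 0 y with hd
  have husc := Groth.Agent.Lib.helper7.NNFibreH0.upperSemicontinuous_fiberRank f
    (Coh.structureModule X) hfp hfl 0
  have hopen : IsOpen {s | CohIII.fiberRank f (Coh.structureModule X) 0 s < d + 1} :=
    (upperSemicontinuous_iff_isOpen_preimage.mp husc) (d + 1)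
  obtain ⟨V, hV, hyV, hVU⟩ := Opens.isBasis_iff_nbhd.mp S.isBasis_affineOpens
    (show y ∈ (⟨_, hopen⟩ : S.Opens) from Nat.lt_succ_self d)
  have hV : IsAffineOpen V := hV
  obtain ⟨C⟩ := nonempty_chartData f (Coh.structureModule X) hfp hfl hV
  have hle_d : ∀ s ∈ V, CohIII.fiberRank f (Coh.structureModule X) 0 s ≤ d :=
    fun s hs => Nat.lt_succ_iff.mp (hVU hs)
  have hJ := map_germ_J_eq_bot f y het hyV C
  letI := S.presheaf.algebra_section_stalk ⟨y, hyV⟩
  haveI := hV.isLocalization_stalk ⟨y, hyV⟩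
  obtain ⟨a, ha, haJ⟩ := exists_mul_eq_zero_of_map_eq_bot (L := S.presheaf.stalk y)
    (hV.primeIdealOf ⟨y, hyV⟩).asIdeal (C.J d) (J_fg d C) hJ
  have hV' : IsAffineOpen (S.basicOpen a) := hV.basicOpen a
  have hyV' : y ∈ S.basicOpen a := by
    have := (Groth.Agent.Lib.Lead.DiscCompl.fromSpec_mem_basicOpen_iff hV a
      (hV.primeIdealOf ⟨y, hyV⟩)).mpr ha
    rwa [hV.fromSpec_primeIdealOf ⟨y, hyV⟩] at this
  obtain ⟨C'⟩ := nonempty_chartData f (Coh.structureModule X) hfp hfl hV'
  refine ⟨S.basicOpen a, hV', C', hyV', ?_,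
    K_eq_top C' d (fun s hs => hle_d s (S.basicOpen_le a hs))⟩
  rw [← J_map_res C C' (S.basicOpen_le a) d hle_d, Ideal.map_eq_bot_iff_le_ker]
  intro j hj
  rw [RingHom.mem_ker]
  have hunit : IsUnit ((S.presheaf.map (homOfLE (S.basicOpen_le a)).op).hom a) :=
    RingedSpace.isUnit_res_basicOpen S.toRingedSpace a
  have h2 := congrArg (S.presheaf.map (homOfLE (S.basicOpen_le a)).op).hom (haJ j hj)
  rw [map_mul, map_zero] at h2
  exact (hunit.mul_right_eq_zero).mp h2

end noeth

end Groth.Agent.Lib.Helper18.EtGR
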