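import Groth.Agent.Lib.Helper18.EtGR1
import Groth.Agent.Lib.Helper18.EtGR2
import Groth.Agent.Lib.Helper18.EtH0e
import Groth.Agent.Lib.Helper7.BCUnit
import Groth.Agent.Lib.Helper16.FLF5
import Groth.Agent.Lib.Helper18.EtGR3

set_option autoImplicit false
universe u

open TensorProduct CategoryTheory CategoryTheory.Limits AlgebraicGeometry Opposite TopologicalSpace

namespace Groth.Agent.Lib.Helper18.EtGR

open Groth.Agent.Lib.Helper18.NNComplex Groth.Agent.Lib.Helper18.Strat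
  Groth.Agent.Lib.helper7.R1Free Groth.Agent.Lib.Helper18.EtH0
  Groth.Agent.Lib.Helper18.NNChart Groth.Agent.Lib.Helper18.NNMaster
  Groth.Agent.Lib.helper8.GenBCChart Groth.Agent.Lib.helper21.GCBase
  Groth.Agent.Lib.helper11.InvMod
open Scheme.Modules

section gen

variable {X S : Scheme.{u}} (f : X ⟶ S) [IsProper f] [LocallyOfFinitePresentation f]

omit [IsProper f] [LocallyOfFinitePresentation f] in
/-- flatness of the structure sheaf passes to the chart `f⁻¹V ⟶ Spec Γ(S, V)` -/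
theorem isFlatOver_fU (hfl : FlatMod.IsFlatOver f (Coh.structureModule X))
    {V : S.Opens} (hV : IsAffineOpen V) :
    FlatMod.IsFlatOver (fU f hV (le_refl (f ⁻¹ᵁ V)))
      (Coh.structureModule (↑(f ⁻¹ᵁ V) : Scheme.{u})) := by
  haveI := isQuasicoherent_structureModule X
  have sqV : IsPullback (f ⁻¹ᵁ V).ι (fU f hV (le_refl (f ⁻¹ᵁ V))) f hV.fromSpec := by
    rw [fU_eq_fA]
    exact isPullback_chart f hV
  have h1 : FlatMod.IsFlatOver f ((Scheme.Modules.pullback (𝟙 X)).obj (Coh.structureModule X)) :=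
    (Groth.Agent.Lib.helper17.FlatOver7.isFlatOver_iff_of_iso f (pullbackUnitIso (𝟙 X))).mpr hfl
  have h2 := Groth.Agent.Lib.helper11.LimFlatSch.isFlatOver_of_isPullback sqV
    (Coh.structureModule X) (𝟙 X) (f ⁻¹ᵁ V).ι (Category.comp_id _) h1
  exact (Groth.Agent.Lib.helper17.FlatOver7.isFlatOver_iff_of_iso _
    (pullbackUnitIso (f ⁻¹ᵁ V).ι)).mp h2

/-- **Part B** (any base): near a point whose fibre has an étale ring of functions there is a chart whose
Fitting conditions hold identically -/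
theorem exists_chart_fitt_gen (hfl : FlatMod.IsFlatOver f (Coh.structureModule X)) (y : S)
    (het : Algebra.Etale (S.residueField y) Γ(f.fiber y, ⊤)) :
    ∃ (V' : S.Opens) (hV' : IsAffineOpen V') (C' : ChartData f (Coh.structureModule X) hV')
      (r : ℕ), y ∈ V' ∧ C'.J r = ⊥ ∧ C'.K r = ⊤ := by
  have hfp := isFP_structureModule X
  haveI := isQuasicoherent_structureModule X
  obtain ⟨V, hV, hyV, -⟩ := Opens.isBasis_iff_nbhd.mp S.isBasis_affineOpens
    (show y ∈ (⊤ : S.Opens) from trivial)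
  have hV : IsAffineOpen V := hV
  have sqV : IsPullback (f ⁻¹ᵁ V).ι (fU f hV (le_refl (f ⁻¹ᵁ V))) f hV.fromSpec := by
    rw [fU_eq_fA]
    exact isPullback_chart f hV
  -- the Noetherian model
  obtain ⟨A₀, _, _, _, X₀, f₀, e, hp₀, hlfp₀, sq₀, hfl₀⟩ :=
    exists_noetherian_proper_flat_model_O Γ(S, V) (fU f hV (le_refl (f ⁻¹ᵁ V)))
      (isFlatOver_fU f hfl hV)
  haveI := hp₀
  haveI := hlfp₀
  set ψ := Spec.map (CommRingCat.ofHom (algebraMap A₀ Γ(S, V))) with hψ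
  -- points
  set y' := hV.primeIdealOf ⟨y, hyV⟩ with hy'
  have hy'y : hV.fromSpec y' = y := hV.fromSpec_primeIdealOf ⟨y, hyV⟩
  -- étaleness at the image point
  have het₁ : Algebra.Etale ((Spec (CommRingCat.of Γ(S, V))).residueField y')
      Γ((fU f hV (le_refl (f ⁻¹ᵁ V))).fiber y', ⊤) := by
    rw [etale_fiber_iff_of_isPullback sqV y']
    rw [hy'y]
    exact het
  have het₀ : Algebra.Etale ((Spec (CommRingCat.of A₀)).residueField (ψ y'))
      Γ(f₀.fiber (ψ y'), ⊤) := (etale_fiber_iff_of_isPullback sq₀ y').mp het₁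
  -- the Noetherian case
  obtain ⟨V₀, hV₀, C₀, hs₀, hJ₀, hK₀⟩ := exists_chart_fitt' f₀ (ψ y') hfl₀ het₀
  set r := CohIII.fiberRank f₀ (Coh.structureModule X₀) 0 (ψ y') with hr
  -- a basic open around `y'` inside `ψ⁻¹ V₀`
  have hopen : IsOpen (X := PrimeSpectrum Γ(S, V)) {t | ψ t ∈ V₀} := (ψ ⁻¹ᵁ V₀).isOpen
  obtain ⟨_, ⟨a, rfl⟩, hya, hle⟩ :=
    (PrimeSpectrum.isTopologicalBasis_basic_opens (R := Γ(S, V))).exists_subset_of_mem_open
      (a := y') (u := {t | ψ t ∈ V₀}) hs₀ hopen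
  have hV' : IsAffineOpen (S.basicOpen a) := hV.basicOpen a
  have hyV' : y ∈ S.basicOpen a := by
    have := (Groth.Agent.Lib.Lead.DiscCompl.fromSpec_mem_basicOpen_iff hV a y').mpr hya
    rwa [hy'y] at this
  obtain ⟨C'⟩ := nonempty_chartData f (Coh.structureModule X) hfp hfl hV'
  refine ⟨S.basicOpen a, hV', C', r, hyV', ?_⟩
  -- the restriction square
  have hid : IsPullback (𝟙 X) f f (𝟙 S) := IsPullback.id_horiz f
  have hV'V : S.basicOpen a ≤ (𝟙 S) ⁻¹ᵁ V := S.basicOpen_le a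
  have sq1 := isPullback_chart₁ f (𝟙 S) (𝟙 X) f hid hV hV' hV'V
  have sq2 := sq1.paste_horiz sq₀
  have hρ : ∀ t : ↥(Spec (CommRingCat.of Γ(S, S.basicOpen a))),
      (Spec.map (Scheme.Hom.appLE (𝟙 S) V (S.basicOpen a) hV'V)) t ∈ PrimeSpectrum.basicOpen a := by
    intro t
    have hunit : IsUnit ((Scheme.Hom.appLE (𝟙 S) V (S.basicOpen a) hV'V).hom a) := by
      have h1 : Scheme.Hom.appLE (𝟙 S) V (S.basicOpen a) hV'V =
          S.presheaf.map (homOfLE (S.basicOpen_le a)).op := by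
        simp only [Scheme.Hom.appLE, Scheme.Hom.id_app, Category.id_comp]
        rfl
      rw [h1]
      exact RingedSpace.isUnit_res_basicOpen S.toRingedSpace a
    show a ∉ ((Spec.map (Scheme.Hom.appLE (𝟙 S) V (S.basicOpen a) hV'V)) t).asIdeal
    intro ha
    exact t.isPrime.ne_top (Ideal.eq_top_of_isUnit_mem _ ha hunit)
  have hU : UnivFLF (fU f hV' (le_refl (f ⁻¹ᵁ S.basicOpen a)))
      ((Scheme.Modules.pullback
        (Scheme.Hom.resLE (𝟙 X) (f ⁻¹ᵁ V) (f ⁻¹ᵁ S.basicOpen a) (chart_le f (𝟙 S) (𝟙 X) f hid hV'V) ≫ e)).obj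
        (Coh.structureModule X₀)) r := by
    refine univFLF_of_fitt (Spec.map (Scheme.Hom.appLE (𝟙 S) V (S.basicOpen a) hV'V) ≫ ψ) _ _ sq2 r
      (fun t => ⟨V₀, hV₀, C₀, ⊤, isAffineOpen_top _, fun t _ => hle (hρ t), trivial, ?_, ?_⟩)
    · rw [hJ₀, Ideal.map_bot]
    · rw [hK₀, Ideal.map_top]
  have hU' := UnivFLF.of_iso hU ((pullbackUnitIso _) ≪≫ (pullbackUnitIso (f ⁻¹ᵁ S.basicOpen a).ι).symm)
  have sqV' : IsPullback (f ⁻¹ᵁ S.basicOpen a).ι (fU f hV' (le_refl (f ⁻¹ᵁ S.basicOpen a))) f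
      (Spec.map (𝟙 Γ(S, S.basicOpen a)) ≫ hV'.fromSpec) := by
    rw [Spec.map_id, fU_eq_fA]
    erw [Category.id_comp]
    exact isPullback_chart f hV'
  have h3 := (rep_iff C' Γ(S, S.basicOpen a) (𝟙 _) r (f ⁻¹ᵁ S.basicOpen a).ι
    (fU f hV' (le_refl (f ⁻¹ᵁ S.basicOpen a))) sqV').mp hU'
  simpa [Ideal.map_id] using h3

end gen

section rank

variable {X S : Scheme.{u}} {f : X ⟶ S} {F : X.Modules} {V : S.Opens} {hV : IsAffineOpen V}

/-- on a chart whose Fitting conditions hold identically the fibre rank is constant -/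
theorem fiberRank_eq_of_fitt (C : ChartData f F hV) (r : ℕ) (hJ : C.J r = ⊥) (hK : C.K r = ⊤)
    (s : S) (hs : s ∈ V) : CohIII.fiberRank f F 0 s = r := by
  set s' := hV.primeIdealOf ⟨s, hs⟩ with hs'
  have hss : hV.fromSpec s' = s := hV.fromSpec_primeIdealOf ⟨s, hs⟩
  have h1 := (J_le_iff C r s').mp (by rw [hJ]; exact bot_le)
  have h2 := (K_not_le_iff C r s').mp (by
    rw [hK]
    intro h
    exact s'.isPrime.ne_top (top_le_iff.mp h))
  rw [hss] at h1 h2
  omega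

end rank

end Groth.Agent.Lib.Helper18.EtGR
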