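import Groth.Agent.Lib.Helper18.EtH0e
import Groth.Agent.Lib.Helper7.ThickAff1

set_option autoImplicit false
universe u

open CategoryTheory CategoryTheory.Limits Opposite TopologicalSpace AlgebraicGeometry

namespace Groth.Agent.Lib.Helper18.EtH0

open Groth.Agent.Lib.Helper18.BCHom Groth.Agent.Lib.Helper18.NNComplex
  Groth.Agent.Lib.Helper18.NNChart Groth.Agent.Lib.Helper18.NNMaster
  Groth.Agent.Lib.Helper18.NNMaster0
  Groth.Agent.Lib.Helper18.NNRows Groth.Agent.Lib.Helper18.NNFibre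
  Groth.Agent.Lib.Helper18.NNLocal Groth.Agent.Lib.Helper18.SplitAlg
  Groth.Agent.Lib.helper21.GCBase Groth.Agent.Lib.helper8.GenBCChart
  Groth.Agent.Lib.helper8.PullbackUnit Groth.Agent.Lib.helper8.EpsAffine
  Groth.Agent.Lib.helper7.H0Span
  Groth.Agent.Lib.helper11.InvMod Groth.Agent.Lib.Helper18 Groth.Agent.Lib.helper11.InvPullback
  Groth.Agent.Lib.Helper18.Strat Groth.Agent.Lib.helper7.R1Free
open Scheme.Modules

section conv

variable {A : Type u} [CommRing A] {Y : Scheme.{u}} (fY : Y ⟶ Spec (CommRingCat.of A))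
  (L : CochainComplex (ModuleCat.{u} A) ℤ)

/-- if `L` computes the cohomology of `O_Y` naturally and `H⁰(L) → H⁰(L ⊗ B)` is surjective then
`Γ(Y, O) → Γ(Y_B, O)` is surjective -/
theorem surjective_app_of_surjective_ιH (hL : ComputesNat A fY (Coh.structureModule Y) L)
    (B : Type u) [CommRing B] [Algebra A B] (Y' : Scheme.{u})
    (fY' : Y' ⟶ Spec (CommRingCat.of B)) (g' : Y' ⟶ Y)
    (hpb : IsPullback g' fY' fY (Spec.map (CommRingCat.ofHom (algebraMap A B))))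
    (hs : Function.Surjective (ιH (algebraMap A B) L ((0 : ℕ) : ℤ))) :
    Function.Surjective (g'.app ⊤).hom := by
  obtain ⟨e₀, he₀, H⟩ := hL 0
  obtain ⟨e, he, hnat⟩ := H B Y' fY' g' hpb
  intro τ
  obtain ⟨x, hx⟩ := hs (e.symm ((ΘX g').symm τ))
  refine ⟨HH.equiv₀ (Coh.structureModule Y) (e₀ x), ?_⟩
  rw [← ΘX_pullMod, ← hnat, hx, e.apply_symm_apply, LinearEquiv.apply_symm_apply]

end conv

section gsplit

variable {X S : Scheme.{u}} (f : X ⟶ S) {W : S.Opens} (hW : IsAffineOpen W)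
  (L : CochainComplex (ModuleCat.{u} Γ(S, W)) ℤ)
  (hL : ComputesNat Γ(S, W) (fU f hW (le_refl (f ⁻¹ᵁ W)))
    ((Coh.structureModule X).restrict (f ⁻¹ᵁ W).ι) L)

include hL in
/-- **converse of `exists_gsplit_of_surjective`**: if `L⁰ ⟶ L¹` is split and `Γ(S, W) → Γ(T, ⊤)` is surjective,
functions on `f⁻¹ W` surject onto functions on the base change -/
theorem surjective_appLE_of_gsplit {T X'' : Scheme.{u}} (v : T ⟶ S) (gX : X'' ⟶ X) (f'' : X'' ⟶ T)
    (hsq : IsPullback gX f'' f v) (hT : IsAffineOpen (⊤ : T.Opens))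
    (htop : (⊤ : T.Opens) ≤ v ⁻¹ᵁ W)
    (hφ : Function.Surjective (v.appLE W ⊤ htop).hom)
    (hs : GSplit (L.sc ((0 : ℕ) : ℤ)) 1) :
    Function.Surjective
      (gX.appLE (f ⁻¹ᵁ W) (f'' ⁻¹ᵁ ⊤) (chart_le f v gX f'' hsq htop)).hom := by
  have hL' : ComputesNat Γ(S, W) (fU f hW (le_refl (f ⁻¹ᵁ W)))
      (Coh.structureModule (↑(f ⁻¹ᵁ W) : Scheme.{u})) L :=
    ComputesNat.of_iso _ (Scheme.Modules.restrictUnitIso (f ⁻¹ᵁ W).ι) hL
  have hpb := isPullback_chart₁ f v gX f'' hsq hW hT htop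
  letI : Algebra Γ(S, W) Γ(T, ⊤) := (v.appLE W ⊤ htop).hom.toAlgebra
  have hbc : IsBC (algebraMap Γ(S, W) Γ(T, ⊤)) (ιH (algebraMap Γ(S, W) Γ(T, ⊤)) L ((0 : ℕ) : ℤ)) :=
    isBC_ιS_of_gsplit _ (L.sc ((0 : ℕ) : ℤ)) 1 hs (by rw [map_one]; exact isUnit_one)
  have hsι := Groth.Agent.Lib.helper7.ThickAff.IsBC.surjective_of_surjective hbc hφ
  have h0 := surjective_app_of_surjective_ιH (fU f hW (le_refl (f ⁻¹ᵁ W))) L hL'
    Γ(T, ⊤) _ (fU f'' hT (le_refl _)) _ hpb hsι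
  have h1 : (gX.resLE (f ⁻¹ᵁ W) (f'' ⁻¹ᵁ ⊤) (chart_le f v gX f'' hsq htop)).appTop =
      (f ⁻¹ᵁ W).topIso.hom ≫ gX.appLE (f ⁻¹ᵁ W) (f'' ⁻¹ᵁ ⊤) (chart_le f v gX f'' hsq htop) ≫
        (f'' ⁻¹ᵁ ⊤).topIso.inv :=
    Scheme.Hom.resLE_app_top gX _
  intro τ
  obtain ⟨σ, hσ⟩ := h0 ((f'' ⁻¹ᵁ ⊤).topIso.inv.hom τ)
  refine ⟨(f ⁻¹ᵁ W).topIso.hom.hom σ, ?_⟩
  apply (ConcreteCategory.bijective_of_isIso (f'' ⁻¹ᵁ ⊤).topIso.inv).1
  rw [← hσ]
  show _ = (gX.resLE (f ⁻¹ᵁ W) (f'' ⁻¹ᵁ ⊤) (chart_le f v gX f'' hsq htop)).appTop.hom σ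
  rw [h1]
  rfl

end gsplit

section loc

lemma presheaf_map_bijective_of_eq {X : Scheme.{u}} {U V : X.Opens} (h : U = V)
    (i : op V ⟶ op U) : Function.Bijective (X.presheaf.map i).hom := by
  subst h
  have : i = 𝟙 _ := Subsingleton.elim _ _
  rw [this, CategoryTheory.Functor.map_id]
  exact Function.bijective_id

variable {X S : Scheme.{u}} (f : X ⟶ S) [IsProper f] [Flat f] [LocallyOfFinitePresentation f]
  [IsLocallyNoetherian S] (y : S)

/-- **over a local base, functions on `X` surject onto functions on the closed fibre** (when the latter are étale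
over the residue field) -/
theorem appTop_fiberι_surjective (het : Algebra.Etale (S.residueField y) Γ(f.fiber y, ⊤))
    (hcl : IsClosed ({y} : Set S)) (hgen : ∀ s : S, s ⤳ y) :
    Function.Surjective (f.fiberι y).appTop.hom := by
  haveI := isQuasicoherent_structureModule X
  obtain ⟨V', hV', C', hyV', hJ, hK⟩ := exists_chart_fitt f y het
  obtain ⟨-, hM, -⟩ := chart_split_of_fitt C' _ hJ hK
  have hg1 : GSplit (C'.L.sc ((0 : ℕ) : ℤ)) 1 :=
    (gsplit_iff_dsplit C'.L (show (ComplexShape.up ℤ).Rel 0 1 by simp) 1).mpr hM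
  have hVtop : V' = ⊤ := by
    ext s
    simp only [SetLike.mem_coe, Opens.coe_top, Set.mem_univ, iff_true]
    exact (hgen s).mem_open V'.2 hyV'
  haveI : IsClosedImmersion (S.fromSpecResidueField y) :=
    isClosed_singleton_iff_isClosedImmersion.mp hcl
  have htop := top_le_preimage y hyV'
  have hφ : Function.Surjective ((S.fromSpecResidueField y).appLE V' ⊤ htop).hom := by
    intro r
    obtain ⟨r', hr'⟩ := (presheaf_map_bijective_of_eq (top_le_iff.mp htop).symm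
      (homOfLE htop).op).2 r
    obtain ⟨σ, hσ⟩ := (S.fromSpecResidueField y).app_surjective V' hV' r'
    refine ⟨σ, ?_⟩
    rw [← hr', ← hσ]
    rfl
  have hsq : IsPullback (f.fiberι y) (f.fiberToSpecResidueField y) f
      (S.fromSpecResidueField y) := IsPullback.of_hasPullback _ _
  have h1 := surjective_appLE_of_gsplit f hV' C'.L C'.comp (S.fromSpecResidueField y)
    (f.fiberι y) (f.fiberToSpecResidueField y) hsq (isAffineOpen_top _) htop hφ hg1
  intro τ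
  obtain ⟨σ, hσ⟩ := h1 τ
  have hXtop : f ⁻¹ᵁ V' = ⊤ := by rw [hVtop]; rfl
  obtain ⟨σ', hσ'⟩ := (presheaf_map_bijective_of_eq hXtop (homOfLE le_top).op).2 σ
  refine ⟨σ', ?_⟩
  rw [← hσ, ← hσ']
  have h2 := Scheme.Hom.map_appLE (f.fiberι y) (chart_le f (S.fromSpecResidueField y) (f.fiberι y)
    (f.fiberToSpecResidueField y) hsq htop) (homOfLE (le_top : f ⁻¹ᵁ V' ≤ ⊤)).op
  have h3 := congrArg (fun t => t.hom σ') h2
  refine Eq.trans ?_ h3.symm
  have e1 : ∀ (z : Γ(f.fiber y, ⊤)) (e : (⊤ : (f.fiber y).Opens) ≤ ⊤),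
      ((f.fiber y).presheaf.map (homOfLE e).op).hom z = z := by
    intro z e
    have : (homOfLE e).op = 𝟙 _ := Subsingleton.elim _ _
    rw [this, CategoryTheory.Functor.map_id]
    rfl
  exact (e1 _ _).symm

end loc

end Groth.Agent.Lib.Helper18.EtH0
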