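import Groth.Agent.Lib.Helper18.EtGR4
import Groth.Agent.Lib.Helper18.EtH0f

set_option autoImplicit false
universe u

open TensorProduct CategoryTheory CategoryTheory.Limits AlgebraicGeometry Opposite TopologicalSpace

namespace Groth.Agent.Lib.Helper18.EtGR

open Groth.Agent.Lib.Helper18.BCHom Groth.Agent.Lib.Helper18.NNComplex
  Groth.Agent.Lib.Helper18.NNChart Groth.Agent.Lib.Helper18.NNMaster
  Groth.Agent.Lib.Helper18.NNMaster0
  Groth.Agent.Lib.Helper18.NNRows Groth.Agent.Lib.Helper18.NNFibre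
  Groth.Agent.Lib.Helper18.NNLocal Groth.Agent.Lib.Helper18.SplitAlg
  Groth.Agent.Lib.helper21.GCBase Groth.Agent.Lib.helper8.GenBCChart
  Groth.Agent.Lib.helper8.PullbackUnit Groth.Agent.Lib.helper8.EpsAffine
  Groth.Agent.Lib.helper7.H0Span Groth.Agent.Lib.Helper18.EtH0
  Groth.Agent.Lib.helper11.InvMod Groth.Agent.Lib.Helper18 Groth.Agent.Lib.helper11.InvPullback
open Scheme.Modules

section ring

variable {A : Type u} [CommRing A] {Y : Scheme.{u}} (fY : Y ⟶ Spec (CommRingCat.of A))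
  (L : CochainComplex (ModuleCat.{u} A) ℤ)

/-- pullback of global functions, additively -/
noncomputable def appTopAdd {Y Y' : Scheme.{u}} (g' : Y' ⟶ Y) : Coh.Γtop Y →+ Coh.Γtop Y' :=
  (g'.app ⊤).hom.toAddMonoidHom

/-- **ring-level base change in degree zero**: if `L` computes the cohomology of `O_Y` naturally and `L⁰ ⟶ L¹` is
split up to a unit of `B`, then `Γ(Y_B, O) = B ⊗_A Γ(Y, O)` through the pullback of functions -/
theorem isBC_appTop (hL : ComputesNat A fY (Coh.structureModule Y) L)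
    (B : Type u) [CommRing B] [Algebra A B] (Y' : Scheme.{u})
    (fY' : Y' ⟶ Spec (CommRingCat.of B)) (g' : Y' ⟶ Y)
    (hpb : IsPullback g' fY' fY (Spec.map (CommRingCat.ofHom (algebraMap A B))))
    (a : A) (hs : GSplit (L.sc ((0 : ℕ) : ℤ)) a) (ha : IsUnit (algebraMap A B a)) :
    letI : Module A (Coh.Γtop Y) := Module.compHom _ (Coh.toGlobal fY)
    letI : Module B (Coh.Γtop Y') := Module.compHom _ (Coh.toGlobal fY')
    IsBC (algebraMap A B) (appTopAdd g') := by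
  letI mA : Module A (Coh.Γtop Y) := Module.compHom _ (Coh.toGlobal fY)
  letI mB : Module B (Coh.Γtop Y') := Module.compHom _ (Coh.toGlobal fY')
  obtain ⟨e₀, he₀, H⟩ := hL 0
  obtain ⟨e, he, hnat⟩ := H B Y' fY' g' hpb
  have hbc : IsBC (algebraMap A B) (ιH (algebraMap A B) L ((0 : ℕ) : ℤ)) :=
    isBC_ιS_of_gsplit _ (L.sc ((0 : ℕ) : ℤ)) a hs ha
  let eN : Coh.Γtop Y ≃ₗ[A] L.homology ((0 : ℕ) : ℤ) :=
    { ((HH.equiv₀ (Coh.structureModule Y)).symm.toAddEquiv.trans e₀.symm) with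
      map_smul' := fun c σ => by
        have h1 := (HH.equiv₀ (Coh.structureModule Y)).symm.map_smul (Coh.toGlobal fY c)
          (show (Coh.structureModule Y).val.obj (op ⊤) from σ)
        show e₀.symm ((HH.equiv₀ (Coh.structureModule Y)).symm (Coh.toGlobal fY c • σ)) =
          c • e₀.symm ((HH.equiv₀ (Coh.structureModule Y)).symm σ)
        refine (AddEquiv.symm_apply_eq e₀).mpr ?_
        rw [he₀, AddEquiv.apply_symm_apply]
        exact h1 }
  let eP : Coh.Γtop Y' ≃ₗ[B] (CohIII.bcCx (algebraMap A B) L).homology ((0 : ℕ) : ℤ) :=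
    { ((ΘX g').symm.toAddEquiv.trans e.symm) with
      map_smul' := fun c σ => by
        have h1 := (ΘX g').symm.map_smul (Coh.toGlobal fY' c) σ
        show e.symm ((ΘX g').symm (Coh.toGlobal fY' c • σ)) = c • e.symm ((ΘX g').symm σ)
        refine (AddEquiv.symm_apply_eq e).mpr ?_
        rw [he, AddEquiv.apply_symm_apply]
        exact h1 }
  refine hbc.of_equiv eN eP _ (fun σ => ?_)
  show e.symm ((ΘX g').symm ((g'.app ⊤).hom σ)) =
    ιH (algebraMap A B) L ((0 : ℕ) : ℤ) (e₀.symm ((HH.equiv₀ (Coh.structureModule Y)).symm σ))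
  rw [AddEquiv.symm_apply_eq, hnat, AddEquiv.apply_symm_apply, LinearEquiv.symm_apply_eq,
    ΘX_pullMod, LinearEquiv.apply_symm_apply]

/-- the same as a pushout square of commutative rings -/
theorem isPushout_appTop_of_gsplit (hL : ComputesNat A fY (Coh.structureModule Y) L)
    (B : Type u) [CommRing B] [Algebra A B] (Y' : Scheme.{u})
    (fY' : Y' ⟶ Spec (CommRingCat.of B)) (g' : Y' ⟶ Y)
    (hpb : IsPullback g' fY' fY (Spec.map (CommRingCat.ofHom (algebraMap A B))))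
    (a : A) (hs : GSplit (L.sc ((0 : ℕ) : ℤ)) a) (ha : IsUnit (algebraMap A B a)) :
    IsPushout ((Scheme.ΓSpecIso (.of A)).inv ≫ fY.appTop) (CommRingCat.ofHom (algebraMap A B))
      g'.appTop ((Scheme.ΓSpecIso (.of B)).inv ≫ fY'.appTop) := by
  have hbc := isBC_appTop fY L hL B Y' fY' g' hpb a hs ha
  letI : Algebra A Γ(Y, ⊤) := ((Scheme.ΓSpecIso (.of A)).inv ≫ fY.appTop).hom.toAlgebra
  letI : Algebra B Γ(Y', ⊤) := ((Scheme.ΓSpecIso (.of B)).inv ≫ fY'.appTop).hom.toAlgebra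
  letI : Algebra Γ(Y, ⊤) Γ(Y', ⊤) := g'.appTop.hom.toAlgebra
  letI : Algebra A Γ(Y', ⊤) := ((algebraMap Γ(Y, ⊤) Γ(Y', ⊤)).comp (algebraMap A Γ(Y, ⊤))).toAlgebra
  haveI : IsScalarTower A Γ(Y, ⊤) Γ(Y', ⊤) := IsScalarTower.of_algebraMap_eq' rfl
  have hw : fY.appTop ≫ g'.appTop =
      (Spec.map (CommRingCat.ofHom (algebraMap A B))).appTop ≫ fY'.appTop := by
    rw [← Scheme.Hom.comp_appTop, ← Scheme.Hom.comp_appTop, hpb.w]
  have hcommC : CommRingCat.ofHom (algebraMap A B) ≫ (Scheme.ΓSpecIso (.of B)).inv ≫ fY'.appTop =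
      (Scheme.ΓSpecIso (.of A)).inv ≫ fY.appTop ≫ g'.appTop := by
    rw [hw, Scheme.ΓSpecIso_inv_naturality_assoc]
  have hcomm : (algebraMap B Γ(Y', ⊤)).comp (algebraMap A B) = algebraMap A Γ(Y', ⊤) :=
    RingHom.ext fun x => congr($(hcommC).hom x)
  haveI : IsScalarTower A B Γ(Y', ⊤) := IsScalarTower.of_algebraMap_eq' hcomm.symm
  have hpo : Algebra.IsPushout A B Γ(Y, ⊤) Γ(Y', ⊤) := by
    constructor
    exact IsBC.isBaseChange _ hbc
  exact (CommRingCat.isPushout_iff_isPushout (R := A) (S := B) (R' := Γ(Y, ⊤))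
    (S' := Γ(Y', ⊤))).mpr hpo.symm

end ring

section scheme

variable {X S : Scheme.{u}} (f : X ⟶ S) {W : S.Opens} (hW : IsAffineOpen W)
  (L : CochainComplex (ModuleCat.{u} Γ(S, W)) ℤ)
  (hL : ComputesNat Γ(S, W) (fU f hW (le_refl (f ⁻¹ᵁ W)))
    ((Coh.structureModule X).restrict (f ⁻¹ᵁ W).ι) L)

/-- the structure map of the chart on global functions -/
theorem ΓSpecIso_inv_fU_appTop :
    (Scheme.ΓSpecIso (.of Γ(S, W))).inv ≫ (fU f hW (le_refl (f ⁻¹ᵁ W))).appTop ≫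
      (f ⁻¹ᵁ W).topIso.hom = f.app W := by
  ext r
  have h1 := toGlobal_fU_self f hW r
  have h2 : ((Scheme.ΓSpecIso (.of Γ(S, W))).inv ≫ (fU f hW (le_refl (f ⁻¹ᵁ W))).appTop).hom r =
      (f ⁻¹ᵁ W).topIso.inv.hom ((f.app W).hom r) := h1
  show (f ⁻¹ᵁ W).topIso.hom.hom (((Scheme.ΓSpecIso (.of Γ(S, W))).inv ≫
    (fU f hW (le_refl (f ⁻¹ᵁ W))).appTop).hom r) = _
  rw [h2]
  exact congr($((f ⁻¹ᵁ W).topIso.inv_hom_id).hom ((f.app W).hom r))

include hL in
/-- **ring-level base change over a chart**: if `L⁰ ⟶ L¹` is split up to a function invertible on `T₁`, the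
functions on `X ×_S T` over `T₁` are the base change of the functions on `f⁻¹ W` -/
theorem isPushout_sections_of_gsplit {T X'' : Scheme.{u}} (v : T ⟶ S) (gX : X'' ⟶ X) (f'' : X'' ⟶ T)
    (hsq : IsPullback gX f'' f v) {T₁ : T.Opens} (hT₁ : IsAffineOpen T₁) (hle : T₁ ≤ v ⁻¹ᵁ W)
    (a : Γ(S, W)) (hs : GSplit (L.sc ((0 : ℕ) : ℤ)) a) (ha : IsUnit ((v.appLE W T₁ hle).hom a)) :
    IsPushout (f.app W) (v.appLE W T₁ hle)
      (gX.appLE (f ⁻¹ᵁ W) (f'' ⁻¹ᵁ T₁) (chart_le f v gX f'' hsq hle)) (f''.app T₁) := by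
  have hL' : ComputesNat Γ(S, W) (fU f hW (le_refl (f ⁻¹ᵁ W)))
      (Coh.structureModule (↑(f ⁻¹ᵁ W) : Scheme.{u})) L :=
    ComputesNat.of_iso _ (Scheme.Modules.restrictUnitIso (f ⁻¹ᵁ W).ι) hL
  have hpb := isPullback_chart₁ f v gX f'' hsq hW hT₁ hle
  letI : Algebra Γ(S, W) Γ(T, T₁) := (v.appLE W T₁ hle).hom.toAlgebra
  have h0 := isPushout_appTop_of_gsplit (fU f hW (le_refl (f ⁻¹ᵁ W))) L hL'
    Γ(T, T₁) _ (fU f'' hT₁ (le_refl _)) _ hpb a hs ha
  refine IsPushout.of_iso h0 (Iso.refl _) (f ⁻¹ᵁ W).topIso (Iso.refl _) (f'' ⁻¹ᵁ T₁).topIso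
    ?_ ?_ ?_ ?_
  · rw [Iso.refl_hom, Category.id_comp, Category.assoc]
    exact ΓSpecIso_inv_fU_appTop f hW
  · erw [Category.id_comp, Category.comp_id]
    rfl
  · have h1 : (gX.resLE (f ⁻¹ᵁ W) (f'' ⁻¹ᵁ T₁) (chart_le f v gX f'' hsq hle)).appTop =
        (f ⁻¹ᵁ W).topIso.hom ≫ gX.appLE (f ⁻¹ᵁ W) (f'' ⁻¹ᵁ T₁) (chart_le f v gX f'' hsq hle) ≫
          (f'' ⁻¹ᵁ T₁).topIso.inv :=
      Scheme.Hom.resLE_app_top gX _
    rw [h1]
    simp only [Category.assoc, Iso.inv_hom_id, Category.comp_id]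
  · rw [Iso.refl_hom, Category.id_comp, Category.assoc]
    exact ΓSpecIso_inv_fU_appTop f'' hT₁

end scheme

end Groth.Agent.Lib.Helper18.EtGR
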