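import Groth.Agent.Lib.Helper18.EtGR5

set_option autoImplicit false
universe u

open TensorProduct CategoryTheory CategoryTheory.Limits AlgebraicGeometry Opposite TopologicalSpace

namespace Groth.Agent.Lib.Helper18.EtGR

open Groth.Agent.Lib.Helper18.BCHom Groth.Agent.Lib.Helper18.NNComplex
  Groth.Agent.Lib.Helper18.NNChart Groth.Agent.Lib.Helper18.NNMaster
  Groth.Agent.Lib.Helper18.Strat Groth.Agent.Lib.Helper18.SplitAlg
  Groth.Agent.Lib.helper8.GenBCChart Groth.Agent.Lib.Helper18.EtH0
  Groth.Agent.Lib.helper7.R1Free Groth.Agent.Lib.Helper18.NNLocal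
open Scheme.Modules

/-- a finite algebra all of whose fibres are unramified is unramified -/
theorem formallyUnramified_of_fibres {A B : CommRingCat.{u}} (φ : A ⟶ B) (hfin : φ.hom.Finite)
    (H : ∀ p : PrimeSpectrum A, ∃ (B' : CommRingCat.{u}) (c : B ⟶ B')
      (d : CommRingCat.of p.asIdeal.ResidueField ⟶ B'),
      IsPushout φ (CommRingCat.ofHom (algebraMap A p.asIdeal.ResidueField)) c d ∧
        d.hom.FormallyUnramified) :
    φ.hom.FormallyUnramified := by
  algebraize [φ.hom]
  haveI : Module.Finite A B := hfin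
  show Algebra.FormallyUnramified A B
  rw [Algebra.formallyUnramified_iff]
  haveI : Module.Finite B Ω[B⁄A] := inferInstance
  haveI : Module.Finite A Ω[B⁄A] := Module.Finite.trans B _
  rw [← Module.support_eq_empty_iff (R := A)]
  rw [Set.eq_empty_iff_forall_notMem]
  intro p hp
  rw [Module.mem_support_iff_nontrivial_residueField_tensorProduct] at hp
  obtain ⟨B', c, d, hpo, hd⟩ := H p
  algebraize [c.hom, d.hom, c.hom.comp φ.hom]
  haveI : IsScalarTower A p.asIdeal.ResidueField B' := IsScalarTower.of_algebraMap_eq' (by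
    show c.hom.comp φ.hom = d.hom.comp (algebraMap A p.asIdeal.ResidueField)
    exact congr($(hpo.w).hom))
  haveI : Algebra.IsPushout A p.asIdeal.ResidueField B B' :=
    (CommRingCat.isPushout_iff_isPushout.mp hpo.flip)
  have e := KaehlerDifferential.tensorKaehlerEquivBase A p.asIdeal.ResidueField B B'
  haveI : Algebra.FormallyUnramified p.asIdeal.ResidueField B' := hd
  haveI : Subsingleton Ω[B'⁄p.asIdeal.ResidueField] :=
    (Algebra.formallyUnramified_iff _ _).mp inferInstance
  haveI := e.subsingleton
  exact not_subsingleton _ ‹_›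

section etaleH0

variable {X S : Scheme.{u}} (f : X ⟶ S)

/-- all field-valued fibres of `f` have étale rings of global functions -/
def EtaleH0 : Prop :=
  ∀ (K : Type u) [Field K] (v : Spec (.of K) ⟶ S),
    ((Scheme.ΓSpecIso (.of K)).inv ≫ (pullback.snd f v).appTop).hom.Etale

theorem etaleH0_of_geometricallyReduced [IsProper f] [GeometricallyReduced f] : EtaleH0 f :=
  fun _ _ v => etale_of_geometricallyReduced (pullback.snd f v)

/-- it is enough that the base changes to algebraically closed fields are reduced -/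
theorem etaleH0_of_forall_isReduced [IsProper f]
    (hred : ∀ (Ω : Type u) [Field Ω] [IsAlgClosed Ω] (σ : Spec (CommRingCat.of Ω) ⟶ S),
      IsReduced (pullback f σ)) : EtaleH0 f := by
  intro K _ v
  set φ := algebraMap K (AlgebraicClosure K) with hφ
  set σ := Spec.map (CommRingCat.ofHom φ) ≫ v with hσ
  haveI := hred (AlgebraicClosure K) σ
  have hbig : IsPullback (pullback.fst f σ) (pullback.snd f σ) f σ := IsPullback.of_hasPullback f σ
  have hright : IsPullback (pullback.fst f v) (pullback.snd f v) f v := IsPullback.of_hasPullback f v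
  have hw : pullback.fst f σ ≫ f = (pullback.snd f σ ≫ Spec.map (CommRingCat.ofHom φ)) ≫ v := by
    rw [Category.assoc]
    exact hbig.w
  have hleft : IsPullback (hright.lift _ _ hw) (pullback.snd f σ) (pullback.snd f v)
      (Spec.map (CommRingCat.ofHom φ)) := by
    refine IsPullback.of_right ?_ (hright.lift_snd _ _ hw) hright
    rw [hright.lift_fst]
    exact hbig
  exact etale_of_isPullback_isReduced (pullback.snd f v) φ _ _ hleft

/-- the fibre at a point -/
theorem EtaleH0.fiber {f : X ⟶ S} (hf : EtaleH0 f) (y : S) :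
    Algebra.Etale (S.residueField y) Γ(f.fiber y, ⊤) :=
  hf (S.residueField y) (S.fromSpecResidueField y)

end etaleH0

section main

variable {X S : Scheme.{u}} (f : X ⟶ S) [IsProper f] (hgr : EtaleH0 f)
  {V : S.Opens} {hV : IsAffineOpen V}

omit [IsProper f] in
include hgr in
/-- **Part C**: over a chart whose Fitting conditions hold identically, the functions on `f⁻¹ V` form a finite
étale algebra over the functions on `V` (geometrically reduced fibres) -/
theorem finite_etale_app_of_fitt (C : ChartData f (Coh.structureModule X) hV) (r : ℕ)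
    (hJ : C.J r = ⊥) (hK : C.K r = ⊤) :
    (f.app V).hom.Finite ∧ (f.app V).hom.Etale := by
  haveI := isQuasicoherent_structureModule X
  obtain ⟨hneg, hM, -⟩ := chart_split_of_fitt C r hJ hK
  have hg1 : GSplit (C.L.sc ((0 : ℕ) : ℤ)) 1 :=
    (gsplit_iff_dsplit C.L (show (ComplexShape.up ℤ).Rel 0 1 by simp) 1).mpr hM
  obtain ⟨hfin, hproj⟩ := projective_sections_of_fitt f _ C r hJ hK
  letI : Algebra Γ(S, V) Γ(X, f ⁻¹ᵁ V) := (f.app V).hom.toAlgebra
  have hfin' : Module.Finite Γ(S, V) Γ(X, f ⁻¹ᵁ V) := hfin
  have hproj' : Module.Projective Γ(S, V) Γ(X, f ⁻¹ᵁ V) := hproj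
  have hF : (f.app V).hom.Finite := hfin'
  refine ⟨hF, ?_⟩
  have hunr : (f.app V).hom.FormallyUnramified := by
    refine formallyUnramified_of_fibres (f.app V) hF (fun p => ?_)
    set φ : Γ(S, V) ⟶ CommRingCat.of p.asIdeal.ResidueField :=
      CommRingCat.ofHom (algebraMap Γ(S, V) p.asIdeal.ResidueField) with hφ
    set v := Spec.map φ ≫ hV.fromSpec with hv
    have hle := top_le_preimage_spec hV _ φ
    have hsq : IsPullback (pullback.fst f v) (pullback.snd f v) f v := IsPullback.of_hasPullback f v
    have hpo := isPushout_sections_of_gsplit f hV C.L C.comp v _ _ hsq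
      (isAffineOpen_top _) hle 1 hg1 (by rw [map_one]; exact isUnit_one)
    have h1 : v.appLE V ⊤ hle = φ ≫ (Scheme.ΓSpecIso _).inv := appLE_spec_comp_fromSpec hV _ φ hle
    refine ⟨Γ(pullback f v, pullback.snd f v ⁻¹ᵁ ⊤),
      (pullback.fst f v).appLE (f ⁻¹ᵁ V) (pullback.snd f v ⁻¹ᵁ ⊤) (chart_le f v _ _ hsq hle),
      (Scheme.ΓSpecIso (CommRingCat.of p.asIdeal.ResidueField)).inv ≫ (pullback.snd f v).app ⊤,
      ?_, ?_⟩
    · refine IsPushout.of_iso hpo (Iso.refl _) (Iso.refl _)
        (Scheme.ΓSpecIso (CommRingCat.of p.asIdeal.ResidueField)) (Iso.refl _) ?_ ?_ ?_ ?_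
      · simp
      · rw [h1]
        simp
      · simp
      · simp
    · exact (hgr _ v).formallyUnramified
  haveI : Module.FinitePresentation Γ(S, V) Γ(X, f ⁻¹ᵁ V) :=
    Module.finitePresentation_of_projective _ _
  haveI : Algebra.FormallyUnramified Γ(S, V) Γ(X, f ⁻¹ᵁ V) := hunr
  haveI : Module.Flat Γ(S, V) Γ(X, f ⁻¹ᵁ V) := inferInstance
  exact Algebra.Etale.of_formallyUnramified_of_flat

include hgr in
/-- **Parts B + C**: a proper flat finitely presented morphism whose field-valued fibres have étale rings of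
functions has, near every point of the base, a chart whose Fitting conditions hold identically; over it the
direct image of the structure sheaf is a finite étale algebra whose formation commutes with base change -/
theorem exists_fitt_chart [LocallyOfFinitePresentation f]
    (hfl : FlatMod.IsFlatOver f (Coh.structureModule X)) (y : S) :
    ∃ (V' : S.Opens) (hV' : IsAffineOpen V') (C' : ChartData f (Coh.structureModule X) hV')
      (r : ℕ), y ∈ V' ∧ C'.J r = ⊥ ∧ C'.K r = ⊤ :=
  exists_chart_fitt_gen f hfl y (hgr.fiber y)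

end main

end Groth.Agent.Lib.Helper18.EtGR
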