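import Groth.Agent.Lib.Helper18.EtGR6

set_option autoImplicit false
universe u

open TensorProduct CategoryTheory CategoryTheory.Limits AlgebraicGeometry Opposite TopologicalSpace

namespace Groth.Agent.Lib.Helper18.EtGR

section norm

variable {X Y : Scheme.{u}} (f : X ⟶ Y) [QuasiCompact f] [QuasiSeparated f]

/-- over an affine open the morphism from the relative normalization is `Spec` of the inclusion into the
integral closure -/
theorem fromNormalization_restrict_arrow (U : Y.affineOpens) :
    ∃ e : (f.fromNormalization ⁻¹ᵁ U.1 : Scheme.{u}) ≅ Spec (f.normalizationDiagram.obj (.op U.1)),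
      e.inv ≫ (f.fromNormalization ∣_ U.1) ≫ U.2.isoSpec.hom =
        Spec.map (f.normalizationDiagramMap.app (.op U.1)) := by
  let e := IsOpenImmersion.isoOfRangeEq (f.fromNormalization ⁻¹ᵁ U).ι (f.normalizationOpenCover.f U)
      (by simpa using congr($(f.fromNormalization_preimage U).1))
  refine ⟨e, ?_⟩
  rw [← cancel_mono U.2.fromSpec]
  simp only [IsAffineOpen.isoSpec_hom, Category.assoc, IsAffineOpen.toSpecΓ_fromSpec,
    morphismRestrict_ι]
  rw [← Scheme.Hom.ι_fromNormalization, ← Category.assoc]
  congr 1
  exact IsOpenImmersion.isoOfRangeEq_inv_fac (f.fromNormalization ⁻¹ᵁ U).ι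
    (f.normalizationOpenCover.f U) _

/-- a property which is local at the target and respects isomorphisms holds for the morphism from the relative
normalization as soon as it holds for `Spec` of the inclusions into the integral closures over an affine cover -/
theorem fromNormalization_of_cover (P : MorphismProperty Scheme.{u}) [IsZariskiLocalAtTarget P]
    {ι : Type*} (U : ι → Y.affineOpens) (hU : ⨆ i, (U i).1 = ⊤)
    (h : ∀ i, P (Spec.map (f.normalizationDiagramMap.app (.op (U i).1)))) :
    P f.fromNormalization := by
  rw [IsZariskiLocalAtTarget.iff_of_iSup_eq_top (P := P) _ hU]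
  intro i
  obtain ⟨e, he⟩ := fromNormalization_restrict_arrow f (U i)
  rw [← MorphismProperty.cancel_left_of_respectsIso P e.inv,
    ← MorphismProperty.cancel_right_of_respectsIso P _ (U i).2.isoSpec.hom, Category.assoc, he]
  exact h i

end norm

section alg

variable {A B : Type u} [CommRing A] [CommRing B] [Algebra A B]

/-- for a finite algebra the integral closure is everything -/
noncomputable def integralClosureEquiv [Module.Finite A B] : integralClosure A B ≃ₐ[A] B :=
  (Subalgebra.equivOfEq _ _ (integralClosure_eq_top_iff.mpr (Algebra.IsIntegral.of_finite A B))).trans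
    Subalgebra.topEquiv

theorem finite_algebraMap_integralClosure [Module.Finite A B] :
    (algebraMap A (integralClosure A B)).Finite := by
  rw [RingHom.finite_algebraMap]
  exact Module.Finite.equiv (integralClosureEquiv (A := A) (B := B)).symm.toLinearEquiv

theorem etale_algebraMap_integralClosure [Module.Finite A B] [Algebra.Etale A B] :
    (algebraMap A (integralClosure A B)).Etale := by
  rw [RingHom.etale_algebraMap]
  exact Algebra.Etale.of_equiv (integralClosureEquiv (A := A) (B := B)).symm

end alg

end Groth.Agent.Lib.Helper18.EtGR
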