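import Groth.Agent.Lib.Helper18.EtGR6
import Groth.Agent.Lib.Helper24.SmoothReduced
import Groth.Prelude.Def_Omega4

/-!
# Finite étale direct images, continued (helper18)

* `isReduced_of_smooth_field`, `etaleH0_of_smooth`: a proper smooth morphism has étale rings of functions on
  all field-valued fibres.
* `exists_chart_fitt_gen_le`, `exists_fitt_chart_le`: the good charts of `EtGR4/6` can be found inside any
  given neighbourhood.
* `der_eq_zero_of_formallyUnramified`, `der_eq_zero_of_etaleH0`: derivations of `O_X` over `S` kill the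
  functions on `f⁻¹ V`.
-/

set_option autoImplicit false
universe u

open TensorProduct CategoryTheory CategoryTheory.Limits AlgebraicGeometry Opposite TopologicalSpace

namespace Groth.Agent.Lib.Helper18.EtGR

open Groth.Agent.Lib.Helper18.NNComplex Groth.Agent.Lib.Helper18.Strat
  Groth.Agent.Lib.helper7.R1Free Groth.Agent.Lib.Helper18.EtH0
  Groth.Agent.Lib.Helper18.NNChart Groth.Agent.Lib.Helper18.NNMaster
  Groth.Agent.Lib.helper8.GenBCChart Groth.Agent.Lib.helper21.GCBase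
  Groth.Agent.Lib.helper11.InvMod
open Scheme.Modules

section gen

variable {X S : Scheme.{u}} (f : X ⟶ S) [IsProper f] [LocallyOfFinitePresentation f]

/-- **Part B** (any base): near a point whose fibre has an étale ring of functions there is a chart whose
Fitting conditions hold identically -/
theorem exists_chart_fitt_gen_le (hfl : FlatMod.IsFlatOver f (Coh.structureModule X)) (y : S)
    (het : Algebra.Etale (S.residueField y) Γ(f.fiber y, ⊤)) (V₁ : S.Opens) (hy₁ : y ∈ V₁) :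
    ∃ (V' : S.Opens) (hV' : IsAffineOpen V') (C' : ChartData f (Coh.structureModule X) hV')
      (r : ℕ), y ∈ V' ∧ V' ≤ V₁ ∧ C'.J r = ⊥ ∧ C'.K r = ⊤ := by
  have hfp := isFP_structureModule X
  haveI := isQuasicoherent_structureModule X
  obtain ⟨V, hV, hyV, hVV₁⟩ := Opens.isBasis_iff_nbhd.mp S.isBasis_affineOpens hy₁
  have hV : IsAffineOpen V := hV
  have sqV : IsPullback (f ⁻¹ᵁ V).ι (fU f hV (le_refl (f ⁻¹ᵁ V))) f hV.fromSpec := by
    rw [fU_eq_fA]
    exact isPullback_chart f hV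
  -- the Noetherian model
  obtain ⟨A₀, _, _, _, X₀, f₀, e, hp₀, hlfp₀, sq₀, hfl₀⟩ :=
    exists_noetherian_proper_flat_model_O Γ(S, V) (fU f hV (le_refl (f ⁻¹ᵁ V)))
      (isFlatOver_fU f hfl hV)
  haveI := hp₀
  haveI := hlfp₀
  set ψ := Spec.map (CommRingCat.ofHom (algebraMap A₀ Γ(S, V))) with hψ
  -- points
  set y' := hV.primeIdealOf ⟨y, hyV⟩ with hy'
  have hy'y : hV.fromSpec y' = y := hV.fromSpec_primeIdealOf ⟨y, hyV⟩
  -- étaleness at the image point
  have het₁ : Algebra.Etale ((Spec (CommRingCat.of Γ(S, V))).residueField y')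
      Γ((fU f hV (le_refl (f ⁻¹ᵁ V))).fiber y', ⊤) := by
    rw [etale_fiber_iff_of_isPullback sqV y']
    rw [hy'y]
    exact het
  have het₀ : Algebra.Etale ((Spec (CommRingCat.of A₀)).residueField (ψ y'))
      Γ(f₀.fiber (ψ y'), ⊤) := (etale_fiber_iff_of_isPullback sq₀ y').mp het₁
  -- the Noetherian case
  obtain ⟨V₀, hV₀, C₀, hs₀, hJ₀, hK₀⟩ := exists_chart_fitt' f₀ (ψ y') hfl₀ het₀
  set r := CohIII.fiberRank f₀ (Coh.structureModule X₀) 0 (ψ y') with hr
  -- a basic open around `y'` inside `ψ⁻¹ V₀`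
  have hopen : IsOpen (X := PrimeSpectrum Γ(S, V)) {t | ψ t ∈ V₀} := (ψ ⁻¹ᵁ V₀).isOpen
  obtain ⟨_, ⟨a, rfl⟩, hya, hle⟩ :=
    (PrimeSpectrum.isTopologicalBasis_basic_opens (R := Γ(S, V))).exists_subset_of_mem_open
      (a := y') (u := {t | ψ t ∈ V₀}) hs₀ hopen
  have hV' : IsAffineOpen (S.basicOpen a) := hV.basicOpen a
  have hyV' : y ∈ S.basicOpen a := by
    have := (Groth.Agent.Lib.Lead.DiscCompl.fromSpec_mem_basicOpen_iff hV a y').mpr hya
    rwa [hy'y] at this
  obtain ⟨C'⟩ := nonempty_chartData f (Coh.structureModule X) hfp hfl hV'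
  refine ⟨S.basicOpen a, hV', C', r, hyV', (S.basicOpen_le a).trans hVV₁, ?_⟩
  -- the restriction square
  have hid : IsPullback (𝟙 X) f f (𝟙 S) := IsPullback.id_horiz f
  have hV'V : S.basicOpen a ≤ (𝟙 S) ⁻¹ᵁ V := S.basicOpen_le a
  have sq1 := isPullback_chart₁ f (𝟙 S) (𝟙 X) f hid hV hV' hV'V
  have sq2 := sq1.paste_horiz sq₀
  have hρ : ∀ t : ↥(Spec (CommRingCat.of Γ(S, S.basicOpen a))),
      (Spec.map (Scheme.Hom.appLE (𝟙 S) V (S.basicOpen a) hV'V)) t ∈ PrimeSpectrum.basicOpen a := by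
    intro t
    have hunit : IsUnit ((Scheme.Hom.appLE (𝟙 S) V (S.basicOpen a) hV'V).hom a) := by
      have h1 : Scheme.Hom.appLE (𝟙 S) V (S.basicOpen a) hV'V =
          S.presheaf.map (homOfLE (S.basicOpen_le a)).op := by
        simp only [Scheme.Hom.appLE, Scheme.Hom.id_app, Category.id_comp]
        rfl
      rw [h1]
      exact RingedSpace.isUnit_res_basicOpen S.toRingedSpace a
    show a ∉ ((Spec.map (Scheme.Hom.appLE (𝟙 S) V (S.basicOpen a) hV'V)) t).asIdeal
    intro ha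
    exact t.isPrime.ne_top (Ideal.eq_top_of_isUnit_mem _ ha hunit)
  have hU : UnivFLF (fU f hV' (le_refl (f ⁻¹ᵁ S.basicOpen a)))
      ((Scheme.Modules.pullback
        (Scheme.Hom.resLE (𝟙 X) (f ⁻¹ᵁ V) (f ⁻¹ᵁ S.basicOpen a) (chart_le f (𝟙 S) (𝟙 X) f hid hV'V) ≫ e)).obj
        (Coh.structureModule X₀)) r := by
    refine univFLF_of_fitt (Spec.map (Scheme.Hom.appLE (𝟙 S) V (S.basicOpen a) hV'V) ≫ ψ) _ _ sq2 r
      (fun t => ⟨V₀, hV₀, C₀, ⊤, isAffineOpen_top _, fun t _ => hle (hρ t), trivial, ?_, ?_⟩)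
    · rw [hJ₀, Ideal.map_bot]
    · rw [hK₀, Ideal.map_top]
  have hU' := UnivFLF.of_iso hU ((pullbackUnitIso _) ≪≫ (pullbackUnitIso (f ⁻¹ᵁ S.basicOpen a).ι).symm)
  have sqV' : IsPullback (f ⁻¹ᵁ S.basicOpen a).ι (fU f hV' (le_refl (f ⁻¹ᵁ S.basicOpen a))) f
      (Spec.map (𝟙 Γ(S, S.basicOpen a)) ≫ hV'.fromSpec) := by
    rw [Spec.map_id, fU_eq_fA]
    erw [Category.id_comp]
    exact isPullback_chart f hV'
  have h3 := (rep_iff C' Γ(S, S.basicOpen a) (𝟙 _) r (f ⁻¹ᵁ S.basicOpen a).ι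
    (fU f hV' (le_refl (f ⁻¹ᵁ S.basicOpen a))) sqV').mp hU'
  simpa [Ideal.map_id] using h3

end gen

section smooth

/-- a scheme smooth over a field is reduced -/
theorem isReduced_of_smooth_field {K : Type u} [Field K] {Z : Scheme.{u}}
    (g : Z ⟶ Spec (CommRingCat.of K)) [Smooth g] : IsReduced Z := by
  haveI : ∀ i, IsReduced (Z.affineCover.X i) := by
    intro i
    have h : Smooth (Z.affineCover.f i ≫ g) := inferInstance
    rw [HasRingHomProperty.iff_of_isAffine (P := @Smooth)] at h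
    haveI : _root_.IsReduced Γ(Spec (CommRingCat.of K), ⊤) := inferInstance
    letI := (Z.affineCover.f i ≫ g).appTop.hom.toAlgebra
    haveI : Algebra.Smooth Γ(Spec (CommRingCat.of K), ⊤) Γ(Z.affineCover.X i, ⊤) := h
    haveI := Groth.Agent.Lib.Helper24.SmoothReduced.isReduced_of_smooth
      Γ(Spec (CommRingCat.of K), ⊤) Γ(Z.affineCover.X i, ⊤)
    exact isReduced_of_isAffine_isReduced _
  exact IsReduced.of_openCover _ Z.affineCover


/-- a proper smooth morphism has étale rings of functions on all field-valued fibres -/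
theorem etaleH0_of_smooth {X S : Scheme.{u}} (f : X ⟶ S) [IsProper f] [Smooth f] : EtaleH0 f :=
  etaleH0_of_forall_isReduced f (fun Ω _ _ σ => isReduced_of_smooth_field (pullback.snd f σ))

end smooth

section main

variable {X S : Scheme.{u}} (f : X ⟶ S) [IsProper f] (hgr : EtaleH0 f)

include hgr in
/-- the good charts can be found inside any neighbourhood -/
theorem exists_fitt_chart_le [LocallyOfFinitePresentation f]
    (hfl : FlatMod.IsFlatOver f (Coh.structureModule X)) (y : S) (V₁ : S.Opens) (hy₁ : y ∈ V₁) :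
    ∃ (V' : S.Opens) (hV' : IsAffineOpen V') (C' : ChartData f (Coh.structureModule X) hV')
      (r : ℕ), y ∈ V' ∧ V' ≤ V₁ ∧ C'.J r = ⊥ ∧ C'.K r = ⊤ :=
  exists_chart_fitt_gen_le f hfl y (hgr.fiber y) V₁ hy₁

end main

section der

/-- a derivation of `O_X` over `S` vanishes on functions on `f⁻¹ V` whenever these are formally unramified over
the functions on `V` -/
theorem der_eq_zero_of_formallyUnramified {X S : Scheme.{u}} (f : X ⟶ S) (F : X.Modules)
    (D : OmegaSh.Der f F) (V : S.Opens) (hV : (f.app V).hom.FormallyUnramified)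
    (s : Γ(X, f ⁻¹ᵁ V)) : D.d (X := op (f ⁻¹ᵁ V)) s = 0 := by
  letI : Algebra Γ(S, V) Γ(X, f ⁻¹ᵁ V) := (f.app V).hom.toAlgebra
  haveI : Algebra.FormallyUnramified Γ(S, V) Γ(X, f ⁻¹ᵁ V) := hV
  set M := F.val.obj (op (f ⁻¹ᵁ V)) with hM
  letI : Module Γ(S, V) M := Module.compHom M (f.app V).hom
  haveI : IsScalarTower Γ(S, V) Γ(X, f ⁻¹ᵁ V) M :=
    IsScalarTower.of_algebraMap_smul (fun r m => rfl)
  have hfa : ∀ a : Γ(S, V), D.d (X := op (f ⁻¹ᵁ V)) ((f.app V).hom a) = 0 := fun a =>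
    D.d_app (X := op V) a
  let δ : Derivation Γ(S, V) Γ(X, f ⁻¹ᵁ V) M :=
    { toFun := fun b => D.d (X := op (f ⁻¹ᵁ V)) b
      map_add' := fun a b => map_add _ a b
      map_smul' := fun a b => by
        show D.d (X := op (f ⁻¹ᵁ V)) ((f.app V).hom a * b) = (f.app V).hom a • D.d (X := op (f ⁻¹ᵁ V)) b
        rw [D.d_mul, hfa, smul_zero, add_zero]
      map_one_eq_zero' := by
        show D.d (X := op (f ⁻¹ᵁ V)) 1 = 0
        have := hfa 1
        rwa [map_one] at this
      leibniz' := fun a b => by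
        show D.d (X := op (f ⁻¹ᵁ V)) (a * b) = a • D.d (X := op (f ⁻¹ᵁ V)) b + b • D.d (X := op (f ⁻¹ᵁ V)) a
        exact D.d_mul a b }
  haveI : Subsingleton (Ω[Γ(X, f ⁻¹ᵁ V)⁄Γ(S, V)]) := inferInstance
  have h1 := Derivation.liftKaehlerDifferential_comp_D δ s
  rw [Subsingleton.elim (KaehlerDifferential.D Γ(S, V) Γ(X, f ⁻¹ᵁ V) s) 0, map_zero] at h1
  exact h1.symm


/-- sections of an `O_X`-module vanishing on a cover vanish -/
theorem eq_zero_of_cover' {X : Scheme.{u}} (G : X.Modules) {ι : Type*} (W : ι → X.Opens) (V : X.Opens)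
    (hle : ∀ i, W i ≤ V) (hcov : V ≤ ⨆ i, W i) (x : G.val.obj (op V))
    (hx : ∀ i, G.val.map (homOfLE (hle i)).op x = 0) : x = 0 := by
  apply TopCat.Sheaf.eq_of_locally_eq' ⟨G.presheaf, G.isSheaf⟩ W V (fun i => homOfLE (hle i)) hcov
  intro i
  exact (hx i).trans (map_zero (G.presheaf.map (homOfLE (hle i)).op).hom).symm

/-- for a proper flat finitely presented morphism whose field-valued fibres have étale rings of functions,
every derivation of `O_X` over `S` kills the functions on `f⁻¹ V`, `V` open in `S` -/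
theorem der_eq_zero_of_etaleH0 {X S : Scheme.{u}} (f : X ⟶ S) [IsProper f]
    [LocallyOfFinitePresentation f] (hgr : EtaleH0 f)
    (hfl : FlatMod.IsFlatOver f (Coh.structureModule X)) (F : X.Modules)
    (D : OmegaSh.Der f F) (V : S.Opens) (s : Γ(X, f ⁻¹ᵁ V)) :
    D.d (X := op (f ⁻¹ᵁ V)) s = 0 := by
  choose V' hV' C r hyV hle hJ hK using fun y : V => exists_fitt_chart_le f hgr hfl y.1 V y.2
  refine eq_zero_of_cover' F (fun y : V => f ⁻¹ᵁ V' y) (f ⁻¹ᵁ V)
    (fun y => f.preimage_mono (hle y)) ?_ _ (fun y => ?_)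
  · intro x hx
    exact Opens.mem_iSup.mpr ⟨⟨f x, hx⟩, hyV ⟨f x, hx⟩⟩
  · have h1 := D.d_map (X := op (f ⁻¹ᵁ V)) (Y := op (f ⁻¹ᵁ V' y))
      (homOfLE (f.preimage_mono (hle y))).op s
    have h2 := der_eq_zero_of_formallyUnramified f F D (V' y)
      (finite_etale_app_of_fitt f hgr (C y) (r y) (hJ y) (hK y)).2.formallyUnramified
      (X.presheaf.map (homOfLE (f.preimage_mono (hle y))).op s)
    exact h1.symm.trans h2

end der

end Groth.Agent.Lib.Helper18.EtGR
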