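import Groth.Agent.Lib.Helper18.EtGR8
import Groth.Agent.Lib.Helper18.EtGR7

/-!
# The Stein factorization commutes with base change (helper18)

* `isIso_of_isPushout_of_isIso`: comparing two pushout squares along an isomorphism of one leg.
* `toNormalization_app_injective`, `isIso_of_app_bijective`: a morphism `c` from the relative normalization of
  `f : X ⟶ Y` to an affine `Y`-scheme `Z` is an isomorphism as soon as `X ⟶ Z` induces bijections on functions
  over the preimages of a cover of `Y` by affine opens.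
* `isIso_normalizationPullback`: for `f` proper, flat, finitely presented with étale rings of functions on the
  field-valued fibres, the formation of the relative normalization commutes with arbitrary base change.
-/

set_option autoImplicit false
universe u

open TensorProduct CategoryTheory CategoryTheory.Limits AlgebraicGeometry Opposite TopologicalSpace

namespace Groth.Agent.Lib.Helper18.EtGR

open Groth.Agent.Lib.Helper18.BCHom Groth.Agent.Lib.Helper18.NNComplex
  Groth.Agent.Lib.Helper18.NNChart Groth.Agent.Lib.Helper18.NNMaster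
  Groth.Agent.Lib.Helper18.Strat Groth.Agent.Lib.Helper18.SplitAlg
  Groth.Agent.Lib.helper8.GenBCChart Groth.Agent.Lib.Helper18.EtH0
  Groth.Agent.Lib.helper7.R1Free Groth.Agent.Lib.Helper18.NNLocal
open Scheme.Modules

/-- comparing two pushout squares along an isomorphism of one leg -/
theorem isIso_of_isPushout_of_isIso {C : Type*} [Category C] {A A' B₀ B P₁ P₂ : C}
    {a₁ : A ⟶ B₀} {b : A ⟶ A'} {i₁ : B₀ ⟶ P₁} {j₁ : A' ⟶ P₁} {a₂ : A ⟶ B} {i₂ : B ⟶ P₂}
    {j₂ : A' ⟶ P₂} (h₁ : IsPushout a₁ b i₁ j₁) (h₂ : IsPushout a₂ b i₂ j₂) (t : B₀ ⟶ B) [IsIso t]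
    (ht : a₁ ≫ t = a₂) (m : P₁ ⟶ P₂) (hi : i₁ ≫ m = t ≫ i₂) (hj : j₁ ≫ m = j₂) : IsIso m := by
  have h₂' : IsPushout a₁ b (t ≫ i₂) j₂ := by
    refine IsPushout.of_iso h₂ (Iso.refl A) (asIso t).symm (Iso.refl A') (Iso.refl P₂) ?_ ?_ ?_ ?_
    · simp [← ht]
    · simp
    · simp
    · simp
  have : m = (h₁.isoIsPushout _ _ h₂').hom := by
    apply h₁.hom_ext
    · rw [hi]; simp
    · rw [hj]; simp
  rw [this]
  infer_instance

section norm

variable {X Y Z : Scheme.{u}} (f : X ⟶ Y) [QuasiCompact f] [QuasiSeparated f]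

/-- the functions on the normalization inject into the functions on the source -/
theorem toNormalization_app_injective {V : Y.Opens} (hV : IsAffineOpen V) :
    Function.Injective (f.toNormalization.app (f.fromNormalization ⁻¹ᵁ V)).hom := by
  letI := (f.app V).hom.toAlgebra
  have h := f.toNormalization_app_preimage ⟨V, hV⟩
  dsimp only at h
  rw [h]
  simp only [CommRingCat.hom_comp, RingHom.coe_comp]
  refine Function.Injective.comp (Function.Injective.comp ?_ ?_) ?_
  · exact ((ConcreteCategory.isIso_iff_bijective (X.presheaf.map _)).mp inferInstance).1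
  · exact Subtype.val_injective
  · exact ((ConcreteCategory.isIso_iff_bijective (Scheme.Hom.normalizationObjIso f _).hom).mp
      inferInstance).1

/-- a criterion for a morphism out of the relative normalization to be an isomorphism -/
theorem isIso_of_app_bijective (c : f.normalization ⟶ Z) (p : Z ⟶ Y) [IsAffineHom p]
    (hc : c ≫ p = f.fromNormalization)
    (hbij : ∀ y : Y, ∃ V : Y.Opens, IsAffineOpen V ∧ y ∈ V ∧
      Function.Bijective ((f.toNormalization ≫ c).app (p ⁻¹ᵁ V)).hom) : IsIso c := by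
  haveI : IsAffineHom c := by
    haveI : IsAffineHom (c ≫ p) := hc ▸ inferInstance
    exact .of_comp _ p
  apply IsZariskiLocalAtTarget.of_forall_exists_morphismRestrict (P := .isomorphisms _) fun z ↦ ?_
  obtain ⟨V, hV, hzV, hb⟩ := hbij (p z)
  refine ⟨p ⁻¹ᵁ V, hzV, (isIso_morphismRestrict_iff_isIso_app _ (hV.preimage p)).mpr ?_⟩
  rw [ConcreteCategory.isIso_iff_bijective]
  have hW : c ⁻¹ᵁ p ⁻¹ᵁ V = f.fromNormalization ⁻¹ᵁ V := by
    rw [← hc]; rfl
  have hinj : Function.Injective (f.toNormalization.app (c ⁻¹ᵁ p ⁻¹ᵁ V)).hom := by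
    rw [hW]
    exact toNormalization_app_injective f hV
  rw [Scheme.Hom.comp_app] at hb
  have hb' : Function.Bijective ((f.toNormalization.app (c ⁻¹ᵁ p ⁻¹ᵁ V)).hom ∘ (c.app (p ⁻¹ᵁ V)).hom) := by
    exact hb
  refine ⟨Function.Injective.of_comp hb'.1, fun y => ?_⟩
  obtain ⟨x, hx⟩ := hb'.2 (f.toNormalization.app (c ⁻¹ᵁ p ⁻¹ᵁ V) y)
  exact ⟨x, hinj hx⟩

end norm

section main

variable {X S T : Scheme.{u}} (f : X ⟶ S) [IsProper f] [LocallyOfFinitePresentation f]

/-- the formation of the relative normalization (Stein factorization) commutes with arbitrary base change -/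
theorem isIso_normalizationPullback (hgr : EtaleH0 f)
    (hfl : FlatMod.IsFlatOver f (Coh.structureModule X)) (g : T ⟶ S) :
    IsIso (f.normalizationPullback g) := by
  haveI := isQuasicoherent_structureModule X
  refine isIso_of_app_bijective (pullback.snd f g) (f.normalizationPullback g)
    (pullback.snd f.fromNormalization g) (f.normalizationPullback_snd g) (fun t => ?_)
  obtain ⟨U, hU, C, r, hyU, hJ, hK⟩ := exists_fitt_chart f hgr hfl (g t)
  obtain ⟨_, ⟨V, hV, rfl⟩, htV, hVU : V ≤ g ⁻¹ᵁ U⟩ :=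
    T.isBasis_affineOpens.exists_subset_of_mem_open (a := t) hyU (g ⁻¹ᵁ U).2
  refine ⟨V, hV, htV, ?_⟩
  set h : pullback f g ⟶ pullback f.fromNormalization g :=
    pullback.map _ _ _ _ f.toNormalization (𝟙 _) (𝟙 _) (by simp) (by simp) with hh
  have hth : (pullback.snd f g).toNormalization ≫ f.normalizationPullback g = h :=
    Scheme.Hom.toNormalization_normalizationDesc ..
  rw [hth]
  set p := pullback.snd f.fromNormalization g with hp
  set fT := pullback.snd f g with hfT
  have hhp : h ≫ p = fT := by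
    rw [hh, hp, hfT]
    exact (pullback.lift_snd _ _ _).trans (Category.comp_id _)
  have hhfst : h ≫ pullback.fst f.fromNormalization g = pullback.fst f g ≫ f.toNormalization := by
    rw [hh]
    exact pullback.lift_fst _ _ _
  have hW' : h ⁻¹ᵁ p ⁻¹ᵁ V = fT ⁻¹ᵁ V := by rw [← Scheme.Hom.comp_preimage, hhp]
  -- the two pushout squares
  have hUY : p ⁻¹ᵁ V = pullback.fst f.fromNormalization g ⁻¹ᵁ (f.fromNormalization ⁻¹ᵁ U) ⊓ p ⁻¹ᵁ V := by
    simp_rw [hp, ← Scheme.Hom.comp_preimage, pullback.condition, Scheme.Hom.comp_preimage,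
      ← Scheme.Hom.preimage_inf, inf_eq_right.mpr hVU]
  have P₁ := (isIso_pushoutSection_iff (IsPullback.of_hasPullback f.fromNormalization g) hVU le_rfl
    hUY).mp (isIso_pushoutSection_of_isAffineOpen _ hVU le_rfl hUY hU hV
      (hU.preimage f.fromNormalization))
  obtain ⟨hneg, hM, -⟩ := chart_split_of_fitt C r hJ hK
  have hg1 : GSplit (C.L.sc ((0 : ℕ) : ℤ)) 1 :=
    (gsplit_iff_dsplit C.L (show (ComplexShape.up ℤ).Rel 0 1 by simp) 1).mpr hM
  obtain ⟨hfin, hproj⟩ := projective_sections_of_fitt f _ C r hJ hK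
  have hsq : IsPullback (pullback.fst f g) fT f g := IsPullback.of_hasPullback f g
  have P₂ := isPushout_sections_of_gsplit f hU C.L C.comp g _ _ hsq hV hVU 1 hg1
    (by rw [map_one]; exact isUnit_one)
  -- the comparison of the legs
  have hle₁ : f ⁻¹ᵁ U ≤ f.toNormalization ⁻¹ᵁ (f.fromNormalization ⁻¹ᵁ U) := by
    rw [← Scheme.Hom.comp_preimage, f.toNormalization_fromNormalization]
  set tN := f.toNormalization.appLE (f.fromNormalization ⁻¹ᵁ U) (f ⁻¹ᵁ U) hle₁ with htN
  haveI : IsIso tN := by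
    letI := (f.app U).hom.toAlgebra
    haveI : Module.Finite Γ(S, U) Γ(X, f ⁻¹ᵁ U) := hfin
    have h1 := f.normalizationObjIso_hom_val hU
    rw [htN, ← h1]
    haveI : IsIso (CommRingCat.ofHom
        (Subalgebra.val (integralClosure Γ(S, U) Γ(X, f ⁻¹ᵁ U))).toRingHom) := by
      rw [ConcreteCategory.isIso_iff_bijective]
      exact (integralClosureEquiv (A := Γ(S, U)) (B := Γ(X, f ⁻¹ᵁ U))).bijective
    infer_instance
  have ht : f.fromNormalization.appLE U (f.fromNormalization ⁻¹ᵁ U) le_rfl ≫ tN = f.app U := by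
    rw [htN, Scheme.Hom.appLE_comp_appLE, Scheme.Hom.app_eq_appLE]
    simp only [f.toNormalization_fromNormalization]
  have key : ∀ (W' : (pullback f g).Opens) (e : W' ≤ h ⁻¹ᵁ p ⁻¹ᵁ V), W' = fT ⁻¹ᵁ V →
      IsIso (h.appLE (p ⁻¹ᵁ V) W' e) := by
    rintro W' e rfl
    refine isIso_of_isPushout_of_isIso P₁ P₂ tN ht _ ?_ ?_
    · rw [Scheme.Hom.appLE_comp_appLE, htN, Scheme.Hom.appLE_comp_appLE]
      simp only [hhfst]
    · have hhp' : h ≫ pullback.snd f.fromNormalization g = pullback.snd f g := hhp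
      rw [Scheme.Hom.appLE_comp_appLE, Scheme.Hom.app_eq_appLE]
      simp only [hhp']
      rfl
  have := key (h ⁻¹ᵁ p ⁻¹ᵁ V) le_rfl hW'
  rw [← Scheme.Hom.app_eq_appLE] at this
  exact (ConcreteCategory.isIso_iff_bijective _).mp this

end main

end Groth.Agent.Lib.Helper18.EtGR
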