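import Mathlib

set_option autoImplicit false
universe u

open CategoryTheory CategoryTheory.Limits Opposite TopologicalSpace AlgebraicGeometry Polynomial

namespace Groth.Agent.Lib.Helper18.EtH0

section alg

variable {R R₀ : Type*} [CommRing R] [CommRing R₀] (φ : R →+* R₀)

/-- a surjection with nil kernel reflects units -/
lemma isUnit_of_map_of_nil_ker (hφ : Function.Surjective φ)
    (hker : ∀ x, φ x = 0 → IsNilpotent x) (u : R) (hu : IsUnit (φ u)) : IsUnit u := by
  obtain ⟨w, hw⟩ := hu.exists_right_inv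
  obtain ⟨v, rfl⟩ := hφ w
  have h1 : IsNilpotent (u * v - 1) := by
    apply hker
    rw [map_sub, map_mul, hw, map_one, sub_self]
  have h2 : IsUnit (u * v) := by
    have : u * v = 1 + (u * v - 1) := by ring
    rw [this]
    exact IsNilpotent.isUnit_one_add h1
  exact isUnit_of_mul_isUnit_left h2

/-- **Hensel's lemma for a nil ideal**: a simple root lifts uniquely along a surjection with nil kernel -/
theorem existsUnique_lift_root (hφ : Function.Surjective φ)
    (hker : ∀ x, φ x = 0 → IsNilpotent x) (Q : R[X]) (e : R₀)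
    (h0 : (Q.map φ).eval e = 0) (h1 : IsUnit ((Q.map φ).derivative.eval e)) :
    ∃! r : R, φ r = e ∧ Q.eval r = 0 := by
  obtain ⟨x, rfl⟩ := hφ e
  have e1 : ∀ (P : R[X]) (y : R), (P.map φ).eval (φ y) = φ (P.eval y) := fun P y => by
    rw [Polynomial.eval_map, Polynomial.eval₂_hom]
  have hnil : IsNilpotent (aeval x Q) := by
    rw [Polynomial.coe_aeval_eq_eval]
    apply hker
    rw [← e1]
    exact h0
  have hun : IsUnit (aeval x (derivative Q)) := by
    rw [Polynomial.coe_aeval_eq_eval]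
    apply isUnit_of_map_of_nil_ker φ hφ hker
    rw [← e1, ← Polynomial.derivative_map]
    exact h1
  obtain ⟨r, ⟨hr1, hr2⟩, hr3⟩ := existsUnique_nilpotent_sub_and_aeval_eq_zero hnil hun
  rw [Polynomial.coe_aeval_eq_eval] at hr2
  -- the image of `r` is `φ x`
  have hnil0 : IsNilpotent (aeval (φ x) (Q.map φ)) := by
    rw [Polynomial.coe_aeval_eq_eval, h0]
    exact IsNilpotent.zero
  have hun0 : IsUnit (aeval (φ x) (derivative (Q.map φ))) := by
    rw [Polynomial.coe_aeval_eq_eval]
    exact h1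
  obtain ⟨r₀, -, hr₀⟩ := existsUnique_nilpotent_sub_and_aeval_eq_zero hnil0 hun0
  have hφr : φ r = φ x := by
    have a1 := hr₀ (φ r) ⟨by rw [← map_sub]; exact hr1.map φ, by
      rw [Polynomial.coe_aeval_eq_eval, e1, hr2, map_zero]⟩
    have a2 := hr₀ (φ x) ⟨by rw [sub_self]; exact IsNilpotent.zero, by
      rw [Polynomial.coe_aeval_eq_eval]; exact h0⟩
    rw [a1, a2]
  refine ⟨r, ⟨hφr, hr2⟩, ?_⟩
  rintro r' ⟨hr'1, hr'2⟩
  apply hr3
  refine ⟨?_, by rw [Polynomial.coe_aeval_eq_eval]; exact hr'2⟩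
  apply hker
  rw [map_sub, hr'1, sub_self]

end alg

section geo

variable {Y₀ Y : Scheme.{u}} (ι : Y₀ ⟶ Y) [IsClosedImmersion ι] [Surjective ι]

omit [IsClosedImmersion ι] in
/-- the kernel of a surjective closed immersion on an affine open is nil -/
lemma isNilpotent_of_app_eq_zero {U : Y.Opens} (hU : IsAffineOpen U) (x : Γ(Y, U))
    (hx : (ι.app U).hom x = 0) : IsNilpotent x := by
  rw [Scheme.isNilpotent_iff_basicOpen_eq_bot_of_isCompact hU.isCompact]
  have h1 : ι ⁻¹ᵁ (Y.basicOpen x) = ⊥ := by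
    rw [Scheme.preimage_basicOpen]
    have : (ι.app U).hom x = 0 := hx
    rw [show (ConcreteCategory.hom (ι.app U)) x = (ι.app U).hom x from rfl, this]
    exact Scheme.basicOpen_zero _ _
  ext y
  simp only [Opens.coe_bot, Set.mem_empty_iff_false, iff_false]
  intro hy
  obtain ⟨y₀, rfl⟩ := ι.surjective y
  have : y₀ ∈ ι ⁻¹ᵁ (Y.basicOpen x) := hy
  rw [h1] at this
  exact this

omit [IsClosedImmersion ι] [Surjective ι] in
/-- restriction to an open commutes with `ι` on sections -/
lemma app_res {U V : Y.Opens} (h : V ≤ U) (x : Γ(Y, U)) :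
    (ι.app V).hom ((Y.presheaf.map (homOfLE h).op).hom x) =
      (Y₀.presheaf.map (homOfLE (ι.preimage_mono h)).op).hom ((ι.app U).hom x) := by
  have := ι.naturality (homOfLE h).op
  exact congrArg (fun φ => φ.hom x) this

/-- **Hensel lifting of global sections along a surjective closed immersion**: a simple root in `Γ(Y₀, O)` of a
polynomial over `Γ(Y, O)` lifts to a root in `Γ(Y, O)` -/
theorem exists_lift_root (Q : Γ(Y, ⊤)[X]) (e : Γ(Y₀, ⊤))
    (h0 : (Q.map ι.appTop.hom).eval e = 0)
    (h1 : IsUnit ((Q.map ι.appTop.hom).derivative.eval e)) :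
    ∃ r : Γ(Y, ⊤), ι.appTop.hom r = e ∧ Q.eval r = 0 := by
  classical
  -- local data
  let resY : ∀ U : Y.Opens, Γ(Y, ⊤) →+* Γ(Y, U) := fun U => (Y.presheaf.map (homOfLE le_top).op).hom
  let res₀ : ∀ U : Y₀.Opens, Γ(Y₀, ⊤) →+* Γ(Y₀, U) :=
    fun U => (Y₀.presheaf.map (homOfLE le_top).op).hom
  have hcomm : ∀ U : Y.Opens, (ι.app U).hom.comp (resY U) = (res₀ (ι ⁻¹ᵁ U)).comp ι.appTop.hom := by
    intro U
    ext x
    exact app_res ι (le_top : U ≤ ⊤) x
  have hloc0 : ∀ U : Y.Opens, (((Q.map (resY U)).map (ι.app U).hom).eval (res₀ (ι ⁻¹ᵁ U) e)) = 0 := by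
    intro U
    rw [Polynomial.map_map, hcomm U, ← Polynomial.map_map, Polynomial.eval_map,
      Polynomial.eval₂_hom, h0, map_zero]
  have hloc1 : ∀ U : Y.Opens,
      IsUnit (((Q.map (resY U)).map (ι.app U).hom).derivative.eval (res₀ (ι ⁻¹ᵁ U) e)) := by
    intro U
    rw [Polynomial.map_map, hcomm U, ← Polynomial.map_map, Polynomial.derivative_map,
      Polynomial.eval_map, Polynomial.eval₂_hom]
    exact h1.map _
  have hex : ∀ U : Y.affineOpens, ∃! r : Γ(Y, U.1), (ι.app U.1).hom r = res₀ (ι ⁻¹ᵁ U.1) e ∧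
      (Q.map (resY U.1)).eval r = 0 := fun U =>
    existsUnique_lift_root (ι.app U.1).hom (ι.app_surjective U.1 U.2)
      (fun x hx => isNilpotent_of_app_eq_zero ι U.2 x hx) _ _ (hloc0 U.1) (hloc1 U.1)
  choose sf hsf hsfu using hex
  -- compatibility with restriction to smaller affine opens
  have hres : ∀ (U W : Y.affineOpens) (h : W.1 ≤ U.1),
      (Y.presheaf.map (homOfLE h).op).hom (sf U) = sf W := by
    intro U W h
    apply hsfu W
    constructor
    · rw [app_res ι h, (hsf U).1]
      show (Y₀.presheaf.map _ ≫ Y₀.presheaf.map _).hom e = _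
      rw [← Functor.map_comp]
      rfl
    · have h2 : (Q.map (resY W.1)) = (Q.map (resY U.1)).map (Y.presheaf.map (homOfLE h).op).hom := by
        rw [Polynomial.map_map]
        congr 1
        ext x
        show _ = (Y.presheaf.map _ ≫ Y.presheaf.map _).hom x
        rw [← Functor.map_comp]
        rfl
      rw [h2, Polynomial.eval_map, Polynomial.eval₂_hom, (hsf U).2, map_zero]
  -- gluing
  have hcompat : TopCat.Presheaf.IsCompatible Y.sheaf.1 (fun U : Y.affineOpens => U.1) sf := by
    intro U U'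
    apply Y.sheaf.eq_of_locally_eq' (fun W : {W : Y.affineOpens // W.1 ≤ U.1 ⊓ U'.1} => W.1.1)
      (U.1 ⊓ U'.1) (fun W => homOfLE W.2)
    · intro y hy
      obtain ⟨W, hW, hyW, hWle⟩ := Opens.isBasis_iff_nbhd.mp Y.isBasis_affineOpens hy
      exact Opens.mem_iSup.mpr ⟨⟨⟨W, hW⟩, hWle⟩, hyW⟩
    · intro W
      have e1 := hres U W.1 (W.2.trans inf_le_left)
      have e2 := hres U' W.1 (W.2.trans inf_le_right)
      show (Y.presheaf.map _ ≫ Y.presheaf.map _).hom (sf U) =
        (Y.presheaf.map _ ≫ Y.presheaf.map _).hom (sf U')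
      rw [← Functor.map_comp, ← Functor.map_comp]
      exact e1.trans e2.symm
  obtain ⟨r, hr, -⟩ := Y.sheaf.existsUnique_gluing' (fun U : Y.affineOpens => U.1) ⊤
    (fun U => homOfLE le_top) (by
      intro y _
      obtain ⟨W, hW, hyW, -⟩ := Opens.isBasis_iff_nbhd.mp Y.isBasis_affineOpens
        (show y ∈ (⊤ : Y.Opens) from trivial)
      exact Opens.mem_iSup.mpr ⟨⟨W, hW⟩, hyW⟩) sf hcompat
  refine ⟨r, ?_, ?_⟩
  · -- agree on the cover `ι⁻¹ U`
    apply Y₀.sheaf.eq_of_locally_eq' (fun U : Y.affineOpens => ι ⁻¹ᵁ U.1) ⊤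
      (fun U => homOfLE le_top)
    · intro y _
      obtain ⟨W, hW, hyW, -⟩ := Opens.isBasis_iff_nbhd.mp Y.isBasis_affineOpens
        (show ι y ∈ (⊤ : Y.Opens) from trivial)
      exact Opens.mem_iSup.mpr ⟨⟨W, hW⟩, hyW⟩
    · intro U
      have e1 := congrArg (fun φ => φ r) (hcomm U.1)
      have e2 : (resY U.1) r = sf U := hr U
      simp only [RingHom.comp_apply] at e1
      rw [e2, (hsf U).1] at e1
      exact e1.symm
  · apply Y.sheaf.eq_of_locally_eq' (fun U : Y.affineOpens => U.1) ⊤ (fun U => homOfLE le_top)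
    · intro y _
      obtain ⟨W, hW, hyW, -⟩ := Opens.isBasis_iff_nbhd.mp Y.isBasis_affineOpens
        (show y ∈ (⊤ : Y.Opens) from trivial)
      exact Opens.mem_iSup.mpr ⟨⟨W, hW⟩, hyW⟩
    · intro U
      have e2 : (resY U.1) r = sf U := hr U
      show (resY U.1) (Q.eval r) = (resY U.1) 0
      rw [map_zero, ← Polynomial.eval₂_hom, ← Polynomial.eval_map, e2, (hsf U).2]

end geo

section sep

variable {K E : Type u} [Field K] [CommRing E] [Algebra K E]

/-- every element of an étale algebra over a field is a root of a separable polynomial -/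
theorem exists_separable_aeval_eq_zero [Algebra.Etale K E] (e : E) :
    ∃ g : K[X], g.Separable ∧ aeval e g = 0 := by
  classical
  obtain ⟨I, hI, Ai, _, _, ψ, H⟩ := (Algebra.Etale.iff_exists_algEquiv_prod (K := K) (A := E)).mp inferInstance
  haveI := Fintype.ofFinite I
  let m : I → K[X] := fun i => minpoly K (ψ e i)
  have hint : ∀ i, IsIntegral K (ψ e i) := fun i => by
    haveI := (H i).1
    exact Algebra.IsIntegral.isIntegral _
  have hirr : ∀ i, Irreducible (m i) := fun i => minpoly.irreducible (hint i)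
  have hmonic : ∀ i, (m i).Monic := fun i => minpoly.monic (hint i)
  have hsep : ∀ i, (m i).Separable := fun i => by
    haveI := (H i).2
    exact Algebra.IsSeparable.isSeparable K (ψ e i)
  let s : Finset K[X] := Finset.image m Finset.univ
  refine ⟨∏ p ∈ s, p, ?_, ?_⟩
  · apply separable_prod' (f := fun p : K[X] => p)
    · intro x hx y hy hxy
      obtain ⟨i, -, rfl⟩ := Finset.mem_image.mp hx
      obtain ⟨j, -, rfl⟩ := Finset.mem_image.mp hy
      rw [(hirr i).coprime_iff_not_dvd]
      intro hdvd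
      apply hxy
      exact eq_of_monic_of_associated (hmonic i) (hmonic j)
        ((hirr i).associated_of_dvd (hirr j) hdvd)
    · intro x hx
      obtain ⟨i, -, rfl⟩ := Finset.mem_image.mp hx
      exact hsep i
  · apply ψ.injective
    rw [map_zero]
    funext i
    have h1 : ψ (aeval e (∏ p ∈ s, p)) i = aeval (ψ e i) (∏ p ∈ s, p) := by
      have := Polynomial.aeval_algHom_apply ((Pi.evalAlgHom K Ai i).comp ψ.toAlgHom) e (∏ p ∈ s, p)
      exact this.symm
    rw [h1]
    have h2 : m i ∣ ∏ p ∈ s, p := Finset.dvd_prod_of_mem (fun p => p) (Finset.mem_image_of_mem m (Finset.mem_univ i))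
    obtain ⟨c, hc⟩ := h2
    rw [hc, map_mul, minpoly.aeval, zero_mul]
    rfl

theorem isUnit_aeval_derivative_of_separable {g : K[X]} (hg : g.Separable) (e : E)
    (h0 : aeval e g = 0) : IsUnit (aeval e (derivative g)) := by
  obtain ⟨a, b, hab⟩ := hg
  have := congrArg (aeval e) hab
  rw [map_add, map_mul, map_mul, h0, mul_zero, zero_add, map_one] at this
  exact IsUnit.of_mul_eq_one _ (by rw [mul_comm]; exact this)

end sep

section surj

variable {Y₀ Y : Scheme.{u}} (ι : Y₀ ⟶ Y) [IsClosedImmersion ι] [Surjective ι]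

/-- if `Γ(Y₀, O)` is étale over a field `k` which is a quotient of a ring `B` over which `Y` lives, then global
functions lift along the surjective closed immersion `Y₀ → Y` -/
theorem appTop_surjective_of_etale {B k : Type u} [CommRing B] [Field k] (π : B →+* k)
    (hπ : Function.Surjective π) (a : B →+* Γ(Y, ⊤)) (b : k →+* Γ(Y₀, ⊤))
    (hab : ι.appTop.hom.comp a = b.comp π)
    (het : letI := b.toAlgebra; Algebra.Etale k Γ(Y₀, ⊤)) :
    Function.Surjective ι.appTop.hom := by
  intro e
  letI := b.toAlgebra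
  obtain ⟨g, hg, hg0⟩ := exists_separable_aeval_eq_zero (K := k) e
  have hun := isUnit_aeval_derivative_of_separable hg e hg0
  obtain ⟨G, hG⟩ := Polynomial.map_surjective π hπ g
  have hQ : ((G.map a).map ι.appTop.hom) = g.map b := by
    rw [Polynomial.map_map, hab, ← Polynomial.map_map, hG]
  obtain ⟨r, hr, -⟩ := exists_lift_root ι (G.map a) e
    (by rw [hQ, Polynomial.eval_map]; exact hg0)
    (by rw [hQ, Polynomial.derivative_map, Polynomial.eval_map]; exact hun)
  exact ⟨r, hr⟩

end surj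

end Groth.Agent.Lib.Helper18.EtH0
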