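import Groth.Agent.Lib.Helper7.R1Free
import Groth.Agent.Lib.Helper18.EtH0a

set_option autoImplicit false
universe u

open CategoryTheory CategoryTheory.Limits Opposite TopologicalSpace AlgebraicGeometry

namespace Groth.Agent.Lib.Helper18.EtH0

open Groth.Agent.Lib.Helper18.BCHom Groth.Agent.Lib.Helper18.NNComplex
  Groth.Agent.Lib.Helper18.NNChart Groth.Agent.Lib.Helper18.NNMaster
  Groth.Agent.Lib.Helper18.NNMaster0
  Groth.Agent.Lib.Helper18.NNRows Groth.Agent.Lib.Helper18.NNFibre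
  Groth.Agent.Lib.Helper18.NNLocal Groth.Agent.Lib.Helper18.SplitAlg
  Groth.Agent.Lib.helper21.GCBase Groth.Agent.Lib.helper8.GenBCChart
  Groth.Agent.Lib.helper8.PullbackUnit Groth.Agent.Lib.helper8.EpsAffine
  Groth.Agent.Lib.helper7.H0Span
  Groth.Agent.Lib.helper11.InvMod Groth.Agent.Lib.Helper18 Groth.Agent.Lib.helper11.InvPullback
open Scheme.Modules

section unit

variable {X Y : Scheme.{u}} (g : X ⟶ Y)

/-- the unit of `g^* ⊣ g_*` sends a section `σ` of `O_Y` to the section `g♯ σ` of `g^* O_Y ≅ O_X` -/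
theorem pullbackUnitHom_unit_apply (σ : Coh.Γtop Y) :
    ((pullbackUnitHom g).val.app (op ⊤)).hom
      ((((Scheme.Modules.pullbackPushforwardAdjunction g).unit.app
        (Coh.structureModule Y)).val.app (op ⊤)).hom σ) = (g.app ⊤).hom σ := by
  have h0 : (Scheme.Modules.pullbackPushforwardAdjunction g).homEquiv _ _ (pullbackUnitHom g) =
      unitToPush g := by
    rw [pullbackUnitHom_eq, Equiv.apply_symm_apply]
  have h1 : (Scheme.Modules.pullbackPushforwardAdjunction g).unit.app (Coh.structureModule Y) ≫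
      (Scheme.Modules.pushforward g).map (pullbackUnitHom g) = unitToPush g :=
    ((Scheme.Modules.pullbackPushforwardAdjunction g).homEquiv_unit _ _ _).symm.trans h0
  have h2 := congr_arg (fun t : Coh.structureModule Y ⟶
      (Scheme.Modules.pushforward g).obj (Coh.structureModule X) =>
        (t.val.app (op ⊤)).hom σ) h1
  exact h2

theorem ΘX_pullMod (s₁ : Coh.HH Y (Coh.structureModule Y) 0) :
    ΘX g (CohPull.pullMod g (Coh.structureModule Y) 0 s₁) =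
      (g.app ⊤).hom (HH.equiv₀ (Coh.structureModule Y) s₁) := by
  have h1 := CohPull.equiv₀_pullMod g (Coh.structureModule Y) s₁
  rw [ΘX_apply, h1]
  exact pullbackUnitHom_unit_apply g _

end unit

section span

variable {A : Type u} [CommRing A] {Y : Scheme.{u}} (fY : Y ⟶ Spec (CommRingCat.of A))
  (L : CochainComplex (ModuleCat.{u} A) ℤ)

/-- if `L` computes the cohomology of `O_Y` naturally and `Γ(Y, O) → Γ(Y_B, O)` is surjective, the map
`H⁰(L) → H⁰(L ⊗ B)` is surjective -/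
theorem surjective_ιH_zero (hL : ComputesNat A fY (Coh.structureModule Y) L)
    (B : Type u) [CommRing B] [Algebra A B] (Y' : Scheme.{u})
    (fY' : Y' ⟶ Spec (CommRingCat.of B)) (g' : Y' ⟶ Y)
    (hpb : IsPullback g' fY' fY (Spec.map (CommRingCat.ofHom (algebraMap A B))))
    (hsurj : Function.Surjective (g'.app ⊤).hom) :
    Function.Surjective (ιH (algebraMap A B) L ((0 : ℕ) : ℤ)) := by
  obtain ⟨e₀, he₀, H⟩ := hL 0
  obtain ⟨e, he, hnat⟩ := H B Y' fY' g' hpb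
  intro y
  obtain ⟨σ, hσ⟩ := hsurj (ΘX g' (e y))
  refine ⟨e₀.symm ((HH.equiv₀ (Coh.structureModule Y)).symm σ), ?_⟩
  apply e.injective
  apply (ΘX g').injective
  rw [hnat, ΘX_pullMod, e₀.apply_symm_apply, LinearEquiv.apply_symm_apply, hσ]

end span

section gsplit

variable {X S : Scheme.{u}} (f : X ⟶ S) {W : S.Opens} (hW : IsAffineOpen W)
  (L : CochainComplex (ModuleCat.{u} Γ(S, W)) ℤ)
  (hLff : ∀ i, Module.Finite Γ(S, W) (L.X i) ∧ Module.Free Γ(S, W) (L.X i))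
  (hL : ComputesNat Γ(S, W) (fU f hW (le_refl (f ⁻¹ᵁ W)))
    ((Coh.structureModule X).restrict (f ⁻¹ᵁ W).ι) L)

include hLff hL in
/-- if global functions over `f⁻¹ W` surject onto those of a base change `X''` of `X` to a field, the differential
`L⁰ ⟶ L¹` of a chart complex of `O_X` splits up to a function not vanishing at the field point -/
theorem exists_gsplit_of_surjective {T X'' : Scheme.{u}} (v : T ⟶ S) (gX : X'' ⟶ X) (f'' : X'' ⟶ T)
    (hsq : IsPullback gX f'' f v) (hT : IsAffineOpen (⊤ : T.Opens)) (hfield : IsField Γ(T, ⊤))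
    (htop : (⊤ : T.Opens) ≤ v ⁻¹ᵁ W)
    (hsurj : Function.Surjective
      (gX.appLE (f ⁻¹ᵁ W) (f'' ⁻¹ᵁ ⊤) (chart_le f v gX f'' hsq htop)).hom) :
    ∃ a : Γ(S, W), (v.appLE W ⊤ htop).hom a ≠ 0 ∧ GSplit (L.sc ((0 : ℕ) : ℤ)) a := by
  have hL' : ComputesNat Γ(S, W) (fU f hW (le_refl (f ⁻¹ᵁ W)))
      (Coh.structureModule (↑(f ⁻¹ᵁ W) : Scheme.{u})) L :=
    ComputesNat.of_iso _ (Scheme.Modules.restrictUnitIso (f ⁻¹ᵁ W).ι) hL
  have hpb := isPullback_chart₁ f v gX f'' hsq hW hT htop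
  letI : Algebra Γ(S, W) Γ(T, ⊤) := (v.appLE W ⊤ htop).hom.toAlgebra
  have hsurj' : Function.Surjective
      ((gX.resLE (f ⁻¹ᵁ W) (f'' ⁻¹ᵁ ⊤) (chart_le f v gX f'' hsq htop)).app ⊤).hom := by
    have h1 : (gX.resLE (f ⁻¹ᵁ W) (f'' ⁻¹ᵁ ⊤) (chart_le f v gX f'' hsq htop)).appTop =
        (f ⁻¹ᵁ W).topIso.hom ≫ gX.appLE (f ⁻¹ᵁ W) (f'' ⁻¹ᵁ ⊤) (chart_le f v gX f'' hsq htop) ≫
          (f'' ⁻¹ᵁ ⊤).topIso.inv :=
      Scheme.Hom.resLE_app_top gX _
    intro r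
    obtain ⟨r', rfl⟩ := (ConcreteCategory.bijective_of_isIso (f'' ⁻¹ᵁ ⊤).topIso.inv).2 r
    obtain ⟨σ, rfl⟩ := hsurj r'
    obtain ⟨σ', rfl⟩ := (ConcreteCategory.bijective_of_isIso (f ⁻¹ᵁ W).topIso.hom).2 σ
    refine ⟨σ', ?_⟩
    show (gX.resLE (f ⁻¹ᵁ W) (f'' ⁻¹ᵁ ⊤) (chart_le f v gX f'' hsq htop)).appTop.hom σ' = _
    rw [h1]
    rfl
  have hs := surjective_ιH_zero (fU f hW (le_refl (f ⁻¹ᵁ W))) L hL'
    Γ(T, ⊤) _ (fU f'' hT (le_refl _)) _ hpb hsurj'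
  have hspan : Submodule.span Γ(T, ⊤)
      (Set.range (ιH (algebraMap Γ(S, W) Γ(T, ⊤)) L ((0 : ℕ) : ℤ))) = ⊤ := by
    rw [Set.range_eq_univ.mpr hs, Submodule.span_univ]
  haveI : Module.Finite Γ(S, W) (L.sc ((0 : ℕ) : ℤ)).X₂ := (hLff _).1
  haveI : Module.Free Γ(S, W) (L.sc ((0 : ℕ) : ℤ)).X₂ := (hLff _).2
  haveI : Module.Finite Γ(S, W) (L.sc ((0 : ℕ) : ℤ)).X₃ := (hLff _).1
  haveI : Module.Free Γ(S, W) (L.sc ((0 : ℕ) : ℤ)).X₃ := (hLff _).2
  exact exists_gsplit_of_span_isField hfield (v.appLE W ⊤ htop).hom (L.sc ((0 : ℕ) : ℤ)) hspan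

end gsplit

end Groth.Agent.Lib.Helper18.EtH0
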