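import Mathlib
import Groth.Agent.Lib.Helper18.NNMaster0

/-!
# Generic chart property (helper18)

Abstract form of `NNRows.ChartProp` for an arbitrary morphism `v : A ⟶ g_* B` of modules over `g : S' ⟶ S`
(`A` quasi-coherent): if on sections over affine opens `W' ≤ g⁻¹W` the map `v` is identified with
`ιH : H^n(L) ⟶ H^n(L ⊗ Γ(S', W'))`, then splittings of `L` make the adjoint `g^* A ⟶ B` an isomorphism, and the
adjoint is an epimorphism iff the image of `ιH` spans.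
-/

set_option autoImplicit false
universe u

open CategoryTheory CategoryTheory.Limits Opposite TopologicalSpace AlgebraicGeometry

namespace Groth.Agent.Lib.Helper18.NNGen

open Groth.Agent.Lib.Helper18.BCHom Groth.Agent.Lib.Helper18.NNRows
  Groth.Agent.Lib.Helper18.SplitAlg Groth.Agent.Lib.helper8.PullbackUnit
open Scheme.Modules

variable {S S' : Scheme.{u}} (g : S' ⟶ S) {A : S.Modules} {B : S'.Modules}
  (v : A ⟶ (pushforward g).obj B)

/-- `v` is computed over `W` by the chart `(L, n, ΘA)` -/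
def ChartPropGen {W : S.Opens} (L : CochainComplex (ModuleCat.{u} Γ(S, W)) ℤ) (n : ℤ)
    (ΘA : L.homology n ≃ₗ[Γ(S, W)] Γ(A, W)) : Prop :=
  ∀ {W' : S'.Opens} (_ : IsAffineOpen W') (hW'W : W' ≤ g ⁻¹ᵁ W),
    letI : Algebra Γ(S, W) Γ(S', W') := (g.appLE W W' hW'W).hom.toAlgebra
    ∃ ΘB : (CohIII.bcCx (algebraMap Γ(S, W) Γ(S', W')) L).homology n ≃ₗ[Γ(S', W')] Γ(B, W'),
      ∀ x, ρv g hW'W v (ΘA x) = ΘB (ιH (algebraMap Γ(S, W) Γ(S', W')) L n x)

/-- near `g z` there is a chart of `v` whose differential `L^n ⟶ L^{n+1}` is split up to a function invertible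
at `g z` -/
def SplitAtGen (z : S') : Prop :=
  ∃ (W : S.Opens) (_ : IsAffineOpen W) (L : CochainComplex (ModuleCat.{u} Γ(S, W)) ℤ) (n : ℤ)
    (ΘA : L.homology n ≃ₗ[Γ(S, W)] Γ(A, W))
    (_ : ChartPropGen g v L n ΘA) (a : Γ(S, W)), g z ∈ S.basicOpen a ∧ GSplit (L.sc n) a

variable {g v}

/-- the adjoint of `v` is an isomorphism if `v` has split charts everywhere -/
theorem isIso_adj_of_splitAtGen [A.IsQuasicoherent] (H : ∀ z : S', SplitAtGen g v z) :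
    IsIso (((pullbackPushforwardAdjunction g).homEquiv A B).symm v) := by
  let 𝔅 : Set S'.Opens := {V' | IsAffineOpen V' ∧
    ∃ (W : S.Opens) (_ : IsAffineOpen W) (L : CochainComplex (ModuleCat.{u} Γ(S, W)) ℤ) (n : ℤ)
      (ΘA : L.homology n ≃ₗ[Γ(S, W)] Γ(A, W))
      (_ : ChartPropGen g v L n ΘA) (a : Γ(S, W)),
      V' ≤ g ⁻¹ᵁ (S.basicOpen a) ∧ GSplit (L.sc n) a}
  have h𝔅 : Opens.IsBasis 𝔅 := by
    rw [Opens.isBasis_iff_nbhd]
    intro O z hz
    obtain ⟨W, hW, L, n, ΘA, hΘ, a, hta, hs⟩ := H z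
    obtain ⟨V', hV', hzV', hle⟩ := Opens.isBasis_iff_nbhd.mp S'.isBasis_affineOpens
      (show z ∈ g ⁻¹ᵁ (S.basicOpen a) ⊓ O from ⟨hta, hz⟩)
    exact ⟨V', ⟨hV', W, hW, L, n, ΘA, hΘ, a, hle.trans inf_le_left, hs⟩, hzV',
      hle.trans inf_le_right⟩
  refine isIso_homEquiv_symm_of_isBC g v 𝔅 h𝔅 ?_
  rintro V' ⟨hV', W, hW, L, n, ΘA, hΘ, a, hle, hs⟩
  have e : V' ≤ g ⁻¹ᵁ W := hle.trans (fun z hz => S.basicOpen_le a hz)
  refine ⟨hV', W, hW, e, ?_⟩
  obtain ⟨ΘB, hΘB⟩ := hΘ hV' e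
  letI : Algebra Γ(S, W) Γ(S', V') := (g.appLE W V' e).hom.toAlgebra
  have hbc : IsBC (algebraMap Γ(S, W) Γ(S', V')) (ιH (algebraMap Γ(S, W) Γ(S', V')) L n) :=
    isBC_ιS_of_gsplit _ (L.sc n) a hs (isUnit_appLE_of_le_basicOpen g e a hle)
  refine hbc.of_equiv ΘA.symm ΘB.symm (ρv g e v) (fun y => ?_)
  rw [LinearEquiv.symm_apply_eq, ← hΘB, LinearEquiv.apply_symm_apply]

/-- if the adjoint of `v` is an epimorphism, the image of `ιH` spans -/
theorem span_ιH_of_epi_gen [A.IsQuasicoherent] [B.IsQuasicoherent] {W : S.Opens}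
    (hW : IsAffineOpen W)
    {L : CochainComplex (ModuleCat.{u} Γ(S, W)) ℤ} {n : ℤ}
    {ΘA : L.homology n ≃ₗ[Γ(S, W)] Γ(A, W)} (hΘ : ChartPropGen g v L n ΘA)
    {W' : S'.Opens} (hW' : IsAffineOpen W') (e : W' ≤ g ⁻¹ᵁ W)
    (hepi : Epi (((pullbackPushforwardAdjunction g).homEquiv A B).symm v)) :
    letI : Algebra Γ(S, W) Γ(S', W') := (g.appLE W W' e).hom.toAlgebra
    Submodule.span Γ(S', W') (Set.range (ιH (algebraMap Γ(S, W) Γ(S', W')) L n)) = ⊤ := by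
  obtain ⟨ΘB, hΘB⟩ := hΘ hW' e
  letI : Algebra Γ(S, W) Γ(S', W') := (g.appLE W W' e).hom.toAlgebra
  have h1 := span_range_ρv_of_epi g hW hW' e v
  have h2 : Submodule.map ΘB.symm.toLinearMap
      (Submodule.span Γ(S', W') (Set.range (ρv g e v))) =
      Submodule.span Γ(S', W') (Set.range (ιH (algebraMap Γ(S, W) Γ(S', W')) L n)) := by
    rw [Submodule.map_span]
    congr 1
    ext y
    constructor
    · rintro ⟨_, ⟨x, rfl⟩, rfl⟩
      refine ⟨ΘA.symm x, ?_⟩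
      show _ = ΘB.symm _
      rw [LinearEquiv.eq_symm_apply, ← hΘB, LinearEquiv.apply_symm_apply]
    · rintro ⟨x, rfl⟩
      refine ⟨_, ⟨ΘA x, rfl⟩, ?_⟩
      show ΘB.symm _ = _
      rw [LinearEquiv.symm_apply_eq, hΘB]
  rw [← h2, h1, Submodule.map_top, LinearEquiv.range]

end Groth.Agent.Lib.Helper18.NNGen
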