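import Mathlib
import Groth.Agent.Lib.Helper18.NNGen
import Groth.Agent.Lib.Helper8.PullOnComp
import Groth.Agent.Lib.Helper7.QCohPushQC

/-!
# Degree zero: `pullOn` on sections and `bc0Adj` on sections (helper18)
-/

set_option autoImplicit false
universe u

open CategoryTheory CategoryTheory.Limits Opposite TopologicalSpace AlgebraicGeometry

namespace Groth.Agent.Lib.Helper18.NNPush

open Groth.Agent.Lib.Helper18.BCHom Groth.Agent.Lib.Helper18.NNComplex
  Groth.Agent.Lib.Helper18.NNChart Groth.Agent.Lib.Helper18.NNMaster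
  Groth.Agent.Lib.Helper18.NNRows Groth.Agent.Lib.Helper18.NNGen
  Groth.Agent.Lib.Helper18.SplitAlg Groth.Agent.Lib.Helper18.ResLE
  Groth.Agent.Lib.helper21.GCBase Groth.Agent.Lib.helper8.GenBCChart
  Groth.Agent.Lib.helper8.PullbackUnit Groth.Agent.Lib.helper8.PullOnComp
  Groth.Agent.Lib.helper8.PullModComp
open Scheme.Modules

section K0

variable {X Y : Scheme.{u}} (g : X ⟶ Y) (U : Y.Opens) (U' : X.Opens) (h : U' ≤ g ⁻¹ᵁ U)
  (F : Y.Modules)

theorem equiv₀_sectH0 (W : Y.Opens) (s : F.presheaf.obj (op W)) :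
    Sheaf.H.equiv₀ (Coh.toAb (F.restrict W.ι)) Limits.isTerminalTop (CohPull.sectH0 F W s) =
      (F.presheaf.map (eqToHom W.ι_image_top).op).hom s :=
  AddEquiv.apply_symm_apply _ _

/-- **`pullOn` in degree zero is the pullback of sections** -/
theorem pullOn_sectH0 (s : Γ(F, U)) :
    CohPull.pullOn g U U' h F 0 (CohPull.sectH0 F U s) =
      CohPull.sectH0 ((Scheme.Modules.pullback g).obj F) U' (ρ g h F s) := by
  apply (Sheaf.H.equiv₀ (Coh.toAb (((Scheme.Modules.pullback g).obj F).restrict U'.ι))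
    (Limits.isTerminalTop : Limits.IsTerminal (⊤ : (U' : Scheme.{u}).Opens))).injective
  have e1 : CohPull.pullOn g U U' h F 0 (CohPull.sectH0 F U s) =
      CohPull.mapH (CohPull.pullOnIso g U U' h F).hom 0
        (CohPull.pullMod (g.resLE U U' h) (F.restrict U.ι) 0 (CohPull.sectH0 F U s)) := rfl
  rw [e1, CohPull.mapH, ← Sheaf.H.equiv₀_naturality, CohPull.equiv₀_pullMod, equiv₀_sectH0,
    equiv₀_sectH0]
  have hle : U'.ι ''ᵁ ((g.resLE U U' h) ⁻¹ᵁ ⊤) ≤ g ⁻¹ᵁ (U.ι ''ᵁ ⊤) := by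
    rw [U.ι_image_top]
    exact (Scheme.Hom.image_le_opensRange _ _).trans
      (by rw [Scheme.Opens.opensRange_ι]; exact h)
  have e := θOn_app' g U U' h F ⊤ ((F.presheaf.map (eqToHom U.ι_image_top).op).hom s) hle
  refine (e.trans ?_)
  have e2 := app_naturality (uP g F) (eqToHom U.ι_image_top : U.ι ''ᵁ ⊤ ⟶ U) s
  rw [e2, ρ_apply]
  have e3 : ∀ t : Γ((Scheme.Modules.pullback g).obj F, g ⁻¹ᵁ U),
      (((Scheme.Modules.pullback g).obj F).presheaf.map (homOfLE hle).op).hom
        ((((Scheme.Modules.pullback g).obj F).presheaf.map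
          ((Opens.map g.base).map (eqToHom U.ι_image_top)).op).hom t) =
      (((Scheme.Modules.pullback g).obj F).presheaf.map (eqToHom U'.ι_image_top).op).hom
        ((((Scheme.Modules.pullback g).obj F).presheaf.map (homOfLE h).op).hom t) := by
    intro t
    rw [map_map_eq ((Scheme.Modules.pullback g).obj F) _ _
      ((homOfLE (show U'.ι ''ᵁ ((g.resLE U U' h) ⁻¹ᵁ ⊤) ≤ g ⁻¹ᵁ U from
        hle.trans (g.preimage_mono (le_of_eq U.ι_image_top)))).op)]
    exact (map_map_eq ((Scheme.Modules.pullback g).obj F) (homOfLE h).op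
      (eqToHom U'.ι_image_top).op _ _).symm
  exact e3 _

end K0

section compat

variable {X S X' S' : Scheme.{u}} (f : X ⟶ S) (g : S' ⟶ S) (gX : X' ⟶ X) (f' : X' ⟶ S')
  (w : gX ≫ f = f' ≫ g) (F : X.Modules)
  {W : S.Opens} {W' : S'.Opens} (hW'W : W' ≤ g ⁻¹ᵁ W)

include w hW'W in
theorem chart_le₀ : f' ⁻¹ᵁ W' ≤ gX ⁻¹ᵁ (f ⁻¹ᵁ W) :=
  (f'.preimage_mono hW'W).trans (CohCmp.sqLE f g f' gX w W)

/-- **the degree zero base change map on sections is the pullback of sections** -/
theorem ρv_bc0Adj (s : Γ((pushforward f).obj F, W)) :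
    ρv g hW'W (CohBC.bc0Adj f g f' gX w F) s =
      ρ gX (chart_le₀ f g gX f' w hW'W) F (show Γ(F, f ⁻¹ᵁ W) from s) := by
  rw [ρv_apply, ρ_apply]
  unfold CohBC.bc0Adj
  simp only [Scheme.Modules.Hom.comp_app, pushforwardComp_hom_app_app,
    pushforwardComp_inv_app_app, pushforwardCongr_hom_app_app, pushforward_map_app,
    AddCommGrpCat.hom_comp, AddMonoidHom.coe_comp, Function.comp_apply]
  exact map_map_eq ((Scheme.Modules.pullback gX).obj F) _
    (((Opens.map f'.base).map (homOfLE hW'W)).op) _ _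

end compat

end Groth.Agent.Lib.Helper18.NNPush
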