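import Mathlib
import Groth.Agent.Lib.Helper18.NNPushA

/-!
# The degree zero chart theorem (helper18)
-/

set_option autoImplicit false
universe u

open CategoryTheory CategoryTheory.Limits Opposite TopologicalSpace AlgebraicGeometry

namespace Groth.Agent.Lib.Helper18.NNPush

open Groth.Agent.Lib.Helper18.BCHom Groth.Agent.Lib.Helper18.NNComplex
  Groth.Agent.Lib.Helper18.NNChart Groth.Agent.Lib.Helper18.NNMaster
  Groth.Agent.Lib.Helper18.NNRows Groth.Agent.Lib.Helper18.NNGen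
  Groth.Agent.Lib.Helper18.SplitAlg Groth.Agent.Lib.Helper18.ResLE
  Groth.Agent.Lib.helper21.GCBase Groth.Agent.Lib.helper8.GenBCChart
  Groth.Agent.Lib.helper8.PullbackUnit Groth.Agent.Lib.helper8.PullOnComp
  Groth.Agent.Lib.helper8.PullModComp
open Scheme.Modules

section master

open Groth.Agent.Lib.helper8.EpsAffine Groth.Agent.Lib.helper21.GCCech

variable {X S : Scheme.{u}} (f : X ⟶ S) [IsProper f] [LocallyOfFinitePresentation f]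
  (F : X.Modules) [F.IsQuasicoherent] (hfp : CohB1.IsFP F) (hfl : FlatMod.IsFlatOver f F)
  {W : S.Opens} (hW : IsAffineOpen W)

/-- sections of `f_* F` over `W` as degree zero cohomology over `f⁻¹W`, linearly -/
noncomputable def sectEquiv₀ :
    letI := modHH (fU f hW (le_refl (f ⁻¹ᵁ W))) (F.restrict (f ⁻¹ᵁ W).ι) 0
    Coh.HHon X F (f ⁻¹ᵁ W) 0 ≃ₗ[Γ(S, W)] Γ((pushforward f).obj F, W) :=
  letI := modHH (fU f hW (le_refl (f ⁻¹ᵁ W))) (F.restrict (f ⁻¹ᵁ W).ι) 0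
  { (CohPull.sectH0 F (f ⁻¹ᵁ W)).symm with
    map_smul' := fun r x => by
      obtain ⟨t, rfl⟩ := (CohPull.sectH0 F (f ⁻¹ᵁ W)).surjective x
      have h1 : Coh.toGlobal (A := Γ(S, W)) (fU f hW (le_refl (f ⁻¹ᵁ W))) r •
          CohPull.sectH0 F (f ⁻¹ᵁ W) t =
          CohPull.sectH0 F (f ⁻¹ᵁ W) ((f.app W).hom r • t) := by
        rw [toGlobal_fU_self]
        exact (sectH0_smul F _ _ t).symm
      show (CohPull.sectH0 F (f ⁻¹ᵁ W)).symm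
        (Coh.toGlobal (A := Γ(S, W)) (fU f hW (le_refl (f ⁻¹ᵁ W))) r •
          CohPull.sectH0 F (f ⁻¹ᵁ W) t) =
        r • (show Γ((pushforward f).obj F, W) from
          (CohPull.sectH0 F (f ⁻¹ᵁ W)).symm (CohPull.sectH0 F (f ⁻¹ᵁ W) t))
      rw [h1, AddEquiv.symm_apply_apply, AddEquiv.symm_apply_apply]
      rfl }

omit [IsProper f] [LocallyOfFinitePresentation f] [F.IsQuasicoherent] in
theorem sectEquiv₀_symm_apply (t : Γ((pushforward f).obj F, W)) :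
    (sectEquiv₀ f F hW).symm t = CohPull.sectH0 F (f ⁻¹ᵁ W) (show Γ(F, f ⁻¹ᵁ W) from t) := rfl

omit [IsProper f] [LocallyOfFinitePresentation f] [F.IsQuasicoherent] in
theorem sectEquiv₀_apply (x : Coh.HHon X F (f ⁻¹ᵁ W) 0) :
    sectEquiv₀ f F hW x = (CohPull.sectH0 F (f ⁻¹ᵁ W)).symm x := rfl

omit [IsProper f] [LocallyOfFinitePresentation f] [F.IsQuasicoherent] in
/-- **the degree zero chart theorem** for a complex computing the cohomology of `F` over `W` universally -/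
theorem chart_push (L : CochainComplex (ModuleCat.{u} Γ(S, W)) ℤ)
    (hL : ComputesNat Γ(S, W) (fU f hW (le_refl (f ⁻¹ᵁ W))) (F.restrict (f ⁻¹ᵁ W).ι) L) :
    ∃ Θ₀ : L.homology ((0 : ℕ) : ℤ) ≃ₗ[Γ(S, W)] Γ((pushforward f).obj F, W),
      ∀ {X' S' : Scheme.{u}} (g : S' ⟶ S) (gX : X' ⟶ X) (f' : X' ⟶ S')
        (hX : IsPullback gX f' f g),
        ChartPropGen g (CohBC.bc0Adj f g f' gX hX.w F) L ((0 : ℕ) : ℤ) Θ₀ := by
  obtain ⟨e₀, he₀, H⟩ := hL 0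
  letI mA := modHH (fU f hW (le_refl (f ⁻¹ᵁ W))) (F.restrict (f ⁻¹ᵁ W).ι) 0
  let e₀' : L.homology ((0 : ℕ) : ℤ) ≃ₗ[Γ(S, W)] Coh.HH (↑(f ⁻¹ᵁ W) : Scheme.{u})
      (F.restrict (f ⁻¹ᵁ W).ι) 0 :=
    { e₀ with map_smul' := fun a x => he₀ a x }
  refine ⟨e₀'.trans (sectEquiv₀ f F hW), ?_⟩
  intro X' S' g gX f' hX W' hW' hW'W
  letI : Algebra Γ(S, W) Γ(S', W') := (g.appLE W W' hW'W).hom.toAlgebra
  have hpb : IsPullback (gX.resLE (f ⁻¹ᵁ W) (f' ⁻¹ᵁ W') (chart_le f g gX f' hX hW'W))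
      (fU f' hW' (le_refl (f' ⁻¹ᵁ W'))) (fU f hW (le_refl (f ⁻¹ᵁ W)))
      (Spec.map (CommRingCat.ofHom (algebraMap Γ(S, W) Γ(S', W')))) :=
    isPullback_chart₁ f g gX f' hX hW hW' hW'W
  obtain ⟨e, he, hnat⟩ := H Γ(S', W') (↑(f' ⁻¹ᵁ W') : Scheme.{u})
    (fU f' hW' (le_refl (f' ⁻¹ᵁ W')))
    (gX.resLE (f ⁻¹ᵁ W) (f' ⁻¹ᵁ W') (chart_le f g gX f' hX hW'W)) hpb
  letI mB := modHH (fU f' hW' (le_refl (f' ⁻¹ᵁ W')))
    ((Scheme.Modules.pullback (gX.resLE (f ⁻¹ᵁ W) (f' ⁻¹ᵁ W')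
      (chart_le f g gX f' hX hW'W))).obj (F.restrict (f ⁻¹ᵁ W).ι)) 0
  letI mB2 := modHH (fU f' hW' (le_refl (f' ⁻¹ᵁ W')))
    (((Scheme.Modules.pullback gX).obj F).restrict (f' ⁻¹ᵁ W').ι) 0
  let e' : (CohIII.bcCx (algebraMap Γ(S, W) Γ(S', W')) L).homology ((0 : ℕ) : ℤ) ≃ₗ[Γ(S', W')]
      Coh.HH (↑(f' ⁻¹ᵁ W') : Scheme.{u})
        ((Scheme.Modules.pullback (gX.resLE (f ⁻¹ᵁ W) (f' ⁻¹ᵁ W')
          (chart_le f g gX f' hX hW'W))).obj (F.restrict (f ⁻¹ᵁ W).ι)) 0 :=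
    { e with map_smul' := fun b x => he b x }
  let eM := mapEquiv (CohPull.pullOnIso gX (f ⁻¹ᵁ W) (f' ⁻¹ᵁ W')
    (chart_le f g gX f' hX hW'W) F) 0
  let eB : Coh.HH (↑(f' ⁻¹ᵁ W') : Scheme.{u})
      ((Scheme.Modules.pullback (gX.resLE (f ⁻¹ᵁ W) (f' ⁻¹ᵁ W')
        (chart_le f g gX f' hX hW'W))).obj (F.restrict (f ⁻¹ᵁ W).ι)) 0 ≃ₗ[Γ(S', W')]
      Coh.HHon X' ((Scheme.Modules.pullback gX).obj F) (f' ⁻¹ᵁ W') 0 :=
    { eM.toAddEquiv with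
      map_smul' := fun s y =>
        eM.map_smul (Coh.toGlobal (A := Γ(S', W')) (fU f' hW' (le_refl (f' ⁻¹ᵁ W'))) s) y }
  refine ⟨(e'.trans eB).trans (sectEquiv₀ f' ((Scheme.Modules.pullback gX).obj F) hW'),
    fun x => ?_⟩
  rw [ρv_bc0Adj f g gX f' hX.w F hW'W]
  show _ = (CohPull.sectH0 ((Scheme.Modules.pullback gX).obj F) (f' ⁻¹ᵁ W')).symm
    (eM (e (ιH (algebraMap Γ(S, W) Γ(S', W')) L ((0 : ℕ) : ℤ) x)))
  rw [hnat, AddEquiv.eq_symm_apply]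
  have hx : e₀ x = CohPull.sectH0 F (f ⁻¹ᵁ W)
      ((CohPull.sectH0 F (f ⁻¹ᵁ W)).symm (e₀ x)) := (AddEquiv.apply_symm_apply _ _).symm
  have h2 := pullOn_sectH0 gX (f ⁻¹ᵁ W) (f' ⁻¹ᵁ W') (chart_le f g gX f' hX hW'W) F
    ((CohPull.sectH0 F (f ⁻¹ᵁ W)).symm (e₀ x))
  rw [← hx] at h2
  exact h2.symm

include hfp hfl in
/-- **the degree zero master chart theorem**: `f_* F` and the base change maps `bc0Adj` -/
theorem master_push :
    ∃ L : CochainComplex (ModuleCat.{u} Γ(S, W)) ℤ,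
      (∀ i, Module.Finite Γ(S, W) (L.X i) ∧ Module.Free Γ(S, W) (L.X i)) ∧
      (∃ N : ℕ, ∀ i : ℤ, (N : ℤ) ≤ i → IsZero (L.X i)) ∧
      (∀ (B : Type u) [CommRing B] [Algebra Γ(S, W) B] (i : ℤ), i < 0 →
        IsZero ((CohIII.bcCx (algebraMap Γ(S, W) B) L).homology i)) ∧
      ComputesNat Γ(S, W) (fU f hW (le_refl (f ⁻¹ᵁ W))) (F.restrict (f ⁻¹ᵁ W).ι) L ∧
      ∃ Θ₀ : L.homology ((0 : ℕ) : ℤ) ≃ₗ[Γ(S, W)] Γ((pushforward f).obj F, W),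
        ∀ {X' S' : Scheme.{u}} (g : S' ⟶ S) (gX : X' ⟶ X) (f' : X' ⟶ S')
          (hX : IsPullback gX f' f g),
          ChartPropGen g (CohBC.bc0Adj f g f' gX hX.w F) L ((0 : ℕ) : ℤ) Θ₀ := by
  obtain ⟨L, h1, h2, h3, hL⟩ := exists_chart_complex f hW F hfp hfl
  exact ⟨L, h1, h2, h3, hL, chart_push f F hW L hL⟩

omit [LocallyOfFinitePresentation f] in
/-- sections of `R^n f_* F` over `W` for a complex computing the cohomology of `F` over `W` -/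
theorem chart_rpush₀ [HasInjectiveResolutions X.Modules]
    (L : CochainComplex (ModuleCat.{u} Γ(S, W)) ℤ)
    (hL : ComputesNat Γ(S, W) (fU f hW (le_refl (f ⁻¹ᵁ W))) (F.restrict (f ⁻¹ᵁ W).ι) L) (n : ℕ) :
    Nonempty (L.homology (n : ℤ) ≃ₗ[Γ(S, W)] Γ((Coh.Rpush f n).obj F, W)) := by
  obtain ⟨e₀, he₀, -⟩ := hL n
  letI := overA f hW
  obtain ⟨e'⟩ := nonempty_sections_rpush_equiv f hW F n
  let e₀' : L.homology (n : ℤ) ≃ₗ[Γ(S, W)] Coh.HH (↑(f ⁻¹ᵁ W) : Scheme.{u})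
      (FA f (V := W) F) n :=
    { e₀ with
      map_smul' := fun a x => by
        have h := he₀ a x
        rw [fU_eq_fA] at h
        exact h }
  exact ⟨e₀'.trans e'.symm⟩

end master

end Groth.Agent.Lib.Helper18.NNPush
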