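import Mathlib
import Groth.Agent.Lib.Helper18.NNPushB

/-!
# The degree zero chart: `f_* F` and the base change map `bc0` (helper18)
-/

set_option autoImplicit false
universe u

open CategoryTheory CategoryTheory.Limits Opposite TopologicalSpace AlgebraicGeometry

namespace Groth.Agent.Lib.Helper18.NNPush

open Groth.Agent.Lib.Helper18.BCHom Groth.Agent.Lib.Helper18.NNComplex
  Groth.Agent.Lib.Helper18.NNChart Groth.Agent.Lib.Helper18.NNMaster
  Groth.Agent.Lib.Helper18.NNRows Groth.Agent.Lib.Helper18.NNGen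
  Groth.Agent.Lib.Helper18.SplitAlg Groth.Agent.Lib.Helper18.ResLE
  Groth.Agent.Lib.helper21.GCBase Groth.Agent.Lib.helper8.GenBCChart
  Groth.Agent.Lib.helper8.PullbackUnit Groth.Agent.Lib.helper8.PullOnComp
  Groth.Agent.Lib.helper8.PullModComp
open Scheme.Modules

section epi0

variable {X S : Scheme.{u}} (f : X ⟶ S) [IsProper f]
  (F : X.Modules) [F.IsQuasicoherent]
  {W : S.Opens} (hW : IsAffineOpen W)
  (L : CochainComplex (ModuleCat.{u} Γ(S, W)) ℤ)
  (hLff : ∀ i, Module.Finite Γ(S, W) (L.X i) ∧ Module.Free Γ(S, W) (L.X i))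
  (Θ₀ : L.homology ((0 : ℕ) : ℤ) ≃ₗ[Γ(S, W)] Γ((pushforward f).obj F, W))
  (hΘ₀ : ∀ {X' S' : Scheme.{u}} (g : S' ⟶ S) (gX : X' ⟶ X) (f' : X' ⟶ S')
    (hX : IsPullback gX f' f g),
    ChartPropGen g (CohBC.bc0Adj f g f' gX hX.w F) L ((0 : ℕ) : ℤ) Θ₀)

include hW hLff hΘ₀ in
/-- surjectivity of the degree zero base change map of the fibre at `s` splits `L^0 ⟶ L^1` near `s` -/
theorem exists_gsplit_of_epi₀ (s : S) (hsW : s ∈ W)
    (hepi : Epi (CohBC.bc0 f (S.fromSpecResidueField s) (f.fiberToSpecResidueField s) (f.fiberι s)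
      (f.fiber_fac s) F)) :
    ∃ a : Γ(S, W), s ∈ S.basicOpen a ∧ GSplit (L.sc ((0 : ℕ) : ℤ)) a := by
  have hsq : IsPullback (f.fiberι s) (f.fiberToSpecResidueField s) f (S.fromSpecResidueField s) :=
    IsPullback.of_hasPullback _ _
  haveI : ((pushforward f).obj F).IsQuasicoherent :=
    Groth.Agent.Lib.helper7.QCohPushQC.isQuasicoherent_pushforward f F
  haveI : IsProper (f.fiberToSpecResidueField s) :=
    MorphismProperty.of_isPullback hsq inferInstance
  haveI : ((Scheme.Modules.pullback (f.fiberι s)).obj F).IsQuasicoherent :=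
    Groth.Agent.Lib.helper16.QCohPullback.isQuasicoherent_pullback (f.fiberι s) F
  haveI : ((pushforward (f.fiberToSpecResidueField s)).obj
      ((Scheme.Modules.pullback (f.fiberι s)).obj F)).IsQuasicoherent :=
    Groth.Agent.Lib.helper7.QCohPushQC.isQuasicoherent_pushforward _ _
  have htop := top_le_preimage s hsW
  have hspan := span_ιH_of_epi_gen hW (hΘ₀ (S.fromSpecResidueField s) (f.fiberι s)
    (f.fiberToSpecResidueField s) hsq) (isAffineOpen_top (Spec (S.residueField s))) htop hepi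
  haveI : Module.Finite Γ(S, W) (L.sc ((0 : ℕ) : ℤ)).X₂ := (hLff _).1
  haveI : Module.Free Γ(S, W) (L.sc ((0 : ℕ) : ℤ)).X₂ := (hLff _).2
  haveI : Module.Finite Γ(S, W) (L.sc ((0 : ℕ) : ℤ)).X₃ := (hLff _).1
  haveI : Module.Free Γ(S, W) (L.sc ((0 : ℕ) : ℤ)).X₃ := (hLff _).2
  obtain ⟨a, ha, hsplit⟩ := exists_gsplit_of_span_isField (isField_Γ_residueField s)
    ((S.fromSpecResidueField s).appLE W ⊤ htop).hom (L.sc ((0 : ℕ) : ℤ)) hspan
  exact ⟨a, (mem_basicOpen_iff_ne_zero s hsW a).mpr ha, hsplit⟩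

omit [IsProper f] [F.IsQuasicoherent] in
include hW hΘ₀ in
/-- a splitting of `L^0 ⟶ L^1` up to `a` makes `f_* F` commute with base changes landing in `D(a)` -/
theorem splitAtGen_of_gsplit (a : Γ(S, W)) (hs : GSplit (L.sc ((0 : ℕ) : ℤ)) a)
    {X' S' : Scheme.{u}} (g : S' ⟶ S) (gX : X' ⟶ X) (f' : X' ⟶ S') (hX : IsPullback gX f' f g)
    (z : S') (hz : g z ∈ S.basicOpen a) :
    SplitAtGen g (CohBC.bc0Adj f g f' gX hX.w F) z :=
  ⟨W, hW, L, ((0 : ℕ) : ℤ), Θ₀, hΘ₀ g gX f' hX, a, hz, hs⟩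

end epi0

end Groth.Agent.Lib.Helper18.NNPush
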