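import Mathlib
import Groth.Agent.Lib.Helper18.NNComplex
import Groth.Agent.Lib.Helper17.FlatOver6

/-!
# The Grothendieck complex, strong form (helper18)

`exists_complex_strong`: the complex `L` of `NNComplex.exists_complex` can be chosen such that for every `A`-algebra `B`
and every pullback square `X' = X ×_A B` the base changed complex `L ⊗_A B` again computes the cohomology of the
pulled back module universally and naturally (`ComputesNat B fX' (g'^* F) (L ⊗_A B)`).
-/

set_option autoImplicit false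
universe u

open CategoryTheory CategoryTheory.Limits Opposite TopologicalSpace AlgebraicGeometry

namespace Groth.Agent.Lib.Helper18.NNStrong

open Groth.Agent.Lib.Helper18.BCHom Groth.Agent.Lib.helper21.GCCech
  Groth.Agent.Lib.helper8.PullModComp Groth.Agent.Lib.helper11.CechPush
  Groth.Agent.Lib.Helper18.NNComplex

/-- flatness over the base is stable under base change -/
theorem isFlatOver_pullback_of_isPullback {X S X' S' : Scheme.{u}} {f : X ⟶ S} {f' : X' ⟶ S'}
    {g' : X' ⟶ X} {g : S' ⟶ S} (hc : IsPullback g' f' f g) (F : X.Modules) [F.IsQuasicoherent]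
    (h : FlatMod.IsFlatOver f F) :
    FlatMod.IsFlatOver f' ((Scheme.Modules.pullback g').obj F) := fun x' =>
  (Groth.Agent.Lib.helper17.FlatOver6.isFlatOverAt_baseChange_both hc F x').1 (h _)

section bc

open Groth.Agent.Lib.helper8.FlatHomBC

variable {A : Type u} [CommRing A] {X : Scheme.{u}} (fX : X ⟶ Spec (CommRingCat.of A))
  [IsSeparated fX]
  (M : X.Modules) [M.IsQuasicoherent] (hfl : FlatMod.IsFlatOver fX M)
  {ι : Type u} [Finite ι] (U : ι → X.Opens) (hUa : ∀ i, IsAffineOpen (U i))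
  (hU : ∀ (n : ℕ) (a : Fin (n + 1) → ι), IsAffineOpen (∏ᶜ (U ∘ a) : X.Opens))
  (hcov : iSup U = ⊤)

include hfl hUa hU hcov in
/-- a quasi-isomorphism from a bounded above flat complex to the Čech module complex which stays a
quasi-isomorphism after the base change `A ⟶ B` makes `L ⊗_A B` compute the cohomology of the base change
universally and naturally -/
theorem computesNat_bc {L : CochainComplex (ModuleCat.{u} A) ℤ}
    (hLflat : ∀ i, Module.Flat A (L.X i))
    (hLz : ∀ i : ℤ, (Nat.card ι : ℤ) ≤ i → IsZero (L.X i))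
    (φ : L ⟶ cechMod fX M U)
    (B : Type u) [CommRing B] [Algebra A B]
    (hφB : QuasiIso (((ModuleCat.extendScalars.{u, u, u} (algebraMap A B)).mapHomologicalComplex
        (ComplexShape.up ℤ)).map φ))
    (X' : Scheme.{u}) (fX' : X' ⟶ Spec (CommRingCat.of B)) (g' : X' ⟶ X)
    (h : IsPullback g' fX' fX (Spec.map (CommRingCat.ofHom (algebraMap A B)))) :
    ComputesNat B fX' ((Scheme.Modules.pullback g').obj M) (CohIII.bcCx (algebraMap A B) L) := by
  let M' : X'.Modules := (Scheme.Modules.pullback g').obj M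
  haveI : M'.IsQuasicoherent :=
    Groth.Agent.Lib.helper16.QCohPullback.isQuasicoherent_pullback g' M
  have hfl' : FlatMod.IsFlatOver fX' M' := isFlatOver_pullback_of_isPullback h M hfl
  haveI : IsAffineHom g' := MorphismProperty.of_isPullback h.flip inferInstance
  haveI : IsSeparated fX' := MorphismProperty.of_isPullback h inferInstance
  let U' : ι → X'.Opens := preU g' U
  have hUa' : ∀ i, IsAffineOpen (U' i) := fun i => (hUa i).preimage g'
  have hU' : ∀ (n : ℕ) (a : Fin (n + 1) → ι), IsAffineOpen (∏ᶜ (U' ∘ a) : X'.Opens) := by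
    intro n a
    rw [← preimage_prod g' U a]
    exact (hU n a).preimage g'
  have hcov' : iSup U' = ⊤ := by
    show (⨆ i, g' ⁻¹ᵁ U i) = ⊤
    rw [← Scheme.Hom.preimage_iSup, hcov]
    rfl
  let ψ := Groth.Agent.Lib.helper11.CechBC.cechModBCIso fX fX' g' h M U hU
  let L' : CochainComplex (ModuleCat.{u} B) ℤ := CohIII.bcCx (algebraMap A B) L
  let φ' : L' ⟶ cechMod fX' M' U' :=
    ((ModuleCat.extendScalars.{u, u, u} (algebraMap A B)).mapHomologicalComplex
      (ComplexShape.up ℤ)).map φ ≫ ψ.hom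
  have hq' : QuasiIso φ' := by
    haveI := hφB
    infer_instance
  have hLz' : ∀ i : ℤ, (Nat.card ι : ℤ) ≤ i → IsZero (L'.X i) := fun i hi =>
    (ModuleCat.extendScalars.{u, u, u} (algebraMap A B)).map_isZero (hLz i hi)
  have hLflat' : ∀ i, Module.Flat B (L'.X i) := fun i => by
    haveI := hLflat i
    exact Module.Flat.of_linearEquiv (Groth.Agent.S2380.eM (κ := B) (L.X i))
  have hKflat' := flat_cechMod fX' M' U' hfl' hU'
  have hN' : ∀ (B' : Type u) [CommRing B'] [Algebra B B'] (i : ℤ), (Nat.card ι : ℤ) ≤ i →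
      IsZero ((CohIII.bcCx (algebraMap B B') (cechMod fX' M' U')).homology i) :=
    fun B' _ _ i hi => isZero_bcCx_cechMod fX' M' U' hUa' hU' hcov' B' i hi
  have hφ' : ∀ (B' : Type u) [CommRing B'] (χ : B →+* B'),
      QuasiIso (((ModuleCat.extendScalars.{u, u, u} χ).mapHomologicalComplex
        (ComplexShape.up ℤ)).map φ') :=
    fun B' _ χ => Groth.Agent.Lib.Helper18.UnivQIso.quasiIso_bcCx_of_univ B φ' hq' hLflat' hKflat'
      (Nat.card ι) hLz' hN' B' χ
  exact computesNat_of_quasiIso fX' M' U' hU' hcov' φ' hq' hφ'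

end bc

section main

open Groth.Agent.Lib.helper8.FlatHomBC

/-- **The Grothendieck complex over an arbitrary base ring, strong form**: the base changes of `L` compute the
cohomology of the base changes of `F` universally and naturally. -/
theorem exists_complex_strong (A : Type u) [CommRing A] {X : Scheme.{u}}
    (fX : X ⟶ Spec (CommRingCat.of A)) [IsProper fX] [LocallyOfFinitePresentation fX]
    (F : X.Modules) [F.IsQuasicoherent] (hF : CohB1.IsFP F) (hfl : FlatMod.IsFlatOver fX F) :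
    ∃ L : CochainComplex (ModuleCat.{u} A) ℤ,
      (∀ i, Module.Finite A (L.X i) ∧ Module.Free A (L.X i)) ∧
      (∃ N : ℕ, ∀ i : ℤ, (N : ℤ) ≤ i → IsZero (L.X i)) ∧
      (∀ (B : Type u) [CommRing B] [Algebra A B] (i : ℤ), i < 0 →
        IsZero ((CohIII.bcCx (algebraMap A B) L).homology i)) ∧
      ComputesNat A fX F L ∧
      ∀ (B : Type u) [CommRing B] [Algebra A B] (X' : Scheme.{u})
        (fX' : X' ⟶ Spec (CommRingCat.of B)) (g' : X' ⟶ X)
        (_ : IsPullback g' fX' fX (Spec.map (CommRingCat.ofHom (algebraMap A B)))),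
        ComputesNat B fX' ((Scheme.Modules.pullback g').obj F) (CohIII.bcCx (algebraMap A B) L) := by
  obtain ⟨A₀, _, _, _, X₀, f₀, e, F₀, hprop₀, hpb, hcoh₀, hfl₀, ⟨α⟩⟩ :=
    Groth.Agent.Lib.Helper18.NNModel.exists_noetherian_proper_flat_model A fX F hF hfl
  haveI : IsProper f₀ := hprop₀
  haveI : F₀.IsQuasicoherent := hcoh₀.1
  -- the Čech complex of the Noetherian model
  haveI : CompactSpace X₀ := QuasiCompact.compactSpace_of_compactSpace f₀
  have hd₀ := affine_inf_of_isSeparated f₀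
  obtain ⟨ι, hfin, U₀, hUa₀, hcov₀⟩ := exists_finite_affine_cover X₀
  have hU₀ : ∀ (n : ℕ) (a : Fin (n + 1) → ι), IsAffineOpen (∏ᶜ (U₀ ∘ a) : X₀.Opens) :=
    fun n a => Groth.Agent.Lib.Lead.CechLoc.isAffineOpen_prod U₀
      (isAffineOpen_biInf hd₀ U₀ hUa₀) n a
  have hflat₀ := flat_cechMod f₀ F₀ U₀ hfl₀ hU₀
  have hfin₀ : ∀ i, Module.Finite A₀ ((cechMod f₀ F₀ U₀).homology i) := by
    intro i
    by_cases hi : i < 0
    · haveI : Subsingleton ((cechMod f₀ F₀ U₀).homology i) :=
        ModuleCat.subsingleton_of_isZero (isZero_cechMod_homology f₀ F₀ U₀ i hi)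
      infer_instance
    · obtain ⟨p, rfl⟩ : ∃ n : ℕ, (n : ℤ) = i := ⟨i.toNat, by omega⟩
      letI : X₀.Over (Spec (CommRingCat.of A₀)) := ⟨f₀⟩
      haveI : IsProper (X₀ ↘ Spec (CommRingCat.of A₀)) := hprop₀
      have h0 := Groth.Agent.S0002.result A₀ X₀ F₀ hcoh₀ p
      letI := modHH f₀ F₀ p
      haveI : Module.Finite A₀ (Coh.HH X₀ F₀ p) := h0
      exact Module.Finite.equiv (cechModHomology f₀ F₀ U₀ hU₀ hcov₀ p).symm
  have hN₀ : ∀ (B : Type u) [CommRing B] [Algebra A₀ B] (i : ℤ), (Nat.card ι : ℤ) ≤ i →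
      IsZero ((CohIII.bcCx (algebraMap A₀ B) (cechMod f₀ F₀ U₀)).homology i) :=
    fun B _ _ i hi => isZero_bcCx_cechMod f₀ F₀ U₀ hUa₀ hU₀ hcov₀ B i hi
  obtain ⟨L₀, φ₀, hff₀, hLz₀, -, hu₀, -⟩ :=
    Groth.Agent.Lib.helper11.GCAlg.exists_finite_free_quasiIso_bc_tensor A₀ (cechMod f₀ F₀ U₀)
      hflat₀ hfin₀ (Nat.card ι) hN₀
  -- over `A`
  let F' : X.Modules := (Scheme.Modules.pullback e).obj F₀
  haveI : F'.IsQuasicoherent :=
    Groth.Agent.Lib.helper16.QCohPullback.isQuasicoherent_pullback e F₀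
  have hfl' : FlatMod.IsFlatOver fX F' :=
    (Groth.Agent.Lib.helper17.FlatOver7.isFlatOver_iff_of_iso fX α).mp hfl
  haveI : IsAffineHom e := MorphismProperty.of_isPullback hpb.flip inferInstance
  let U : ι → X.Opens := preU e U₀
  have hUa : ∀ i, IsAffineOpen (U i) := fun i => (hUa₀ i).preimage e
  have hU : ∀ (n : ℕ) (a : Fin (n + 1) → ι), IsAffineOpen (∏ᶜ (U ∘ a) : X.Opens) := by
    intro n a
    rw [← preimage_prod e U₀ a]
    exact (hU₀ n a).preimage e
  have hcov : iSup U = ⊤ := by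
    show (⨆ i, e ⁻¹ᵁ U₀ i) = ⊤
    rw [← Scheme.Hom.preimage_iSup, hcov₀]
    rfl
  let ψ := Groth.Agent.Lib.helper11.CechBC.cechModBCIso f₀ fX e hpb F₀ U₀ hU₀
  let L : CochainComplex (ModuleCat.{u} A) ℤ := CohIII.bcCx (algebraMap A₀ A) L₀
  let φ : L ⟶ cechMod fX F' U :=
    ((ModuleCat.extendScalars.{u, u, u} (algebraMap A₀ A)).mapHomologicalComplex
      (ComplexShape.up ℤ)).map φ₀ ≫ ψ.hom
  have hq : QuasiIso φ := by
    haveI := hu₀ A (algebraMap A₀ A)
    infer_instance
  have hLff : ∀ i, Module.Finite A (L.X i) ∧ Module.Free A (L.X i) := by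
    intro i
    haveI := (hff₀ i).1
    haveI := (hff₀ i).2
    exact finite_free_extendScalars (L₀.X i)
  have hLz : ∀ i : ℤ, (Nat.card ι : ℤ) ≤ i → IsZero (L.X i) := fun i hi =>
    (ModuleCat.extendScalars.{u, u, u} (algebraMap A₀ A)).map_isZero (hLz₀ i hi)
  have hLflat : ∀ i, Module.Flat A (L.X i) := fun i => by
    haveI := (hLff i).1
    haveI := (hLff i).2
    infer_instance
  have hKflat := flat_cechMod fX F' U hfl' hU
  have hN : ∀ (B : Type u) [CommRing B] [Algebra A B] (i : ℤ), (Nat.card ι : ℤ) ≤ i →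
      IsZero ((CohIII.bcCx (algebraMap A B) (cechMod fX F' U)).homology i) :=
    fun B _ _ i hi => isZero_bcCx_cechMod fX F' U hUa hU hcov B i hi
  have hφ : ∀ (B : Type u) [CommRing B] (χ : A →+* B),
      QuasiIso (((ModuleCat.extendScalars.{u, u, u} χ).mapHomologicalComplex
        (ComplexShape.up ℤ)).map φ) :=
    fun B _ χ => Groth.Agent.Lib.Helper18.UnivQIso.quasiIso_bcCx_of_univ A φ hq hLflat hKflat
      (Nat.card ι) hLz hN B χ
  refine ⟨L, hLff, ⟨Nat.card ι, hLz⟩, ?_, ?_, ?_⟩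
  · intro B _ _ i hi
    have h1 := (hφ B (algebraMap A B)).quasiIsoAt i
    rw [quasiIsoAt_iff_isIso_homologyMap] at h1
    have h2 : IsZero ((CohIII.bcCx (algebraMap A B) (cechMod fX F' U)).X i) :=
      (ModuleCat.extendScalars.{u, u, u} (algebraMap A B)).map_isZero
        (isZero_cechMod_X fX F' U i hi)
    have h3 : IsZero ((CohIII.bcCx (algebraMap A B) (cechMod fX F' U)).homology i) :=
      ShortComplex.isZero_homology_of_isZero_X₂ _ h2
    exact h3.of_iso (asIso (HomologicalComplex.homologyMap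
      (((ModuleCat.extendScalars.{u, u, u} (algebraMap A B)).mapHomologicalComplex
        (ComplexShape.up ℤ)).map φ) i))
  · exact (computesNat_of_quasiIso fX F' U hU hcov φ hq hφ).of_iso fX α.symm
  · intro B _ _ X' fX' g' h
    have h1 := computesNat_bc fX F' hfl' U hUa hU hcov hLflat hLz φ B (hφ B (algebraMap A B))
      X' fX' g' h
    exact h1.of_iso fX' ((Scheme.Modules.pullback g').mapIso α.symm)

end main

end Groth.Agent.Lib.Helper18.NNStrong
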