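import Mathlib
import Groth.Agent.Lib.Helper18.NNStrong
import Groth.Agent.Lib.Helper18.NNPushB

/-!
# Strong charts (helper18)

A chart complex `L` over an affine open `W` of the base is *strong* if for every base change `g : S' ⟶ S`
and every affine open `W' ≤ g⁻¹W` the complex `L ⊗ Γ(S', W')` is again a chart complex for the base changed
morphism over `W'`.  Strong charts exist (`exists_strong_chart`).
-/

set_option autoImplicit false
universe u

open CategoryTheory CategoryTheory.Limits Opposite TopologicalSpace AlgebraicGeometry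

namespace Groth.Agent.Lib.Helper18.NNStrong

open Groth.Agent.Lib.Helper18.BCHom Groth.Agent.Lib.Helper18.NNComplex
  Groth.Agent.Lib.Helper18.NNChart Groth.Agent.Lib.Helper18.NNMaster
  Groth.Agent.Lib.helper21.GCBase Groth.Agent.Lib.helper8.GenBCChart
  Groth.Agent.Lib.helper21.GCCech
open Scheme.Modules

variable {X S : Scheme.{u}} (f : X ⟶ S) (F : X.Modules) {W : S.Opens} (hW : IsAffineOpen W)

/-- `L ⊗ Γ(S', W')` is a chart complex of every base change of `f` over every affine `W' ≤ g⁻¹W` -/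
def IsStrongChart (L : CochainComplex (ModuleCat.{u} Γ(S, W)) ℤ) : Prop :=
  ∀ {X' S' : Scheme.{u}} (g : S' ⟶ S) (gX : X' ⟶ X) (f' : X' ⟶ S') (_ : IsPullback gX f' f g)
    {W' : S'.Opens} (hW' : IsAffineOpen W') (hW'W : W' ≤ g ⁻¹ᵁ W),
    letI : Algebra Γ(S, W) Γ(S', W') := (g.appLE W W' hW'W).hom.toAlgebra
    ComputesNat Γ(S', W') (fU f' hW' (le_refl (f' ⁻¹ᵁ W')))
      (((Scheme.Modules.pullback gX).obj F).restrict (f' ⁻¹ᵁ W').ι)
      (CohIII.bcCx (algebraMap Γ(S, W) Γ(S', W')) L)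

variable [IsProper f] [LocallyOfFinitePresentation f] [F.IsQuasicoherent]
  (hfp : CohB1.IsFP F) (hfl : FlatMod.IsFlatOver f F)

include hfp hfl in
/-- strong chart complexes exist over every affine open of the base -/
theorem exists_strong_chart :
    ∃ L : CochainComplex (ModuleCat.{u} Γ(S, W)) ℤ,
      (∀ i, Module.Finite Γ(S, W) (L.X i) ∧ Module.Free Γ(S, W) (L.X i)) ∧
      (∃ N : ℕ, ∀ i : ℤ, (N : ℤ) ≤ i → IsZero (L.X i)) ∧
      (∀ (B : Type u) [CommRing B] [Algebra Γ(S, W) B] (i : ℤ), i < 0 →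
        IsZero ((CohIII.bcCx (algebraMap Γ(S, W) B) L).homology i)) ∧
      ComputesNat Γ(S, W) (fU f hW (le_refl (f ⁻¹ᵁ W))) (F.restrict (f ⁻¹ᵁ W).ι) L ∧
      IsStrongChart f F L := by
  haveI : (F.restrict (f ⁻¹ᵁ W).ι).IsQuasicoherent :=
    Scheme.Modules.isQuasicoherent_restrictFunctor (f ⁻¹ᵁ W).ι F
  obtain ⟨L, h1, h2, h3, h4, h5⟩ :=
    exists_complex_strong Γ(S, W) (fU f hW (le_refl (f ⁻¹ᵁ W))) (F.restrict (f ⁻¹ᵁ W).ι)
      (isFP_restrict F hfp _) (isFlatOver_fU f hW (le_refl _) F hfl)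
  refine ⟨L, h1, h2, h3, h4, ?_⟩
  intro X' S' g gX f' hX W' hW' hW'W
  letI : Algebra Γ(S, W) Γ(S', W') := (g.appLE W W' hW'W).hom.toAlgebra
  have hpb : IsPullback (gX.resLE (f ⁻¹ᵁ W) (f' ⁻¹ᵁ W') (chart_le f g gX f' hX hW'W))
      (fU f' hW' (le_refl (f' ⁻¹ᵁ W'))) (fU f hW (le_refl (f ⁻¹ᵁ W)))
      (Spec.map (CommRingCat.ofHom (algebraMap Γ(S, W) Γ(S', W')))) :=
    isPullback_chart₁ f g gX f' hX hW hW' hW'W
  have h6 := h5 Γ(S', W') (↑(f' ⁻¹ᵁ W') : Scheme.{u})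
    (fU f' hW' (le_refl (f' ⁻¹ᵁ W')))
    (gX.resLE (f ⁻¹ᵁ W) (f' ⁻¹ᵁ W') (chart_le f g gX f' hX hW'W)) hpb
  exact h6.of_iso _ (CohPull.pullOnIso gX (f ⁻¹ᵁ W) (f' ⁻¹ᵁ W')
    (chart_le f g gX f' hX hW'W) F)

end Groth.Agent.Lib.Helper18.NNStrong
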