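import Mathlib
import Groth.Agent.Lib.Helper18.SplitAlg4
import Groth.Agent.S2380
import Groth.Agent.Lib.Helper15.FittLink
import Groth.Agent.Lib.Helper17.JacobiNum
import Groth.Agent.Lib.Lead.EulerLC1

set_option autoImplicit false
universe u

open CategoryTheory CategoryTheory.Limits

namespace Groth.Agent.Lib.Helper18.Strat

open Groth.Agent.Lib.Helper18.SplitAlg

section ginv

variable {A : Type u} [CommRing A] {P P' : ModuleCat.{u} A} (d : P ⟶ P')

/-- `d ≫ t ≫ d = a • d` for some `t` -/
def MSplit (a : A) : Prop := ∃ t : P' ⟶ P, d ≫ t ≫ d = a • d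

/-- the elements `a` with `MSplit d a` form an ideal -/
def splitIdeal : Ideal A where
  carrier := {a | MSplit d a}
  add_mem' := by
    rintro a b ⟨t, ht⟩ ⟨s, hs⟩
    refine ⟨t + s, ?_⟩
    rw [Preadditive.add_comp, Preadditive.comp_add, ht, hs, add_smul]
  zero_mem' := ⟨0, by simp⟩
  smul_mem' := by
    rintro c a ⟨t, ht⟩
    refine ⟨c • t, ?_⟩
    rw [Linear.smul_comp, Linear.comp_smul, ht, smul_smul, smul_eq_mul]

theorem mem_splitIdeal {a : A} : a ∈ splitIdeal d ↔ MSplit d a := Iff.rfl

/-- a locally split morphism is split -/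
theorem msplit_one_of_locally
    (h : ∀ p : PrimeSpectrum A, ∃ b, b ∉ p.asIdeal ∧ MSplit d b) : MSplit d 1 := by
  rw [← mem_splitIdeal, ← Ideal.eq_top_iff_one]
  by_contra hne
  obtain ⟨m, hm, hle⟩ := Ideal.exists_le_maximal _ hne
  obtain ⟨b, hb, hs⟩ := h ⟨m, hm.isPrime⟩
  exact hb (hle hs)

/-- the cokernel of a split morphism into a projective module is projective -/
theorem projective_coker_of_msplit_one [Module.Projective A P'] (h : MSplit d 1) :
    Module.Projective A (P' ⧸ LinearMap.range d.hom) := by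
  obtain ⟨t, ht⟩ := h
  rw [one_smul] at ht
  have hdt : ∀ x : P, d.hom (t.hom (d.hom x)) = d.hom x := fun x => by
    have := congrArg (fun φ => φ.hom x) ht
    simpa using this
  -- the projection onto a complement of the range
  let q : P' →ₗ[A] P' := LinearMap.id - d.hom ∘ₗ t.hom
  have hq : LinearMap.range d.hom ≤ LinearMap.ker q := by
    rintro _ ⟨x, rfl⟩
    simp [q, hdt]
  let i : (P' ⧸ LinearMap.range d.hom) →ₗ[A] P' := (LinearMap.range d.hom).liftQ q hq
  refine Module.Projective.of_split i (LinearMap.range d.hom).mkQ ?_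
  ext y
  simp only [LinearMap.coe_comp, Function.comp_apply, Submodule.mkQ_apply, LinearMap.id_coe, id_eq,
    i, Submodule.liftQ_apply]
  simp only [q, LinearMap.sub_apply, LinearMap.id_coe, id_eq, LinearMap.coe_comp,
    Function.comp_apply, Submodule.Quotient.mk_sub]
  rw [sub_eq_self, Submodule.Quotient.mk_eq_zero]
  exact ⟨_, rfl⟩

/-- a morphism into a projective module with projective cokernel is split -/
theorem msplit_one_of_projective_coker [Module.Projective A P']
    (h : Module.Projective A (P' ⧸ LinearMap.range d.hom)) : MSplit d 1 := by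
  -- a section of the quotient map
  obtain ⟨i, hi⟩ := Module.projective_lifting_property (LinearMap.range d.hom).mkQ
    (LinearMap.id : (P' ⧸ LinearMap.range d.hom) →ₗ[A] _) (Submodule.mkQ_surjective _)
  -- the projection onto the range
  let e : P' →ₗ[A] P' := LinearMap.id - i ∘ₗ (LinearMap.range d.hom).mkQ
  have he : ∀ y, e y ∈ LinearMap.range d.hom := by
    intro y
    rw [← Submodule.ker_mkQ (LinearMap.range d.hom), LinearMap.mem_ker]
    have := congrArg (fun φ => φ ((LinearMap.range d.hom).mkQ y)) hi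
    simp only [LinearMap.coe_comp, Function.comp_apply, LinearMap.id_coe, id_eq] at this
    simp only [e, LinearMap.sub_apply, LinearMap.id_coe, id_eq, LinearMap.coe_comp,
      Function.comp_apply, map_sub, this, sub_self]
  have hed : ∀ x : P, e (d.hom x) = d.hom x := by
    intro x
    have h0 : (LinearMap.range d.hom).mkQ (d.hom x) = 0 := by
      rw [Submodule.mkQ_apply, Submodule.Quotient.mk_eq_zero]
      exact ⟨x, rfl⟩
    simp [e, h0]
  let e' : P' →ₗ[A] LinearMap.range d.hom := e.codRestrict _ he
  obtain ⟨t, ht⟩ := Module.projective_lifting_property d.hom.rangeRestrict e'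
    (LinearMap.surjective_rangeRestrict _)
  refine ⟨ModuleCat.ofHom t, ?_⟩
  rw [one_smul]
  ext x
  have h1 := congrArg (fun φ => (φ (d.hom x) : P')) ht
  simp only [LinearMap.coe_comp, Function.comp_apply, LinearMap.codRestrict_apply, e',
    LinearMap.rangeRestrict, LinearMap.codRestrict_apply] at h1
  simp only [ModuleCat.hom_comp, ModuleCat.hom_ofHom, LinearMap.coe_comp, Function.comp_apply]
  rw [h1, hed]

end ginv

section bc

open TensorProduct

variable {A B : Type u} [CommRing A] [CommRing B] [Algebra A B]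

/-- extension of scalars commutes with cokernels -/
noncomputable def cokerBC {M N : ModuleCat.{u} A} (d : M ⟶ N) :
    (((ModuleCat.extendScalars (algebraMap A B)).obj N) ⧸
      LinearMap.range ((ModuleCat.extendScalars (algebraMap A B)).map d).hom) ≃ₗ[B]
    B ⊗[A] (N ⧸ LinearMap.range d.hom) := by
  set F := ModuleCat.extendScalars.{u, u, u} (algebraMap A B) with hF
  haveI : F.IsLeftAdjoint :=
    (ModuleCat.extendRestrictScalarsAdj.{u, u, u} (algebraMap A B)).isLeftAdjoint
  haveI : F.Additive :=
    (ModuleCat.extendRestrictScalarsAdj.{u, u, u} (algebraMap A B)).left_adjoint_additive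
  let π : N ⟶ ModuleCat.of A (N ⧸ LinearMap.range d.hom) :=
    ModuleCat.ofHom (LinearMap.range d.hom).mkQ
  have hdπ : d ≫ π = 0 := by
    ext x
    simp [π]
  let S₀ : ShortComplex (ModuleCat.{u} A) := ShortComplex.mk d π hdπ
  have hS₀ : S₀.Exact := by
    rw [ShortComplex.moduleCat_exact_iff_range_eq_ker]
    simp [S₀, π, Submodule.ker_mkQ]
  haveI : Epi S₀.g := (ModuleCat.epi_iff_surjective _).mpr (Submodule.mkQ_surjective _)
  have hex : (S₀.map F).Exact := hS₀.map_of_epi_of_preservesCokernel F inferInstance inferInstance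
  rw [ShortComplex.moduleCat_exact_iff_range_eq_ker] at hex
  have hsurj : Function.Surjective (F.map π).hom :=
    (ModuleCat.epi_iff_surjective _).mp (inferInstance : Epi (F.map S₀.g))
  exact ((Submodule.quotEquivOfEq _ _ hex).trans
    ((F.map π).hom.quotKerEquivOfSurjective hsurj)).trans
    (Groth.Agent.S2380.eM (κ := B) (ModuleCat.of A (N ⧸ LinearMap.range d.hom)))

end bc

section MK

open TensorProduct

variable {A : Type u} [CommRing A] (L : CochainComplex (ModuleCat.{u} A) ℤ)

/-- `coker(L^0 ⟶ L^1) × coker(L^{-1} ⟶ L^0)` -/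
abbrev MK : Type u :=
  (L.X 1 ⧸ LinearMap.range (L.d 0 1).hom) × (L.X 0 ⧸ LinearMap.range (L.d (-1) 0).hom)

variable {B : Type u} [CommRing B] [Algebra A B]

/-- `MK` commutes with base change -/
noncomputable def mkBC : MK (CohIII.bcCx (algebraMap A B) L) ≃ₗ[B] B ⊗[A] MK L :=
  (LinearEquiv.prodCongr (cokerBC (B := B) (L.d 0 1)) (cokerBC (B := B) (L.d (-1) 0))).trans
    (TensorProduct.prodRight A B B _ _).symm

instance finite_MK [Module.Finite A (L.X 1)] [Module.Finite A (L.X 0)] : Module.Finite A (MK L) :=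
  inferInstance

open Groth.Agent.Lib.helper15.FittLink in
/-- the Fitting ideals of `MK` commute with base change -/
theorem fitt_MK_bc [Module.Finite A (L.X 1)] [Module.Finite A (L.X 0)] (k : ℕ) :
    Fitt.ideal B (MK (CohIII.bcCx (algebraMap A B) L)) k =
      (Fitt.ideal A (MK L) k).map (algebraMap A B) := by
  rw [← fitt_baseChange (R := A) (R' := B) (M := MK L) k]
  exact fitt_congr (mkBC L) k

end MK

section crit

open TensorProduct Groth.Agent.Lib.Lead.EulerLC Groth.Agent.Lib.helper15.FittLink
  Groth.Agent.Lib.helper17.JacobiNum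

variable {A : Type u} [CommRing A] (L : CochainComplex (ModuleCat.{u} A) ℤ)
  (hfin : ∀ i, Module.Finite A (L.X i))

include hfin in
lemma finitePresentation_coker [Module.Projective A (L.X 1)] [Module.Projective A (L.X 0)]
    (i j : ℤ) [Module.Projective A (L.X j)] :
    Module.FinitePresentation A (L.X j ⧸ LinearMap.range (L.d i j).hom) := by
  haveI := hfin i
  haveI := hfin j
  haveI : Module.FinitePresentation A (L.X j) := Module.finitePresentation_of_projective _ _
  refine Module.finitePresentation_of_surjective (LinearMap.range (L.d i j).hom).mkQ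
    (Submodule.mkQ_surjective _) ?_
  rw [Submodule.ker_mkQ, LinearMap.range_eq_map]
  exact Submodule.FG.map _ Module.Finite.fg_top

include hfin in
/-- the fibre rank of `MK` -/
lemma fr_MK (y : PrimeSpectrum A) :
    fr y (MK L) = CohIII.dRank L 0 y + rK L y 1 := by
  haveI := hfin 0
  haveI := hfin 1
  have h := rank_formula_c L hfin 0 y
  simp only [zero_add] at h
  rw [h, ← cK_eq L y 1 0 (by norm_num), ← cK_eq L y 0 (-1) (by norm_num)]
  have e := TensorProduct.prodRight A y.asIdeal.ResidueField y.asIdeal.ResidueField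
    (L.X 1 ⧸ LinearMap.range (L.d 0 1).hom) (L.X 0 ⧸ LinearMap.range (L.d (-1) 0).hom)
  show Module.finrank _ _ = _
  rw [e.finrank_eq, Module.finrank_prod, add_comm]

variable [Module.Projective A (L.X 1)] [Module.Projective A (L.X 0)] (r n₁ : ℕ)
  (hn₁ : ∀ y : PrimeSpectrum A, rK L y 1 = n₁)

include hfin hn₁ in
/-- local splitting and fibre ranks `r` give the Fitting ideals of `MK` -/
theorem fitt_MK_of_split
    (hM : ∀ y : PrimeSpectrum A, ∃ b, b ∉ y.asIdeal ∧ MSplit (L.d 0 1) b)
    (hK : ∀ y : PrimeSpectrum A, ∃ b, b ∉ y.asIdeal ∧ MSplit (L.d (-1) 0) b)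
    (hr : ∀ y : PrimeSpectrum A, CohIII.dRank L 0 y = r) :
    (∀ k, k < r + n₁ → Fitt.ideal A (MK L) k = ⊥) ∧
      (∀ k, r + n₁ ≤ k → Fitt.ideal A (MK L) k = ⊤) := by
  haveI := hfin 0
  haveI := hfin 1
  haveI : Module.Projective A (L.X 1 ⧸ LinearMap.range (L.d 0 1).hom) :=
    projective_coker_of_msplit_one _ (msplit_one_of_locally _ hM)
  haveI : Module.Projective A (L.X 0 ⧸ LinearMap.range (L.d (-1) 0).hom) :=
    projective_coker_of_msplit_one _ (msplit_one_of_locally _ hK)
  have hrank : ∀ y : PrimeSpectrum A, Module.rankAtStalk (R := A) (MK L) y = r + n₁ := by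
    intro y
    rw [Module.rankAtStalk_eq]
    have := fr_MK L hfin y
    rw [hr y, hn₁ y] at this
    exact this
  refine ⟨fun k hk => fitt_eq_bot_of_projective hrank hk, fun k hk => ?_⟩
  by_contra hne
  obtain ⟨m, hm, hle⟩ := Ideal.exists_le_maximal _ hne
  haveI := hm.isPrime
  refine (fitt_not_le_iff_finrank (M := MK L) k m).mpr ?_ hle
  have := fr_MK L hfin ⟨m, hm.isPrime⟩
  rw [hr, hn₁] at this
  show fr ⟨m, hm.isPrime⟩ (MK L) ≤ k
  omega

include hfin hn₁ in
/-- the Fitting ideals of `MK` give a splitting and the fibre ranks -/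
theorem split_of_fitt_MK
    (h1 : ∀ k, k < r + n₁ → Fitt.ideal A (MK L) k = ⊥)
    (h2 : ∀ k, r + n₁ ≤ k → Fitt.ideal A (MK L) k = ⊤) :
    MSplit (L.d 0 1) 1 ∧ ∀ y : PrimeSpectrum A, CohIII.dRank L 0 y = r := by
  haveI := hfin 0
  haveI := hfin 1
  haveI := finitePresentation_coker L hfin 0 1
  haveI := finitePresentation_coker L hfin (-1) 0
  haveI : Module.FinitePresentation A (MK L) := inferInstance
  -- `MK` is projective
  have hproj : Module.Projective A (MK L) := by
    rw [← Module.freeLocus_eq_univ_iff, Set.eq_univ_iff_forall]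
    intro y
    obtain ⟨f, hf, hfree, -⟩ := (locFree_iff_fitt (M := MK L) (r + n₁)).mpr ⟨h1, h2⟩ y.asIdeal
    have hsub : (PrimeSpectrum.basicOpen f : Set (PrimeSpectrum A)) ⊆ Module.freeLocus A (MK L) := by
      rw [Module.basicOpen_subset_freeLocus_iff]
      haveI := hfree
      infer_instance
    exact hsub hf
  constructor
  · haveI : Module.Projective A (L.X 1 ⧸ LinearMap.range (L.d 0 1).hom) :=
      Module.Projective.of_split (LinearMap.inl A _ (L.X 0 ⧸ LinearMap.range (L.d (-1) 0).hom))
        (LinearMap.fst A _ _) (by ext; simp)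
    exact msplit_one_of_projective_coker _ inferInstance
  · intro y
    have h3 := fr_MK L hfin y
    rw [hn₁ y] at h3
    have h4 : fr y (MK L) = r + n₁ := by
      have hle : fr y (MK L) ≤ r + n₁ := by
        have := (fitt_not_le_iff_finrank (M := MK L) (r + n₁) y.asIdeal).mp (by
          rw [h2 _ le_rfl]
          intro h
          exact y.isPrime.ne_top (top_le_iff.mp h))
        exact this
      have hge : r + n₁ ≤ fr y (MK L) := by
        by_contra hlt
        rw [not_le] at hlt
        have hk : r + n₁ - 1 < r + n₁ := by omega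
        have := (fitt_not_le_iff_finrank (M := MK L) (r + n₁ - 1) y.asIdeal).mpr (by
          show fr y (MK L) ≤ _
          omega)
        rw [h1 _ hk] at this
        exact this bot_le
      omega
    omega

end crit

end Groth.Agent.Lib.Helper18.Strat
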