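import Mathlib
import Groth.Agent.Lib.Helper18.Strat1
import Groth.Agent.Lib.Helper18.NNStrong2
import Groth.Agent.Lib.Helper18.NNPush
import Groth.Agent.Lib.Helper16.FLF9

set_option autoImplicit false
universe u

open CategoryTheory CategoryTheory.Limits Opposite TopologicalSpace AlgebraicGeometry

namespace Groth.Agent.Lib.Helper18.Strat

open Groth.Agent.Lib.Helper18.BCHom Groth.Agent.Lib.Helper18.NNComplex
  Groth.Agent.Lib.Helper18.NNChart Groth.Agent.Lib.Helper18.NNMaster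
  Groth.Agent.Lib.Helper18.NNRows Groth.Agent.Lib.Helper18.NNGen
  Groth.Agent.Lib.Helper18.SplitAlg Groth.Agent.Lib.Helper18.NNPush
  Groth.Agent.Lib.Helper18.NNFibre Groth.Agent.Lib.Helper18.NNFree
  Groth.Agent.Lib.helper21.GCBase Groth.Agent.Lib.helper8.GenBCChart
  Groth.Agent.Lib.helper16.FLF
open Scheme.Modules

section flf

open Groth.Agent.Lib.helper16.CohFinite Groth.Agent.Lib.helper16.CohStalk

variable {Y : Scheme.{u}} (E : Y.Modules) [E.IsQuasicoherent]

/-- a quasi-coherent module whose sections over the members of an affine cover are finite projective of constant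
rank `r` is finite locally free of rank `r` -/
theorem isFinLocFreeOfRank_of_projective_sections (r : ℕ)
    (h : ∀ x : Y, ∃ V : Y.Opens, IsAffineOpen V ∧ x ∈ V ∧ Module.Finite Γ(Y, V) Γ(E, V) ∧
      Module.Projective Γ(Y, V) Γ(E, V) ∧
      ∀ p : PrimeSpectrum Γ(Y, V), Module.rankAtStalk Γ(E, V) p = r) :
    FlatMod.IsFinLocFreeOfRank r E := by
  classical
  intro x
  obtain ⟨V, hV, hxV, h1, h2, h3⟩ := h x
  haveI := h1
  haveI := h2
  obtain ⟨s, hs, ⟨b⟩⟩ := exists_free_away_of_rankAtStalk_eq Γ(E, V) r h3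
    {hV.primeIdealOf ⟨x, hxV⟩} (Finset.singleton_nonempty _)
  have hxs : x ∈ Y.basicOpen s := by
    rw [Groth.Agent.Lib.helper28.mem_basicOpen_iff hV x hxV s]
    exact hs _ (Finset.mem_singleton_self _)
  have hle : Y.basicOpen s ≤ V := Y.basicOpen_le s
  letI := algOfLE (X := Y) hle
  letI := modOfLE E hle
  haveI := isScalarTower_ofLE E hle
  haveI : IsLocalization.Away s Γ(Y, Y.basicOpen s) := hV.isLocalization_basicOpen s
  haveI := isLocalizedModule_of_eq_basicOpen E hV s hle rfl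
  obtain ⟨e⟩ := nonempty_equivFun_of_basis_localizedModule (Submonoid.powers s)
    Γ(Y, Y.basicOpen s) (resLin E hle) b
  exact ⟨Y.basicOpen s, hxs, restrict_iso_freeMod_of_sections E (hV.basicOpen s) r e⟩

end flf

section rk

open TensorProduct Groth.Agent.Lib.Lead.EulerLC

variable {A : Type u} [CommRing A]

lemma fr_free (y : PrimeSpectrum A) (P : Type u) [AddCommGroup P] [Module A P] [Module.Free A P]
    [Module.Finite A P] : fr y P = Module.finrank A P := by
  haveI : Nontrivial A := y.nontrivial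
  exact Module.finrank_baseChange

variable {B : Type u} [CommRing B] [Algebra A B]

lemma rK_bc (L : CochainComplex (ModuleCat.{u} A) ℤ) (i : ℤ) [Module.Free A (L.X i)]
    [Module.Finite A (L.X i)] (y : PrimeSpectrum B) :
    rK (CohIII.bcCx (algebraMap A B) L) y i = Module.finrank A (L.X i) := by
  haveI : Nontrivial B := y.nontrivial
  haveI : Nontrivial A := (algebraMap A B).domain_nontrivial
  obtain ⟨h1, h2⟩ := finite_free_extendScalars (A := A) (B := B) (L.X i)
  haveI := h1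
  haveI := h2
  show fr y ((ModuleCat.extendScalars (algebraMap A B)).obj (L.X i)) = _
  rw [fr_free y, (Groth.Agent.S2380.eM (κ := B) (L.X i)).finrank_eq]
  exact Module.finrank_baseChange

end rk

section defs

/-- `f_* F` is finite locally free of rank `r` and its formation commutes with every base change -/
def UnivFLF {X S : Scheme.{u}} (f : X ⟶ S) (F : X.Modules) (r : ℕ) : Prop :=
  FlatMod.IsFinLocFreeOfRank r ((pushforward f).obj F) ∧
    ∀ ⦃X' S' : Scheme.{u}⦄ (gX : X' ⟶ X) (f' : X' ⟶ S') (g : S' ⟶ S)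
      (h : IsPullback gX f' f g), IsIso (CohBC.bc0 f g f' gX h.w F)

/-- the local condition on a chart complex: `L^0 ⟶ L^1` is locally split and `H^0(L ⊗ κ(y))` has dimension `r`
at all points -/
def LC (r : ℕ) {A : Type u} [CommRing A] (L : CochainComplex (ModuleCat.{u} A) ℤ) : Prop :=
  (∀ y : PrimeSpectrum A, ∃ b, b ∉ y.asIdeal ∧ MSplit (L.d 0 1) b) ∧
    ∀ y : PrimeSpectrum A, CohIII.dRank L 0 y = r

end defs

section mlt

variable {X S : Scheme.{u}} (f : X ⟶ S) [IsProper f]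
  (F : X.Modules) [F.IsQuasicoherent]
  {W : S.Opens} (hW : IsAffineOpen W)
  (L : CochainComplex (ModuleCat.{u} Γ(S, W)) ℤ)
  (hLff : ∀ i, Module.Finite Γ(S, W) (L.X i) ∧ Module.Free Γ(S, W) (L.X i))
  (hL : ComputesNat Γ(S, W) (fU f hW (le_refl (f ⁻¹ᵁ W))) (F.restrict (f ⁻¹ᵁ W).ι) L)

include hW hLff hL in
/-- **the universal property implies the local condition on every chart** -/
theorem lc_of_univFLF (r : ℕ) (h : UnivFLF f F r) : LC r L := by
  obtain ⟨Θ₀, hΘ₀⟩ := chart_push f F hW L hL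
  have hE' := isFinLocFree_of_isFinLocFreeOfRank h.1
  haveI : ((pushforward f).obj F).IsQuasicoherent :=
    Groth.Agent.Lib.helper7.QCohPushQC.isQuasicoherent_pushforward f F
  obtain ⟨hfinE, hprojE⟩ := projective_sections_of_isFinLocFree _ hE' hW
  haveI : Module.Finite Γ(S, W) (L.sc ((0 : ℕ) : ℤ)).homology :=
    Module.Finite.equiv Θ₀.symm
  haveI : Module.Projective Γ(S, W) (L.sc ((0 : ℕ) : ℤ)).homology :=
    Module.Projective.of_equiv Θ₀.symm
  have key : ∀ y : PrimeSpectrum Γ(S, W), ∃ b, b ∉ y.asIdeal ∧ GSplit (L.sc ((0 : ℕ) : ℤ)) b := by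
    intro y
    have hsW : hW.fromSpec y ∈ W := by
      have : hW.fromSpec y ∈ Set.range hW.fromSpec := ⟨y, rfl⟩
      rwa [hW.range_fromSpec] at this
    have hsq : IsPullback (f.fiberι (hW.fromSpec y)) (f.fiberToSpecResidueField (hW.fromSpec y)) f
        (S.fromSpecResidueField (hW.fromSpec y)) := IsPullback.of_hasPullback _ _
    haveI := h.2 _ _ _ hsq
    obtain ⟨a, ha, hs⟩ := exists_gsplit_of_epi₀ f F hW L hLff Θ₀ hΘ₀ (hW.fromSpec y) hsW
      inferInstance
    refine ⟨a, ?_, hs⟩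
    have := (fromSpec_mem_basicOpen_iff hW y a).mp ha
    rwa [Ne, Ideal.algebraMap_residueField_eq_zero] at this
  refine ⟨fun y => ?_, fun y => ?_⟩
  · obtain ⟨b, hb, hs⟩ := key y
    exact ⟨b, hb, (gsplit_iff_dsplit L (show (ComplexShape.up ℤ).Rel 0 1 by simp) b).mp hs⟩
  · obtain ⟨b, hb, hs⟩ := key y
    have hyb : algebraMap Γ(S, W) y.asIdeal.ResidueField b ≠ 0 := by
      rwa [Ne, Ideal.algebraMap_residueField_eq_zero]
    have h1 := finrank_homology_bc_eq_rankAtStalk (L.sc ((0 : ℕ) : ℤ)) y b hs hyb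
    have h2 : Module.rankAtStalk (R := Γ(S, W)) (L.sc ((0 : ℕ) : ℤ)).homology y = r := by
      have h3 : Module.rankAtStalk (R := Γ(S, W)) (L.sc ((0 : ℕ) : ℤ)).homology =
          Module.rankAtStalk (R := Γ(S, W)) Γ((pushforward f).obj F, W) :=
        Module.rankAtStalk_eq_of_equiv Θ₀
      rw [h3]
      exact rankAtStalk_sections _ h.1 hW y
    exact h1.trans h2

end mlt

section mlt2

variable {X S : Scheme.{u}} (f : X ⟶ S) [IsProper f]
  (F : X.Modules) [F.IsQuasicoherent]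

/-- **the local condition on charts covering the base implies the universal property** -/
theorem univFLF_of_lc (r : ℕ)
    (h : ∀ s : S, ∃ (W : S.Opens) (hW : IsAffineOpen W), s ∈ W ∧
      ∃ L : CochainComplex (ModuleCat.{u} Γ(S, W)) ℤ,
        (∀ i, Module.Finite Γ(S, W) (L.X i) ∧ Module.Free Γ(S, W) (L.X i)) ∧
        ComputesNat Γ(S, W) (fU f hW (le_refl (f ⁻¹ᵁ W))) (F.restrict (f ⁻¹ᵁ W).ι) L ∧
        MSplit (L.d (-1) 0) 1 ∧ LC r L) :
    UnivFLF f F r := by
  haveI : ((pushforward f).obj F).IsQuasicoherent :=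
    Groth.Agent.Lib.helper7.QCohPushQC.isQuasicoherent_pushforward f F
  constructor
  · refine isFinLocFreeOfRank_of_projective_sections _ r (fun s => ?_)
    obtain ⟨W, hW, hsW, L, hLff, hL, hK, hM, hr⟩ := h s
    obtain ⟨Θ₀, -⟩ := chart_push f F hW L hL
    have hg1 : GSplit (L.sc ((0 : ℕ) : ℤ)) 1 :=
      (gsplit_iff_dsplit L (show (ComplexShape.up ℤ).Rel 0 1 by simp) 1).mpr
        (msplit_one_of_locally _ hM)
    have hf1 : FSplit (L.sc ((0 : ℕ) : ℤ)) 1 :=
      (fsplit_iff_dsplit L (show (ComplexShape.up ℤ).Rel (-1) 0 by simp) 1).mpr hK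
    obtain ⟨t₂, ht₂⟩ := hg1
    obtain ⟨t₁, ht₁⟩ := hf1
    rw [one_smul] at ht₁ ht₂
    haveI : Module.Finite Γ(S, W) (L.sc ((0 : ℕ) : ℤ)).X₂ := (hLff _).1
    haveI : Module.Free Γ(S, W) (L.sc ((0 : ℕ) : ℤ)).X₂ := (hLff _).2
    obtain ⟨hfinH, hprojH⟩ := projective_homology_of_splits (L.sc ((0 : ℕ) : ℤ)) t₁ t₂ ht₁ ht₂
    haveI := hfinH
    haveI := hprojH
    haveI : Module.Finite Γ(S, W) (L.homology ((0 : ℕ) : ℤ)) := hfinH
    haveI : Module.Projective Γ(S, W) (L.homology ((0 : ℕ) : ℤ)) := hprojH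
    refine ⟨W, hW, hsW, Module.Finite.equiv Θ₀, Module.Projective.of_equiv Θ₀, fun p => ?_⟩
    have h3 : Module.rankAtStalk (R := Γ(S, W)) (L.sc ((0 : ℕ) : ℤ)).homology =
        Module.rankAtStalk (R := Γ(S, W)) Γ((pushforward f).obj F, W) :=
      Module.rankAtStalk_eq_of_equiv Θ₀
    rw [← h3]
    haveI : Nontrivial Γ(S, W) := p.nontrivial
    have h1 := finrank_homology_bc_eq_rankAtStalk (L.sc ((0 : ℕ) : ℤ)) p 1 ⟨t₂, by rw [one_smul]; exact ht₂⟩
      (by rw [map_one]; exact one_ne_zero)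
    rw [← h1]
    exact hr p
  · intro X' S' gX f' g hsq
    refine isIso_adj_of_splitAtGen (fun z => ?_)
    obtain ⟨W, hW, hsW, L, hLff, hL, hK, hM, hr⟩ := h (g z)
    obtain ⟨Θ₀, hΘ₀⟩ := chart_push f F hW L hL
    obtain ⟨b, hb, hs⟩ := hM (hW.primeIdealOf ⟨g z, hsW⟩)
    refine ⟨W, hW, L, ((0 : ℕ) : ℤ), Θ₀, hΘ₀ g gX f' hsq, b, ?_,
      (gsplit_iff_dsplit L (show (ComplexShape.up ℤ).Rel 0 1 by simp) b).mpr hs⟩
    rw [Groth.Agent.Lib.helper28.mem_basicOpen_iff hW (g z) hsW b]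
    exact hb

end mlt2

end Groth.Agent.Lib.Helper18.Strat
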