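import Mathlib
import Groth.Agent.Lib.Helper18.Strat2
import Groth.Agent.Lib.Helper16.FlatStrat1

set_option autoImplicit false
universe u

open CategoryTheory CategoryTheory.Limits Opposite TopologicalSpace AlgebraicGeometry

namespace Groth.Agent.Lib.Helper18.Strat

open Groth.Agent.Lib.Helper18.BCHom Groth.Agent.Lib.Helper18.NNComplex
  Groth.Agent.Lib.Helper18.NNChart Groth.Agent.Lib.Helper18.NNMaster
  Groth.Agent.Lib.Helper18.NNStrong
  Groth.Agent.Lib.Helper18.SplitAlg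
  Groth.Agent.Lib.helper21.GCBase Groth.Agent.Lib.helper8.GenBCChart
  Groth.Agent.Lib.Lead.EulerLC Groth.Agent.Lib.helper15.FittLink
open Scheme.Modules

section neg

open TensorProduct

variable {A : Type u} [CommRing A] (L : CochainComplex (ModuleCat.{u} A) ℤ)
  (hLff : ∀ i, Module.Finite A (L.X i) ∧ Module.Free A (L.X i))
  (hneg : ∀ (B : Type u) [CommRing B] [Algebra A B] (i : ℤ), i < 0 →
    IsZero ((CohIII.bcCx (algebraMap A B) L).homology i))

include hLff hneg in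
/-- universal acyclicity in negative degrees splits `L^{-1} ⟶ L^0` locally -/
lemma msplit_neg_locally (y : PrimeSpectrum A) :
    ∃ b, b ∉ y.asIdeal ∧ MSplit (L.d (-1) 0) b := by
  have hsub : Subsingleton
      ((CohIII.bcCx (algebraMap A y.asIdeal.ResidueField) L).homology (-1)) :=
    ModuleCat.subsingleton_of_isZero (hneg y.asIdeal.ResidueField (-1) (by norm_num))
  haveI : Module.Finite A (L.sc (-1)).X₂ := (hLff _).1
  haveI : Module.Free A (L.sc (-1)).X₂ := (hLff _).2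
  haveI : Module.Finite A (L.sc (-1)).X₃ := (hLff _).1
  haveI : Module.Free A (L.sc (-1)).X₃ := (hLff _).2
  obtain ⟨a, ha, hg, -, -⟩ := exists_splits_of_subsingleton y.asIdeal.ResidueField (L.sc (-1)) hsub
  refine ⟨a, ?_, (gsplit_iff_dsplit L (show (ComplexShape.up ℤ).Rel (-1) 0 by simp) a).mp hg⟩
  rwa [Ne, Ideal.algebraMap_residueField_eq_zero] at ha

include hLff hneg in
/-- `coker(L^{-1} ⟶ L^0)` is projective -/
lemma projective_cokerNeg :
    Module.Projective A (L.X 0 ⧸ LinearMap.range (L.d (-1) 0).hom) := by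
  haveI := (hLff 0).2
  exact projective_coker_of_msplit_one _
    (msplit_one_of_locally _ (msplit_neg_locally L hLff hneg))

include hLff hneg in
/-- `L^{-1} ⊗ B ⟶ L^0 ⊗ B` is split for every `A`-algebra `B` -/
lemma msplit_neg_bc (B : Type u) [CommRing B] [Algebra A B] :
    MSplit ((CohIII.bcCx (algebraMap A B) L).d (-1) 0) 1 := by
  haveI := projective_cokerNeg L hLff hneg
  haveI := (hLff 0).1
  haveI := (hLff 0).2
  obtain ⟨h1, h2⟩ := finite_free_extendScalars (A := A) (B := B) (L.X 0)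
  haveI : Module.Free B ((CohIII.bcCx (algebraMap A B) L).X 0) := h2
  refine msplit_one_of_projective_coker _ ?_
  exact Module.Projective.of_equiv (cokerBC (B := B) (L.d (-1) 0)).symm

end neg

section chartdata

variable {X S : Scheme.{u}} (f : X ⟶ S) (F : X.Modules)

/-- a strong chart complex of `(f, F)` over the affine open `V` -/
structure ChartData {V : S.Opens} (hV : IsAffineOpen V) where
  /-- the complex -/
  L : CochainComplex (ModuleCat.{u} Γ(S, V)) ℤ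
  ff : ∀ i, Module.Finite Γ(S, V) (L.X i) ∧ Module.Free Γ(S, V) (L.X i)
  neg : ∀ (B : Type u) [CommRing B] [Algebra Γ(S, V) B] (i : ℤ), i < 0 →
    IsZero ((CohIII.bcCx (algebraMap Γ(S, V) B) L).homology i)
  comp : ComputesNat Γ(S, V) (fU f hV (le_refl (f ⁻¹ᵁ V))) (F.restrict (f ⁻¹ᵁ V).ι) L
  strong : IsStrongChart f F L

variable {f F}

/-- the rank of `L^1` -/
noncomputable def ChartData.n₁ {V : S.Opens} {hV : IsAffineOpen V} (C : ChartData f F hV) : ℕ :=
  Module.finrank Γ(S, V) (C.L.X 1)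

/-- the closed condition: `Fitt_{r + n₁ - 1}` of `MK` -/
noncomputable def ChartData.J {V : S.Opens} {hV : IsAffineOpen V} (C : ChartData f F hV) (r : ℕ) :
    Ideal Γ(S, V) :=
  if r + C.n₁ = 0 then ⊥ else Fitt.ideal Γ(S, V) (MK C.L) (r + C.n₁ - 1)

/-- the open condition: `Fitt_{r + n₁}` of `MK` -/
noncomputable def ChartData.K {V : S.Opens} {hV : IsAffineOpen V} (C : ChartData f F hV) (r : ℕ) :
    Ideal Γ(S, V) :=
  Fitt.ideal Γ(S, V) (MK C.L) (r + C.n₁)

lemma ChartData.fitt_map_eq_bot {V : S.Opens} {hV : IsAffineOpen V} (C : ChartData f F hV) (r : ℕ)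
    {B : Type u} [CommRing B] (φ : Γ(S, V) →+* B) (h : (C.J r).map φ = ⊥) (k : ℕ)
    (hk : k < r + C.n₁) : (Fitt.ideal Γ(S, V) (MK C.L) k).map φ = ⊥ := by
  have h0 : r + C.n₁ ≠ 0 := by omega
  rw [ChartData.J, if_neg h0] at h
  rw [eq_bot_iff, ← h]
  exact Ideal.map_mono (Groth.Agent.Lib.helper16.FlatStrat.fitt_ideal_mono _ _ (by omega))

lemma ChartData.fitt_map_eq_top {V : S.Opens} {hV : IsAffineOpen V} (C : ChartData f F hV) (r : ℕ)
    {B : Type u} [CommRing B] (φ : Γ(S, V) →+* B) (h : (C.K r).map φ = ⊤) (k : ℕ)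
    (hk : r + C.n₁ ≤ k) : (Fitt.ideal Γ(S, V) (MK C.L) k).map φ = ⊤ := by
  rw [eq_top_iff, ← h]
  exact Ideal.map_mono (Groth.Agent.Lib.helper16.FlatStrat.fitt_ideal_mono _ _ hk)

end chartdata

section exist

variable {X S : Scheme.{u}} (f : X ⟶ S) [IsProper f] [LocallyOfFinitePresentation f]
  (F : X.Modules) [F.IsQuasicoherent] (hfp : CohB1.IsFP F) (hfl : FlatMod.IsFlatOver f F)

include hfp hfl in
theorem nonempty_chartData {V : S.Opens} (hV : IsAffineOpen V) : Nonempty (ChartData f F hV) := by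
  obtain ⟨L, h1, -, h3, h4, h5⟩ := exists_strong_chart f F hV hfp hfl
  exact ⟨⟨L, h1, h3, h4, h5⟩⟩

end exist

section mlt

variable {X S : Scheme.{u}} {f : X ⟶ S} [IsProper f] {F : X.Modules} [F.IsQuasicoherent]

/-- the base changed chart: data used in both directions -/
lemma chart_bc_data {V : S.Opens} {hV : IsAffineOpen V} (C : ChartData f F hV)
    {T X' : Scheme.{u}} (u : T ⟶ S) (gX : X' ⟶ X) (f' : X' ⟶ T) (hsq : IsPullback gX f' f u)
    {T₁ : T.Opens} (hT₁ : IsAffineOpen T₁) (hle : T₁ ≤ u ⁻¹ᵁ V) :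
    letI : Algebra Γ(S, V) Γ(T, T₁) := (u.appLE V T₁ hle).hom.toAlgebra
    (∀ i, Module.Finite Γ(T, T₁) ((CohIII.bcCx (algebraMap Γ(S, V) Γ(T, T₁)) C.L).X i) ∧
      Module.Free Γ(T, T₁) ((CohIII.bcCx (algebraMap Γ(S, V) Γ(T, T₁)) C.L).X i)) ∧
    ComputesNat Γ(T, T₁) (fU f' hT₁ (le_refl (f' ⁻¹ᵁ T₁)))
      (((Scheme.Modules.pullback gX).obj F).restrict (f' ⁻¹ᵁ T₁).ι)
      (CohIII.bcCx (algebraMap Γ(S, V) Γ(T, T₁)) C.L) ∧
    MSplit ((CohIII.bcCx (algebraMap Γ(S, V) Γ(T, T₁)) C.L).d (-1) 0) 1 ∧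
    (∀ y : PrimeSpectrum Γ(T, T₁),
      rK (CohIII.bcCx (algebraMap Γ(S, V) Γ(T, T₁)) C.L) y 1 = C.n₁) ∧
    ∀ k, Fitt.ideal Γ(T, T₁) (MK (CohIII.bcCx (algebraMap Γ(S, V) Γ(T, T₁)) C.L)) k =
      (Fitt.ideal Γ(S, V) (MK C.L) k).map (u.appLE V T₁ hle).hom := by
  letI : Algebra Γ(S, V) Γ(T, T₁) := (u.appLE V T₁ hle).hom.toAlgebra
  refine ⟨fun i => ?_, C.strong u gX f' hsq hT₁ hle, msplit_neg_bc C.L C.ff C.neg Γ(T, T₁),
    fun y => ?_, fun k => ?_⟩
  · haveI := (C.ff i).1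
    haveI := (C.ff i).2
    exact finite_free_extendScalars (C.L.X i)
  · haveI := (C.ff 1).1
    haveI := (C.ff 1).2
    exact rK_bc C.L 1 y
  · haveI := (C.ff 1).1
    haveI := (C.ff 0).1
    exact fitt_MK_bc C.L k

/-- **the universal property implies the Fitting conditions on every chart** -/
theorem fitt_of_univFLF {V : S.Opens} {hV : IsAffineOpen V} (C : ChartData f F hV)
    {T X' : Scheme.{u}} (u : T ⟶ S) (gX : X' ⟶ X) (f' : X' ⟶ T) (hsq : IsPullback gX f' f u)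
    {T₁ : T.Opens} (hT₁ : IsAffineOpen T₁) (hle : T₁ ≤ u ⁻¹ᵁ V) (r : ℕ)
    (h : UnivFLF f' ((Scheme.Modules.pullback gX).obj F) r) :
    (C.J r).map (u.appLE V T₁ hle).hom = ⊥ ∧ (C.K r).map (u.appLE V T₁ hle).hom = ⊤ := by
  letI : Algebra Γ(S, V) Γ(T, T₁) := (u.appLE V T₁ hle).hom.toAlgebra
  obtain ⟨hLff', hL', hK', hn₁', hfitt⟩ := chart_bc_data C u gX f' hsq hT₁ hle
  haveI : IsProper f' := MorphismProperty.of_isPullback hsq inferInstance
  haveI : ((Scheme.Modules.pullback gX).obj F).IsQuasicoherent :=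
    Groth.Agent.Lib.helper16.QCohPullback.isQuasicoherent_pullback gX F
  have hLC := lc_of_univFLF f' _ hT₁ _ hLff' hL' r h
  haveI := (hLff' 1).2
  haveI := (hLff' 0).2
  obtain ⟨h1, h2⟩ := fitt_MK_of_split _ (fun i => (hLff' i).1) r C.n₁ hn₁' hLC.1
    (fun y => ⟨1, fun h1 => y.isPrime.ne_top ((Ideal.eq_top_iff_one _).mpr h1), hK'⟩) hLC.2
  constructor
  · unfold ChartData.J
    split_ifs with h0
    · exact Ideal.map_bot
    · rw [← hfitt]
      exact h1 _ (by omega)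
  · unfold ChartData.K
    rw [← hfitt]
    exact h2 _ le_rfl

/-- **the Fitting conditions on charts covering `T` imply the universal property** -/
theorem univFLF_of_fitt {T X' : Scheme.{u}} (u : T ⟶ S) (gX : X' ⟶ X) (f' : X' ⟶ T)
    (hsq : IsPullback gX f' f u) (r : ℕ)
    (h : ∀ t : T, ∃ (V : S.Opens) (hV : IsAffineOpen V) (C : ChartData f F hV) (T₁ : T.Opens)
      (_ : IsAffineOpen T₁) (hle : T₁ ≤ u ⁻¹ᵁ V), t ∈ T₁ ∧
        (C.J r).map (u.appLE V T₁ hle).hom = ⊥ ∧ (C.K r).map (u.appLE V T₁ hle).hom = ⊤) :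
    UnivFLF f' ((Scheme.Modules.pullback gX).obj F) r := by
  haveI : IsProper f' := MorphismProperty.of_isPullback hsq inferInstance
  haveI : ((Scheme.Modules.pullback gX).obj F).IsQuasicoherent :=
    Groth.Agent.Lib.helper16.QCohPullback.isQuasicoherent_pullback gX F
  refine univFLF_of_lc f' _ r (fun t => ?_)
  obtain ⟨V, hV, C, T₁, hT₁, hle, ht, hJ, hK⟩ := h t
  letI : Algebra Γ(S, V) Γ(T, T₁) := (u.appLE V T₁ hle).hom.toAlgebra
  obtain ⟨hLff', hL', hK', hn₁', hfitt⟩ := chart_bc_data C u gX f' hsq hT₁ hle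
  haveI := (hLff' 1).2
  haveI := (hLff' 0).2
  obtain ⟨hs, hr⟩ := split_of_fitt_MK _ (fun i => (hLff' i).1) r C.n₁ hn₁'
    (fun k hk => by rw [hfitt]; exact C.fitt_map_eq_bot r _ hJ k hk)
    (fun k hk => by rw [hfitt]; exact C.fitt_map_eq_top r _ hK k hk)
  exact ⟨T₁, hT₁, ht, _, hLff', hL', hK',
    fun y => ⟨1, fun h1 => y.isPrime.ne_top ((Ideal.eq_top_iff_one _).mpr h1), hs⟩, hr⟩

end mlt

end Groth.Agent.Lib.Helper18.Strat
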