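import Mathlib
import Groth.Agent.Lib.Helper18.Strat3
import Groth.Agent.Lib.Lead.EulerLC4

set_option autoImplicit false
universe u

open CategoryTheory CategoryTheory.Limits Opposite TopologicalSpace AlgebraicGeometry

namespace Groth.Agent.Lib.Helper18.Strat

open Groth.Agent.Lib.Helper18.BCHom Groth.Agent.Lib.Helper18.NNComplex
  Groth.Agent.Lib.Helper18.NNChart Groth.Agent.Lib.Helper18.NNMaster
  Groth.Agent.Lib.Helper18.NNStrong Groth.Agent.Lib.Helper18.NNFibre
  Groth.Agent.Lib.Helper18.SplitAlg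
  Groth.Agent.Lib.helper21.GCBase Groth.Agent.Lib.helper8.GenBCChart
  Groth.Agent.Lib.Lead.EulerLC Groth.Agent.Lib.helper15.FittLink
  Groth.Agent.Lib.helper17.JacobiNum
open Scheme.Modules

section spec

variable {S : Scheme.{u}} {V : S.Opens} (hV : IsAffineOpen V)

/-- the ring map of `Spec B ⟶ V ⟶ S` on `V` and the whole of `Spec B` -/
lemma appLE_spec_comp_fromSpec (B : CommRingCat.{u}) (φ : Γ(S, V) ⟶ B)
    (hle : (⊤ : (Spec B).Opens) ≤ (Spec.map φ ≫ hV.fromSpec) ⁻¹ᵁ V) :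
    (Spec.map φ ≫ hV.fromSpec).appLE V ⊤ hle = φ ≫ (Scheme.ΓSpecIso B).inv := by
  have h1 := IsAffineOpen.SpecMap_appLE_fromSpec (Spec.map φ ≫ hV.fromSpec) hV
    (isAffineOpen_top (Spec B)) hle
  rw [IsAffineOpen.fromSpec_top, Scheme.isoSpec_Spec_inv, ← Category.assoc, cancel_mono,
    ← Spec.map_comp] at h1
  exact Spec.map_injective h1

lemma top_le_preimage_spec (B : CommRingCat.{u}) (φ : Γ(S, V) ⟶ B) :
    (⊤ : (Spec B).Opens) ≤ (Spec.map φ ≫ hV.fromSpec) ⁻¹ᵁ V := by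
  intro x _
  show (Spec.map φ ≫ hV.fromSpec) x ∈ V
  rw [Scheme.Hom.comp_apply]
  have : hV.fromSpec (Spec.map φ x) ∈ Set.range hV.fromSpec := ⟨_, rfl⟩
  rwa [hV.range_fromSpec] at this

lemma map_appLE_spec_eq_bot_iff (B : CommRingCat.{u}) (φ : Γ(S, V) ⟶ B) (J : Ideal Γ(S, V)) :
    J.map ((Spec.map φ ≫ hV.fromSpec).appLE V ⊤ (top_le_preimage_spec hV B φ)).hom = ⊥ ↔
      J.map φ.hom = ⊥ := by
  rw [appLE_spec_comp_fromSpec hV B φ, CommRingCat.hom_comp, ← Ideal.map_map]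
  constructor
  · intro h
    have := congrArg (Ideal.map (Scheme.ΓSpecIso B).hom.hom) h
    rw [Ideal.map_map, Ideal.map_bot] at this
    rw [← this]
    have hid : (Scheme.ΓSpecIso B).hom.hom.comp (Scheme.ΓSpecIso B).inv.hom = RingHom.id _ := by
      rw [← CommRingCat.hom_comp, Iso.inv_hom_id]; rfl
    rw [hid, Ideal.map_id]
  · intro h
    rw [h, Ideal.map_bot]

lemma map_appLE_spec_eq_top_iff (B : CommRingCat.{u}) (φ : Γ(S, V) ⟶ B) (J : Ideal Γ(S, V)) :
    J.map ((Spec.map φ ≫ hV.fromSpec).appLE V ⊤ (top_le_preimage_spec hV B φ)).hom = ⊤ ↔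
      J.map φ.hom = ⊤ := by
  rw [appLE_spec_comp_fromSpec hV B φ, CommRingCat.hom_comp, ← Ideal.map_map]
  constructor
  · intro h
    have := congrArg (Ideal.map (Scheme.ΓSpecIso B).hom.hom) h
    rw [Ideal.map_map, Ideal.map_top] at this
    rw [← this]
    have hid : (Scheme.ΓSpecIso B).hom.hom.comp (Scheme.ΓSpecIso B).inv.hom = RingHom.id _ := by
      rw [← CommRingCat.hom_comp, Iso.inv_hom_id]; rfl
    rw [hid, Ideal.map_id]
  · intro h
    rw [h]
    exact Ideal.map_top _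

end spec

section rep

variable {X S : Scheme.{u}} {f : X ⟶ S} [IsProper f] {F : X.Modules} [F.IsQuasicoherent]
  {V : S.Opens} {hV : IsAffineOpen V}

/-- **representability over an affine chart**: for `Spec B ⟶ V ⟶ S` the universal property is the Fitting condition -/
theorem rep_iff (C : ChartData f F hV) (B : CommRingCat.{u}) (φ : Γ(S, V) ⟶ B) (r : ℕ)
    {X' : Scheme.{u}} (gX : X' ⟶ X) (f' : X' ⟶ Spec B)
    (hsq : IsPullback gX f' f (Spec.map φ ≫ hV.fromSpec)) :
    UnivFLF f' ((Scheme.Modules.pullback gX).obj F) r ↔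
      (C.J r).map φ.hom = ⊥ ∧ (C.K r).map φ.hom = ⊤ := by
  constructor
  · intro h
    have := fitt_of_univFLF C _ gX f' hsq (isAffineOpen_top (Spec B))
      (top_le_preimage_spec hV B φ) r h
    rwa [map_appLE_spec_eq_bot_iff, map_appLE_spec_eq_top_iff] at this
  · rintro ⟨h1, h2⟩
    refine univFLF_of_fitt _ gX f' hsq r (fun t => ⟨V, hV, C, ⊤, isAffineOpen_top (Spec B),
      top_le_preimage_spec hV B φ, trivial, ?_, ?_⟩)
    · rwa [map_appLE_spec_eq_bot_iff]
    · rwa [map_appLE_spec_eq_top_iff]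

end rep

section points

variable {X S : Scheme.{u}} {f : X ⟶ S} {F : X.Modules}
  {V : S.Opens} {hV : IsAffineOpen V}

lemma fr_MK_chart (C : ChartData f F hV) (y : PrimeSpectrum Γ(S, V)) :
    fr y (MK C.L) = CohIII.fiberRank f F 0 (hV.fromSpec y) + C.n₁ := by
  rw [fr_MK C.L (fun i => (C.ff i).1) y]
  haveI := (C.ff 1).1
  haveI := (C.ff 1).2
  have h1 : rK C.L y 1 = C.n₁ := fr_free y (C.L.X 1)
  have h2 := dRank_eq_fiberRank f hV F C.L C.comp y 0
  rw [h1]
  congr 1

/-- the open condition at a point -/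
lemma K_not_le_iff (C : ChartData f F hV) (r : ℕ) (y : PrimeSpectrum Γ(S, V)) :
    ¬ C.K r ≤ y.asIdeal ↔ CohIII.fiberRank f F 0 (hV.fromSpec y) ≤ r := by
  haveI := (C.ff 1).1
  haveI := (C.ff 0).1
  unfold ChartData.K
  rw [fitt_not_le_iff_finrank (M := MK C.L) (r + C.n₁) y.asIdeal]
  have := fr_MK_chart C y
  show fr y (MK C.L) ≤ _ ↔ _
  omega

/-- the closed condition at a point -/
lemma J_le_iff (C : ChartData f F hV) (r : ℕ) (y : PrimeSpectrum Γ(S, V)) :
    C.J r ≤ y.asIdeal ↔ r ≤ CohIII.fiberRank f F 0 (hV.fromSpec y) := by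
  haveI := (C.ff 1).1
  haveI := (C.ff 0).1
  unfold ChartData.J
  split_ifs with h0
  · simp only [bot_le, true_iff]
    omega
  · have h1 := fitt_not_le_iff_finrank (M := MK C.L) (r + C.n₁ - 1) y.asIdeal
    have h2 := fr_MK_chart C y
    rw [← not_iff_not, h1]
    show fr y (MK C.L) ≤ _ ↔ _
    omega

/-- over the locus where the fibre rank is at most `r`, the open condition is empty -/
lemma K_eq_top (C : ChartData f F hV) (r : ℕ)
    (h : ∀ s ∈ V, CohIII.fiberRank f F 0 s ≤ r) : C.K r = ⊤ := by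
  by_contra hne
  obtain ⟨m, hm, hle⟩ := Ideal.exists_le_maximal _ hne
  refine (K_not_le_iff C r ⟨m, hm.isPrime⟩).mpr (h _ ?_) hle
  have : hV.fromSpec ⟨m, hm.isPrime⟩ ∈ Set.range hV.fromSpec := ⟨_, rfl⟩
  rwa [hV.range_fromSpec] at this

end points

section key

variable {X S : Scheme.{u}} {f : X ⟶ S} [IsProper f] {F : X.Modules} [F.IsQuasicoherent]

/-- **compatibility of the closed conditions of two charts** over the locus where the fibre rank is at most `r` -/
theorem J_map_res {V V' : S.Opens} {hV : IsAffineOpen V} {hV' : IsAffineOpen V'}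
    (C : ChartData f F hV) (C' : ChartData f F hV') (hle : V' ≤ V) (r : ℕ)
    (h : ∀ s ∈ V, CohIII.fiberRank f F 0 s ≤ r) :
    (C.J r).map (S.presheaf.map (homOfLE hle).op).hom = C'.J r := by
  set res := S.presheaf.map (homOfLE hle).op with hres
  have hK : C.K r = ⊤ := K_eq_top C r h
  have hK' : C'.K r = ⊤ := K_eq_top C' r (fun s hs => h s (hle hs))
  have key : ∀ (B : CommRingCat.{u}) (ψ : Γ(S, V') ⟶ B),
      (C'.J r).map ψ.hom = ⊥ ↔ ((C.J r).map res.hom).map ψ.hom = ⊥ := by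
    intro B ψ
    have hu : Spec.map ψ ≫ hV'.fromSpec = Spec.map (res ≫ ψ) ≫ hV.fromSpec := by
      rw [Spec.map_comp, Category.assoc, hres, IsAffineOpen.map_fromSpec]
    obtain ⟨X', gX, f', hsq'⟩ : ∃ (X' : Scheme.{u}) (gX : X' ⟶ X) (f' : X' ⟶ Spec B),
        IsPullback gX f' f (Spec.map ψ ≫ hV'.fromSpec) :=
      ⟨_, _, _, IsPullback.of_hasPullback f _⟩
    have hsq : IsPullback gX f' f (Spec.map (res ≫ ψ) ≫ hV.fromSpec) := hu ▸ hsq'
    have e1 := rep_iff C' B ψ r gX f' hsq'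
    have e2 := rep_iff C B (res ≫ ψ) r gX f' hsq
    rw [hK', Ideal.map_top] at e1
    rw [hK, Ideal.map_top, CommRingCat.hom_comp, ← Ideal.map_map] at e2
    simp only [and_true] at e1 e2
    exact e1.symm.trans e2
  apply le_antisymm
  · have := (key (CommRingCat.of (Γ(S, V') ⧸ C'.J r))
      (CommRingCat.ofHom (Ideal.Quotient.mk (C'.J r)))).mp (by
        rw [CommRingCat.hom_ofHom, Ideal.map_quotient_self])
    rw [CommRingCat.hom_ofHom, Ideal.map_eq_bot_iff_le_ker, Ideal.mk_ker] at this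
    exact this
  · have := (key (CommRingCat.of (Γ(S, V') ⧸ (C.J r).map res.hom))
      (CommRingCat.ofHom (Ideal.Quotient.mk ((C.J r).map res.hom)))).mpr (by
        rw [CommRingCat.hom_ofHom, Ideal.map_quotient_self])
    rw [CommRingCat.hom_ofHom, Ideal.map_eq_bot_iff_le_ker, Ideal.mk_ker] at this
    exact this

end key

end Groth.Agent.Lib.Helper18.Strat
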