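import Mathlib
import Groth.Agent.Lib.Helper18.Strat4
import Groth.Agent.Lib.Helper7.FittPullback
import Groth.Agent.Lib.Helper16.FlatStrat1
import Groth.Agent.Lib.Helper9.SmGlob3

set_option autoImplicit false
universe u

open CategoryTheory CategoryTheory.Limits Opposite TopologicalSpace AlgebraicGeometry

namespace Groth.Agent.Lib.Helper18.Strat

open Groth.Agent.Lib.Helper18.BCHom Groth.Agent.Lib.Helper18.NNComplex
  Groth.Agent.Lib.Helper18.NNChart Groth.Agent.Lib.Helper18.NNMaster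
  Groth.Agent.Lib.Helper18.NNStrong Groth.Agent.Lib.Helper18.NNFibre
  Groth.Agent.Lib.Helper18.SplitAlg
  Groth.Agent.Lib.helper21.GCBase Groth.Agent.Lib.helper8.GenBCChart
  Groth.Agent.Lib.Lead.EulerLC Groth.Agent.Lib.helper15.FittLink
  Groth.Agent.Lib.helper17.JacobiNum
open Scheme.Modules

section pointwise

variable {X S : Scheme.{u}} {f : X ⟶ S} {F : X.Modules} {V : S.Opens} {hV : IsAffineOpen V}

/-- the point of the chart under a point of `T₁` -/
lemma fromSpec_comap {T : Scheme.{u}} (u : T ⟶ S) {T₁ : T.Opens} (hT₁ : IsAffineOpen T₁)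
    (hle : T₁ ≤ u ⁻¹ᵁ V) (q : PrimeSpectrum Γ(T, T₁)) :
    hV.fromSpec (Spec.map (u.appLE V T₁ hle) q) = u (hT₁.fromSpec q) := by
  have h := IsAffineOpen.SpecMap_appLE_fromSpec u hV hT₁ hle
  rw [← Scheme.Hom.comp_apply, h, Scheme.Hom.comp_apply]

lemma J_map_le_iff (C : ChartData f F hV) (r : ℕ) {T : Scheme.{u}} (u : T ⟶ S) {T₁ : T.Opens}
    (hT₁ : IsAffineOpen T₁) (hle : T₁ ≤ u ⁻¹ᵁ V) (q : PrimeSpectrum Γ(T, T₁)) :
    (C.J r).map (u.appLE V T₁ hle).hom ≤ q.asIdeal ↔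
      r ≤ CohIII.fiberRank f F 0 (u (hT₁.fromSpec q)) := by
  rw [Ideal.map_le_iff_le_comap, ← fromSpec_comap (hV := hV) u hT₁ hle q, ← J_le_iff C r]
  rfl

lemma K_map_not_le_iff (C : ChartData f F hV) (r : ℕ) {T : Scheme.{u}} (u : T ⟶ S) {T₁ : T.Opens}
    (hT₁ : IsAffineOpen T₁) (hle : T₁ ≤ u ⁻¹ᵁ V) (q : PrimeSpectrum Γ(T, T₁)) :
    ¬ (C.K r).map (u.appLE V T₁ hle).hom ≤ q.asIdeal ↔
      CohIII.fiberRank f F 0 (u (hT₁.fromSpec q)) ≤ r := by
  rw [Ideal.map_le_iff_le_comap, ← fromSpec_comap (hV := hV) u hT₁ hle q, ← K_not_le_iff C r]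
  rfl

end pointwise

section pw2

variable {X S : Scheme.{u}} {f : X ⟶ S} [IsProper f] [LocallyOfFinitePresentation f]
  {F : X.Modules} [F.IsQuasicoherent]

lemma exists_affine_pair {T : Scheme.{u}} (u : T ⟶ S) (t : T) :
    ∃ (V : S.Opens) (_ : IsAffineOpen V) (T₁ : T.Opens) (_ : IsAffineOpen T₁),
      T₁ ≤ u ⁻¹ᵁ V ∧ t ∈ T₁ := by
  obtain ⟨W, hW, hxW, -⟩ := Opens.isBasis_iff_nbhd.mp S.isBasis_affineOpens
    (show u t ∈ (⊤ : S.Opens) from trivial)
  obtain ⟨U, hU, hxU, hUW⟩ := Opens.isBasis_iff_nbhd.mp T.isBasis_affineOpens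
    (show t ∈ u ⁻¹ᵁ W from hxW)
  exact ⟨W, hW, U, hU, hUW, hxU⟩

/-- **the universal property forces the fibre rank** -/
theorem fiberRank_eq_of_univFLF (hfp : CohB1.IsFP F) (hfl : FlatMod.IsFlatOver f F)
    {T X' : Scheme.{u}} (u : T ⟶ S) (gX : X' ⟶ X) (f' : X' ⟶ T) (hsq : IsPullback gX f' f u)
    (r : ℕ) (h : UnivFLF f' ((Scheme.Modules.pullback gX).obj F) r) (t : T) :
    CohIII.fiberRank f F 0 (u t) = r := by
  obtain ⟨V, hV, T₁, hT₁, hle, ht⟩ := exists_affine_pair u t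
  obtain ⟨C⟩ := nonempty_chartData f F hfp hfl hV
  obtain ⟨h1, h2⟩ := fitt_of_univFLF C u gX f' hsq hT₁ hle r h
  set q := hT₁.primeIdealOf ⟨t, ht⟩ with hq
  have hqt : hT₁.fromSpec q = t := hT₁.fromSpec_primeIdealOf ⟨t, ht⟩
  have e1 := (J_map_le_iff C r u hT₁ hle q).mp (by rw [h1]; exact bot_le)
  have e2 := (K_map_not_le_iff C r u hT₁ hle q).mp (by
    rw [h2]
    intro hle'
    exact q.isPrime.ne_top (top_le_iff.mp hle'))
  rw [hqt] at e1 e2
  exact le_antisymm e2 e1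

/-- over a field the fibre rank decides the universal property -/
theorem univFLF_of_field (hfp : CohB1.IsFP F) (hfl : FlatMod.IsFlatOver f F)
    {k : Type u} [Field k] {X' : Scheme.{u}}
    (u : Spec (CommRingCat.of k) ⟶ S) (gX : X' ⟶ X) (f' : X' ⟶ Spec (CommRingCat.of k))
    (hsq : IsPullback gX f' f u)
    (r : ℕ) (h : ∀ t : Spec (CommRingCat.of k), CohIII.fiberRank f F 0 (u t) = r) :
    UnivFLF f' ((Scheme.Modules.pullback gX).obj F) r := by
  have hT : IsField Γ(Spec (CommRingCat.of k), ⊤) :=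
    MulEquiv.isField (Field.toIsField k)
      (Scheme.ΓSpecIso (CommRingCat.of k)).commRingCatIsoToRingEquiv.toMulEquiv
  haveI hso : IsSimpleOrder (Ideal Γ(Spec (CommRingCat.of k), ⊤)) :=
    Ring.isField_iff_isSimpleOrder_ideal.mp hT
  haveI : Subsingleton (Spec (CommRingCat.of k)) :=
    inferInstanceAs (Subsingleton (PrimeSpectrum k))
  refine univFLF_of_fitt u gX f' hsq r (fun t => ?_)
  obtain ⟨V, hV, T₁, hT₁, hle, ht⟩ := exists_affine_pair u t
  have hle' : (⊤ : (Spec (CommRingCat.of k)).Opens) ≤ u ⁻¹ᵁ V := fun t' _ =>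
    hle (Subsingleton.elim t t' ▸ ht)
  obtain ⟨C⟩ := nonempty_chartData f F hfp hfl hV
  set q := (isAffineOpen_top (Spec (CommRingCat.of k))).primeIdealOf ⟨t, trivial⟩ with hq
  have hqbot : q.asIdeal = ⊥ := (eq_bot_or_eq_top q.asIdeal).resolve_right q.isPrime.ne_top
  refine ⟨V, hV, C, ⊤, isAffineOpen_top _, hle', trivial, ?_, ?_⟩
  · have := (J_map_le_iff C r u (isAffineOpen_top _) hle' q).mpr (by rw [h])
    rwa [hqbot, le_bot_iff] at this
  · have := (K_map_not_le_iff C r u (isAffineOpen_top _) hle' q).mpr (by rw [h])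
    rcases eq_bot_or_eq_top ((C.K r).map (u.appLE V ⊤ hle').hom) with h0 | h0
    · exact absurd (h0 ▸ bot_le) this
    · exact h0

end pw2

section glob

variable {X S : Scheme.{u}} (f : X ⟶ S) [IsProper f] [LocallyOfFinitePresentation f]
  (F : X.Modules) [F.IsQuasicoherent] (hfp : CohB1.IsFP F) (hfl : FlatMod.IsFlatOver f F) (r : ℕ)
  (U : S.Opens) (hU : ∀ s, s ∈ U ↔ CohIII.fiberRank f F 0 s ≤ r)

/-- the chosen chart over the image of an affine open of `U` -/
noncomputable def chartOf (V₀ : (U : Scheme.{u}).affineOpens) :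
    ChartData f F (V₀.2.image_of_isOpenImmersion U.ι) :=
  Classical.choice (nonempty_chartData f F hfp hfl _)

lemma mem_of_mem_image (V₀ : (U : Scheme.{u}).Opens) (s : S) (hs : s ∈ U.ι ''ᵁ V₀) : s ∈ U := by
  obtain ⟨x, -, rfl⟩ := hs
  exact x.2

/-- the ideal sheaf of the stratum inside the open locus -/
noncomputable def stratIdeal : (U : Scheme.{u}).IdealSheafData where
  ideal V₀ := (chartOf f F hfp hfl U V₀).J r
  map_ideal_basicOpen V₀ a := by
    have hle : U.ι ''ᵁ ((U : Scheme.{u}).basicOpen a) ≤ U.ι ''ᵁ V₀.1 :=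
      (Scheme.Hom.image_mono _ ((U : Scheme.{u}).basicOpen_le a))
    exact J_map_res (chartOf f F hfp hfl U V₀)
      (chartOf f F hfp hfl U ((U : Scheme.{u}).affineBasicOpen a)) hle r
      (fun s hs => (hU s).mp (mem_of_mem_image U _ s hs))

omit [IsProper f] [LocallyOfFinitePresentation f] [F.IsQuasicoherent] in
variable {f F} in
lemma J_fg {V : S.Opens} {hV : IsAffineOpen V} (C : ChartData f F hV) : (C.J r).FG := by
  haveI := (C.ff 1).2
  haveI := (C.ff 0).2
  haveI := finitePresentation_coker C.L (fun i => (C.ff i).1) 0 1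
  haveI := finitePresentation_coker C.L (fun i => (C.ff i).1) (-1) 0
  haveI : Module.FinitePresentation Γ(S, V) (MK C.L) := inferInstance
  unfold ChartData.J
  split_ifs
  · exact Submodule.fg_bot
  · exact fitt_fg _

omit [IsProper f] [LocallyOfFinitePresentation f] [F.IsQuasicoherent] in
variable {f F} in
lemma K_fg {V : S.Opens} {hV : IsAffineOpen V} (C : ChartData f F hV) : (C.K r).FG := by
  haveI := (C.ff 1).2
  haveI := (C.ff 0).2
  haveI := finitePresentation_coker C.L (fun i => (C.ff i).1) 0 1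
  haveI := finitePresentation_coker C.L (fun i => (C.ff i).1) (-1) 0
  haveI : Module.FinitePresentation Γ(S, V) (MK C.L) := inferInstance
  unfold ChartData.K
  exact fitt_fg _

include hfp hfl hU in
/-- the open locus is retrocompact -/
theorem quasiCompact_ι : QuasiCompact U.ι := by
  rw [quasiCompact_iff_forall_isAffineOpen]
  intro V hV
  obtain ⟨C⟩ := nonempty_chartData f F hfp hfl hV
  rw [U.ι.isOpenEmbedding.isInducing.isCompact_iff]
  have key : ∀ y : PrimeSpectrum Γ(S, V),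
      y ∈ (PrimeSpectrum.zeroLocus (C.K r : Set Γ(S, V)))ᶜ ↔ hV.fromSpec y ∈ U := by
    intro y
    rw [Set.mem_compl_iff, PrimeSpectrum.mem_zeroLocus, SetLike.coe_subset_coe,
      K_not_le_iff C r y, ← hU]
  have hset : U.ι '' ((U.ι ⁻¹ᵁ V : (U : Scheme.{u}).Opens) : Set (U : Scheme.{u})) =
      hV.fromSpec '' (PrimeSpectrum.zeroLocus (C.K r : Set Γ(S, V)))ᶜ := by
    ext s
    constructor
    · rintro ⟨x, hx, rfl⟩
      have hxV : U.ι x ∈ V := hx
      have : U.ι x ∈ Set.range hV.fromSpec := by rw [hV.range_fromSpec]; exact hxV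
      obtain ⟨y, hy⟩ := this
      refine ⟨y, (key y).mpr ?_, hy⟩
      rw [hy]
      exact x.2
    · rintro ⟨y, hy, rfl⟩
      have hyU := (key y).mp hy
      have hyV : hV.fromSpec y ∈ V := by
        have : hV.fromSpec y ∈ Set.range hV.fromSpec := ⟨_, rfl⟩
        rwa [hV.range_fromSpec] at this
      exact ⟨⟨hV.fromSpec y, hyU⟩, hyV, rfl⟩
  rw [hset]
  exact IsCompact.image (PrimeSpectrum.isCompact_isOpen_iff_ideal.mpr ⟨C.K r, K_fg r C, rfl⟩).1
    hV.fromSpec.continuous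

omit [IsProper f] [LocallyOfFinitePresentation f] [F.IsQuasicoherent] in
lemma le_image {T : Scheme.{u}} (uU : T ⟶ (U : Scheme.{u})) (V₀ : (U : Scheme.{u}).Opens)
    (T₁ : T.Opens) (e : T₁ ≤ uU ⁻¹ᵁ V₀) : T₁ ≤ (uU ≫ U.ι) ⁻¹ᵁ (U.ι ''ᵁ V₀) := by
  intro t ht
  show (uU ≫ U.ι) t ∈ U.ι ''ᵁ V₀
  rw [Scheme.Hom.comp_apply]
  exact ⟨uU t, e ht, rfl⟩

omit [IsProper f] [LocallyOfFinitePresentation f] [F.IsQuasicoherent] in
lemma appLE_lift {T : Scheme.{u}} (uU : T ⟶ (U : Scheme.{u})) (V₀ : (U : Scheme.{u}).Opens)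
    (T₁ : T.Opens) (e : T₁ ≤ uU ⁻¹ᵁ V₀) :
    (uU ≫ U.ι).appLE (U.ι ''ᵁ V₀) T₁ (le_image U uU V₀ T₁ e) = uU.appLE V₀ T₁ e := by
  rw [Scheme.Hom.comp_appLE]
  have hle : U.ι ⁻¹ᵁ U.ι ''ᵁ V₀ ≤ V₀ := by
    rw [Scheme.Hom.preimage_image_eq]
  have : U.ι.app (U.ι ''ᵁ V₀) = (U : Scheme.{u}).presheaf.map (homOfLE hle).op := by
    rw [Scheme.Opens.ι_app]
    rfl
  have h2 := Scheme.Hom.map_appLE uU (U := U.ι ⁻¹ᵁ U.ι ''ᵁ V₀) (V := T₁)
    (by rw [Scheme.Hom.preimage_image_eq]; exact e) (homOfLE hle).op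
  refine Eq.trans ?_ h2
  rw [← this]
  rfl

/-- **the universal property of the stratum** -/
theorem factors_iff {T X' : Scheme.{u}} (u : T ⟶ S) (gX : X' ⟶ X) (f' : X' ⟶ T)
    (hsq : IsPullback gX f' f u) :
    (∃ u' : T ⟶ (stratIdeal f F hfp hfl r U hU).subscheme,
        u' ≫ (stratIdeal f F hfp hfl r U hU).subschemeι ≫ U.ι = u) ↔
      UnivFLF f' ((Scheme.Modules.pullback gX).obj F) r := by
  set I := stratIdeal f F hfp hfl r U hU with hI
  constructor
  · rintro ⟨u', rfl⟩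
    set uU := u' ≫ I.subschemeι with huU
    have hc : I.comap uU = ⊥ :=
      (Groth.Agent.Lib.helper16.FlatStrat.exists_lift_subscheme_iff I uU).mp ⟨u', rfl⟩
    have hsq' : IsPullback gX f' f (uU ≫ U.ι) := by
      rw [huU, Category.assoc]; exact hsq
    refine univFLF_of_fitt (uU ≫ U.ι) gX f' hsq' r (fun t => ?_)
    obtain ⟨V₀, hV₀, T₁, hT₁, hle, ht⟩ := exists_affine_pair uU t
    refine ⟨U.ι ''ᵁ V₀, hV₀.image_of_isOpenImmersion U.ι, chartOf f F hfp hfl U ⟨V₀, hV₀⟩, T₁, hT₁,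
      le_image U uU V₀ T₁ hle, ht, ?_, ?_⟩
    · rw [appLE_lift]
      have h1 := Groth.Agent.Lib.helper7.IdealComap.ideal_comap uU I hV₀ hT₁ hle
      rw [hc, Scheme.IdealSheafData.ideal_bot] at h1
      exact h1.symm
    · rw [K_eq_top _ r (fun s hs => (hU s).mp (mem_of_mem_image U _ s hs))]
      exact Ideal.map_top _
  · intro h
    have hr : ∀ t, CohIII.fiberRank f F 0 (u t) = r :=
      fiberRank_eq_of_univFLF hfp hfl u gX f' hsq r h
    have hrange : Set.range u ⊆ Set.range U.ι := by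
      rintro _ ⟨t, rfl⟩
      rw [Scheme.Opens.range_ι]
      exact (hU _).mpr (hr t).le
    obtain ⟨uU, rfl⟩ : ∃ uU : T ⟶ (U : Scheme.{u}), uU ≫ U.ι = u :=
      ⟨IsOpenImmersion.lift U.ι u hrange, IsOpenImmersion.lift_fac _ _ _⟩
    have hc : I.comap uU = ⊥ := by
      refine Scheme.IdealSheafData.ext_of_iSup_eq_top
        (fun p : Groth.Agent.Lib.helper7.FittSheaf.AffPair uU => p.1.1)
        (Groth.Agent.Lib.helper7.FittSheaf.iSup_affPair uU) fun p => ?_
      rw [Groth.Agent.Lib.helper7.IdealComap.ideal_comap uU I p.1.2.2 p.1.1.2 p.2,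
        Scheme.IdealSheafData.ideal_bot]
      have h1 := (fitt_of_univFLF (chartOf f F hfp hfl U p.1.2) (uU ≫ U.ι) gX f' hsq p.1.1.2
        (le_image U uU _ _ p.2) r h).1
      rw [appLE_lift] at h1
      exact h1
    obtain ⟨u', hu'⟩ := (Groth.Agent.Lib.helper16.FlatStrat.exists_lift_subscheme_iff I uU).mpr hc
    exact ⟨u', by rw [← Category.assoc, hu']⟩

/-- **the image of the stratum** -/
theorem range_stratumι :
    Set.range ((stratIdeal f F hfp hfl r U hU).subschemeι ≫ U.ι) =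
      {s : S | CohIII.fiberRank f F 0 s = r} := by
  set I := stratIdeal f F hfp hfl r U hU with hI
  ext s
  constructor
  · rintro ⟨z, rfl⟩
    have h := (factors_iff f F hfp hfl r U hU (I.subschemeι ≫ U.ι)
      (pullback.fst f (I.subschemeι ≫ U.ι)) (pullback.snd f (I.subschemeι ≫ U.ι))
      (IsPullback.of_hasPullback _ _)).mp ⟨𝟙 _, Category.id_comp _⟩
    exact fiberRank_eq_of_univFLF hfp hfl _ _ _ (IsPullback.of_hasPullback _ _) r h z
  · intro hs
    have hs' : CohIII.fiberRank f F 0 s = r := hs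
    set u := S.fromSpecResidueField s with hu
    have hut : ∀ t, u t = s := fun t => Scheme.fromSpecResidueField_apply s t
    have h := univFLF_of_field (k := S.residueField s) hfp hfl u
      (pullback.fst f u) (pullback.snd f u) (IsPullback.of_hasPullback _ _) r
      (fun t => by rw [hut t]; exact hs')
    obtain ⟨u', hu'⟩ := (factors_iff f F hfp hfl r U hU u
      (pullback.fst f u) (pullback.snd f u) (IsPullback.of_hasPullback _ _)).mpr h
    obtain ⟨t⟩ : Nonempty (Spec (S.residueField s)) :=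
      inferInstanceAs (Nonempty (PrimeSpectrum (S.residueField s)))
    refine ⟨u' t, ?_⟩
    rw [← Scheme.Hom.comp_apply, hu', hut]

include hfp hfl in
theorem lfp_stratumι :
    LocallyOfFinitePresentation ((stratIdeal f F hfp hfl r U hU).subschemeι ≫ U.ι) := by
  haveI : LocallyOfFinitePresentation (stratIdeal f F hfp hfl r U hU).subschemeι :=
    Groth.Agent.Lib.helper9.SmGlob.locallyOfFinitePresentation_subschemeι _
      (fun O => J_fg r (chartOf f F hfp hfl U O))
  infer_instance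

theorem qc_stratumι :
    QuasiCompact ((stratIdeal f F hfp hfl r U hU).subschemeι ≫ U.ι) := by
  haveI := quasiCompact_ι f F hfp hfl r U hU
  infer_instance

theorem isImmersion_stratumι :
    IsImmersion ((stratIdeal f F hfp hfl r U hU).subschemeι ≫ U.ι) := by
  infer_instance

end glob

section final

variable {X S : Scheme.{u}} (f : X ⟶ S) [IsProper f] [LocallyOfFinitePresentation f]
  (F : X.Modules) [F.IsQuasicoherent] (hfp : CohB1.IsFP F) (hfl : FlatMod.IsFlatOver f F) (r : ℕ)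

include hfp hfl in
/-- **the stratum of `f_* F` of rank `r` with base change** -/
theorem exists_stratum :
    ∃ (Z : Scheme.{u}) (ι : Z ⟶ S), IsImmersion ι ∧ LocallyOfFinitePresentation ι ∧
      QuasiCompact ι ∧
      (∀ {T X' : Scheme.{u}} (u : T ⟶ S) (gX : X' ⟶ X) (f' : X' ⟶ T) (_ : IsPullback gX f' f u),
        (∃ u' : T ⟶ Z, u' ≫ ι = u) ↔ UnivFLF f' ((Scheme.Modules.pullback gX).obj F) r) ∧
      Set.range ι = {s : S | CohIII.fiberRank f F 0 s = r} := by
  have hopen : IsOpen {s : S | CohIII.fiberRank f F 0 s ≤ r} := by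
    have h := upperSemicontinuous_fiberRank f F hfp hfl 0
    rw [upperSemicontinuous_iff_isOpen_preimage] at h
    have := h (r + 1)
    convert this using 1
    ext s
    simp only [Set.mem_ofPred_eq, Set.mem_preimage, Set.mem_Iio]
    omega
  set U : S.Opens := ⟨_, hopen⟩ with hUdef
  have hU : ∀ s, s ∈ U ↔ CohIII.fiberRank f F 0 s ≤ r := fun s => Iff.rfl
  exact ⟨_, _, isImmersion_stratumι f F hfp hfl r U hU, lfp_stratumι f F hfp hfl r U hU,
    qc_stratumι f F hfp hfl r U hU, fun u gX f' hsq => factors_iff f F hfp hfl r U hU u gX f' hsq,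
    range_stratumι f F hfp hfl r U hU⟩

end final

end Groth.Agent.Lib.Helper18.Strat
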