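import Groth.Agent.Lib.Helper18.EtH0b
import Groth.Agent.Lib.Helper18.Strat5
import Groth.Agent.Lib.Helper11.NegCxRows

set_option autoImplicit false
universe u

open CategoryTheory CategoryTheory.Limits Opposite TopologicalSpace AlgebraicGeometry

namespace Groth.Agent.Lib.Helper18.EtH0

open Groth.Agent.Lib.Helper18.BCHom Groth.Agent.Lib.Helper18.NNComplex
  Groth.Agent.Lib.Helper18.NNChart Groth.Agent.Lib.Helper18.NNMaster
  Groth.Agent.Lib.Helper18.NNMaster0
  Groth.Agent.Lib.Helper18.NNRows Groth.Agent.Lib.Helper18.NNFibre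
  Groth.Agent.Lib.Helper18.NNLocal Groth.Agent.Lib.Helper18.SplitAlg
  Groth.Agent.Lib.helper21.GCBase Groth.Agent.Lib.helper8.GenBCChart
  Groth.Agent.Lib.helper8.PullbackUnit Groth.Agent.Lib.helper8.EpsAffine
  Groth.Agent.Lib.helper7.H0Span
  Groth.Agent.Lib.helper11.InvMod Groth.Agent.Lib.Helper18 Groth.Agent.Lib.helper11.InvPullback
  Groth.Agent.Lib.Helper18.Strat
open Scheme.Modules

section nilbase

variable (B : Type u) [CommRing B] [IsLocalRing B] (hnil : IsNilpotent (IsLocalRing.maximalIdeal B))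

include hnil in
lemma isNilpotent_of_mem_maximalIdeal (x : B) (hx : x ∈ IsLocalRing.maximalIdeal B) :
    IsNilpotent x := by
  obtain ⟨n, hn⟩ := hnil
  refine ⟨n, ?_⟩
  have : x ^ n ∈ (IsLocalRing.maximalIdeal B) ^ n := Ideal.pow_mem_pow hx n
  rw [hn] at this
  exact this

include hnil in
lemma prime_eq_maximalIdeal (p : PrimeSpectrum B) : p.asIdeal = IsLocalRing.maximalIdeal B := by
  apply le_antisymm (IsLocalRing.le_maximalIdeal p.isPrime.ne_top)
  intro x hx
  obtain ⟨n, hn⟩ := isNilpotent_of_mem_maximalIdeal B hnil x hx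
  exact p.isPrime.mem_of_pow_mem n (hn ▸ p.asIdeal.zero_mem)

variable {B} {K : Type u} [Field K] (q : B →+* K)

include hnil in
lemma ker_eq_maximalIdeal : RingHom.ker q = IsLocalRing.maximalIdeal B := by
  apply le_antisymm (IsLocalRing.le_maximalIdeal (RingHom.ker_ne_top _))
  intro x hx
  obtain ⟨n, hn⟩ := isNilpotent_of_mem_maximalIdeal B hnil x hx
  rw [RingHom.mem_ker]
  have : q x ^ n = 0 := by rw [← map_pow, hn, map_zero]
  exact eq_zero_of_pow_eq_zero this

include hnil in
lemma isUnit_of_map_ne_zero (a : B) (ha : q a ≠ 0) : IsUnit a := by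
  by_contra h
  have : a ∈ IsLocalRing.maximalIdeal B := (IsLocalRing.mem_maximalIdeal a).mpr h
  rw [← ker_eq_maximalIdeal hnil q] at this
  exact ha this

end nilbase

section specsurj

variable (B : CommRingCat.{u}) [IsLocalRing B] (hnil : IsNilpotent (IsLocalRing.maximalIdeal B))
  {K : CommRingCat.{u}} (hK : IsField K) (q : B ⟶ K)

include hnil hK in
/-- `Spec K → Spec B` is surjective for a local ring `B` with nilpotent maximal ideal -/
lemma surjective_specMap : Surjective (Spec.map q) := by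
  letI := hK.toField
  refine ⟨fun p => ⟨⟨⊥, Ideal.isPrime_bot⟩, ?_⟩⟩
  apply PrimeSpectrum.ext
  show Ideal.comap q.hom ⊥ = p.asIdeal
  rw [prime_eq_maximalIdeal B hnil p, ← ker_eq_maximalIdeal hnil q.hom]
  rfl

end specsurj

section main

variable {X S : Scheme.{u}} (f : X ⟶ S) [IsProper f] (y : S)

/-- **the Artinian step**: over a local base with nilpotent maximal ideal whose closed fibre is the fibre `X_y` with
étale ring of functions, `f_* O` is free of rank `h⁰(X_y, O)` universally -/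
theorem univFLF_of_etale_nil
    (het : Algebra.Etale (S.residueField y) Γ(f.fiber y, ⊤))
    {V : S.Opens} {hV : IsAffineOpen V} (C : ChartData f (Coh.structureModule X) hV)
    (B : CommRingCat.{u}) [IsLocalRing B] (hnil : IsNilpotent (IsLocalRing.maximalIdeal B))
    (φ : Γ(S, V) ⟶ B) (q : B ⟶ S.residueField y) (hq : Function.Surjective q.hom)
    (hφq : Spec.map q ≫ Spec.map φ ≫ hV.fromSpec = S.fromSpecResidueField y)
    {X' : Scheme.{u}} (gX : X' ⟶ X) (f' : X' ⟶ Spec B)
    (hsq : IsPullback gX f' f (Spec.map φ ≫ hV.fromSpec)) :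
    UnivFLF f' ((Scheme.Modules.pullback gX).obj (Coh.structureModule X))
      (CohIII.fiberRank f (Coh.structureModule X) 0 y) := by
  set u := Spec.map φ ≫ hV.fromSpec with hu
  have hle := top_le_preimage_spec hV B φ
  have hT := isAffineOpen_top (Spec B)
  letI : Algebra Γ(S, V) Γ(Spec B, ⊤) := (u.appLE V ⊤ hle).hom.toAlgebra
  obtain ⟨hLff', hL', hK', hn₁', hfitt⟩ := chart_bc_data C u gX f' hsq hT hle
  haveI : IsProper f' := MorphismProperty.of_isPullback hsq inferInstance
  haveI : ((Scheme.Modules.pullback gX).obj (Coh.structureModule X)).IsQuasicoherent :=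
    Groth.Agent.Lib.helper16.QCohPullback.isQuasicoherent_pullback gX _
  -- the closed fibre
  have hfield : IsField (S.residueField y) := Field.toIsField _
  haveI hvs : Surjective (Spec.map q) := surjective_specMap B hnil hfield q
  haveI hvc : IsClosedImmersion (Spec.map q) := IsClosedImmersion.spec_of_surjective q hq
  have hw : f.fiberι y ≫ f = (f.fiberToSpecResidueField y ≫ Spec.map q) ≫ u := by
    rw [Category.assoc, hφq]
    exact f.fiber_fac y
  set gX'' := hsq.lift (f.fiberι y) (f.fiberToSpecResidueField y ≫ Spec.map q) hw with hgX''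
  have hfac1 : gX'' ≫ gX = f.fiberι y := hsq.lift_fst _ _ _
  have hfac2 : gX'' ≫ f' = f.fiberToSpecResidueField y ≫ Spec.map q := hsq.lift_snd _ _ _
  have hbig : IsPullback (gX'' ≫ gX) (f.fiberToSpecResidueField y) f (Spec.map q ≫ u) := by
    rw [hfac1, hφq]
    exact IsPullback.of_hasPullback _ _
  have hsq'' : IsPullback gX'' (f.fiberToSpecResidueField y) f' (Spec.map q) :=
    IsPullback.of_right hbig hfac2 hsq
  haveI : IsClosedImmersion gX'' :=
    MorphismProperty.of_isPullback (P := @IsClosedImmersion) hsq''.flip hvc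
  haveI : Surjective gX'' :=
    MorphismProperty.of_isPullback (P := @Surjective) hsq''.flip hvs
  -- surjectivity of functions
  have habC : (Scheme.ΓSpecIso B).inv ≫ f'.appTop ≫ gX''.appTop =
      q ≫ (Scheme.ΓSpecIso (S.residueField y)).inv ≫ (f.fiberToSpecResidueField y).appTop := by
    rw [← Scheme.Hom.comp_appTop, hfac2, Scheme.Hom.comp_appTop, ← Category.assoc,
      ← Scheme.ΓSpecIso_inv_naturality, Category.assoc]
  have hab : gX''.appTop.hom.comp (f'.appTop.hom.comp (Scheme.ΓSpecIso B).inv.hom) =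
      ((f.fiberToSpecResidueField y).appTop.hom.comp
        (Scheme.ΓSpecIso (S.residueField y)).inv.hom).comp q.hom := by
    exact RingHom.ext fun x => congrArg (fun t => t.hom x) habC
  have hsurjTop : Function.Surjective gX''.appTop.hom :=
    appTop_surjective_of_etale gX'' q.hom hq _ _ hab het
  have hL'O : ComputesNat Γ(Spec B, ⊤) (fU f' hT (le_refl (f' ⁻¹ᵁ ⊤)))
      ((Coh.structureModule X').restrict (f' ⁻¹ᵁ ⊤).ι)
      (CohIII.bcCx (algebraMap Γ(S, V) Γ(Spec B, ⊤)) C.L) :=
    ComputesNat.of_iso _ ((Scheme.Modules.restrictFunctor (f' ⁻¹ᵁ ⊤).ι).mapIso (pullbackUnitIso gX)) hL'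
  have htop : (⊤ : (Spec (S.residueField y)).Opens) ≤ (Spec.map q) ⁻¹ᵁ ⊤ := fun _ _ => trivial
  have hsurj : Function.Surjective
      (gX''.appLE (f' ⁻¹ᵁ ⊤) ((f.fiberToSpecResidueField y) ⁻¹ᵁ ⊤)
        (chart_le f' (Spec.map q) gX'' (f.fiberToSpecResidueField y) hsq'' htop)).hom := by
    intro τ
    obtain ⟨σ, hσ⟩ := hsurjTop τ
    refine ⟨σ, ?_⟩
    rw [← hσ]
    have e1 : ∀ (z : Γ(f.fiber y, ⊤)) (e : (⊤ : (f.fiber y).Opens) ≤ ⊤),
        ((f.fiber y).presheaf.map (homOfLE e).op).hom z = z := by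
      intro z e
      have : (homOfLE e).op = 𝟙 _ := Subsingleton.elim _ _
      rw [this, CategoryTheory.Functor.map_id]
      rfl
    exact e1 _ _
  obtain ⟨a, ha, hs⟩ := exists_gsplit_of_surjective f' hT _ hLff' hL'O (Spec.map q) gX''
    (f.fiberToSpecResidueField y) hsq'' (isAffineOpen_top _) (isField_Γ_residueField y) htop hsurj
  -- `a` is a unit
  have haU : IsUnit a := by
    have h1 : ((Spec.map q).appLE ⊤ ⊤ htop) = (Spec.map q).appTop := by
      simp [Scheme.Hom.appLE]
    have h2 : q.hom ((Scheme.ΓSpecIso B).hom.hom a) ≠ 0 := by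
      have h3 := congrArg (fun t => t.hom a) (Scheme.ΓSpecIso_naturality q)
      simp only [CommRingCat.hom_comp, RingHom.comp_apply] at h3
      rw [← h3]
      intro h4
      apply ha
      rw [h1]
      exact (ConcreteCategory.bijective_of_isIso (Scheme.ΓSpecIso (S.residueField y)).hom).1
        (h4.trans (map_zero _).symm)
    have h5 := isUnit_of_map_ne_zero hnil q.hom _ h2
    have h6 := h5.map (Scheme.ΓSpecIso B).inv.hom
    have h7 : (Scheme.ΓSpecIso B).inv.hom ((Scheme.ΓSpecIso B).hom.hom a) = a :=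
      congrArg (fun t => t.hom a) (Scheme.ΓSpecIso B).hom_inv_id
    rwa [h7] at h6
  have hu_pt : ∀ t : Spec B, u t = y := by
    intro t
    obtain ⟨t₀, rfl⟩ := (Spec.map q).surjective t
    rw [← Scheme.Hom.comp_apply, hφq, Scheme.fromSpecResidueField_apply]
  refine univFLF_of_lc f' _ _ (fun t => ⟨⊤, hT, trivial, _, hLff', hL', hK',
    ⟨fun p => ⟨a, fun hmem => p.isPrime.ne_top (Ideal.eq_top_of_isUnit_mem _ hmem haU),
      (gsplit_iff_dsplit _ (show (ComplexShape.up ℤ).Rel 0 1 by simp) a).mp hs⟩, fun p => ?_⟩⟩)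
  haveI : ∀ i, Module.Flat Γ(S, V) (C.L.X i) := fun i => by
    haveI := (C.ff i).2
    infer_instance
  rw [Groth.Agent.Lib.helper11.NegCx.dRank_bcCx C.L (fun i => inferInstance) 0 p]
  have h2 := dRank_eq_fiberRank f hV (Coh.structureModule X) C.L C.comp
    (PrimeSpectrum.comap (algebraMap Γ(S, V) Γ(Spec B, ⊤)) p) 0
  have h3 := fromSpec_comap (hV := hV) u hT hle p
  rw [hu_pt] at h3
  rw [← h3]
  exact h2

end main

end Groth.Agent.Lib.Helper18.EtH0
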