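import Groth.Agent.Lib.Helper18.EtH0c
import Groth.Agent.Lib.Helper7.NNFibreH0
import Groth.Agent.Lib.Helper21.GCStein2
import Groth.Agent.Lib.Lead.DiscCompl2

set_option autoImplicit false
universe u

open CategoryTheory CategoryTheory.Limits Opposite TopologicalSpace AlgebraicGeometry

namespace Groth.Agent.Lib.Helper18.EtH0

open Groth.Agent.Lib.Helper18.NNComplex Groth.Agent.Lib.Helper18.Strat
  Groth.Agent.Lib.helper7.R1Free
open Scheme.Modules

section alg2

/-- Krull: an ideal of a Noetherian local ring contained in all powers of the maximal ideal is zero -/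
lemma eq_bot_of_le_pow {O : Type*} [CommRing O] [IsLocalRing O] [IsNoetherianRing O] (J : Ideal O)
    (h : ∀ n : ℕ, J ≤ IsLocalRing.maximalIdeal O ^ (n + 1)) : J = ⊥ := by
  rw [eq_bot_iff, ← Ideal.iInf_pow_eq_bot_of_isLocalRing (IsLocalRing.maximalIdeal O)
    (Ideal.IsPrime.ne_top')]
  refine le_iInf (fun n => ?_)
  rcases n with _ | n
  · rw [pow_zero, Ideal.one_eq_top]
    exact le_top
  · exact h n

/-- a finitely generated ideal dying in the localization at a prime is killed by an element outside the prime -/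
lemma exists_mul_eq_zero_of_map_eq_bot {A L : Type*} [CommRing A] [CommRing L] [Algebra A L]
    (p : Ideal A) [p.IsPrime] [IsLocalization.AtPrime L p] (J : Ideal A) (hJ : J.FG)
    (h : J.map (algebraMap A L) = ⊥) : ∃ a : A, a ∉ p ∧ ∀ j ∈ J, a * j = 0 := by
  classical
  obtain ⟨s, rfl⟩ := hJ
  have h1 : ∀ j ∈ s, ∃ a : A, a ∉ p ∧ a * j = 0 := by
    intro j hj
    have : algebraMap A L j = 0 := by
      have : algebraMap A L j ∈ (Ideal.span (s : Set A)).map (algebraMap A L) :=
        Ideal.mem_map_of_mem _ (Ideal.subset_span hj)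
      rw [h] at this
      exact this
    obtain ⟨⟨c, hc⟩, hc'⟩ := (IsLocalization.map_eq_zero_iff p.primeCompl L j).mp this
    exact ⟨c, hc, hc'⟩
  choose! a ha ha' using h1
  refine ⟨∏ j ∈ s, a j, ?_, ?_⟩
  · intro hmem
    obtain ⟨j, hj, hj'⟩ := (Ideal.IsPrime.prod_mem_iff).mp hmem
    exact ha j hj hj'
  · intro j hj
    refine Submodule.span_induction (p := fun x _ => (∏ j ∈ s, a j) * x = 0) ?_ ?_ ?_ ?_ hj
    · intro x hx
      obtain ⟨c, hc⟩ := Finset.dvd_prod_of_mem a hx
      rw [hc, mul_comm (a x) c, mul_assoc, ha' x hx, mul_zero]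
    · exact mul_zero _
    · intro x y _ _ hx hy
      rw [mul_add, hx, hy, add_zero]
    · intro c x _ hx
      rw [smul_eq_mul, mul_left_comm, hx, mul_zero]

end alg2

section quot

variable {S : Scheme.{u}} (y : S) {V : S.Opens} (hV : IsAffineOpen V) (hyV : y ∈ V) (n : ℕ)

/-- the maximal ideal of the local ring at `y` -/
noncomputable abbrev mI : Ideal (S.presheaf.stalk y) := IsLocalRing.maximalIdeal (S.presheaf.stalk y)

lemma mI_pow_le : mI y ^ (n + 1) ≤ mI y := Ideal.pow_le_self (Nat.succ_ne_zero n)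

/-- the thickened point `O_{S,y} / m^{n+1}` -/
noncomputable abbrev thickRing : CommRingCat.{u} :=
  CommRingCat.of (S.presheaf.stalk y ⧸ mI y ^ (n + 1))

instance : Nontrivial (thickRing y n) :=
  Ideal.Quotient.nontrivial_iff.mpr (fun h => by
    have h1 := mI_pow_le y n
    rw [h, top_le_iff] at h1
    exact Ideal.IsPrime.ne_top' h1)

instance : IsLocalRing (thickRing y n) :=
  IsLocalRing.of_surjective' (Ideal.Quotient.mk (mI y ^ (n + 1))) Ideal.Quotient.mk_surjective

lemma thickRing_nil : IsNilpotent (IsLocalRing.maximalIdeal (thickRing y n)) := by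
  have h1 : IsLocalRing.maximalIdeal (thickRing y n) =
      (mI y).map (Ideal.Quotient.mk (mI y ^ (n + 1))) := by
    symm
    apply IsLocalRing.eq_maximalIdeal
    refine (Ideal.map_eq_top_or_isMaximal_of_surjective (Ideal.Quotient.mk (mI y ^ (n + 1)))
      Ideal.Quotient.mk_surjective (IsLocalRing.maximalIdeal.isMaximal _)).resolve_left ?_
    intro h
    have h2 := congrArg (Ideal.comap (Ideal.Quotient.mk (mI y ^ (n + 1)))) h
    rw [Ideal.comap_map_of_surjective _ Ideal.Quotient.mk_surjective, Ideal.comap_top,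
      ← RingHom.ker_eq_comap_bot, Ideal.mk_ker, sup_eq_left.mpr (mI_pow_le y n)] at h2
    exact Ideal.IsPrime.ne_top' h2
  refine ⟨n + 1, ?_⟩
  rw [h1, ← Ideal.map_pow, Ideal.map_quotient_self]
  rfl

/-- `Γ(S, V) → O_{S,y} / m^{n+1}` -/
noncomputable def thickφ : Γ(S, V) ⟶ thickRing y n :=
  S.presheaf.germ V y hyV ≫ CommRingCat.ofHom (Ideal.Quotient.mk (mI y ^ (n + 1)))

/-- `O_{S,y} / m^{n+1} → κ(y)` -/
noncomputable def thickq : thickRing y n ⟶ S.residueField y :=
  CommRingCat.ofHom (Ideal.Quotient.factor (mI_pow_le y n))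

lemma thickq_surjective : Function.Surjective (thickq y n).hom :=
  Ideal.Quotient.factor_surjective (mI_pow_le y n)

include hV in
lemma thick_fac : Spec.map (thickq y n) ≫ Spec.map (thickφ y hyV n) ≫ hV.fromSpec =
    S.fromSpecResidueField y := by
  rw [← Category.assoc, ← Spec.map_comp]
  have h1 : thickφ y hyV n ≫ thickq y n = S.presheaf.germ V y hyV ≫ S.residue y := by
    ext x
    rfl
  rw [h1, Spec.map_comp, Category.assoc]
  have h2 : Spec.map (S.presheaf.germ V y hyV) ≫ hV.fromSpec = S.fromSpecStalk y :=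
    hV.fromSpecStalk_eq_fromSpecStalk hyV
  rw [h2]
  rfl

end quot

section D

variable {X S : Scheme.{u}} (f : X ⟶ S) [IsProper f] [Flat f] [LocallyOfFinitePresentation f]
  [IsLocallyNoetherian S] (y : S)

omit [Flat f] [LocallyOfFinitePresentation f] in
/-- the closed condition of a chart dies in the local ring at `y` -/
theorem map_germ_J_eq_bot (het : Algebra.Etale (S.residueField y) Γ(f.fiber y, ⊤))
    {V : S.Opens} {hV : IsAffineOpen V} (hyV : y ∈ V)
    (C : ChartData f (Coh.structureModule X) hV) :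
    (C.J (CohIII.fiberRank f (Coh.structureModule X) 0 y)).map
      (S.presheaf.germ V y hyV).hom = ⊥ := by
  haveI := isQuasicoherent_structureModule X
  apply eq_bot_of_le_pow
  intro n
  obtain ⟨X', gX, f', hsq⟩ : ∃ (X' : Scheme.{u}) (gX : X' ⟶ X) (f' : X' ⟶ Spec (thickRing y n)),
      IsPullback gX f' f (Spec.map (thickφ y hyV n) ≫ hV.fromSpec) :=
    ⟨_, _, _, IsPullback.of_hasPullback f _⟩
  have hU := univFLF_of_etale_nil f y het C (thickRing y n) (thickRing_nil y n) (thickφ y hyV n)
    (thickq y n) (thickq_surjective y n) (thick_fac y hV hyV n) gX f' hsq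
  have h1 := ((rep_iff C (thickRing y n) (thickφ y hyV n) _ gX f' hsq).mp hU).1
  unfold thickφ at h1
  rw [CommRingCat.hom_comp, ← Ideal.map_map, Ideal.map_eq_bot_iff_le_ker] at h1
  exact h1.trans (le_of_eq Ideal.mk_ker)

/-- **near `y` there is a chart whose Fitting conditions hold identically** -/
theorem exists_chart_fitt (het : Algebra.Etale (S.residueField y) Γ(f.fiber y, ⊤)) :
    ∃ (V' : S.Opens) (hV' : IsAffineOpen V') (C' : ChartData f (Coh.structureModule X) hV'),
      y ∈ V' ∧ C'.J (CohIII.fiberRank f (Coh.structureModule X) 0 y) = ⊥ ∧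
        C'.K (CohIII.fiberRank f (Coh.structureModule X) 0 y) = ⊤ := by
  have hfp := isFP_structureModule X
  have hfl := Groth.Agent.Lib.helper21.GCStein.isFlatOver_structureModule f
  haveI := isQuasicoherent_structureModule X
  set d := CohIII.fiberRank f (Coh.structureModule X) 0 y with hd
  have husc := Groth.Agent.Lib.helper7.NNFibreH0.upperSemicontinuous_fiberRank f
    (Coh.structureModule X) hfp hfl 0
  have hopen : IsOpen {s | CohIII.fiberRank f (Coh.structureModule X) 0 s < d + 1} :=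
    (upperSemicontinuous_iff_isOpen_preimage.mp husc) (d + 1)
  obtain ⟨V, hV, hyV, hVU⟩ := Opens.isBasis_iff_nbhd.mp S.isBasis_affineOpens
    (show y ∈ (⟨_, hopen⟩ : S.Opens) from Nat.lt_succ_self d)
  have hV : IsAffineOpen V := hV
  obtain ⟨C⟩ := nonempty_chartData f (Coh.structureModule X) hfp hfl hV
  have hle_d : ∀ s ∈ V, CohIII.fiberRank f (Coh.structureModule X) 0 s ≤ d :=
    fun s hs => Nat.lt_succ_iff.mp (hVU hs)
  have hJ := map_germ_J_eq_bot f y het hyV C
  letI := S.presheaf.algebra_section_stalk ⟨y, hyV⟩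
  haveI := hV.isLocalization_stalk ⟨y, hyV⟩
  obtain ⟨a, ha, haJ⟩ := exists_mul_eq_zero_of_map_eq_bot (L := S.presheaf.stalk y)
    (hV.primeIdealOf ⟨y, hyV⟩).asIdeal (C.J d) (J_fg d C) hJ
  have hV' : IsAffineOpen (S.basicOpen a) := hV.basicOpen a
  have hyV' : y ∈ S.basicOpen a := by
    have := (Groth.Agent.Lib.Lead.DiscCompl.fromSpec_mem_basicOpen_iff hV a
      (hV.primeIdealOf ⟨y, hyV⟩)).mpr ha
    rwa [hV.fromSpec_primeIdealOf ⟨y, hyV⟩] at this
  obtain ⟨C'⟩ := nonempty_chartData f (Coh.structureModule X) hfp hfl hV'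
  refine ⟨S.basicOpen a, hV', C', hyV', ?_,
    K_eq_top C' d (fun s hs => hle_d s (S.basicOpen_le a hs))⟩
  rw [← J_map_res C C' (S.basicOpen_le a) d hle_d, Ideal.map_eq_bot_iff_le_ker]
  intro j hj
  rw [RingHom.mem_ker]
  have hunit : IsUnit ((S.presheaf.map (homOfLE (S.basicOpen_le a)).op).hom a) :=
    RingedSpace.isUnit_res_basicOpen S.toRingedSpace a
  have h2 := congrArg (S.presheaf.map (homOfLE (S.basicOpen_le a)).op).hom (haJ j hj)
  rw [map_mul, map_zero] at h2
  exact (hunit.mul_right_eq_zero).mp h2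

end D

end Groth.Agent.Lib.Helper18.EtH0
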