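import Groth.Agent.Lib.Helper18.EtH0f
import Groth.Agent.Lib.Helper11.GCM7
import Groth.Agent.Lib.Helper11.GCM6
import Groth.Agent.Lib.Helper11.AmpleInv
import Groth.Agent.Lib.Helper2.TpHom

set_option autoImplicit false
set_option linter.unusedSectionVars false
universe u

open CategoryTheory CategoryTheory.Limits TensorProduct Opposite TopologicalSpace AlgebraicGeometry

namespace Groth.Agent.Lib.Helper18.EtH0

open Groth.Agent.Lib.helper21.ModCx Groth.Agent.Lib.helper21.GCCech
open Groth.Agent.Lib.helper8.PullbackUnit Groth.Agent.Lib.helper8.FlatCohBC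
open Groth.Agent.Lib.helper27 Groth.Agent.Lib.Helper18
open Groth.Agent.Lib.Helper20 Groth.Agent.Lib.Helper20.CechNatTop
open Groth.Agent.Lib.helper11.GCM Groth.Agent.Lib.Helper18.NNComplex

section combined

variable (A : Type u) [CommRing A] [IsNoetherianRing A] (X : Scheme.{u})
  [X.Over (Spec (CommRingCat.of A))] [IsProper (X ↘ Spec (CommRingCat.of A))]
  (F : X.Modules) (hF : Coh.IsCoh F)
  (hfl : FlatMod.IsFlatOver (X ↘ Spec (CommRingCat.of A)) F)

include hF hfl in
/-- **The Grothendieck complex, natural in the module and natural for base change**: one bounded above complex of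
finite free modules with `T^p_L ≅ H^p(X, F ⊗_A -)` naturally and `ComputesNat`. -/
theorem exists_complex_module_computesNat :
    ∃ L : CochainComplex (ModuleCat.{u} A) ℤ,
      (∀ i, Module.Finite A (L.X i) ∧ Module.Free A (L.X i)) ∧
      (∀ (B : Type u) [CommRing B] [Algebra A B] (i : ℤ), i < 0 →
        IsZero ((CohIII.bcCx (algebraMap A B) L).homology i)) ∧
      ComputesNat A (X ↘ Spec (CommRingCat.of A)) F L ∧
      ∀ p : ℕ, Nonempty (CohIII.TFun L (p : ℤ) ⋙ forget₂ (ModuleCat.{u} A) AddCommGrpCat.{u} ≅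
        CohIII.tensorAFunctor A F ⋙ CohIII.HAb X p) := by
  have : F.IsQuasicoherent := hF.1
  have : CompactSpace X :=
    QuasiCompact.compactSpace_of_compactSpace (X ↘ Spec (CommRingCat.of A))
  have hd := affine_inf_of_isSeparated (X ↘ Spec (CommRingCat.of A))
  obtain ⟨ι, hfin, U, hUa, hcov⟩ := exists_finite_affine_cover X
  have hU : ∀ (n : ℕ) (a : Fin (n + 1) → ι), IsAffineOpen (∏ᶜ (U ∘ a) : X.Opens) :=
    fun n a => Groth.Agent.Lib.Lead.CechLoc.isAffineOpen_prod U (isAffineOpen_biInf hd U hUa) n a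
  set K := cechMod (X ↘ Spec (CommRingCat.of A)) F U with hK
  have hflat : ∀ i, Module.Flat A (K.X i) := flat_cechMod _ F U hfl hU
  have hneg : ∀ i : ℤ, i < 0 → IsZero (K.X i) := isZero_cechMod_X _ F U
  have hfinH : ∀ i, Module.Finite A (K.homology i) := by
    intro i
    by_cases hi : i < 0
    · have : Subsingleton ((cechMod (X ↘ Spec (CommRingCat.of A)) F U).homology i) :=
        ModuleCat.subsingleton_of_isZero (isZero_cechMod_homology _ F U i hi)
      infer_instance
    · obtain ⟨p, rfl⟩ : ∃ n : ℕ, (n : ℤ) = i := ⟨i.toNat, by omega⟩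
      have := Groth.Agent.S0002.result A X F hF p
      exact Module.Finite.equiv
        (cechModHomology (X ↘ Spec (CommRingCat.of A)) F U hU hcov p).symm
  have hN : ∀ (B : Type u) [CommRing B] [Algebra A B] (i : ℤ), ((Nat.card ι : ℕ) : ℤ) ≤ i →
      IsZero ((CohIII.bcCx (algebraMap A B) K).homology i) := by
    intro B _ _ i hi
    obtain ⟨p, rfl⟩ : ∃ n : ℕ, (n : ℤ) = i := ⟨i.toNat, by omega⟩
    have hp : Nat.card ι ≤ p := by exact_mod_cast hi
    let fX := X ↘ Spec (CommRingCat.of A)
    let sB := Spec.map (CommRingCat.ofHom (algebraMap A B))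
    let X' := pullback fX sB
    let g' : X' ⟶ X := pullback.fst fX sB
    let fX' : X' ⟶ Spec (CommRingCat.of B) := pullback.snd fX sB
    have h : IsPullback g' fX' fX sB := IsPullback.of_hasPullback fX sB
    have : IsSeparated fX' := MorphismProperty.of_isPullback (P := @IsSeparated) h inferInstance
    have : IsAffineHom g' := isAffineHom_g' fX fX' g' h
    have := qcoh_pull fX fX' g' h F
    have hd' := affine_inf_of_isSeparated fX'
    have hsub : Subsingleton (Coh.HH X' ((Scheme.Modules.pullback g').obj F) p) :=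
      subsingleton_HH_of_cover _ hd' (fun i => g' ⁻¹ᵁ U i) (fun i => (hUa i).preimage g')
        (by
          rw [← Scheme.Hom.preimage_iSup, hcov]
          rfl) p hp
    let := modHH fX' ((Scheme.Modules.pullback g').obj F) p
    have e := cechModBCHomology fX fX' g' h F U hU hcov p
    have : Subsingleton ((CohIII.bcCx (algebraMap A B)
        (cechMod (X ↘ Spec (CommRingCat.of A)) F U)).homology (p : ℤ)) :=
      e.toEquiv.subsingleton
    exact ModuleCat.isZero_of_subsingleton _
  obtain ⟨L, φ, hL, hLN, hφ0, hφ, hφM⟩ :=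
    Groth.Agent.Lib.helper11.GCAlg.exists_finite_free_quasiIso_bc_tensor A K hflat hfinH
      ((Nat.card ι : ℕ) : ℤ) hN
  refine ⟨L, hL, ?_, computesNat_of_quasiIso (X ↘ Spec (CommRingCat.of A)) F U hU hcov φ hφ0 hφ,
    fun p => ⟨Functor.isoWhiskerRight (TFunIsoOfQuasiIso φ hφM (p : ℤ)) _ ≪≫
      cechNatIso A F U hU hcov p⟩⟩
  intro B _ _ i hi
  have := hφ B (algebraMap A B)
  have e : (CohIII.bcCx (algebraMap A B) L).homology i ≅
      (CohIII.bcCx (algebraMap A B) K).homology i :=
    asIso (HomologicalComplex.homologyMap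
      (((ModuleCat.extendScalars.{u, u, u} (algebraMap A B)).mapHomologicalComplex
        (ComplexShape.up ℤ)).map φ) i)
  refine IsZero.of_iso ?_ e
  have h1 : IsZero ((CohIII.bcCx (algebraMap A B) K).X i) :=
    Functor.map_isZero (ModuleCat.extendScalars.{u, u, u} (algebraMap A B)) (hneg i hi)
  exact ShortComplex.isZero_homology_of_isZero_X₂ _ h1

end combined

section splitunit

open Groth.Agent.Lib.Helper18.SplitAlg

variable {A : Type u} [CommRing A]

lemma gsplit_one_of_isUnit (S : ShortComplex (ModuleCat.{u} A)) (a : A) (ha : IsUnit a)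
    (hs : GSplit S a) : GSplit S 1 := by
  obtain ⟨t, ht⟩ := hs
  obtain ⟨b, hb⟩ := ha.exists_left_inv
  refine ⟨b • t, ?_⟩
  rw [Linear.smul_comp, Linear.comp_smul, ht, smul_smul, hb]

end splitunit

section main

open Groth.Agent.Lib.Helper18.SplitAlg Groth.Agent.Lib.Helper18.Strat
  Groth.Agent.Lib.helper2.TpLib Groth.Agent.Lib.helper11.NegCx Groth.Agent.Lib.Helper18.BCHom
  Groth.Agent.Lib.helper7.R1Free

variable (A : Type u) [CommRing A] [IsNoetherianRing A] [IsLocalRing A] (X : Scheme.{u})
  [X.Over (Spec (CommRingCat.of A))] [IsProper (X ↘ Spec (CommRingCat.of A))]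
  [Flat (X ↘ Spec (CommRingCat.of A))]

/-- **cohomological flatness in degree zero** over a Noetherian local base when the functions on the closed fibre
are étale over the residue field -/
theorem cohFlat_zero_of_etale (y : ↥(Spec (CommRingCat.of A)))
    (hy : y.asIdeal = IsLocalRing.maximalIdeal A)
    (het : Algebra.Etale ((Spec (CommRingCat.of A)).residueField y)
      Γ((X ↘ Spec (CommRingCat.of A)).fiber y, ⊤)) :
    (CohIII.tensorAFunctor A (Coh.structureModule X) ⋙ CohIII.HAb X 0).PreservesMonomorphisms ∧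
      (CohIII.tensorAFunctor A (Coh.structureModule X) ⋙ CohIII.HAb X 0).PreservesEpimorphisms := by
  set fX := X ↘ Spec (CommRingCat.of A) with hfX
  haveI : IsLocallyNoetherian (Spec (CommRingCat.of A)) := inferInstance
  haveI : LocallyOfFinitePresentation fX :=
    LocallyOfFinitePresentation.iff_locallyOfFiniteType.mpr inferInstance
  have hcoh := Groth.Agent.Lib.helper11.AmpleInv.isCoh_structureModule X
  have hfl := Groth.Agent.Lib.helper21.GCStein.isFlatOver_structureModule fX
  obtain ⟨L, hL, hnegB, hcomp, hΦ⟩ :=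
    exists_complex_module_computesNat A X (Coh.structureModule X) hcoh hfl
  obtain ⟨Φ⟩ := hΦ 0
  -- functions on `X` surject onto functions on the closed fibre
  have hcl : IsClosed ({y} : Set ↥(Spec (CommRingCat.of A))) := by
    refine (PrimeSpectrum.isClosed_singleton_iff_isMaximal y).mpr ?_
    rw [hy]
    infer_instance
  have hgen : ∀ s : ↥(Spec (CommRingCat.of A)), s ⤳ y := by
    intro s
    refine (PrimeSpectrum.le_iff_specializes s y).mp ?_
    show s.asIdeal ≤ y.asIdeal
    rw [hy]
    exact IsLocalRing.le_maximalIdeal s.isPrime.ne_top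
  have hsurj := appTop_fiberι_surjective fX y het hcl hgen
  -- the residue field as an `A`-algebra
  let ψ : CommRingCat.of A ⟶ (Spec (CommRingCat.of A)).residueField y :=
    Spec.preimage ((Spec (CommRingCat.of A)).fromSpecResidueField y)
  have hψ : Spec.map ψ = (Spec (CommRingCat.of A)).fromSpecResidueField y := Spec.map_preimage _
  letI : Algebra A ((Spec (CommRingCat.of A)).residueField y) := ψ.hom.toAlgebra
  have hpb : IsPullback (fX.fiberι y) (fX.fiberToSpecResidueField y) fX
      (Spec.map (CommRingCat.ofHom (algebraMap A ((Spec (CommRingCat.of A)).residueField y)))) := by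
    have h1 : IsPullback (fX.fiberι y) (fX.fiberToSpecResidueField y) fX (Spec.map ψ) := by
      rw [hψ]
      exact IsPullback.of_hasPullback _ _
    exact h1
  have hsι := surjective_ιH_zero fX L hcomp ((Spec (CommRingCat.of A)).residueField y)
    (fX.fiber y) (fX.fiberToSpecResidueField y) (fX.fiberι y) hpb hsurj
  have hspan : Submodule.span ((Spec (CommRingCat.of A)).residueField y)
      (Set.range (ιH (algebraMap A ((Spec (CommRingCat.of A)).residueField y)) L
        ((0 : ℕ) : ℤ))) = ⊤ := by
    rw [Set.range_eq_univ.mpr hsι, Submodule.span_univ]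
  haveI : Module.Finite A (L.sc ((0 : ℕ) : ℤ)).X₂ := (hL _).1
  haveI : Module.Free A (L.sc ((0 : ℕ) : ℤ)).X₂ := (hL _).2
  haveI : Module.Finite A (L.sc ((0 : ℕ) : ℤ)).X₃ := (hL _).1
  haveI : Module.Free A (L.sc ((0 : ℕ) : ℤ)).X₃ := (hL _).2
  obtain ⟨a, ha, hs⟩ := exists_gsplit_of_span_isField
    (Field.toIsField ((Spec (CommRingCat.of A)).residueField y))
    (algebraMap A ((Spec (CommRingCat.of A)).residueField y)) (L.sc ((0 : ℕ) : ℤ)) hspan
  -- `a` is a unit
  have haU : IsUnit a := by
    by_contra h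
    have hm : a ∈ y.asIdeal := by
      rw [hy]
      exact (IsLocalRing.mem_maximalIdeal a).mpr h
    apply ha
    let s₀ : ↥(Spec ((Spec (CommRingCat.of A)).residueField y)) := ⟨⊥, Ideal.isPrime_bot⟩
    have h1 : (Spec.map ψ) s₀ = y := by
      rw [hψ]
      exact Scheme.fromSpecResidueField_apply _ s₀
    have h2 : a ∈ ((Spec.map ψ) s₀).asIdeal := by rw [h1]; exact hm
    exact h2
  have hM : MSplit (L.d 0 1) 1 :=
    (gsplit_iff_dsplit L (show (ComplexShape.up ℤ).Rel 0 1 by simp) 1).mp
      (gsplit_one_of_isUnit _ a haU hs)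
  -- exactness of `T⁰`
  have hflL : ∀ i, Module.Flat A (L.X i) := fun i => by
    haveI := (hL i).2
    infer_instance
  have hflP : ∀ i, Module.Flat A ((neg L).X i) := fun i => hflL (-i)
  have hW0 : Module.Flat A (W (neg L) 0) := by
    haveI : Module.Projective A (L.X 0 ⧸ LinearMap.range (L.d (-1) 0).hom) :=
      projective_cokerNeg L hL hnegB
    have h1 : Module.Flat A (L.X 0 ⧸ LinearMap.range (L.d (-1) 0).hom) := inferInstance
    have h2 : Module.Flat A ((neg L).X 0 ⧸ LinearMap.range ((neg L).d 1 0).hom) := h1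
    exact Module.Flat.of_linearEquiv (WEquiv (neg L) 1 0 (by simp))
  have hW1 : Module.Flat A (W (neg L) (-1)) := by
    haveI := (hL 1).2
    haveI : Module.Projective A (L.X 1 ⧸ LinearMap.range (L.d 0 1).hom) :=
      projective_coker_of_msplit_one _ hM
    have h1 : Module.Flat A (L.X 1 ⧸ LinearMap.range (L.d 0 1).hom) := inferInstance
    have h2 : Module.Flat A ((neg L).X (-1) ⧸ LinearMap.range ((neg L).d 0 (-1)).hom) := h1
    exact Module.Flat.of_linearEquiv (WEquiv (neg L) 0 (-1) (by simp))
  have hm0 : (CohIII.TFun (neg L) 0).PreservesMonomorphisms :=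
    (preservesMono_iff_flat_W (neg L) hflP 0).mpr hW0
  have hm1 : (CohIII.TFun (neg L) (-1)).PreservesMonomorphisms :=
    (preservesMono_iff_flat_W (neg L) hflP (-1)).mpr hW1
  have he0 : (CohIII.TFun (neg L) 0).PreservesEpimorphisms :=
    (preservesMono_iff_preservesEpi (neg L) hflP 0 (-1) (by norm_num)).mp hm1
  have e : CohIII.TFun (neg L) 0 ≅ CohIII.TFun L ((0 : ℕ) : ℤ) := TFunIso' L 0
  constructor
  · exact (preservesMono_iff Φ).mpr ((Functor.PreservesMonomorphisms.iso_iff e).mp hm0)
  · exact (preservesEpi_iff Φ).mpr ((Functor.PreservesEpimorphisms.iso_iff e).mp he0)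

end main

end Groth.Agent.Lib.Helper18.EtH0
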