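import Mathlib
import Groth.Agent.Lib.Helper18.ThickeningUnram
import Groth.Agent.Lib.Helper18.FiberUnram

universe u

open AlgebraicGeometry CategoryTheory Limits

namespace Groth.Agent.Lib.Helper18.EtLift

open Groth.Agent.Lib.Helper18.RelSmoothFiber Groth.Agent.Lib.Helper18.FiberUnram

/-- Two morphisms into an unramified `S`-scheme agreeing on a surjective closed subscheme agree. -/
theorem hom_ext_of_surjective {X S S' S'₀ : Scheme.{u}} (p : X ⟶ S) [FormallyUnramified p]
    [LocallyOfFiniteType p] (i : S'₀ ⟶ S') [Surjective i] {f₁ f₂ : S' ⟶ X}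
    (hp : f₁ ≫ p = f₂ ≫ p) (hi : i ≫ f₁ = i ≫ f₂) : f₁ = f₂ := by
  let d := pullback.diagonal p
  let F : S' ⟶ pullback p p := pullback.lift f₁ f₂ hp
  let e := pullback.snd d F
  have hopen : IsOpenImmersion e := inferInstance
  let t : S'₀ ⟶ pullback d F := pullback.lift (i ≫ f₁) i (by
    apply pullback.hom_ext
    · simp only [Category.assoc, d, F, pullback.diagonal_fst, pullback.lift_fst, Category.comp_id]
    · simp only [Category.assoc, d, F, pullback.diagonal_snd, pullback.lift_snd, Category.comp_id]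
      exact hi)
  have ht : t ≫ e = i := pullback.lift_snd _ _ _
  have hsurj : Function.Surjective e := by
    intro y'
    obtain ⟨y, rfl⟩ := i.surjective y'
    exact ⟨t y, by rw [← Scheme.Hom.comp_apply, ht]⟩
  have : IsIso e := isIso_of_isOpenImmersion_of_surjective e hsurj
  have h1 : e ≫ f₁ = pullback.fst d F := by
    have : e ≫ F ≫ pullback.fst p p = pullback.fst d F ≫ d ≫ pullback.fst p p := by
      rw [← Category.assoc, ← pullback.condition, Category.assoc]
    simpa only [F, d, pullback.lift_fst, pullback.diagonal_fst, Category.comp_id] using this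
  have h2 : e ≫ f₂ = pullback.fst d F := by
    have : e ≫ F ≫ pullback.snd p p = pullback.fst d F ≫ d ≫ pullback.snd p p := by
      rw [← Category.assoc, ← pullback.condition, Category.assoc]
    simpa only [F, d, pullback.lift_snd, pullback.diagonal_snd, Category.comp_id] using this
  rw [← cancel_epi e, h1, h2]

end Groth.Agent.Lib.Helper18.EtLift

namespace Groth.Agent.Lib.Helper18.EtLift

open Groth.Agent.Lib.Helper18.RelSmoothFiber Groth.Agent.Lib.Helper18.FiberUnram

/-- A section of an étale morphism over a surjective closed subscheme of the base extends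
(topological invariance of the étale site, lifting part). -/
theorem exists_section_of_thickening {X' S' S'₀ : Scheme.{u}} (q : X' ⟶ S') [Etale q]
    (i : S'₀ ⟶ S') [IsClosedImmersion i] [Surjective i] (σ₀ : S'₀ ⟶ X') (hσ₀ : σ₀ ≫ q = i) :
    ∃ σ : S' ⟶ X', σ ≫ q = 𝟙 S' ∧ i ≫ σ = σ₀ := by
  let iX := pullback.fst q i
  let q₀ := pullback.snd q i
  have hsq : IsPullback iX q₀ q i := IsPullback.of_hasPullback q i
  have : IsClosedImmersion iX := MorphismProperty.of_isPullback hsq.flip inferInstance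
  have : Surjective iX := MorphismProperty.of_isPullback (P := @Surjective) hsq.flip inferInstance
  let τ₀ : S'₀ ⟶ pullback q i := pullback.lift σ₀ (𝟙 _) (by rw [hσ₀, Category.id_comp])
  have hτ₀ : τ₀ ≫ q₀ = 𝟙 _ := pullback.lift_snd _ _ _
  have hτ₀' : τ₀ ≫ iX = σ₀ := pullback.lift_fst _ _ _
  have : IsOpenImmersion τ₀ := isOpenImmersion_of_section q₀ τ₀ hτ₀
  -- the open of `X'` corresponding to the image of `τ₀`
  have hhomeo : IsHomeomorph iX :=
    isHomeomorph_iff_isEmbedding_surjective.mpr ⟨iX.isClosedEmbedding.isEmbedding, iX.surjective⟩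
  let U : X'.Opens := ⟨iX '' (τ₀.opensRange : Set _), hhomeo.isOpenMap _ τ₀.opensRange.2⟩
  have hUpre : iX ⁻¹ᵁ U.ι.opensRange = τ₀.opensRange := by
    rw [Scheme.Opens.opensRange_ι]
    ext x
    simp only [U, Scheme.Hom.coe_preimage, TopologicalSpace.Opens.coe_mk, Set.mem_preimage,
      SetLike.mem_coe]
    exact hhomeo.injective.mem_set_image
  have hrange : Set.range σ₀ ⊆ Set.range U.ι := by
    rw [Scheme.Opens.range_ι]
    rintro _ ⟨y, rfl⟩
    exact ⟨τ₀ y, ⟨y, rfl⟩, by rw [← Scheme.Hom.comp_apply, hτ₀']⟩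
  let g : S'₀ ⟶ U := IsOpenImmersion.lift U.ι σ₀ hrange
  have hg : g ≫ U.ι = σ₀ := IsOpenImmersion.lift_fac _ _ _
  have htop : IsPullback g τ₀ U.ι iX :=
    IsOpenImmersion.isPullback g τ₀ U.ι iX (by rw [hτ₀', hg]) hUpre
  have hc : IsPullback g (𝟙 _) (U.ι ≫ q) i := by
    have := htop.paste_vert hsq
    rwa [hτ₀] at this
  have : Mono (U.ι ≫ q) := mono_of_thickening i.surjective hc
  have : IsOpenImmersion (U.ι ≫ q) := IsOpenImmersion.of_flat_of_mono _
  have hsurj : Function.Surjective (U.ι ≫ q) := by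
    intro y'
    obtain ⟨y, rfl⟩ := i.surjective y'
    refine ⟨g y, ?_⟩
    rw [← Scheme.Hom.comp_apply, hc.w, Category.id_comp]
  have : IsIso (U.ι ≫ q) := isIso_of_isOpenImmersion_of_surjective _ hsurj
  refine ⟨inv (U.ι ≫ q) ≫ U.ι, by rw [Category.assoc, IsIso.inv_hom_id], ?_⟩
  have h1 : i ≫ inv (U.ι ≫ q) = g := by
    rw [IsIso.comp_inv_eq, hc.w, Category.id_comp]
  rw [← Category.assoc, h1, hg]

end Groth.Agent.Lib.Helper18.EtLift
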