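import Mathlib
import Groth.Agent.Lib.Helper13.Approx1

/-!
# The pole lemma for one-dimensional Noetherian local rings which need not be domains (helper18)

Generalisation of Stacks 09NM / `S1640` (helper13 `Approx1`) from domains to arbitrary one-dimensional Noetherian local
rings, used for Stacks 09NZ (`S1551`) without the reduction to the integral case.

Setting: `B` Noetherian local of dimension `≤ 1`, `f` in the maximal ideal with `V(f) = {𝔪}`, `Q = B[1/f]` (functions on
the punctured spectrum), `φ : A → Q` with `Q` generated by `B` and `φ(A)` (separatedness).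

* `exists_forall_one_lt`: simultaneous poles for finitely many `ℤᵐ⁰`-valued valuations on a ring (ring version of
  helper13's `exists_mem_forall_one_lt`).
* `exists_valuations_of_prime`: the valuations attached to a minimal prime `p` (those of the normalisation of `B/p`):
  each is `> 1` somewhere on `A`, and if all are `> 1` at `x` then for `M ≫ 0` there is `c ∈ 𝔪` with
  `φ(x)^M · c ≡ 1` modulo `pQ`.
* `exists_pow_mul_eq_one`: if `1 = P(q)` for a polynomial `P` with coefficients in `𝔪`, then `q^E · g = 1` in `Q` for some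
  `E > 0`, `g ∈ 𝔪` (integrality + conductor argument).
* `exists_valuations_local`: the pole lemma.
-/

set_option autoImplicit false
universe u
open scoped WithZero
open IsDedekindDomain Polynomial

namespace Groth.Agent.Lib.Helper18.Pole

open Groth.Agent.Lib.helper13.Approx

attribute [local instance] Groth.Agent.Lib.helper13.Approx.isFractionRing_integralClosure

/-- simultaneous poles for finitely many `ℤᵐ⁰`-valued valuations on a ring -/
theorem exists_forall_one_lt {A : Type*} [CommRing A] {ι : Type*} [Finite ι]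
    (w : ι → Valuation A ℤᵐ⁰) (h : ∀ j, ∃ a, 1 < w j a) : ∃ x, ∀ j, 1 < w j x := by
  classical
  haveI := Fintype.ofFinite ι
  suffices H : ∀ S : Finset ι, ∃ x, ∀ j ∈ S, 1 < w j x by
    obtain ⟨x, hx⟩ := H Finset.univ
    exact ⟨x, fun j => hx j (Finset.mem_univ j)⟩
  intro S
  induction S using Finset.induction_on with
  | empty => exact ⟨1, fun j hj => absurd hj (Finset.notMem_empty j)⟩
  | insert j₀ S hj₀ ih =>
    obtain ⟨x, hx⟩ := ih
    obtain ⟨a, ha⟩ := h j₀
    by_cases hx0 : 1 < w j₀ x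
    · refine ⟨x, fun j hj => ?_⟩
      rcases Finset.mem_insert.mp hj with rfl | hj
      · exact hx0
      · exact hx j hj
    · push Not at hx0
      have hN : ∀ j ∈ S, ∃ n : ℕ, w j a ≤ (w j x) ^ n := fun j hj =>
        MulArchimedean.arch (w j a) (hx j hj)
      choose! n hn using hN
      let N := S.sup n + 1
      have hlt : ∀ j ∈ S, w j a < (w j x) ^ N := by
        intro j hj
        calc w j a ≤ (w j x) ^ n j := hn j hj
          _ < (w j x) ^ N := by
            apply pow_lt_pow_right₀ (hx j hj)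
            exact Nat.lt_succ_of_le (Finset.le_sup hj)
      have hj₀' : 1 < w j₀ (x ^ N + a) := by
        have h1 : w j₀ (x ^ N) < w j₀ a := by
          rw [map_pow]
          exact lt_of_le_of_lt (pow_le_one₀ zero_le hx0) ha
        rw [Valuation.map_add_eq_of_lt_right _ h1]
        exact ha
      refine ⟨x ^ N + a, fun j hj => ?_⟩
      rcases Finset.mem_insert.mp hj with rfl | hj
      · exact hj₀'
      · have h1 : w j a < w j (x ^ N) := by
          rw [map_pow]; exact hlt j hj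
        rw [Valuation.map_add_eq_of_lt_left _ h1, map_pow]
        exact one_lt_pow₀ (hx j hj) (Nat.succ_ne_zero _)

section PerPrime

variable {A B Q : Type u} [CommRing A] [CommRing B] [IsLocalRing B] [IsNoetherianRing B]
  [CommRing Q] [Algebra B Q]

/-- the valuations attached to one non-maximal prime of a one-dimensional Noetherian local ring -/
theorem exists_valuations_of_prime (hdim : Ring.KrullDimLE 1 B) (f : B) [IsLocalization.Away f Q]
    (hf : f ∈ IsLocalRing.maximalIdeal B) (φ : A →+* Q) (hgen : Algebra.adjoin B (Set.range φ) = ⊤)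
    (p : Ideal B) [hp : p.IsPrime] (hfp : f ∉ p) :
    ∃ (ι : Type u) (_ : Finite ι) (w : ι → Valuation A ℤᵐ⁰), (∀ j, ∃ a, 1 < w j a) ∧
      ∀ x, (∀ j, 1 < w j x) → ∃ M : ℕ, ∀ M' ≥ M, ∃ c ∈ IsLocalRing.maximalIdeal B,
        φ x ^ M' * algebraMap B Q c - 1 ∈ Ideal.map (algebraMap B Q) p := by
  classical
  have hsurj : Function.Surjective (Ideal.Quotient.mk p) := Ideal.Quotient.mk_surjective
  haveI : Ring.KrullDimLE 1 (B ⧸ p) :=
    Ring.krullDimLE_iff.mpr ((ringKrullDim_quotient_le p).trans (Ring.krullDimLE_iff.mp hdim))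
  have hdimC : ∀ q : Ideal (B ⧸ p), q.IsPrime → q ≠ ⊥ → q.IsMaximal :=
    fun q hq h0 => hq.isMaximal_of_ne_bot h0
  have hfC : Ideal.Quotient.mk p f ≠ 0 := by rwa [Ne, Ideal.Quotient.eq_zero_iff_mem]
  have hpm : p ≤ IsLocalRing.maximalIdeal B := IsLocalRing.le_maximalIdeal hp.ne_top
  have hfieldC : ¬ IsField (B ⧸ p) := by
    intro hF
    obtain ⟨b', hb'⟩ := hF.mul_inv_cancel hfC
    obtain ⟨b, rfl⟩ := hsurj b'
    rw [← map_mul, ← map_one (Ideal.Quotient.mk p), Ideal.Quotient.eq] at hb'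
    have h1 : f * b - 1 ∈ IsLocalRing.maximalIdeal B := hpm hb'
    have h2 : f * b ∈ IsLocalRing.maximalIdeal B := Ideal.mul_mem_right _ _ hf
    have h3 : (1 : B) ∈ IsLocalRing.maximalIdeal B := by
      have := Ideal.sub_mem _ h2 h1
      rwa [sub_sub_cancel] at this
    exact (Ideal.ne_top_iff_one _).mp (IsLocalRing.maximalIdeal.isMaximal B).ne_top h3
  have ht : ∀ n : Ideal (B ⧸ p), n.IsMaximal → Ideal.Quotient.mk p f ∈ n := by
    intro n hn
    haveI := hn
    have h1 : (n.comap (Ideal.Quotient.mk p)).IsMaximal := Ideal.comap_isMaximal_of_surjective _ hsurj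
    have h2 := IsLocalRing.eq_maximalIdeal h1
    have h3 : f ∈ n.comap (Ideal.Quotient.mk p) := h2 ▸ hf
    exact h3
  haveI : IsDedekindDomain (integralClosure (B ⧸ p) (FractionRing (B ⧸ p))) :=
    isDedekindDomain_integralClosure hdimC
  haveI : Finite (HeightOneSpectrum (integralClosure (B ⧸ p) (FractionRing (B ⧸ p)))) :=
    finite_heightOneSpectrum_integralClosure hdimC _ hfC ht
  have hinj : Function.Injective (algebraMap (B ⧸ p) (FractionRing (B ⧸ p))) :=
    IsFractionRing.injective _ _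
  have hunit : IsUnit (((algebraMap (B ⧸ p) (FractionRing (B ⧸ p))).comp (Ideal.Quotient.mk p)) f) := by
    apply IsUnit.mk0
    intro h0
    exact hfC (hinj (h0.trans (map_zero _).symm))
  let ψ : Q →+* FractionRing (B ⧸ p) := IsLocalization.Away.lift f hunit
  have hψ : ∀ b : B, ψ (algebraMap B Q b) =
      algebraMap (B ⧸ p) (FractionRing (B ⧸ p)) (Ideal.Quotient.mk p b) :=
    fun b => IsLocalization.Away.lift_eq f hunit b
  -- kernel of ψ
  have hker : ∀ z : Q, ψ z = 0 → z ∈ Ideal.map (algebraMap B Q) p := by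
    intro z hz
    obtain ⟨n, b, hb⟩ := IsLocalization.Away.surj f z
    have h1 : ψ (algebraMap B Q b) = 0 := by rw [← hb, map_mul, hz, zero_mul]
    rw [hψ] at h1
    have h2 : b ∈ p := Ideal.Quotient.eq_zero_iff_mem.mp (hinj (h1.trans (map_zero _).symm))
    have h3 : z = algebraMap B Q b * IsLocalization.Away.invSelf f ^ n := by
      rw [← hb, mul_assoc, ← mul_pow, IsLocalization.Away.mul_invSelf, one_pow, mul_one]
    rw [h3]
    exact Ideal.mul_mem_right _ _ (Ideal.mem_map_of_mem _ h2)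
  -- generation
  have hS : ∀ z : Q, ψ z ∈ (ψ.comp φ).range ⊔ (algebraMap (B ⧸ p) (FractionRing (B ⧸ p))).range := by
    intro z
    have hz : z ∈ Algebra.adjoin B (Set.range φ) := hgen ▸ Algebra.mem_top
    induction hz using Algebra.adjoin_induction with
    | mem z hz =>
      obtain ⟨a, rfl⟩ := hz
      exact (le_sup_left : (ψ.comp φ).range ≤ _) ⟨a, rfl⟩
    | algebraMap b =>
      rw [hψ]
      exact (le_sup_right : (algebraMap (B ⧸ p) (FractionRing (B ⧸ p))).range ≤ _) ⟨_, rfl⟩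
    | add z z' _ _ h h' => rw [map_add]; exact Subring.add_mem _ h h'
    | mul z z' _ _ h h' => rw [map_mul]; exact Subring.mul_mem _ h h'
  have hAC : (ψ.comp φ).range ⊔ (algebraMap (B ⧸ p) (FractionRing (B ⧸ p))).range = ⊤ := by
    rw [eq_top_iff]
    intro k _
    obtain ⟨c₁, c₂, hc₂, rfl⟩ := IsFractionRing.div_surjective (B ⧸ p) k
    have hc₂0 : c₂ ≠ 0 := nonZeroDivisors.ne_zero hc₂
    -- a power of `f` is a multiple of `c₂`
    have hrad : Ideal.Quotient.mk p f ∈ (Ideal.span {c₂}).radical := by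
      rw [Ideal.radical_eq_sInf, Ideal.mem_sInf]
      rintro q ⟨hcq, hq⟩
      have hq0 : q ≠ ⊥ := by
        intro h0
        have : c₂ ∈ q := hcq (Ideal.subset_span rfl)
        rw [h0, Ideal.mem_bot] at this
        exact hc₂0 this
      exact ht q (hdimC q hq hq0)
    obtain ⟨n, hn⟩ := hrad
    obtain ⟨d, hd⟩ := Ideal.mem_span_singleton'.mp hn
    have hinv : ψ (IsLocalization.Away.invSelf f) *
        algebraMap (B ⧸ p) (FractionRing (B ⧸ p)) (Ideal.Quotient.mk p f) = 1 := by
      rw [← hψ, ← map_mul, mul_comm, IsLocalization.Away.mul_invSelf, map_one]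
    have hc₂' : algebraMap (B ⧸ p) (FractionRing (B ⧸ p)) c₂ ≠ 0 := by
      intro h0
      exact hc₂0 (hinj (h0.trans (map_zero _).symm))
    have hkey : algebraMap (B ⧸ p) (FractionRing (B ⧸ p)) c₁ /
        algebraMap (B ⧸ p) (FractionRing (B ⧸ p)) c₂ =
        algebraMap (B ⧸ p) (FractionRing (B ⧸ p)) (c₁ * d) * ψ (IsLocalization.Away.invSelf f) ^ n := by
      rw [div_eq_iff hc₂']
      have h1 : algebraMap (B ⧸ p) (FractionRing (B ⧸ p)) (d * c₂) =
          algebraMap (B ⧸ p) (FractionRing (B ⧸ p)) (Ideal.Quotient.mk p f) ^ n := by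
        rw [hd, map_pow]
      rw [map_mul] at h1
      calc algebraMap (B ⧸ p) (FractionRing (B ⧸ p)) c₁
          = algebraMap (B ⧸ p) (FractionRing (B ⧸ p)) c₁ *
            (ψ (IsLocalization.Away.invSelf f) *
              algebraMap (B ⧸ p) (FractionRing (B ⧸ p)) (Ideal.Quotient.mk p f)) ^ n := by
            rw [hinv, one_pow, mul_one]
        _ = _ := by
            rw [mul_pow, ← h1, map_mul]
            ring
    rw [hkey]
    exact Subring.mul_mem _ ((le_sup_right : (algebraMap (B ⧸ p) (FractionRing (B ⧸ p))).range ≤ _) ⟨_, rfl⟩)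
      (Subring.pow_mem _ (hS _) n)
  refine ⟨HeightOneSpectrum (integralClosure (B ⧸ p) (FractionRing (B ⧸ p))), inferInstance,
    fun v => (v.valuation (FractionRing (B ⧸ p))).comap (ψ.comp φ), ?_, ?_⟩
  · intro v
    obtain ⟨a', ⟨a, rfl⟩, ha⟩ := exists_mem_one_lt_valuation (C := B ⧸ p) (K := FractionRing (B ⧸ p))
      (ψ.comp φ).range hAC v
    exact ⟨a, ha⟩
  · intro x hx
    have hx' : ∀ v : HeightOneSpectrum (integralClosure (B ⧸ p) (FractionRing (B ⧸ p))),
        1 < v.valuation (FractionRing (B ⧸ p)) (ψ (φ x)) := hx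
    have hy : ∀ v : HeightOneSpectrum (integralClosure (B ⧸ p) (FractionRing (B ⧸ p))),
        v.valuation (FractionRing (B ⧸ p)) (ψ (φ x))⁻¹ < 1 := by
      intro v
      rw [map_inv₀]
      exact inv_lt_one_of_one_lt₀ (hx' v)
    obtain ⟨M, hM⟩ := exists_pow_of_valuation_lt hdimC hfieldC (ψ (φ x))⁻¹ hy
    refine ⟨M, fun M' hM' => ?_⟩
    obtain ⟨c', hc', hcJ⟩ := hM M' hM'
    obtain ⟨c, rfl⟩ := hsurj c'
    have hx0 : ψ (φ x) ≠ 0 := by
      intro h0
      have hfield' : ¬ IsField (integralClosure (B ⧸ p) (FractionRing (B ⧸ p))) := by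
        intro h
        refine hfieldC (isField_of_isIntegral_of_isField (R := B ⧸ p)
          (S := integralClosure (B ⧸ p) (FractionRing (B ⧸ p))) ?_ h)
        intro a b hab
        exact hinj (congrArg Subtype.val hab)
      obtain ⟨Q', hQ'⟩ := Ideal.exists_maximal (integralClosure (B ⧸ p) (FractionRing (B ⧸ p)))
      have hQ0 : Q' ≠ ⊥ := (Ideal.bot_lt_of_maximal Q' hfield').ne'
      have := hx' ⟨Q', hQ'.isPrime, hQ0⟩
      rw [h0, map_zero] at this
      exact not_lt.mpr zero_le_one this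
    have hcm : c ∈ IsLocalRing.maximalIdeal B := by
      by_contra hc
      have hu : IsUnit c := by
        by_contra hnu
        exact hc ((IsLocalRing.mem_maximalIdeal c).mpr hnu)
      have hu' : IsUnit (Ideal.Quotient.mk p c) := hu.map _
      have h1 : (1 : B ⧸ p) ∈ (⊥ : Ideal (B ⧸ p)).jacobson := by
        obtain ⟨v, hv⟩ := hu'
        have := Ideal.mul_mem_left _ (↑v⁻¹ : B ⧸ p) hcJ
        rwa [← hv, Units.inv_mul] at this
      have h2 : (⊥ : Ideal (B ⧸ p)).jacobson = ⊤ := (Ideal.eq_top_iff_one _).2 h1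
      rw [Ideal.jacobson_eq_top_iff] at h2
      exact bot_ne_top h2
    refine ⟨c, hcm, hker _ ?_⟩
    rw [map_sub, map_mul, map_pow, map_one, hψ, hc', inv_pow, mul_inv_cancel₀ (pow_ne_zero _ hx0), sub_self]

end PerPrime

section Local

variable {B Q : Type u} [CommRing B] [IsLocalRing B] [IsNoetherianRing B] [CommRing Q] [Algebra B Q]

/-- if `1` is a combination of powers of `q` with coefficients in the maximal ideal, then some power of `q⁻¹`
comes from the maximal ideal -/
theorem exists_pow_mul_eq_one (f : B) [IsLocalization.Away f Q]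
    (hfV : ∀ p : Ideal B, p.IsPrime → f ∈ p → p = IsLocalRing.maximalIdeal B)
    (q : Q) (P : B[X]) (hP : P ∈ Ideal.map (C : B →+* B[X]) (IsLocalRing.maximalIdeal B))
    (h1 : aeval q P = 1) :
    ∃ E : ℕ, 0 < E ∧ ∃ g ∈ IsLocalRing.maximalIdeal B, q ^ E * algebraMap B Q g = 1 := by
  classical
  have hcoeff : ∀ k, P.coeff k ∈ IsLocalRing.maximalIdeal B := Ideal.mem_map_C_iff.mp hP
  -- step a: `q` is a unit
  obtain ⟨u, hu'⟩ : IsUnit (1 - P.coeff 0) :=
    IsLocalRing.isUnit_one_sub_self_of_mem_nonunits _ ((IsLocalRing.mem_maximalIdeal _).mp (hcoeff 0))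
  have hP₁c : ∀ k, P.divX.coeff k ∈ IsLocalRing.maximalIdeal B := fun k => by
    rw [coeff_divX]; exact hcoeff _
  have hsplit : aeval q P = aeval q P.divX * q + algebraMap B Q (P.coeff 0) := by
    conv_lhs => rw [← divX_mul_X_add P]
    rw [map_add, map_mul, aeval_X, aeval_C]
  set t : Q := aeval q P.divX * algebraMap B Q (↑u⁻¹ : B) with ht
  have h2 : aeval q P.divX * q = algebraMap B Q (u : B) := by
    rw [hu', map_sub, map_one, ← h1, hsplit]; ring
  have hqt : q * t = 1 := by
    rw [ht, ← mul_assoc, mul_comm q, h2, ← map_mul, Units.mul_inv, map_one]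
  have hqtk : ∀ k : ℕ, q ^ k * t ^ k = 1 := fun k => by rw [← mul_pow, hqt, one_pow]
  -- step b: the monic relation for `t`
  set d := P.divX.natDegree with hd
  have h5 : t = ∑ k ∈ Finset.range (d + 1), algebraMap B Q (↑u⁻¹ * P.divX.coeff k) * q ^ k := by
    rw [ht, aeval_eq_sum_range, Finset.sum_mul]
    refine Finset.sum_congr rfl fun k _ => ?_
    rw [Algebra.smul_def, map_mul]; ring
  have hrelQ : t ^ (d + 1) = ∑ k ∈ Finset.range (d + 1),
      algebraMap B Q (↑u⁻¹ * P.divX.coeff k) * t ^ (d - k) := by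
    calc t ^ (d + 1) = t * t ^ d := pow_succ' _ _
      _ = (∑ k ∈ Finset.range (d + 1), algebraMap B Q (↑u⁻¹ * P.divX.coeff k) * q ^ k) * t ^ d :=
          congrArg (· * t ^ d) h5
      _ = _ := by
          rw [Finset.sum_mul]
          refine Finset.sum_congr rfl fun k hk => ?_
          have hk' : k ≤ d := Nat.lt_succ_iff.mp (Finset.mem_range.mp hk)
          have h3 : t ^ d = t ^ k * t ^ (d - k) := by rw [← pow_add, Nat.add_sub_cancel' hk']
          rw [h3, mul_assoc, ← mul_assoc (q ^ k), hqtk, one_mul]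
  -- `t` is integral
  have hint : IsIntegral B t := by
    refine ⟨X ^ (d + 1) - ∑ k ∈ Finset.range (d + 1), C (↑u⁻¹ * P.divX.coeff k) * X ^ (d - k), ?_, ?_⟩
    · apply monic_X_pow_sub
      refine lt_of_le_of_lt (degree_sum_le _ _) ?_
      rw [Finset.sup_lt_iff (by exact WithBot.bot_lt_coe _)]
      intro k hk
      refine lt_of_le_of_lt (degree_C_mul_X_pow_le _ _) ?_
      exact_mod_cast Nat.lt_succ_of_le (Nat.sub_le d k)
    · rw [eval₂_sub, eval₂_pow, eval₂_X, eval₂_finsetSum, hrelQ, sub_eq_zero]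
      refine Finset.sum_congr rfl fun k _ => ?_
      rw [eval₂_mul, eval₂_C, eval₂_pow, eval₂_X]
  set T' := Algebra.adjoin B {t} with hT'
  have hfg : T'.toSubmodule.FG := hint.fg_adjoin_singleton
  let tT : T' := ⟨t, Algebra.self_mem_adjoin_singleton B t⟩
  have hrelT : tT ^ (d + 1) ∈ Ideal.map (algebraMap B T') (IsLocalRing.maximalIdeal B) := by
    have : tT ^ (d + 1) = ∑ k ∈ Finset.range (d + 1),
        algebraMap B T' (↑u⁻¹ * P.divX.coeff k) * tT ^ (d - k) := by
      apply Subtype.ext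
      push_cast
      rw [hrelQ]
      simp only [map_mul]
      rfl
    rw [this]
    exact Ideal.sum_mem _ fun k _ => Ideal.mul_mem_right _ _
      (Ideal.mem_map_of_mem _ (Ideal.mul_mem_left _ _ (hP₁c k)))
  -- step c: a common denominator
  obtain ⟨K, hK⟩ : ∃ K : ℕ, ∀ τ ∈ T', ∃ β : B, algebraMap B Q β = f ^ K • τ := by
    obtain ⟨G, hG⟩ := hfg
    have hG' : ∀ τ ∈ G, ∃ (n : ℕ) (b : B), τ * algebraMap B Q f ^ n = algebraMap B Q b :=
      fun τ _ => IsLocalization.Away.surj f τ
    choose! n b hnb using hG'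
    refine ⟨G.sup n, ?_⟩
    let Nsub : Submodule B Q := Submodule.comap ((f ^ G.sup n) • (LinearMap.id : Q →ₗ[B] Q))
      (LinearMap.range (Algebra.linearMap B Q))
    have hGN : (G : Set Q) ⊆ Nsub := by
      intro τ hτ
      refine ⟨b τ * f ^ (G.sup n - n τ), ?_⟩
      have hle : n τ ≤ G.sup n := Finset.le_sup hτ
      change algebraMap B Q (b τ * f ^ (G.sup n - n τ)) = f ^ G.sup n • τ
      rw [map_mul, ← hnb τ hτ, Algebra.smul_def, map_pow, map_pow, mul_assoc, ← pow_add,
        Nat.add_sub_cancel' hle, mul_comm]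
    intro τ hτ
    have hτ' : τ ∈ Submodule.span B (G : Set Q) := by rw [hG]; exact hτ
    obtain ⟨β, hβ⟩ := (Submodule.span_le.mpr hGN) hτ'
    exact ⟨β, hβ⟩
  -- step d: a power of the maximal ideal lies in `(f)`
  obtain ⟨k₀, hk₀⟩ : ∃ k₀ : ℕ, IsLocalRing.maximalIdeal B ^ k₀ ≤ Ideal.span {f} := by
    apply Ideal.exists_pow_le_of_le_radical_of_fg _ (IsNoetherian.noetherian _)
    rw [Ideal.radical_eq_sInf]
    refine le_sInf ?_
    rintro p ⟨hfp, hp⟩
    rw [hfV p hp (hfp (Ideal.subset_span rfl))]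
  have hk₀K : IsLocalRing.maximalIdeal B ^ (k₀ * K) ≤ Ideal.span {f ^ K} := by
    rw [pow_mul, ← Ideal.span_singleton_pow]
    exact Ideal.pow_right_mono hk₀ K
  -- conclusion
  set E := (d + 1) + (d + 1) * (k₀ * K) with hE
  have hmem : tT ^ E ∈ Ideal.map (algebraMap B T') (IsLocalRing.maximalIdeal B * Ideal.span {f ^ K}) := by
    rw [hE, pow_add, Ideal.map_mul]
    refine Ideal.mul_mem_mul hrelT ?_
    rw [pow_mul]
    have h4 := Ideal.pow_mem_pow hrelT (k₀ * K)
    rw [← Ideal.map_pow] at h4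
    exact Ideal.map_mono hk₀K h4
  have hfin1 : ∀ j ∈ IsLocalRing.maximalIdeal B * Ideal.span {f ^ K}, ∀ σ : T',
      ∃ g ∈ IsLocalRing.maximalIdeal B, algebraMap B Q g = j • (σ : Q) := by
    intro j hj
    refine Submodule.mul_induction_on hj ?_ ?_
    · intro μ hμ j' hj' σ
      obtain ⟨b', rfl⟩ := Ideal.mem_span_singleton'.mp hj'
      obtain ⟨β, hβ⟩ := hK (σ : Q) σ.2
      refine ⟨μ * b' * β, Ideal.mul_mem_right _ _ (Ideal.mul_mem_right _ _ hμ), ?_⟩
      rw [map_mul, hβ, Algebra.smul_def, Algebra.smul_def, map_mul, map_mul, map_mul]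
      ring
    · intro x y hx hy σ
      obtain ⟨g₁, hg₁, e₁⟩ := hx σ
      obtain ⟨g₂, hg₂, e₂⟩ := hy σ
      exact ⟨g₁ + g₂, Ideal.add_mem _ hg₁ hg₂, by rw [map_add, e₁, e₂, add_smul]⟩
  have hfinal : ∀ τ : T', τ ∈ Ideal.map (algebraMap B T')
      (IsLocalRing.maximalIdeal B * Ideal.span {f ^ K}) →
      ∃ g ∈ IsLocalRing.maximalIdeal B, algebraMap B Q g = (τ : Q) := by
    intro τ hτ
    have hτ' : τ ∈ (IsLocalRing.maximalIdeal B * Ideal.span {f ^ K}) • (⊤ : Submodule B T') := by
      rw [Ideal.smul_top_eq_map]; exact hτ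
    refine Submodule.smul_induction_on (p := fun τ : T' => ∃ g ∈ IsLocalRing.maximalIdeal B,
      algebraMap B Q g = (τ : Q)) hτ' ?_ ?_
    · intro j hj σ _
      exact hfin1 j hj σ
    · intro x y hx hy
      obtain ⟨g₁, hg₁, e₁⟩ := hx
      obtain ⟨g₂, hg₂, e₂⟩ := hy
      exact ⟨g₁ + g₂, Ideal.add_mem _ hg₁ hg₂, by rw [map_add, e₁, e₂]; rfl⟩
  obtain ⟨g, hg, hge⟩ := hfinal _ hmem
  refine ⟨E, by rw [hE]; positivity, g, hg, ?_⟩
  rw [hge]
  change q ^ E * (t ^ E) = 1
  exact hqtk E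

end Local

section Assemble

variable {A B Q : Type u} [CommRing A] [CommRing B] [IsLocalRing B] [IsNoetherianRing B]
  [CommRing Q] [Algebra B Q]

/-- **the pole lemma for a one-dimensional Noetherian local ring `B`** with punctured ring `Q = B[1/f]`:
if `Q` is generated by `B` and the image of `A`, there are finitely many valuations on `A`, each of which is `> 1`
somewhere, such that every `x` on which all of them are `> 1` has a power whose image in `Q` is the inverse of an
element of the maximal ideal of `B`. -/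
theorem exists_valuations_local (hdim : Ring.KrullDimLE 1 B) (f : B) [IsLocalization.Away f Q]
    (hf : f ∈ IsLocalRing.maximalIdeal B)
    (hfV : ∀ p : Ideal B, p.IsPrime → f ∈ p → p = IsLocalRing.maximalIdeal B)
    (φ : A →+* Q) (hgen : Algebra.adjoin B (Set.range φ) = ⊤) :
    ∃ (ι : Type u) (_ : Finite ι) (w : ι → Valuation A ℤᵐ⁰), (∀ j, ∃ a, 1 < w j a) ∧
      ∀ x, (∀ j, 1 < w j x) → ∃ E : ℕ, 0 < E ∧ ∃ g ∈ IsLocalRing.maximalIdeal B,
        φ x ^ E * algebraMap B Q g = 1 := by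
  classical
  let Pset : Set (Ideal B) := {p | p.IsPrime ∧ f ∉ p}
  have hPfin : Pset.Finite := by
    refine (minimalPrimes.finite_of_isNoetherianRing B).subset ?_
    rintro p ⟨hp, hfp⟩
    rcases Ring.krullDimLE_one_iff.mp hdim p hp with h | h
    · exact h
    · exact absurd (IsLocalRing.eq_maximalIdeal h ▸ hf) hfp
  haveI : Finite Pset := hPfin.to_subtype
  haveI : Fintype Pset := Fintype.ofFinite _
  have hPP : ∀ p : Pset, ∃ (ι : Type u) (_ : Finite ι) (w : ι → Valuation A ℤᵐ⁰),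
      (∀ j, ∃ a, 1 < w j a) ∧
      ∀ x, (∀ j, 1 < w j x) → ∃ M : ℕ, ∀ M' ≥ M, ∃ c ∈ IsLocalRing.maximalIdeal B,
        φ x ^ M' * algebraMap B Q c - 1 ∈ Ideal.map (algebraMap B Q) p.1 := by
    intro p
    haveI := p.2.1
    exact exists_valuations_of_prime hdim f hf φ hgen p.1 p.2.2
  choose ι hιfin w hw1 hw2 using hPP
  haveI : ∀ p, Finite (ι p) := hιfin
  refine ⟨Σ p : Pset, ι p, inferInstance, fun j => w j.1 j.2, fun j => hw1 j.1 j.2, ?_⟩
  intro x hx
  have hM : ∀ p : Pset, ∃ M : ℕ, ∀ M' ≥ M, ∃ c ∈ IsLocalRing.maximalIdeal B,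
      φ x ^ M' * algebraMap B Q c - 1 ∈ Ideal.map (algebraMap B Q) p.1 :=
    fun p => hw2 p x (fun j => hx ⟨p, j⟩)
  choose M hM using hM
  set M₀ := Finset.univ.sup M + 1 with hM₀
  have hc : ∀ p : Pset, ∃ c ∈ IsLocalRing.maximalIdeal B,
      φ x ^ M₀ * algebraMap B Q c - 1 ∈ Ideal.map (algebraMap B Q) p.1 :=
    fun p => hM p M₀ ((Finset.le_sup (Finset.mem_univ p)).trans (Nat.le_succ _))
  choose c hcm hc using hc
  set q := φ x ^ M₀ with hq
  -- the product is nilpotent
  have hnil : IsNilpotent (∏ p : Pset, (q * algebraMap B Q (c p) - 1)) := by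
    rw [nilpotent_iff_mem_prime]
    intro 𝔮 h𝔮
    have hfq : f ∉ 𝔮.comap (algebraMap B Q) := by
      intro hfq
      have hu : IsUnit (algebraMap B Q f) := IsLocalization.Away.algebraMap_isUnit f
      exact h𝔮.ne_top (Ideal.eq_top_of_isUnit_mem _ hfq hu)
    let p₀ : Pset := ⟨𝔮.comap (algebraMap B Q), Ideal.comap_isPrime _ _, hfq⟩
    have h1 : q * algebraMap B Q (c p₀) - 1 ∈ 𝔮 := Ideal.map_comap_le (hc p₀)
    rw [← Finset.mul_prod_erase Finset.univ _ (Finset.mem_univ p₀)]
    exact Ideal.mul_mem_right _ _ h1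
  obtain ⟨e, he⟩ := hnil
  -- the polynomial
  set Z : B[X] := ∏ p : Pset, (C (c p) * X - 1) with hZ
  have hZq : aeval q Z = ∏ p : Pset, (q * algebraMap B Q (c p) - 1) := by
    rw [hZ, map_prod]
    refine Finset.prod_congr rfl fun p _ => ?_
    rw [map_sub, map_mul, aeval_C, aeval_X, map_one, mul_comm]
  obtain ⟨σ, hσ⟩ : ∃ σ : B, σ = ((-1) ^ Fintype.card Pset) ^ e := ⟨_, rfl⟩
  have hσσ : σ * σ = 1 := by
    rw [hσ, ← pow_mul, ← pow_add, ← two_mul, pow_mul, neg_one_sq, one_pow]
  have hZm : Z ^ e - C σ ∈ Ideal.map (C : B →+* B[X]) (IsLocalRing.maximalIdeal B) := by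
    rw [← Ideal.Quotient.eq, map_pow, hZ, map_prod]
    have h1 : ∀ p : Pset, Ideal.Quotient.mk (Ideal.map (C : B →+* B[X]) (IsLocalRing.maximalIdeal B))
        (C (c p) * X - 1) = -1 := by
      intro p
      rw [map_sub, map_mul, map_one,
        Ideal.Quotient.eq_zero_iff_mem.mpr (Ideal.mem_map_of_mem _ (hcm p)), zero_mul, zero_sub]
    rw [Finset.prod_congr rfl (fun p _ => h1 p), Finset.prod_const, Finset.card_univ, hσ]
    simp only [map_pow, map_neg, map_one]
  have hPm : -(C σ) * (Z ^ e - C σ) ∈ Ideal.map (C : B →+* B[X]) (IsLocalRing.maximalIdeal B) :=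
    Ideal.mul_mem_left _ _ hZm
  have hP1 : aeval q (-(C σ) * (Z ^ e - C σ)) = 1 := by
    rw [map_mul, map_neg, map_sub, map_pow, hZq, he, aeval_C, zero_sub, neg_mul_neg, ← map_mul, hσσ,
      map_one]
  obtain ⟨E, hE, g, hg, hgE⟩ := exists_pow_mul_eq_one f hfV q _ hPm hP1
  refine ⟨M₀ * E, Nat.mul_pos (Nat.succ_pos _) hE, g, hg, ?_⟩
  rw [pow_mul]
  exact hgE

end Assemble

end Groth.Agent.Lib.Helper18.Pole
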