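import Mathlib
import Groth.Agent.Lib.Helper18.Pole1

/-!
# The pole lemma at a maximal ideal of a Noetherian ring of dimension `≤ 1` (helper18)

Global form of `Pole1.exists_valuations_local`: `B` Noetherian of dimension `≤ 1`, `m` a maximal ideal, `f ∈ m` with
`V(f) = {m}`, `C = B[1/f]`, `φ : A → C` with `C` generated by `B` and `φ(A)`.

* `exists_valuations_pole`: finitely many valuations on `A`, each `> 1` somewhere, such that whenever all are `> 1` at `x`
  there are `E > 0`, `g ∈ m`, `h ∉ m` with `φ(x)^E · g = h` in `C` (so `φ(x)^E = h/g` has an honest pole at `m`).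
-/

set_option autoImplicit false
universe u
open scoped WithZero

namespace Groth.Agent.Lib.Helper18.Pole

variable {A B C : Type u} [CommRing A] [CommRing B] [IsNoetherianRing B] [CommRing C] [Algebra B C]

/-- auxiliary form with an explicit localisation `Bm` of `B` at `m` and an explicit `Q = Bm[1/f]` -/
theorem exists_valuations_pole_aux (hdim : Ring.KrullDimLE 1 B) (m : Ideal B) [hm : m.IsPrime] (f : B)
    (hf : f ∈ m) (hfV : ∀ p : Ideal B, p.IsPrime → f ∈ p → p = m) [IsLocalization.Away f C]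
    (φ : A →+* C) (hgen : Algebra.adjoin B (Set.range φ) = ⊤)
    (Bm : Type u) [CommRing Bm] [Algebra B Bm] [IsLocalization.AtPrime Bm m]
    (Q : Type u) [CommRing Q] [Algebra Bm Q] [IsLocalization.Away (algebraMap B Bm f) Q] :
    ∃ (ι : Type u) (_ : Finite ι) (w : ι → Valuation A ℤᵐ⁰), (∀ j, ∃ a, 1 < w j a) ∧
      ∀ x, (∀ j, 1 < w j x) → ∃ E : ℕ, 0 < E ∧ ∃ g ∈ m, ∃ h, h ∉ m ∧
        φ x ^ E * algebraMap B C g = algebraMap B C h := by
  classical
  haveI : IsLocalRing Bm := IsLocalization.AtPrime.isLocalRing Bm m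
  haveI : IsNoetherianRing Bm := IsLocalization.isNoetherianRing m.primeCompl _ inferInstance
  have hdim' : Ring.KrullDimLE 1 Bm := by
    rw [Ring.krullDimLE_iff, IsLocalization.AtPrime.ringKrullDim_eq_height m]
    exact Ideal.height_le_ringKrullDim_of_isPrime.trans (Ring.krullDimLE_iff.mp hdim)
  have hf' : algebraMap B Bm f ∈ IsLocalRing.maximalIdeal Bm :=
    (IsLocalization.AtPrime.to_map_mem_maximal_iff _ m f).mpr hf
  have hfV' : ∀ p : Ideal Bm, p.IsPrime → algebraMap B Bm f ∈ p → p = IsLocalRing.maximalIdeal Bm := by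
    intro p hp hfp
    have h1 : p.under B = m := hfV _ (Ideal.comap_isPrime _ _) hfp
    have h2 : (IsLocalRing.maximalIdeal Bm).under B = m :=
      IsLocalization.AtPrime.under_maximalIdeal _ m
    rw [← IsLocalization.map_under m.primeCompl _ p, h1, ← h2, IsLocalization.map_under m.primeCompl]
  -- the punctured ring
  have hunit : IsUnit (((algebraMap Bm Q).comp (algebraMap B Bm)) f) :=
    IsLocalization.Away.algebraMap_isUnit (algebraMap B Bm f)
  let ψ : C →+* Q := IsLocalization.Away.lift f hunit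
  have hψ : ∀ b : B, ψ (algebraMap B C b) = algebraMap Bm Q (algebraMap B Bm b) :=
    fun b => IsLocalization.Away.lift_eq f hunit b
  have hinv : ψ (IsLocalization.Away.invSelf f) * algebraMap Bm Q (algebraMap B Bm f) = 1 := by
    rw [← hψ, ← map_mul, mul_comm, IsLocalization.Away.mul_invSelf, map_one]
  -- generation
  have hS : ∀ z : C, ψ z ∈ Algebra.adjoin Bm (Set.range (ψ.comp φ)) := by
    intro z
    have hz : z ∈ Algebra.adjoin B (Set.range φ) := hgen ▸ Algebra.mem_top
    induction hz using Algebra.adjoin_induction with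
    | mem z hz =>
      obtain ⟨a, rfl⟩ := hz
      exact Algebra.subset_adjoin ⟨a, rfl⟩
    | algebraMap b =>
      rw [hψ]
      exact Subalgebra.algebraMap_mem _ _
    | add z z' _ _ h h' => rw [map_add]; exact Subalgebra.add_mem _ h h'
    | mul z z' _ _ h h' => rw [map_mul]; exact Subalgebra.mul_mem _ h h'
  have hgen' : Algebra.adjoin Bm (Set.range (ψ.comp φ)) = ⊤ := by
    rw [eq_top_iff]
    intro z _
    obtain ⟨n, b, hb⟩ := IsLocalization.Away.surj (algebraMap B Bm f) z
    have h3 : z = algebraMap _ _ b * ψ (IsLocalization.Away.invSelf f) ^ n := by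
      rw [← hb, mul_assoc, ← mul_pow, mul_comm (algebraMap _ _ (algebraMap B Bm f)), hinv, one_pow, mul_one]
    rw [h3]
    exact Subalgebra.mul_mem _ (Subalgebra.algebraMap_mem _ _) (Subalgebra.pow_mem _ (hS _) n)
  -- kernel of ψ
  have hker : ∀ z : C, ψ z = 0 → ∃ t, t ∉ m ∧ algebraMap B C t * z = 0 := by
    intro z hz
    obtain ⟨n, b, hb⟩ := IsLocalization.Away.surj f z
    have h1 : algebraMap Bm Q (algebraMap B _ b) = 0 := by
      rw [← hψ, ← hb, map_mul, hz, zero_mul]
    obtain ⟨⟨_, k, rfl⟩, hk⟩ :=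
      (IsLocalization.map_eq_zero_iff (Submonoid.powers (algebraMap B Bm f)) _ _).mp h1
    have h2 : algebraMap B Bm (f ^ k * b) = 0 := by
      rw [map_mul, map_pow]; exact hk
    obtain ⟨⟨t, ht⟩, htk⟩ := (IsLocalization.map_eq_zero_iff m.primeCompl _ _).mp h2
    refine ⟨t, ht, ?_⟩
    have h3 : z = algebraMap B C b * IsLocalization.Away.invSelf f ^ n := by
      rw [← hb, mul_assoc, ← mul_pow, IsLocalization.Away.mul_invSelf, one_pow, mul_one]
    have h5 : t * (f ^ k * b) = 0 := htk
    have h4 : algebraMap B C (t * b) * algebraMap B C f ^ k = 0 := by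
      rw [← map_pow, ← map_mul]
      have : t * b * f ^ k = t * (f ^ k * b) := by ring
      rw [this, h5, map_zero]
    have h6 : algebraMap B C (t * b) = 0 := by
      have := congrArg (· * IsLocalization.Away.invSelf f ^ k) h4
      simp only [zero_mul] at this
      rwa [mul_assoc, ← mul_pow, IsLocalization.Away.mul_invSelf, one_pow, mul_one] at this
    rw [h3, ← mul_assoc, ← map_mul, h6, zero_mul]
  obtain ⟨ι, hι, w, hw1, hw2⟩ := exists_valuations_local (A := A) (B := Bm)
    (Q := Q) hdim' (algebraMap B Bm f) hf' hfV' (ψ.comp φ) hgen'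
  refine ⟨ι, hι, w, hw1, fun x hx => ?_⟩
  obtain ⟨E, hE, g', hg', hgE⟩ := hw2 x hx
  obtain ⟨g, s, rfl⟩ := IsLocalization.exists_mk'_eq m.primeCompl g'
  have hgm : g ∈ m := (IsLocalization.AtPrime.mk'_mem_maximal_iff _ m g s).mp hg'
  have hspec : IsLocalization.mk' Bm g s * algebraMap B _ (s : B) = algebraMap B _ g :=
    IsLocalization.mk'_spec _ g s
  have hz : ψ (φ x ^ E * algebraMap B C g - algebraMap B C (s : B)) = 0 := by
    rw [map_sub, map_mul, map_pow, hψ, hψ, ← hspec, map_mul, ← mul_assoc]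
    change (ψ.comp φ) x ^ E * _ * _ - _ = 0
    rw [hgE, one_mul, sub_self]
  obtain ⟨t, ht, htz⟩ := hker _ hz
  refine ⟨E, hE, t * g, Ideal.mul_mem_left _ _ hgm, t * s, ?_, ?_⟩
  · intro h
    rcases hm.mem_or_mem h with h | h
    · exact ht h
    · exact s.2 h
  · rw [mul_sub, sub_eq_zero] at htz
    rw [map_mul, map_mul, ← htz]
    ring

/-- **the pole lemma at a prime `m` with `V(f) = {m}`** -/
theorem exists_valuations_pole (hdim : Ring.KrullDimLE 1 B) (m : Ideal B) [hm : m.IsPrime] (f : B)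
    (hf : f ∈ m) (hfV : ∀ p : Ideal B, p.IsPrime → f ∈ p → p = m) [IsLocalization.Away f C]
    (φ : A →+* C) (hgen : Algebra.adjoin B (Set.range φ) = ⊤) :
    ∃ (ι : Type u) (_ : Finite ι) (w : ι → Valuation A ℤᵐ⁰), (∀ j, ∃ a, 1 < w j a) ∧
      ∀ x, (∀ j, 1 < w j x) → ∃ E : ℕ, 0 < E ∧ ∃ g ∈ m, ∃ h, h ∉ m ∧
        φ x ^ E * algebraMap B C g = algebraMap B C h :=
  exists_valuations_pole_aux hdim m f hf hfV φ hgen (Localization.AtPrime m)
    (Localization.Away (algebraMap B (Localization.AtPrime m) f))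

end Groth.Agent.Lib.Helper18.Pole
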