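import Mathlib

/-!
# Functions on the intersection of two affine opens of a separated scheme (helper18)

* `isIso_appLE_top`: for an open immersion `π : Z ⟶ X` with range `O`, `Γ(X, O) ⟶ Γ(Z, ⊤)` is an isomorphism.
* `closure_range_res_eq_top`: `X` separated, `U`, `W` affine opens: `Γ(X, U ⊓ W)` is generated as a ring by the
  restrictions of `Γ(X, U)` and `Γ(X, W)` (the diagonal is a closed immersion).
* `adjoin_range_res_eq_top`: algebra form for `U ⊓ W = D(f)`, `f ∈ Γ(X, W)`.
-/

set_option autoImplicit false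
universe u
open CategoryTheory CategoryTheory.Limits AlgebraicGeometry TopologicalSpace Opposite

namespace Groth.Agent.Lib.Helper18.SepGen

variable {X : Scheme.{u}}

/-- for an open immersion `π : Z ⟶ X` with range `O`, restriction along `π` identifies `Γ(X, O)` with `Γ(Z, ⊤)` -/
theorem isIso_appLE_top {Z : Scheme.{u}} (π : Z ⟶ X) [IsOpenImmersion π] (O : X.Opens)
    (hO : π.opensRange = O) (e : (⊤ : Z.Opens) ≤ π ⁻¹ᵁ O) : IsIso (π.appLE O ⊤ e) := by
  have h1 : IsIso (π.app O) := π.isIso_app O hO.ge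
  have h2 : π ⁻¹ᵁ O = ⊤ := top_le_iff.mp e
  have h3 : IsIso (Z.presheaf.map (homOfLE e).op) := by
    have : IsIso (homOfLE e) := ⟨homOfLE (h2 ▸ le_rfl), rfl, rfl⟩
    infer_instance
  unfold Scheme.Hom.appLE
  infer_instance

/-- **functions on the intersection of two affine opens of a separated scheme** are generated by the restrictions of
functions on the two opens -/
theorem closure_range_res_eq_top [X.IsSeparated] {U W O : X.Opens} (hU : IsAffineOpen U)
    (hW : IsAffineOpen W) (hO : O = U ⊓ W) (hOU : O ≤ U) (hOW : O ≤ W) :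
    Subring.closure (Set.range (X.presheaf.map (homOfLE hOU).op).hom ∪
      Set.range (X.presheaf.map (homOfLE hOW).op).hom) = ⊤ := by
  haveI : IsAffine U := hU
  haveI : IsAffine W := hW
  let t := terminal.from X
  let d := pullback.mapDesc U.ι W.ι t
  haveI : IsClosedImmersion d := inferInstance
  have hpush := isPushout_appTop_of_isPullback (IsPullback.of_hasPullback (U.ι ≫ t) (W.ι ≫ t))
  have hcl := CommRingCat.closure_range_union_range_eq_top_of_isPushout hpush
  have hsurj : Function.Surjective d.appTop.hom :=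
    (IsClosedImmersion.isAffine_surjective_of_isAffine d).2
  have hfst : d ≫ pullback.fst (U.ι ≫ t) (W.ι ≫ t) = pullback.fst U.ι W.ι := by
    change pullback.map _ _ _ _ _ _ _ _ _ ≫ _ = _
    rw [pullback.lift_fst, Category.comp_id]
  have hsnd : d ≫ pullback.snd (U.ι ≫ t) (W.ι ≫ t) = pullback.snd U.ι W.ι := by
    change pullback.map _ _ _ _ _ _ _ _ _ ≫ _ = _
    rw [pullback.lift_snd, Category.comp_id]
  -- generation of `Γ(Z, ⊤)`, `Z = U ×_X W`
  have hclZ : Subring.closure (Set.range (pullback.fst U.ι W.ι).appTop.hom ∪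
      Set.range (pullback.snd U.ι W.ι).appTop.hom) = ⊤ := by
    have h1 : Subring.map d.appTop.hom ⊤ = ⊤ := by
      rw [← RingHom.range_eq_map, RingHom.range_eq_top]
      exact hsurj
    rw [← h1, ← hcl, RingHom.map_closure, Set.image_union, ← Set.range_comp, ← Set.range_comp]
    congr 2
    · rw [← hfst, Scheme.Hom.comp_appTop]; rfl
    · rw [← hsnd, Scheme.Hom.comp_appTop]; rfl
  -- transfer to `Γ(X, O)`
  let π : pullback U.ι W.ι ⟶ X := pullback.fst U.ι W.ι ≫ U.ι
  have hπO : π.opensRange = O := by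
    apply TopologicalSpace.Opens.ext
    rw [Scheme.Hom.coe_opensRange, IsOpenImmersion.range_pullback_to_base_of_left, hO]
    simp
  have e : (⊤ : (pullback U.ι W.ι).Opens) ≤ π ⁻¹ᵁ O := by
    intro z _
    change π z ∈ O
    rw [← hπO]
    exact ⟨z, rfl⟩
  haveI hE : IsIso (π.appLE O ⊤ e) := isIso_appLE_top π O hπO e
  have hEbij : Function.Bijective (π.appLE O ⊤ e).hom :=
    ConcreteCategory.bijective_of_isIso (π.appLE O ⊤ e)
  have eU : (⊤ : (U : Scheme.{u}).Opens) ≤ U.ι ⁻¹ᵁ U := by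
    intro z _
    exact z.2
  have eW : (⊤ : (W : Scheme.{u}).Opens) ≤ W.ι ⁻¹ᵁ W := by
    intro z _
    exact z.2
  have hsU : Function.Surjective (U.ι.appLE U ⊤ eU).hom := by
    haveI := isIso_appLE_top U.ι U U.opensRange_ι eU
    exact (ConcreteCategory.bijective_of_isIso (U.ι.appLE U ⊤ eU)).2
  have hsW : Function.Surjective (W.ι.appLE W ⊤ eW).hom := by
    haveI := isIso_appLE_top W.ι W W.opensRange_ι eW
    exact (ConcreteCategory.bijective_of_isIso (W.ι.appLE W ⊤ eW)).2
  have htop : ∀ {Z Y : Scheme.{u}} (g : Z ⟶ Y) (e' : (⊤ : Z.Opens) ≤ g ⁻¹ᵁ ⊤),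
      g.appLE ⊤ ⊤ e' = g.appTop := by
    intro Z Y g e'
    exact (Scheme.Hom.app_eq_appLE g).symm
  have hEU : X.presheaf.map (homOfLE hOU).op ≫ π.appLE O ⊤ e =
      U.ι.appLE U ⊤ eU ≫ (pullback.fst U.ι W.ι).appTop := by
    rw [Scheme.Hom.map_appLE, ← htop (pullback.fst U.ι W.ι) le_top, Scheme.Hom.appLE_comp_appLE]
  have hπ' : π = pullback.snd U.ι W.ι ≫ W.ι := pullback.condition
  have hEW : X.presheaf.map (homOfLE hOW).op ≫ π.appLE O ⊤ e =
      W.ι.appLE W ⊤ eW ≫ (pullback.snd U.ι W.ι).appTop := by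
    rw [Scheme.Hom.map_appLE, ← htop (pullback.snd U.ι W.ι) le_top, Scheme.Hom.appLE_comp_appLE]
    have key : ∀ (π' : pullback U.ι W.ι ⟶ X) (h : π = π') (e' : (⊤ : (pullback U.ι W.ι).Opens) ≤ π ⁻¹ᵁ W),
        π.appLE W ⊤ e' = π'.appLE W ⊤ (h ▸ e') := by
      intro π' h e'
      subst h
      rfl
    exact key _ hπ' _
  have hrU : Set.range ((π.appLE O ⊤ e).hom ∘ (X.presheaf.map (homOfLE hOU).op).hom) =
      Set.range (pullback.fst U.ι W.ι).appTop.hom := by
    have : (π.appLE O ⊤ e).hom ∘ (X.presheaf.map (homOfLE hOU).op).hom =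
        (pullback.fst U.ι W.ι).appTop.hom ∘ (U.ι.appLE U ⊤ eU).hom := by
      funext z
      exact congrArg (fun φ => φ.hom z) hEU
    rw [this, hsU.range_comp]
  have hrW : Set.range ((π.appLE O ⊤ e).hom ∘ (X.presheaf.map (homOfLE hOW).op).hom) =
      Set.range (pullback.snd U.ι W.ι).appTop.hom := by
    have : (π.appLE O ⊤ e).hom ∘ (X.presheaf.map (homOfLE hOW).op).hom =
        (pullback.snd U.ι W.ι).appTop.hom ∘ (W.ι.appLE W ⊤ eW).hom := by
      funext z
      exact congrArg (fun φ => φ.hom z) hEW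
    rw [this, hsW.range_comp]
  have hmap : (Subring.closure (Set.range (X.presheaf.map (homOfLE hOU).op).hom ∪
      Set.range (X.presheaf.map (homOfLE hOW).op).hom)).map (π.appLE O ⊤ e).hom = ⊤ := by
    rw [RingHom.map_closure, Set.image_union, ← Set.range_comp, ← Set.range_comp, hrU, hrW, hclZ]
  rw [eq_top_iff]
  intro z _
  have hz : (π.appLE O ⊤ e).hom z ∈ (Subring.closure (Set.range (X.presheaf.map (homOfLE hOU).op).hom ∪
      Set.range (X.presheaf.map (homOfLE hOW).op).hom)).map (π.appLE O ⊤ e).hom := hmap ▸ Subring.mem_top _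
  obtain ⟨z', hz', hzz'⟩ := hz
  rwa [← hEbij.1 hzz']

/-- algebra form: for `W` affine, `f ∈ Γ(W)` with `D(f) = U ⊓ W`, `Γ(D(f))` is generated as a `Γ(W)`-algebra by the
restrictions of the functions on `U` -/
theorem adjoin_range_res_eq_top [X.IsSeparated] {U W : X.Opens} (hU : IsAffineOpen U)
    (hW : IsAffineOpen W) (f : Γ(X, W)) (hUW : X.basicOpen f = U ⊓ W) (hle : X.basicOpen f ≤ U) :
    Algebra.adjoin Γ(X, W) (Set.range (X.presheaf.map (homOfLE hle).op).hom) = ⊤ := by
  have h := closure_range_res_eq_top hU hW hUW hle (X.basicOpen_le f)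
  rw [eq_top_iff]
  intro z _
  have hz : z ∈ Subring.closure (Set.range (X.presheaf.map (homOfLE hle).op).hom ∪
      Set.range (X.presheaf.map (homOfLE (X.basicOpen_le f)).op).hom) := h ▸ Subring.mem_top _
  have hle' : Subring.closure (Set.range (X.presheaf.map (homOfLE hle).op).hom ∪
      Set.range (X.presheaf.map (homOfLE (X.basicOpen_le f)).op).hom) ≤
      (Algebra.adjoin Γ(X, W) (Set.range (X.presheaf.map (homOfLE hle).op).hom)).toSubring := by
    rw [Subring.closure_le]
    rintro y (hy | ⟨b, rfl⟩)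
    · exact Algebra.subset_adjoin hy
    · exact Subalgebra.algebraMap_mem _ b
  exact hle' hz

end Groth.Agent.Lib.Helper18.SepGen
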