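import Mathlib
import Groth.Agent.Lib.Helper18.Pole2
import Groth.Agent.Lib.Helper18.SepGen
import Groth.Agent.Lib.Helper18.RegPoint
import Groth.Agent.Lib.Lead.DiscCompl2

/-!
# Functions with honest poles at the points outside an affine open (helper18)

`X` separated Noetherian of dimension `≤ 1` (not necessarily reduced or irreducible), `U` an affine open with discrete
complement.

* `rs`, `rs_rs`: restriction of functions.
* `exists_valuations_point`: the valuations on `Γ(X, U)` attached to a point `p ∉ U` (geometric form of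
  `Pole2.exists_valuations_pole`, using lead's `DiscCompl.exists_good_nbhd` and `SepGen.adjoin_range_res_eq_top`).
* `exists_pole_sections`: `a ∈ Γ(X, U)` and, near each of finitely many points `x i ∉ U`, a function `σ i` vanishing at
  `x i` with `σ i · a = 1` on the overlap (Stacks 09NN without integrality).
-/

set_option autoImplicit false
universe u
open CategoryTheory CategoryTheory.Limits AlgebraicGeometry TopologicalSpace Opposite
open scoped WithZero

namespace Groth.Agent.Lib.Helper18.Pole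

open Groth.Agent.Lib.Lead.DiscCompl Groth.Agent.Lib.Helper18.RegPoint

variable {X : Scheme.{u}}

/-- restriction of functions -/
noncomputable abbrev rs {O O' : X.Opens} (h : O' ≤ O) : Γ(X, O) →+* Γ(X, O') :=
  (X.presheaf.map (homOfLE h).op).hom

theorem rs_rs {O O' O'' : X.Opens} (h : O' ≤ O) (h' : O'' ≤ O') (z : Γ(X, O)) :
    rs h' (rs h z) = rs (h'.trans h) z := by
  change (X.presheaf.map (homOfLE h).op ≫ X.presheaf.map (homOfLE h').op).hom z = _
  rw [← Functor.map_comp]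
  rfl

/-- **the valuations of a point `p` outside an affine open `U`** of a separated Noetherian scheme of dimension `≤ 1`:
functions on `U` on which they are all `> 1` have a power with an honest pole at `p`. -/
theorem exists_valuations_point [IsNoetherian X] [X.IsSeparated] (hdim : topologicalKrullDim X ≤ 1)
    (U : X.Opens) (hU : IsAffineOpen U) (hdisc : DiscreteTopology ↥((U : Set X)ᶜ)) (p : X) (hp : p ∉ U) :
    ∃ (ι : Type u) (_ : Finite ι) (w : ι → Valuation Γ(X, U) ℤᵐ⁰), (∀ j, ∃ a, 1 < w j a) ∧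
      ∀ a₀, (∀ j, 1 < w j a₀) → ∃ E : ℕ, 0 < E ∧ ∃ (N : X.Opens) (σ : Γ(X, N)) (hpN : p ∈ N),
        (∀ y ∈ N, y ∉ U → y = p) ∧ ¬ IsUnit (X.presheaf.germ N p hpN σ) ∧
        rs (inf_le_left : N ⊓ U ≤ N) σ * rs (inf_le_right : N ⊓ U ≤ U) (a₀ ^ E) = 1 := by
  haveI : NoetherianSpace X := IsNoetherian.noetherianSpace (X := X)
  haveI : NoetherianSpace ↥(U : Scheme.{u}) := inferInstanceAs (NoetherianSpace ↥(U : Set X))
  obtain ⟨W, f, hW, hpW, hWU, hWf, hpf⟩ := exists_good_nbhd U hdisc p hp inferInstance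
    ((ringKrullDim_stalk_le p).trans hdim)
  have hUW : X.basicOpen f = U ⊓ W := by
    apply le_antisymm
    · intro y hy
      have hyW : y ∈ W := X.basicOpen_le f hy
      refine ⟨?_, hyW⟩
      by_contra hyU
      have := hWU y hyW hyU
      subst this
      exact hpf hy
    · rintro y ⟨hyU, hyW⟩
      exact hWf y hyW (fun h => hp (h ▸ hyU))
  have hle : X.basicOpen f ≤ U := hUW.le.trans inf_le_left
  haveI : IsNoetherianRing Γ(X, W) := IsLocallyNoetherian.component_noetherian ⟨W, hW⟩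
  have hdimW : Ring.KrullDimLE 1 Γ(X, W) :=
    Ring.krullDimLE_iff.mpr ((ringKrullDim_sections_le hW).trans hdim)
  haveI hmP : (hW.primeIdealOf ⟨p, hpW⟩).asIdeal.IsPrime := (hW.primeIdealOf ⟨p, hpW⟩).isPrime
  have hfm : f ∈ (hW.primeIdealOf ⟨p, hpW⟩).asIdeal := by
    by_contra h
    exact hpf ((mem_basicOpen_iff_primeIdealOf hW f p hpW).mpr h)
  have hfV : ∀ q : Ideal Γ(X, W), q.IsPrime → f ∈ q → q = (hW.primeIdealOf ⟨p, hpW⟩).asIdeal := by
    intro q hq hfq
    have hyW : hW.fromSpec ⟨q, hq⟩ ∈ W := fromSpec_mem' hW ⟨q, hq⟩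
    have hyf : hW.fromSpec ⟨q, hq⟩ ∉ X.basicOpen f := fun h =>
      ((fromSpec_mem_basicOpen_iff hW f ⟨q, hq⟩).mp h) hfq
    have hyp : hW.fromSpec ⟨q, hq⟩ = p := by
      by_contra h
      exact hyf (hWf _ hyW h)
    have h1 : hW.primeIdealOf ⟨hW.fromSpec ⟨q, hq⟩, hyW⟩ = ⟨q, hq⟩ := primeIdealOf_fromSpec' hW ⟨q, hq⟩
    have h2 : hW.primeIdealOf ⟨hW.fromSpec ⟨q, hq⟩, hyW⟩ = hW.primeIdealOf ⟨p, hpW⟩ := by
      congr 1
      exact Subtype.ext hyp
    exact congrArg PrimeSpectrum.asIdeal (h1.symm.trans h2)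
  haveI := hW.isLocalization_basicOpen f
  have hgen := Groth.Agent.Lib.Helper18.SepGen.adjoin_range_res_eq_top hU hW f hUW hle
  obtain ⟨ι, hι, w, hw1, hw2⟩ := exists_valuations_pole hdimW (hW.primeIdealOf ⟨p, hpW⟩).asIdeal f hfm hfV
    (rs hle) hgen
  refine ⟨ι, hι, w, hw1, fun a₀ ha₀ => ?_⟩
  obtain ⟨E, hE, g, hg, h, hh, heq⟩ := hw2 a₀ ha₀
  have heq' : rs hle a₀ ^ E * rs (X.basicOpen_le f) g = rs (X.basicOpen_le f) h := heq
  have hNW : X.basicOpen h ≤ W := X.basicOpen_le h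
  have hpN : p ∈ X.basicOpen h := (mem_basicOpen_iff_primeIdealOf hW h p hpW).mpr hh
  have hu : IsUnit (rs hNW h) := X.toRingedSpace.isUnit_res_basicOpen h
  refine ⟨E, hE, X.basicOpen h, rs hNW g * ↑(hu.unit⁻¹), hpN, ?_, ?_, ?_⟩
  · intro y hy hyU
    exact hWU y (hNW hy) hyU
  · intro hunit
    rw [map_mul] at hunit
    have h1 : IsUnit (X.presheaf.germ (X.basicOpen h) p hpN (rs hNW g)) := isUnit_of_mul_isUnit_left hunit
    have h2 : X.presheaf.germ (X.basicOpen h) p hpN (rs hNW g) = X.presheaf.germ W p hpW g :=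
      TopCat.Presheaf.germ_res_apply X.presheaf (homOfLE hNW) p hpN g
    rw [h2, ← X.mem_basicOpen g p hpW, mem_basicOpen_iff_primeIdealOf hW g p hpW] at h1
    exact h1 hg
  · have hOf : X.basicOpen h ⊓ U ≤ X.basicOpen f := by
      rw [hUW]
      exact le_inf inf_le_right (inf_le_left.trans hNW)
    have h3 := congrArg (rs hOf) heq'
    rw [map_mul, map_pow, rs_rs, rs_rs, rs_rs] at h3
    have h4 : rs (inf_le_left : X.basicOpen h ⊓ U ≤ X.basicOpen h) (rs hNW g) =
        rs (hOf.trans (X.basicOpen_le f)) g := rs_rs _ _ _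
    have h5 : rs (inf_le_left : X.basicOpen h ⊓ U ≤ X.basicOpen h) (rs hNW h) =
        rs (hOf.trans (X.basicOpen_le f)) h := rs_rs _ _ _
    rw [map_mul, map_pow, h4]
    calc rs _ g * rs inf_le_left (↑(hu.unit⁻¹) : Γ(X, X.basicOpen h)) * rs _ a₀ ^ E
        = (rs (hOf.trans hle) a₀ ^ E * rs (hOf.trans (X.basicOpen_le f)) g) *
            rs inf_le_left (↑(hu.unit⁻¹) : Γ(X, X.basicOpen h)) := by ring
      _ = rs inf_le_left (rs hNW h) * rs inf_le_left (↑(hu.unit⁻¹) : Γ(X, X.basicOpen h)) := by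
          rw [h3, h5]
      _ = 1 := by
          rw [← map_mul, hu.mul_val_inv, map_one]

/-- **a function on `U` with honest poles at finitely many points outside `U`** -/
theorem exists_pole_sections [IsNoetherian X] [X.IsSeparated] (hdim : topologicalKrullDim X ≤ 1)
    (U : X.Opens) (hU : IsAffineOpen U) (hdisc : DiscreteTopology ↥((U : Set X)ᶜ))
    (r : ℕ) (x : Fin r → X) (hx : ∀ i, x i ∉ U) :
    ∃ (a : Γ(X, U)) (N : Fin r → X.Opens) (σ : ∀ i, Γ(X, N i)),
      (∀ i, ∃ hi : x i ∈ N i, ¬ IsUnit (X.presheaf.germ (N i) (x i) hi (σ i))) ∧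
      (∀ i, ∀ y ∈ N i, y ∉ U → y = x i) ∧
      ∀ i, rs (inf_le_left : N i ⊓ U ≤ N i) (σ i) * rs (inf_le_right : N i ⊓ U ≤ U) a = 1 := by
  classical
  have hpt := fun i => exists_valuations_point hdim U hU hdisc (x i) (hx i)
  choose ι hι w hw1 hw2 using hpt
  haveI : ∀ i, Finite (ι i) := hι
  obtain ⟨a₀, ha₀⟩ := exists_forall_one_lt (fun j : Σ i, ι i => w j.1 j.2) (fun j => hw1 j.1 j.2)
  have hE := fun i => hw2 i a₀ (fun j => ha₀ ⟨i, j⟩)
  choose E hE0 N σ hN hNU hσ heq using hE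
  refine ⟨a₀ ^ ∏ j, E j, N, fun i => σ i ^ ∏ j ∈ Finset.univ.erase i, E j, ?_, hNU, ?_⟩
  · intro i
    refine ⟨hN i, ?_⟩
    rw [map_pow]
    intro hu
    have hk : (∏ j ∈ Finset.univ.erase i, E j) ≠ 0 :=
      Finset.prod_ne_zero_iff.mpr (fun j _ => (hE0 j).ne')
    exact hσ i ((isUnit_pow_iff hk).mp hu)
  · intro i
    rw [← Finset.mul_prod_erase Finset.univ E (Finset.mem_univ i), pow_mul, map_pow, map_pow,
      ← mul_pow, heq i, one_pow]

end Groth.Agent.Lib.Helper18.Pole
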