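import Mathlib
import Groth.Agent.Lib.Helper18.Pole1
import Groth.Agent.Lib.Lead.DiscCompl1

/-!
# The pole lemma at a prime whose local ring is Noetherian of dimension `≤ 1` (helper18)

Versions of `Pole2.exists_valuations_pole` in which only the local ring `B_p` (not `B`) is assumed Noetherian of
dimension `≤ 1`; used for Stacks 09NN-type statements on schemes which are not Noetherian of dimension one (`S0217`).

* `exists_f_h_of_finset`: `s ⊆ p` finite such that `p` is the only prime `q ⊆ p` containing `s`: there are `f ∈ p`,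
  `h ∉ p` with `V(f) ∩ D(h) = V(s) ∩ D(h)`.
* `exists_valuations_pole_of_local`: the pole lemma.
* `exists_pole_mul`: the same with a prescribed factor `j` (a unit on the punctured spectrum of `B_p`): for good `x`,
  `φ (x ^ E * j) * g = h` with `g ∈ p`, `h ∉ p`, and `h * g ^ n ∈ (f)`.
-/

set_option autoImplicit false
universe u
open scoped WithZero

namespace Groth.Agent.Lib.Helper18.Pole

open Groth.Agent.Lib.Lead.DiscCompl

/-- `s ⊆ p` finite, `B_p` Noetherian of dimension `≤ 1`, and `p` is the only prime `q ⊆ p` containing `s`: then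
`V(s) = V(f)` on a principal open neighbourhood `D(h)` of `p`. -/
theorem exists_f_h_of_finset {B : Type*} [CommRing B] (p : Ideal B) [hp : p.IsPrime]
    (R : Type*) [CommRing R] [Algebra B R] [IsLocalization.AtPrime R p] [IsNoetherianRing R]
    (hdim : ringKrullDim R ≤ 1) (s : Finset B) (hsp : ∀ g ∈ s, g ∈ p)
    (hs : ∀ q : Ideal B, q.IsPrime → q ≤ p → (∀ g ∈ s, g ∈ q) → q = p) :
    ∃ f ∈ p, ∃ h, h ∉ p ∧ ∀ q : Ideal B, q.IsPrime → h ∉ q → (f ∈ q ↔ ∀ g ∈ s, g ∈ q) := by
  classical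
  haveI : IsLocalRing R := IsLocalization.AtPrime.isLocalRing R p
  obtain ⟨f₀, hf₀m, hf₀⟩ := exists_mem_maximalIdeal_only R hdim
  obtain ⟨f, t, rfl⟩ := IsLocalization.exists_mk'_eq p.primeCompl f₀
  have hfp : f ∈ p := (IsLocalization.AtPrime.mk'_mem_maximal_iff R p f t).mp hf₀m
  have hfm : algebraMap B R f ∈ IsLocalRing.maximalIdeal R :=
    (IsLocalization.AtPrime.to_map_mem_maximal_iff R p f).mpr hfp
  have hrad : ∀ g ∈ p, ∃ n : ℕ, algebraMap B R g ^ n ∈ Ideal.span {algebraMap B R f} := by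
    intro g hg
    have hgm : algebraMap B R g ∈ IsLocalRing.maximalIdeal R :=
      (IsLocalization.AtPrime.to_map_mem_maximal_iff R p g).mpr hg
    have : algebraMap B R g ∈ (Ideal.span {algebraMap B R f}).radical := by
      rw [Ideal.radical_eq_sInf, Ideal.mem_sInf]
      rintro P ⟨hle, hP⟩
      have hfP : IsLocalization.mk' R f t ∈ P := by
        rw [IsLocalization.mk'_mem_iff]
        exact hle (Ideal.subset_span rfl)
      rw [hf₀ P hP hfP]
      exact hgm
    exact this
  have hg : ∀ g ∈ s, ∃ h, h ∉ p ∧ ∃ n : ℕ, h * g ^ n ∈ Ideal.span {f} := by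
    intro g hgs
    obtain ⟨n, hn⟩ := hrad g (hsp g hgs)
    rw [Ideal.mem_span_singleton'] at hn
    obtain ⟨a, ha⟩ := hn
    obtain ⟨a', u, rfl⟩ := IsLocalization.exists_mk'_eq p.primeCompl a
    have h1 : algebraMap B R (a' * f) = algebraMap B R (u * g ^ n) := by
      rw [map_mul, map_mul, map_pow, ← ha, ← mul_assoc, IsLocalization.mul_mk'_eq_mk'_of_mul,
        IsLocalization.mk'_mul_cancel_left]
    obtain ⟨c, hc⟩ := (IsLocalization.eq_iff_exists p.primeCompl R).mp h1
    refine ⟨c * u, p.primeCompl.mul_mem c.2 u.2, n, ?_⟩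
    rw [Ideal.mem_span_singleton']
    exact ⟨c * a', by linear_combination hc⟩
  -- `f` lies in the radical of the ideal generated by `s`, locally
  have hf : ∃ h, h ∉ p ∧ ∃ n : ℕ, h * f ^ n ∈ Ideal.span (s : Set B) := by
    have h1 : algebraMap B R f ∈ ((Ideal.span (s : Set B)).map (algebraMap B R)).radical := by
      rw [Ideal.radical_eq_sInf, Ideal.mem_sInf]
      rintro P ⟨hle, hP⟩
      have hPm : P ≤ IsLocalRing.maximalIdeal R := IsLocalRing.le_maximalIdeal hP.ne_top
      have hq : (P.under B) ≤ p := by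
        rw [← IsLocalization.AtPrime.under_maximalIdeal R p]
        exact Ideal.comap_mono hPm
      have hsq : ∀ g ∈ s, g ∈ P.under B := by
        intro g hgs
        exact hle (Ideal.mem_map_of_mem _ (Ideal.subset_span hgs))
      have h2 : P.under B = p := hs _ (Ideal.comap_isPrime _ _) hq hsq
      have h3 : P = IsLocalRing.maximalIdeal R := by
        rw [← IsLocalization.map_under p.primeCompl R P, h2,
          ← IsLocalization.AtPrime.under_maximalIdeal R p, IsLocalization.map_under p.primeCompl]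
      rw [h3]
      exact hfm
    obtain ⟨n, hn⟩ := h1
    rw [← map_pow, IsLocalization.mem_map_algebraMap_iff p.primeCompl] at hn
    obtain ⟨⟨a, u⟩, hau⟩ := hn
    have h2 : algebraMap B R (f ^ n * u) = algebraMap B R a := by
      rw [map_mul]; exact hau
    obtain ⟨c, hc⟩ := (IsLocalization.eq_iff_exists p.primeCompl R).mp h2
    refine ⟨c * u, p.primeCompl.mul_mem c.2 u.2, n, ?_⟩
    have : (c : B) * u * f ^ n = c * a := by linear_combination hc
    rw [this]
    exact Ideal.mul_mem_left _ _ a.2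
  choose! hh hhp hhn using hg
  obtain ⟨h', hh'p, n', hn'⟩ := hf
  refine ⟨f, hfp, h' * ∏ g ∈ s, hh g, ?_, ?_⟩
  · intro hmem
    rcases hp.mem_or_mem hmem with h1 | h1
    · exact hh'p h1
    · obtain ⟨g, hgs, hgp⟩ := (Ideal.IsPrime.prod_mem_iff (hp := hp)).mp h1
      exact hhp g hgs hgp
  · intro q hq hhq
    have hh'q : h' ∉ q := fun h => hhq (Ideal.mul_mem_right _ _ h)
    have hprodq : ∏ g ∈ s, hh g ∉ q := fun h => hhq (Ideal.mul_mem_left _ _ h)
    constructor
    · intro hfq g hgs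
      obtain ⟨n, hn⟩ := hhn g hgs
      have h1 : hh g * g ^ n ∈ q := ((Ideal.span_singleton_le_iff_mem q).mpr hfq) hn
      rcases hq.mem_or_mem h1 with h2 | h2
      · exfalso
        apply hprodq
        exact Ideal.mem_of_dvd q (Finset.dvd_prod_of_mem hh hgs) h2
      · exact hq.mem_of_pow_mem n h2
    · intro hsq
      have h1 : h' * f ^ n' ∈ q := (Ideal.span_le.mpr (fun g hg => hsq g hg)) hn'
      rcases hq.mem_or_mem h1 with h2 | h2
      · exact absurd h2 hh'q
      · exact hq.mem_of_pow_mem n' h2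

section PoleLocal

variable {A B C : Type u} [CommRing A] [CommRing B] [CommRing C] [Algebra B C]

/-- primes of the localisation at `m` containing the image of `f`, when `m` is the only prime `q ⊆ m` containing `f` -/
theorem eq_maximalIdeal_of_mem {B : Type*} [CommRing B] (m : Ideal B) [hm : m.IsPrime] (Bm : Type*) [CommRing Bm]
    [Algebra B Bm] [IsLocalization.AtPrime Bm m] [IsLocalRing Bm] (f : B)
    (hfV : ∀ q : Ideal B, q.IsPrime → q ≤ m → f ∈ q → q = m)
    (P : Ideal Bm) (hP : P.IsPrime) (hfP : algebraMap B Bm f ∈ P) : P = IsLocalRing.maximalIdeal Bm := by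
  have hPm : P ≤ IsLocalRing.maximalIdeal Bm := IsLocalRing.le_maximalIdeal hP.ne_top
  have hq : (P.under B) ≤ m := by
    rw [← IsLocalization.AtPrime.under_maximalIdeal Bm m]
    exact Ideal.comap_mono hPm
  have h2 : P.under B = m := hfV _ (Ideal.comap_isPrime _ _) hq hfP
  rw [← IsLocalization.map_under m.primeCompl Bm P, h2,
    ← IsLocalization.AtPrime.under_maximalIdeal Bm m, IsLocalization.map_under m.primeCompl]

/-- an element of `m` has a power in `(b)` up to an element outside `m`, when `m` is the only prime `q ⊆ m`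
containing `b` -/
theorem exists_mul_pow_eq_mul {B : Type*} [CommRing B] (m : Ideal B) [hm : m.IsPrime] (Bm : Type*) [CommRing Bm]
    [Algebra B Bm] [IsLocalization.AtPrime Bm m] (b : B)
    (hb : ∀ q : Ideal B, q.IsPrime → q ≤ m → b ∈ q → q = m) (g : B) (hg : g ∈ m) :
    ∃ t, t ∉ m ∧ ∃ (n : ℕ) (r : B), t * g ^ n = b * r := by
  haveI : IsLocalRing Bm := IsLocalization.AtPrime.isLocalRing Bm m
  have hgm : algebraMap B Bm g ∈ IsLocalRing.maximalIdeal Bm :=
    (IsLocalization.AtPrime.to_map_mem_maximal_iff Bm m g).mpr hg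
  have h1 : algebraMap B Bm g ∈ (Ideal.span {algebraMap B Bm b}).radical := by
    rw [Ideal.radical_eq_sInf, Ideal.mem_sInf]
    rintro P ⟨hle, hP⟩
    rw [eq_maximalIdeal_of_mem m Bm b hb P hP (hle (Ideal.subset_span rfl))]
    exact hgm
  obtain ⟨n, hn⟩ := h1
  rw [Ideal.mem_span_singleton'] at hn
  obtain ⟨a, ha⟩ := hn
  obtain ⟨a', u, rfl⟩ := IsLocalization.exists_mk'_eq m.primeCompl a
  have h2 : algebraMap B Bm (a' * b) = algebraMap B Bm (u * g ^ n) := by
    rw [map_mul, map_mul, map_pow, ← ha, ← mul_assoc, IsLocalization.mul_mk'_eq_mk'_of_mul,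
      IsLocalization.mk'_mul_cancel_left]
  obtain ⟨c, hc⟩ := (IsLocalization.eq_iff_exists m.primeCompl Bm).mp h2
  refine ⟨c * u, m.primeCompl.mul_mem c.2 u.2, n, c * a', ?_⟩
  linear_combination -hc

/-- **the pole lemma at a prime `m` whose local ring is Noetherian of dimension `≤ 1`**, with `m` the only prime
`q ⊆ m` containing `f`, `C = B[1/f]` generated by `B` and `φ(A)` -/
theorem exists_valuations_pole_of_local (m : Ideal B) [hm : m.IsPrime] (f : B) (hf : f ∈ m)
    [IsLocalization.Away f C] (φ : A →+* C) (hgen : Algebra.adjoin B (Set.range φ) = ⊤)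
    (Bm : Type u) [CommRing Bm] [Algebra B Bm] [IsLocalization.AtPrime Bm m] [IsNoetherianRing Bm]
    (hdim : Ring.KrullDimLE 1 Bm)
    (hfV : ∀ q : Ideal B, q.IsPrime → q ≤ m → f ∈ q → q = m) :
    ∃ (ι : Type u) (_ : Finite ι) (w : ι → Valuation A ℤᵐ⁰), (∀ j, ∃ a, 1 < w j a) ∧
      ∀ x, (∀ j, 1 < w j x) → ∃ E : ℕ, 0 < E ∧ ∃ g ∈ m, ∃ h, h ∉ m ∧
        φ x ^ E * algebraMap B C g = algebraMap B C h := by
  classical
  haveI : IsLocalRing Bm := IsLocalization.AtPrime.isLocalRing Bm m
  let Q := Localization.Away (algebraMap B Bm f)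
  have hf' : algebraMap B Bm f ∈ IsLocalRing.maximalIdeal Bm :=
    (IsLocalization.AtPrime.to_map_mem_maximal_iff _ m f).mpr hf
  have hfV' : ∀ p : Ideal Bm, p.IsPrime → algebraMap B Bm f ∈ p → p = IsLocalRing.maximalIdeal Bm :=
    fun p hp hfp => eq_maximalIdeal_of_mem m Bm f hfV p hp hfp
  -- the punctured ring
  have hunit : IsUnit (((algebraMap Bm Q).comp (algebraMap B Bm)) f) :=
    IsLocalization.Away.algebraMap_isUnit (algebraMap B Bm f)
  let ψ : C →+* Q := IsLocalization.Away.lift f hunit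
  have hψ : ∀ b : B, ψ (algebraMap B C b) = algebraMap Bm Q (algebraMap B Bm b) :=
    fun b => IsLocalization.Away.lift_eq f hunit b
  have hinv : ψ (IsLocalization.Away.invSelf f) * algebraMap Bm Q (algebraMap B Bm f) = 1 := by
    rw [← hψ, ← map_mul, mul_comm, IsLocalization.Away.mul_invSelf, map_one]
  -- generation
  have hS : ∀ z : C, ψ z ∈ Algebra.adjoin Bm (Set.range (ψ.comp φ)) := by
    intro z
    have hz : z ∈ Algebra.adjoin B (Set.range φ) := hgen ▸ Algebra.mem_top
    induction hz using Algebra.adjoin_induction with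
    | mem z hz =>
      obtain ⟨a, rfl⟩ := hz
      exact Algebra.subset_adjoin ⟨a, rfl⟩
    | algebraMap b =>
      rw [hψ]
      exact Subalgebra.algebraMap_mem _ _
    | add z z' _ _ h h' => rw [map_add]; exact Subalgebra.add_mem _ h h'
    | mul z z' _ _ h h' => rw [map_mul]; exact Subalgebra.mul_mem _ h h'
  have hgen' : Algebra.adjoin Bm (Set.range (ψ.comp φ)) = ⊤ := by
    rw [eq_top_iff]
    intro z _
    obtain ⟨n, b, hb⟩ := IsLocalization.Away.surj (algebraMap B Bm f) z
    have h3 : z = algebraMap _ _ b * ψ (IsLocalization.Away.invSelf f) ^ n := by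
      rw [← hb, mul_assoc, ← mul_pow, mul_comm (algebraMap _ _ (algebraMap B Bm f)), hinv, one_pow, mul_one]
    rw [h3]
    exact Subalgebra.mul_mem _ (Subalgebra.algebraMap_mem _ _) (Subalgebra.pow_mem _ (hS _) n)
  -- kernel of ψ
  have hker : ∀ z : C, ψ z = 0 → ∃ t, t ∉ m ∧ algebraMap B C t * z = 0 := by
    intro z hz
    obtain ⟨n, b, hb⟩ := IsLocalization.Away.surj f z
    have h1 : algebraMap Bm Q (algebraMap B _ b) = 0 := by
      rw [← hψ, ← hb, map_mul, hz, zero_mul]
    obtain ⟨⟨_, k, rfl⟩, hk⟩ :=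
      (IsLocalization.map_eq_zero_iff (Submonoid.powers (algebraMap B Bm f)) _ _).mp h1
    have h2 : algebraMap B Bm (f ^ k * b) = 0 := by
      rw [map_mul, map_pow]; exact hk
    obtain ⟨⟨t, ht⟩, htk⟩ := (IsLocalization.map_eq_zero_iff m.primeCompl _ _).mp h2
    refine ⟨t, ht, ?_⟩
    have h3 : z = algebraMap B C b * IsLocalization.Away.invSelf f ^ n := by
      rw [← hb, mul_assoc, ← mul_pow, IsLocalization.Away.mul_invSelf, one_pow, mul_one]
    have h5 : t * (f ^ k * b) = 0 := htk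
    have h4 : algebraMap B C (t * b) * algebraMap B C f ^ k = 0 := by
      rw [← map_pow, ← map_mul]
      have : t * b * f ^ k = t * (f ^ k * b) := by ring
      rw [this, h5, map_zero]
    have h6 : algebraMap B C (t * b) = 0 := by
      have := congrArg (· * IsLocalization.Away.invSelf f ^ k) h4
      simp only [zero_mul] at this
      rwa [mul_assoc, ← mul_pow, IsLocalization.Away.mul_invSelf, one_pow, mul_one] at this
    rw [h3, ← mul_assoc, ← map_mul, h6, zero_mul]
  obtain ⟨ι, hι, w, hw1, hw2⟩ := exists_valuations_local (A := A) (B := Bm)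
    (Q := Q) hdim (algebraMap B Bm f) hf' hfV' (ψ.comp φ) hgen'
  refine ⟨ι, hι, w, hw1, fun x hx => ?_⟩
  obtain ⟨E, hE, g', hg', hgE⟩ := hw2 x hx
  obtain ⟨g, s, rfl⟩ := IsLocalization.exists_mk'_eq m.primeCompl g'
  have hgm : g ∈ m := (IsLocalization.AtPrime.mk'_mem_maximal_iff _ m g s).mp hg'
  have hspec : IsLocalization.mk' Bm g s * algebraMap B _ (s : B) = algebraMap B _ g :=
    IsLocalization.mk'_spec _ g s
  have hz : ψ (φ x ^ E * algebraMap B C g - algebraMap B C (s : B)) = 0 := by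
    rw [map_sub, map_mul, map_pow, hψ, hψ, ← hspec, map_mul, ← mul_assoc]
    change (ψ.comp φ) x ^ E * _ * _ - _ = 0
    rw [hgE, one_mul, sub_self]
  obtain ⟨t, ht, htz⟩ := hker _ hz
  refine ⟨E, hE, t * g, Ideal.mul_mem_left _ _ hgm, t * s, ?_, ?_⟩
  · intro h
    rcases hm.mem_or_mem h with h | h
    · exact ht h
    · exact s.2 h
  · rw [mul_sub, sub_eq_zero] at htz
    rw [map_mul, map_mul, ← htz]
    ring

/-- **the pole lemma with a prescribed factor** `j` whose numerator `b` (`φ j = b / f ^ k`) lies in no prime strictly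
below `m`: for good `x` the element `x ^ E * j` has an honest pole at `m`: `φ (x ^ E * j) * g = h`, `g ∈ m`, `h ∉ m`,
and moreover `h * g ^ n ∈ (f)`. -/
theorem exists_pole_mul (m : Ideal B) [hm : m.IsPrime] (f : B) (hf : f ∈ m)
    [IsLocalization.Away f C] (φ : A →+* C) (hgen : Algebra.adjoin B (Set.range φ) = ⊤)
    (Bm : Type u) [CommRing Bm] [Algebra B Bm] [IsLocalization.AtPrime Bm m] [IsNoetherianRing Bm]
    (hdim : Ring.KrullDimLE 1 Bm)
    (hfV : ∀ q : Ideal B, q.IsPrime → q ≤ m → f ∈ q → q = m)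
    (j : A) (k : ℕ) (b : B) (hjb : φ j * algebraMap B C f ^ k = algebraMap B C b)
    (hb : ∀ q : Ideal B, q.IsPrime → q ≤ m → b ∈ q → q = m) :
    ∃ (ι : Type u) (_ : Finite ι) (w : ι → Valuation A ℤᵐ⁰), (∀ i, ∃ a, 1 < w i a) ∧
      ∀ x, (∀ i, 1 < w i x) → ∃ E : ℕ, 0 < E ∧ ∃ g ∈ m, ∃ h, h ∉ m ∧
        φ (x ^ E * j) * algebraMap B C g = algebraMap B C h ∧ ∃ (n : ℕ) (r : B), h * g ^ n = f * r := by
  obtain ⟨ι, hι, w, hw1, hw2⟩ := exists_valuations_pole_of_local m f hf φ hgen Bm hdim hfV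
  refine ⟨ι, hι, w, hw1, fun x hx => ?_⟩
  obtain ⟨E₀, hE₀, g₀, hg₀, h₀, hh₀, hrel⟩ := hw2 x hx
  obtain ⟨t, ht, M, r, htr⟩ := exists_mul_pow_eq_mul m Bm b hb g₀ hg₀
  -- the element with an honest pole
  have hg₁ : r * g₀ * f ^ k ∈ m := Ideal.mul_mem_right _ _ (Ideal.mul_mem_left _ _ hg₀)
  have hh₁ : t * h₀ ^ (M + 1) ∉ m := by
    intro h
    rcases hm.mem_or_mem h with h | h
    · exact ht h
    · exact hh₀ (hm.mem_of_pow_mem _ h)
  have hrel₁ : φ (x ^ (E₀ * (M + 1)) * j) * algebraMap B C (r * g₀ * f ^ k) =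
      algebraMap B C (t * h₀ ^ (M + 1)) := by
    have e1 : algebraMap B C t * algebraMap B C g₀ ^ M = algebraMap B C b * algebraMap B C r := by
      rw [← map_pow, ← map_mul, ← map_mul, htr]
    rw [map_mul, map_pow, map_mul, map_mul, map_pow, map_mul, map_pow, pow_mul]
    calc (φ x ^ E₀) ^ (M + 1) * φ j * (algebraMap B C r * algebraMap B C g₀ * algebraMap B C f ^ k)
        = (φ x ^ E₀) ^ (M + 1) * (φ j * algebraMap B C f ^ k) * algebraMap B C r * algebraMap B C g₀ := by ring
      _ = (φ x ^ E₀) ^ (M + 1) * (algebraMap B C b * algebraMap B C r) * algebraMap B C g₀ := by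
          rw [hjb]; ring
      _ = (φ x ^ E₀) ^ (M + 1) * (algebraMap B C t * algebraMap B C g₀ ^ M) * algebraMap B C g₀ := by rw [e1]
      _ = algebraMap B C t * (φ x ^ E₀ * algebraMap B C g₀) ^ (M + 1) := by ring
      _ = algebraMap B C t * algebraMap B C h₀ ^ (M + 1) := by rw [hrel]
  -- `g` is in the radical of `(f)` near `m`
  obtain ⟨t', ht', n, r', htr'⟩ := exists_mul_pow_eq_mul m Bm f hfV (r * g₀ * f ^ k) hg₁
  refine ⟨E₀ * (M + 1), Nat.mul_pos hE₀ (Nat.succ_pos M), r * g₀ * f ^ k * t', Ideal.mul_mem_right _ _ hg₁,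
    t * h₀ ^ (M + 1) * t', ?_, ?_, n, t * h₀ ^ (M + 1) * t' ^ n * r', ?_⟩
  · intro h
    rcases hm.mem_or_mem h with h | h
    · exact hh₁ h
    · exact ht' h
  · rw [map_mul (algebraMap B C) (r * g₀ * f ^ k) t', ← mul_assoc, hrel₁, ← map_mul]
  · linear_combination (t * h₀ ^ (M + 1) * t' ^ n) * htr'

end PoleLocal

end Groth.Agent.Lib.Helper18.Pole
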