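import Mathlib
import Groth.Agent.Lib.Helper18.Pole5
import Groth.Agent.Lib.Helper18.Pole3

/-!
# Good neighbourhoods and pole functions at a point with Noetherian local ring of dimension `≤ 1` (helper18)

`X` a (quasi-)separated scheme which need not be Noetherian nor of dimension one; `U` an affine open, `c ∉ U` a point
whose local ring is Noetherian of dimension `≤ 1` and all of whose proper generizations lie in `U`.

* `fromSpec_specializes`, `primeIdealOf_le_of_specializes`: specialization and inclusion of primes in an affine open.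
* `exists_nbhd_basicOpen_eq`: an affine open `W ∋ c` and `f ∈ Γ(X, W)` with `D(f) = U ⊓ W`.
* `finite_generizations`: `c` has finitely many generizations.
* `exists_pole_pair`: `a ∈ Γ(X, U)` with `D(a) ⊆ W`, an affine open `N ∋ c`, `N ⊆ W`, and `σ ∈ Γ(X, N)` with `D(σ) ⊆ U`
  and `σ · a = 1` on `N ⊓ U`.
-/

set_option autoImplicit false
universe u
open CategoryTheory CategoryTheory.Limits AlgebraicGeometry TopologicalSpace Opposite
open scoped WithZero

namespace Groth.Agent.Lib.Helper18.Pole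

open Groth.Agent.Lib.Lead.DiscCompl

variable {X : Scheme.{u}}

theorem fromSpec_specializes {W : X.Opens} (hW : IsAffineOpen W) (q q' : PrimeSpectrum Γ(X, W))
    (h : q.asIdeal ≤ q'.asIdeal) : hW.fromSpec q ⤳ hW.fromSpec q' :=
  ((PrimeSpectrum.le_iff_specializes q q').mp h).map hW.fromSpec.continuous

theorem primeIdealOf_le_of_specializes {W : X.Opens} (hW : IsAffineOpen W) (y c : X) (hy : y ∈ W) (hc : c ∈ W)
    (h : y ⤳ c) : (hW.primeIdealOf ⟨y, hy⟩).asIdeal ≤ (hW.primeIdealOf ⟨c, hc⟩).asIdeal := by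
  have h1 : hW.fromSpec (hW.primeIdealOf ⟨y, hy⟩) ⤳ hW.fromSpec (hW.primeIdealOf ⟨c, hc⟩) := by
    rw [hW.fromSpec_primeIdealOf ⟨y, hy⟩, hW.fromSpec_primeIdealOf ⟨c, hc⟩]
    exact h
  have h2 := hW.fromSpec.isOpenEmbedding.isInducing.specializes_iff.mp h1
  exact (PrimeSpectrum.le_iff_specializes _ _).mpr h2

/-- **a good affine neighbourhood**: `D(f) = U ⊓ W`. -/
theorem exists_nbhd_basicOpen_eq [QuasiSeparatedSpace X] (U : X.Opens) (hU : IsCompact (U : Set X))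
    (c : X) (hc : c ∉ U) (hN : IsNoetherianRing (X.presheaf.stalk c))
    (hdim : ringKrullDim (X.presheaf.stalk c) ≤ 1)
    (hgen : ∀ y : X, y ⤳ c → y ≠ c → y ∈ U) :
    ∃ (W : X.Opens) (f : Γ(X, W)), IsAffineOpen W ∧ c ∈ W ∧ X.basicOpen f = U ⊓ W := by
  classical
  obtain ⟨_, ⟨W₀, hW₀, rfl⟩, hcW₀, -⟩ :=
    X.isBasis_affineOpens.exists_subset_of_mem_open (Set.mem_univ c) isOpen_univ
  have hK : IsCompact ((U : Set X) ∩ W₀) :=
    QuasiSeparatedSpace.inter_isCompact _ _ U.isOpen hU W₀.isOpen hW₀.isCompact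
  set px := hW₀.primeIdealOf ⟨c, hcW₀⟩ with hpx
  have hfx : hW₀.fromSpec px = c := hW₀.fromSpec_primeIdealOf ⟨c, hcW₀⟩
  have hKc : IsCompact (hW₀.fromSpec ⁻¹' ((U : Set X) ∩ W₀)) :=
    hW₀.fromSpec.isOpenEmbedding.isInducing.isCompact_preimage' hK
      (by rw [hW₀.range_fromSpec]; exact Set.inter_subset_right)
  have hKo : IsOpen (hW₀.fromSpec ⁻¹' ((U : Set X) ∩ W₀)) :=
    (U.isOpen.inter W₀.isOpen).preimage hW₀.fromSpec.continuous
  obtain ⟨s, hs⟩ := PrimeSpectrum.isCompact_isOpen_iff.mp ⟨hKc, hKo⟩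
  have hmem : ∀ q : PrimeSpectrum Γ(X, W₀), (∀ g ∈ s, g ∈ q.asIdeal) ↔ hW₀.fromSpec q ∉ U := by
    intro q
    have h1 : q ∈ PrimeSpectrum.zeroLocus (s : Set Γ(X, W₀)) ↔
        q ∉ hW₀.fromSpec ⁻¹' ((U : Set X) ∩ W₀) := by
      rw [← hs]
      exact (not_not (a := q ∈ PrimeSpectrum.zeroLocus (s : Set Γ(X, W₀)))).symm
    have h2 : q ∈ hW₀.fromSpec ⁻¹' ((U : Set X) ∩ W₀) ↔ hW₀.fromSpec q ∈ U :=
      ⟨fun h => h.1, fun h => ⟨h, fromSpec_mem' hW₀ q⟩⟩
    rw [← h2, ← h1]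
    rfl
  have hsp : ∀ g ∈ s, g ∈ px.asIdeal := (hmem px).mpr (by rw [hfx]; exact hc)
  have hsq : ∀ q : Ideal Γ(X, W₀), q.IsPrime → q ≤ px.asIdeal → (∀ g ∈ s, g ∈ q) → q = px.asIdeal := by
    intro q hq hle hsq
    have h1 : hW₀.fromSpec ⟨q, hq⟩ ∉ U := (hmem ⟨q, hq⟩).mp hsq
    have h2 : hW₀.fromSpec ⟨q, hq⟩ ⤳ c := hfx ▸ fromSpec_specializes hW₀ ⟨q, hq⟩ px hle
    have h3 : hW₀.fromSpec ⟨q, hq⟩ = c := by
      by_contra h
      exact h1 (hgen _ h2 h)
    have h4 : (⟨q, hq⟩ : PrimeSpectrum Γ(X, W₀)) = px :=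
      hW₀.fromSpec.isOpenEmbedding.injective (h3.trans hfx.symm)
    exact congrArg PrimeSpectrum.asIdeal h4
  letI := TopCat.Presheaf.algebra_section_stalk X.presheaf (⟨c, hcW₀⟩ : W₀)
  haveI := hW₀.isLocalization_stalk ⟨c, hcW₀⟩
  obtain ⟨f, hfp, h, hhp, hfh⟩ := exists_f_h_of_finset px.asIdeal (X.presheaf.stalk c) hdim s hsp hsq
  have hle : X.basicOpen h ≤ W₀ := X.basicOpen_le h
  refine ⟨X.basicOpen h, X.presheaf.map (homOfLE hle).op f, hW₀.basicOpen h,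
    (mem_basicOpen_iff_primeIdealOf hW₀ h c hcW₀).mpr hhp, ?_⟩
  rw [Scheme.basicOpen_res]
  apply le_antisymm
  · rintro y ⟨hyh, hyf⟩
    refine ⟨?_, hyh⟩
    have hyW : y ∈ W₀ := hle hyh
    have h1 : h ∉ (hW₀.primeIdealOf ⟨y, hyW⟩).asIdeal := (mem_basicOpen_iff_primeIdealOf hW₀ h y hyW).mp hyh
    have h2 : f ∉ (hW₀.primeIdealOf ⟨y, hyW⟩).asIdeal := (mem_basicOpen_iff_primeIdealOf hW₀ f y hyW).mp hyf
    have h3 := (hfh _ (hW₀.primeIdealOf ⟨y, hyW⟩).isPrime h1).not.mp h2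
    rw [hmem, not_not, hW₀.fromSpec_primeIdealOf ⟨y, hyW⟩] at h3
    exact h3
  · rintro y ⟨hyU, hyh⟩
    refine ⟨hyh, ?_⟩
    have hyW : y ∈ W₀ := hle hyh
    have h1 : h ∉ (hW₀.primeIdealOf ⟨y, hyW⟩).asIdeal := (mem_basicOpen_iff_primeIdealOf hW₀ h y hyW).mp hyh
    change y ∈ X.basicOpen f
    rw [mem_basicOpen_iff_primeIdealOf hW₀ f y hyW, hfh _ (hW₀.primeIdealOf ⟨y, hyW⟩).isPrime h1, hmem, not_not,
      hW₀.fromSpec_primeIdealOf ⟨y, hyW⟩]
    exact hyU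

/-- a quasi-compact open `O ⊓ V` of an affine open `V` is the complement of the zero locus of a finite set of functions -/
theorem exists_finset_forall_mem_iff {V : X.Opens} (hV : IsAffineOpen V) (O : X.Opens)
    (hK : IsCompact ((O : Set X) ∩ V)) :
    ∃ s : Finset Γ(X, V), ∀ q : PrimeSpectrum Γ(X, V), (∀ g ∈ s, g ∈ q.asIdeal) ↔ hV.fromSpec q ∉ O := by
  have hKc : IsCompact (hV.fromSpec ⁻¹' ((O : Set X) ∩ V)) :=
    hV.fromSpec.isOpenEmbedding.isInducing.isCompact_preimage' hK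
      (by rw [hV.range_fromSpec]; exact Set.inter_subset_right)
  have hKo : IsOpen (hV.fromSpec ⁻¹' ((O : Set X) ∩ V)) :=
    (O.isOpen.inter V.isOpen).preimage hV.fromSpec.continuous
  obtain ⟨s, hs⟩ := PrimeSpectrum.isCompact_isOpen_iff.mp ⟨hKc, hKo⟩
  refine ⟨s, fun q => ?_⟩
  have h1 : q ∈ PrimeSpectrum.zeroLocus (s : Set Γ(X, V)) ↔
      q ∉ hV.fromSpec ⁻¹' ((O : Set X) ∩ V) := by
    rw [← hs]
    exact (not_not (a := q ∈ PrimeSpectrum.zeroLocus (s : Set Γ(X, V)))).symm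
  have h2 : q ∈ hV.fromSpec ⁻¹' ((O : Set X) ∩ V) ↔ hV.fromSpec q ∈ O :=
    ⟨fun h => h.1, fun h => ⟨h, fromSpec_mem' hV q⟩⟩
  rw [← h2, ← h1]
  rfl

/-- a point whose local ring is Noetherian of dimension `≤ 1` has finitely many generizations -/
theorem finite_generizations (c : X) (hN : IsNoetherianRing (X.presheaf.stalk c))
    (hdim : ringKrullDim (X.presheaf.stalk c) ≤ 1) : {y : X | y ⤳ c}.Finite := by
  obtain ⟨_, ⟨W, hW, rfl⟩, hcW, -⟩ :=
    X.isBasis_affineOpens.exists_subset_of_mem_open (Set.mem_univ c) isOpen_univ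
  set px := hW.primeIdealOf ⟨c, hcW⟩ with hpx
  letI := TopCat.Presheaf.algebra_section_stalk X.presheaf (⟨c, hcW⟩ : W)
  haveI := hW.isLocalization_stalk ⟨c, hcW⟩
  have hfin := finite_primes_lt px.asIdeal (X.presheaf.stalk c) hdim
  have hfin' : {q : PrimeSpectrum Γ(X, W) | q.asIdeal < px.asIdeal}.Finite := by
    refine Set.Finite.of_injOn (f := PrimeSpectrum.asIdeal) (t := {q | q.IsPrime ∧ q < px.asIdeal}) ?_ ?_ hfin
    · intro q hq
      exact ⟨q.isPrime, hq⟩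
    · intro q _ q' _ h
      exact PrimeSpectrum.ext h
  refine ((hfin'.union (Set.finite_singleton px)).image hW.fromSpec).subset ?_
  intro y hy
  have hyW : y ∈ W := hy.mem_open W.isOpen hcW
  refine ⟨hW.primeIdealOf ⟨y, hyW⟩, ?_, hW.fromSpec_primeIdealOf ⟨y, hyW⟩⟩
  have hle := primeIdealOf_le_of_specializes hW y c hyW hcW hy
  rcases hle.lt_or_eq with h | h
  · exact Or.inl h
  · exact Or.inr (PrimeSpectrum.ext h)

/-- **a function on `U` with an honest pole at `c`, supported in `W`** -/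
theorem exists_pole_pair [X.IsSeparated] (U W : X.Opens) (hU : IsAffineOpen U) (hW : IsAffineOpen W)
    (f : Γ(X, W)) (hUW : X.basicOpen f = U ⊓ W) (c : X) (hcW : c ∈ W) (hcU : c ∉ U)
    (hN : IsNoetherianRing (X.presheaf.stalk c)) (hdim : ringKrullDim (X.presheaf.stalk c) ≤ 1)
    (hgen : ∀ y : X, y ⤳ c → y ≠ c → y ∈ U) :
    ∃ (a : Γ(X, U)) (N : X.Opens) (σ : Γ(X, N)), IsAffineOpen N ∧ c ∈ N ∧ N ≤ W ∧ X.basicOpen a ≤ W ∧
      X.basicOpen σ ≤ U ∧
      rs (inf_le_left : N ⊓ U ≤ N) σ * rs (inf_le_right : N ⊓ U ≤ U) a = 1 := by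
  classical
  have hle : X.basicOpen f ≤ U := hUW.le.trans inf_le_left
  set px := hW.primeIdealOf ⟨c, hcW⟩ with hpx
  have hfx : hW.fromSpec px = c := hW.fromSpec_primeIdealOf ⟨c, hcW⟩
  letI := TopCat.Presheaf.algebra_section_stalk X.presheaf (⟨c, hcW⟩ : W)
  haveI := hW.isLocalization_stalk ⟨c, hcW⟩
  haveI hmP : px.asIdeal.IsPrime := px.isPrime
  -- points below `c`
  have hbelow : ∀ q : Ideal Γ(X, W), ∀ hq : q.IsPrime, q ≤ px.asIdeal → q ≠ px.asIdeal →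
      hW.fromSpec ⟨q, hq⟩ ⤳ c ∧ hW.fromSpec ⟨q, hq⟩ ≠ c := by
    intro q hq hqle hqne
    refine ⟨hfx ▸ fromSpec_specializes hW ⟨q, hq⟩ px hqle, fun h => hqne ?_⟩
    have h4 : (⟨q, hq⟩ : PrimeSpectrum Γ(X, W)) = px :=
      hW.fromSpec.isOpenEmbedding.injective (h.trans hfx.symm)
    exact congrArg PrimeSpectrum.asIdeal h4
  have hfm : f ∈ px.asIdeal := by
    by_contra h
    have : c ∈ X.basicOpen f := (mem_basicOpen_iff_primeIdealOf hW f c hcW).mpr h
    exact hcU (hle this)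
  have hfV : ∀ q : Ideal Γ(X, W), q.IsPrime → q ≤ px.asIdeal → f ∈ q → q = px.asIdeal := by
    intro q hq hqle hfq
    by_contra hne
    obtain ⟨h1, h2⟩ := hbelow q hq hqle hne
    have h3 : hW.fromSpec ⟨q, hq⟩ ∈ X.basicOpen f := by
      rw [hUW]
      exact ⟨hgen _ h1 h2, fromSpec_mem' hW _⟩
    exact ((fromSpec_mem_basicOpen_iff hW f ⟨q, hq⟩).mp h3) hfq
  -- the function `j`
  have hK : IsCompact ((W : Set X) ∩ U) :=
    QuasiSeparatedSpace.inter_isCompact _ _ W.isOpen hW.isCompact U.isOpen hU.isCompact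
  obtain ⟨S, hS⟩ := exists_finset_forall_mem_iff hU W hK
  let G : Finset X := ((finite_generizations c hN hdim).toFinset).filter (fun y => y ≠ c)
  have hG : ∀ y, y ∈ G ↔ y ⤳ c ∧ y ≠ c := by
    intro y
    simp [G]
  have hGU : ∀ y ∈ G, y ∈ U := fun y hy => hgen y ((hG y).mp hy).1 ((hG y).mp hy).2
  let P : X → Ideal Γ(X, U) := fun y => if h : y ∈ U then (hU.primeIdealOf ⟨y, h⟩).asIdeal else ⊤
  have hP : ∀ y (h : y ∈ U), P y = (hU.primeIdealOf ⟨y, h⟩).asIdeal := fun y h => dif_pos h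
  have hPprime : ∀ y ∈ G, (P y).IsPrime := by
    intro y hy
    rw [hP y (hGU y hy)]
    exact (hU.primeIdealOf ⟨y, hGU y hy⟩).isPrime
  obtain ⟨j, hjS, hjG⟩ : ∃ j ∈ Ideal.span (S : Set Γ(X, U)), ∀ y ∈ G, j ∉ P y := by
    by_contra hcon
    push Not at hcon
    have hsub : ((Ideal.span (S : Set Γ(X, U)) : Ideal Γ(X, U)) : Set Γ(X, U)) ⊆
        ⋃ y ∈ (G : Set X), (P y : Set Γ(X, U)) := by
      intro z hz
      obtain ⟨y, hy, hzy⟩ := hcon z hz
      exact Set.mem_biUnion (Finset.mem_coe.mpr hy) hzy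
    obtain ⟨y, hy, hyle⟩ := (Ideal.subset_union_prime (s := G) (f := P) c c
      (fun y hy _ _ => hPprime y hy)).mp hsub
    have hyU : y ∈ U := hGU y hy
    have hyW : y ∈ W := ((hG y).mp hy).1.mem_open W.isOpen hcW
    rw [hP y hyU] at hyle
    have h1 : ∀ g ∈ S, g ∈ (hU.primeIdealOf ⟨y, hyU⟩).asIdeal := fun g hg => hyle (Ideal.subset_span hg)
    rw [hS, hU.fromSpec_primeIdealOf ⟨y, hyU⟩] at h1
    exact h1 hyW
  have hjW : X.basicOpen j ≤ W := by
    intro y hy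
    have hyU : y ∈ U := X.basicOpen_le j hy
    by_contra hyW
    have h1 : ∀ g ∈ S, g ∈ (hU.primeIdealOf ⟨y, hyU⟩).asIdeal := by
      rw [hS, hU.fromSpec_primeIdealOf ⟨y, hyU⟩]
      exact hyW
    have h2 : j ∈ (hU.primeIdealOf ⟨y, hyU⟩).asIdeal := (Ideal.span_le.mpr h1) hjS
    exact ((mem_basicOpen_iff_primeIdealOf hU j y hyU).mp hy) h2
  -- numerator of `j`
  haveI := hW.isLocalization_basicOpen f
  obtain ⟨k, b, hjb⟩ := IsLocalization.Away.surj f (rs hle j)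
  have hb : ∀ q : Ideal Γ(X, W), q.IsPrime → q ≤ px.asIdeal → b ∈ q → q = px.asIdeal := by
    intro q hq hqle hbq
    by_contra hne
    obtain ⟨h1, h2⟩ := hbelow q hq hqle hne
    set y := hW.fromSpec ⟨q, hq⟩ with hy
    have hyG : y ∈ G := (hG y).mpr ⟨h1, h2⟩
    have hyU : y ∈ U := hGU y hyG
    have hyW : y ∈ W := fromSpec_mem' hW _
    have hyf : y ∈ X.basicOpen f := by rw [hUW]; exact ⟨hyU, hyW⟩
    have hyj : y ∈ X.basicOpen j := by
      rw [mem_basicOpen_iff_primeIdealOf hU j y hyU, ← hP y hyU]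
      exact hjG y hyG
    have h3 : y ∈ X.basicOpen (rs hle j * (rs (X.basicOpen_le f) f) ^ k) := by
      rw [Scheme.basicOpen_mul]
      refine ⟨?_, ?_⟩
      · rw [Scheme.basicOpen_res]
        exact ⟨hyf, hyj⟩
      · have hu : IsUnit ((rs (X.basicOpen_le f) f) ^ k) :=
          (X.toRingedSpace.isUnit_res_basicOpen f).pow k
        rw [Scheme.basicOpen_of_isUnit _ hu]
        exact hyf
    have h4 : rs hle j * (rs (X.basicOpen_le f) f) ^ k = rs (X.basicOpen_le f) b := hjb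
    rw [h4, Scheme.basicOpen_res] at h3
    exact ((fromSpec_mem_basicOpen_iff hW b ⟨q, hq⟩).mp h3.2) hbq
  -- the pole lemma
  have hgenA := Groth.Agent.Lib.Helper18.SepGen.adjoin_range_res_eq_top hU hW f hUW hle
  have hdim' : Ring.KrullDimLE 1 (X.presheaf.stalk c) := Ring.krullDimLE_iff.mpr (by exact_mod_cast hdim)
  obtain ⟨ι, hι, w, hw1, hw2⟩ := exists_pole_mul px.asIdeal f hfm (rs hle) hgenA (X.presheaf.stalk c) hdim'
    hfV j k b hjb hb
  obtain ⟨x, hx⟩ := exists_forall_one_lt w hw1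
  obtain ⟨E, hE, g, hg, h, hh, heq, n, r, hnr⟩ := hw2 x hx
  have heq' : rs hle (x ^ E * j) * rs (X.basicOpen_le f) g = rs (X.basicOpen_le f) h := heq
  have hNW : X.basicOpen h ≤ W := X.basicOpen_le h
  have hcN : c ∈ X.basicOpen h := (mem_basicOpen_iff_primeIdealOf hW h c hcW).mpr hh
  have hu : IsUnit (rs hNW h) := X.toRingedSpace.isUnit_res_basicOpen h
  refine ⟨x ^ E * j, X.basicOpen h, rs hNW g * ↑(hu.unit⁻¹), hW.basicOpen h, hcN, hNW, ?_, ?_, ?_⟩
  · rw [Scheme.basicOpen_mul]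
    exact inf_le_right.trans hjW
  · intro y hy
    have hyN : y ∈ X.basicOpen h := X.basicOpen_le _ hy
    have hyW : y ∈ W := hNW hyN
    rw [Scheme.basicOpen_mul] at hy
    have hyg : y ∈ X.basicOpen g := by
      have := hy.1
      rw [Scheme.basicOpen_res] at this
      exact this.2
    have h1 : h ∉ (hW.primeIdealOf ⟨y, hyW⟩).asIdeal := (mem_basicOpen_iff_primeIdealOf hW h y hyW).mp hyN
    have h2 : g ∉ (hW.primeIdealOf ⟨y, hyW⟩).asIdeal := (mem_basicOpen_iff_primeIdealOf hW g y hyW).mp hyg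
    have h3 : f ∉ (hW.primeIdealOf ⟨y, hyW⟩).asIdeal := by
      intro hf'
      have h4 : h * g ^ n ∈ (hW.primeIdealOf ⟨y, hyW⟩).asIdeal := by
        rw [hnr]
        exact Ideal.mul_mem_right _ _ hf'
      rcases (hW.primeIdealOf ⟨y, hyW⟩).isPrime.mem_or_mem h4 with h5 | h5
      · exact h1 h5
      · exact h2 ((hW.primeIdealOf ⟨y, hyW⟩).isPrime.mem_of_pow_mem n h5)
    exact hle ((mem_basicOpen_iff_primeIdealOf hW f y hyW).mpr h3)
  · have hOf : X.basicOpen h ⊓ U ≤ X.basicOpen f := by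
      rw [hUW]
      exact le_inf inf_le_right (inf_le_left.trans hNW)
    have h3 := congrArg (rs hOf) heq'
    rw [map_mul, rs_rs, rs_rs, rs_rs] at h3
    have h4 : rs (inf_le_left : X.basicOpen h ⊓ U ≤ X.basicOpen h) (rs hNW g) =
        rs (hOf.trans (X.basicOpen_le f)) g := rs_rs _ _ _
    have h5 : rs (inf_le_left : X.basicOpen h ⊓ U ≤ X.basicOpen h) (rs hNW h) =
        rs (hOf.trans (X.basicOpen_le f)) h := rs_rs _ _ _
    rw [map_mul, h4]
    calc rs _ g * rs inf_le_left (↑(hu.unit⁻¹) : Γ(X, X.basicOpen h)) * rs _ (x ^ E * j)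
        = (rs (hOf.trans hle) (x ^ E * j) * rs (hOf.trans (X.basicOpen_le f)) g) *
            rs inf_le_left (↑(hu.unit⁻¹) : Γ(X, X.basicOpen h)) := by ring
      _ = rs inf_le_left (rs hNW h) * rs inf_le_left (↑(hu.unit⁻¹) : Γ(X, X.basicOpen h)) := by
          rw [h3, h5]
      _ = 1 := by
          rw [← map_mul, hu.mul_val_inv, map_one]

end Groth.Agent.Lib.Helper18.Pole
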