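import Mathlib
import Groth.Agent.Lib.Helper18.DimOneGlue2
import Groth.Agent.Lib.Helper18.Pole6
import Groth.Agent.Lib.Helper12.PullAmpleRel
import Groth.Agent.Lib.Helper11.FiniteAffine

/-!
# Two affine charts glued by a function with a pole (helper18; for `S0217`)

* `exists_invertible_two_sections'`: `DimOneGlue.exists_invertible_two_sections` with the symmetric fourth clause
  (on `V` the section `t` generates only where `a` is invertible).
* `exists_affineOpen_of_two_charts`: `X` separated, `U`, `N` affine opens, `N ⊆ W` with `W` affine, `σ ∈ Γ(N)`,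
  `a ∈ Γ(U)` with `σ · a = 1` on `N ⊓ U`, `D(σ) ⊆ U`, `D(a) ⊆ W`: every finite subset of `U ∪ N` lies in an affine open
  (the glued invertible module on `U ∪ N` is ample: `X_s = U` is affine and `X_t ⊆ W` is quasi-affine).
-/

set_option autoImplicit false
universe u
open CategoryTheory CategoryTheory.Limits AlgebraicGeometry TopologicalSpace Opposite
open Scheme.Modules

namespace Groth.Agent.Lib.Helper18.TwoChart

open Groth.Agent.Lib.Helper18.PtSection Groth.Agent.Lib.Helper18.DimOneGlue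
open Groth.Agent.Lib.helper11.IsoLocus Groth.Agent.Lib.helper11.GenLocus

variable {X : Scheme.{u}}

/-- **an invertible module with two sections** glued from mutually inverse functions `f` on `W` and `a` on `V`:
`s = (f on W, 1 on V)` and `t = (1 on W, a on V)`. -/
theorem exists_invertible_two_sections' (W V : X.Opens) (f : Γ(X, W)) (a : Γ(X, V))
    (hfa : (X.presheaf.map (homOfLE (inf_le_left : W ⊓ V ≤ W)).op).hom f *
      (X.presheaf.map (homOfLE (inf_le_right : W ⊓ V ≤ V)).op).hom a = 1)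
    (hcov : ∀ x : X, x ∈ W ∨ x ∈ V) :
    ∃ (L : X.Modules) (s t : Coh.structureModule X ⟶ L), PicF.IsInvertible L ∧
      V ≤ isoLocus s ∧ W ≤ isoLocus t ∧
      (∀ x ∈ W, x ∈ isoLocus s → x ∈ X.basicOpen f) ∧
      (∀ x ∈ V, x ∈ isoLocus t → x ∈ X.basicOpen a) := by
  have hf : ∀ x ∈ W, x ∈ V → x ∈ X.basicOpen f := by
    intro x hxW hxV
    have hu : IsUnit ((X.presheaf.map (homOfLE (inf_le_left : W ⊓ V ≤ W)).op).hom f) :=
      IsUnit.of_mul_eq_one _ hfa
    rw [X.mem_basicOpen f x hxW]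
    have h2 := hu.map (X.presheaf.germ (W ⊓ V) x ⟨hxW, hxV⟩).hom
    rwa [TopCat.Presheaf.germ_res_apply] at h2
  obtain ⟨L, gs, hL, hbij, hrel⟩ := Groth.Agent.S10963.result X (cov W V) (iSup_cov W V hcov)
    (eta W V f hf) (eta_cocycle W V f hf)
  let gW : Γ(L, W) := gs ⟨true⟩
  let gV : Γ(L, V) := gs ⟨false⟩
  let F : TopCat.Sheaf Ab X := ⟨L.presheaf, L.isSheaf⟩
  -- relations
  have hrelWV : L.presheaf.map (homOfLE (inf_le_left : W ⊓ V ≤ W)).op gW =
      ((uf f hf (W ⊓ V) inf_le_left inf_le_right)⁻¹ : (Γ(X, W ⊓ V))ˣ) •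
        L.presheaf.map (homOfLE (inf_le_right : W ⊓ V ≤ V)).op gV := hrel ⟨true⟩ ⟨false⟩
  have hrelVW : L.presheaf.map (homOfLE (inf_le_left : V ⊓ W ≤ V)).op gV =
      ((uf f hf (V ⊓ W) inf_le_right inf_le_left) : (Γ(X, V ⊓ W))ˣ) •
        L.presheaf.map (homOfLE (inf_le_right : V ⊓ W ≤ W)).op gW := hrel ⟨false⟩ ⟨true⟩
  have hfaO : ∀ (O : X.Opens) (hOW : O ≤ W) (hOV : O ≤ V),
      (X.presheaf.map (homOfLE hOW).op).hom f * (X.presheaf.map (homOfLE hOV).op).hom a = 1 := by
    intro O hOW hOV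
    have := congrArg (X.presheaf.map (homOfLE (le_inf hOW hOV)).op).hom hfa
    rw [map_mul, map_one, ← CommRingCat.comp_apply, ← CommRingCat.comp_apply, ← Functor.map_comp,
      ← Functor.map_comp] at this
    exact this
  -- first section
  let t₁ : ∀ i : ULift.{u} Bool, Γ(L, cov W V i)
    | ⟨false⟩ => gV
    | ⟨true⟩ => (show Γ(L, W) from f • gW)
  have compat₁ : TopCat.Presheaf.IsCompatible F.1 (cov W V) t₁ := by
    rintro ⟨i⟩ ⟨j⟩
    cases i <;> cases j
    · rfl
    · have h2 := Scheme.Modules.map_smul L (homOfLE (inf_le_right : V ⊓ W ≤ W)) f gW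
      exact hrelVW.trans h2.symm
    · have h2 := Scheme.Modules.map_smul L (homOfLE (inf_le_left : W ⊓ V ≤ W)) f gW
      refine h2.trans ?_
      rw [hrelWV]
      have h4 : (X.presheaf.map (homOfLE (inf_le_left : W ⊓ V ≤ W)).op).hom f =
          ((uf f hf (W ⊓ V) inf_le_left inf_le_right : (Γ(X, W ⊓ V))ˣ) : Γ(X, W ⊓ V)) := rfl
      rw [h4, Units.smul_def, ← mul_smul, Units.mul_inv, one_smul]
      rfl
    · rfl
  obtain ⟨σ₁, hσ₁, -⟩ := F.existsUnique_gluing' (cov W V) ⊤ (fun i => homOfLE le_top)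
    (by rw [iSup_cov W V hcov]) t₁ compat₁
  -- second section
  let t₂ : ∀ i : ULift.{u} Bool, Γ(L, cov W V i)
    | ⟨false⟩ => (show Γ(L, V) from a • gV)
    | ⟨true⟩ => gW
  have compat₂ : TopCat.Presheaf.IsCompatible F.1 (cov W V) t₂ := by
    rintro ⟨i⟩ ⟨j⟩
    cases i <;> cases j
    · rfl
    · have h2 := Scheme.Modules.map_smul L (homOfLE (inf_le_left : V ⊓ W ≤ V)) a gV
      refine h2.trans ?_
      rw [hrelVW, Units.smul_def, ← mul_smul]
      have h4 : ((uf f hf (V ⊓ W) inf_le_right inf_le_left : (Γ(X, V ⊓ W))ˣ) : Γ(X, V ⊓ W)) =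
          (X.presheaf.map (homOfLE (inf_le_right : V ⊓ W ≤ W)).op).hom f := rfl
      rw [h4, mul_comm, hfaO (V ⊓ W) inf_le_right inf_le_left, one_smul]
      rfl
    · have h2 := Scheme.Modules.map_smul L (homOfLE (inf_le_right : W ⊓ V ≤ V)) a gV
      refine Eq.trans ?_ h2.symm
      refine hrelWV.trans ?_
      have h4 : (((uf f hf (W ⊓ V) inf_le_left inf_le_right)⁻¹ : (Γ(X, W ⊓ V))ˣ) : Γ(X, W ⊓ V)) =
          (X.presheaf.map (homOfLE (inf_le_right : W ⊓ V ≤ V)).op).hom a :=
        Units.inv_eq_of_mul_eq_one_right (hfaO (W ⊓ V) inf_le_left inf_le_right)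
      rw [Units.smul_def, h4]
    · rfl
  obtain ⟨σ₂, hσ₂, -⟩ := F.existsUnique_gluing' (cov W V) ⊤ (fun i => homOfLE le_top)
    (by rw [iSup_cov W V hcov]) t₂ compat₂
  let s : Coh.structureModule X ⟶ L := Groth.Agent.Lib.Helper20.SplitH1.homOfGlobal L σ₁
  let t : Coh.structureModule X ⟶ L := Groth.Agent.Lib.Helper20.SplitH1.homOfGlobal L σ₂
  have hsec : ∀ O : X.Opens, sec s O = L.presheaf.map (homOfLE (le_top : O ≤ ⊤)).op σ₁ := fun O =>
    Groth.Agent.Lib.Helper20.SplitH1.homOfGlobal_app_one L σ₁ (op O)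
  have hsect : ∀ O : X.Opens, sec t O = L.presheaf.map (homOfLE (le_top : O ≤ ⊤)).op σ₂ := fun O =>
    Groth.Agent.Lib.Helper20.SplitH1.homOfGlobal_app_one L σ₂ (op O)
  have hsecV : ∀ (O : X.Opens) (h : O ≤ V), sec s O = L.presheaf.map (homOfLE h).op gV := by
    intro O h
    rw [hsec O]
    have h1 : L.presheaf.map (homOfLE (le_top : V ≤ ⊤)).op σ₁ = gV := hσ₁ ⟨false⟩
    rw [← h1, ← ConcreteCategory.comp_apply, ← Functor.map_comp]
    rfl
  have hsectW : ∀ (O : X.Opens) (h : O ≤ W), sec t O = L.presheaf.map (homOfLE h).op gW := by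
    intro O h
    rw [hsect O]
    have h1 : L.presheaf.map (homOfLE (le_top : W ≤ ⊤)).op σ₂ = gW := hσ₂ ⟨true⟩
    rw [← h1, ← ConcreteCategory.comp_apply, ← Functor.map_comp]
    rfl
  have hsecW : sec s W = f • gW := by
    rw [hsec W]
    exact hσ₁ ⟨true⟩
  have hsectV : sec t V = a • gV := by
    rw [hsect V]
    exact hσ₂ ⟨false⟩
  refine ⟨L, s, t, hL, ?_, ?_, fun x hxW hx =>
    mem_basicOpen_of_mem_isoLocus s f gW (fun O h => hbij ⟨true⟩ O h) hsecW x hxW hx, fun x hxV hx =>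
    mem_basicOpen_of_mem_isoLocus t a gV (fun O h => hbij ⟨false⟩ O h) hsectV x hxV hx⟩
  · rw [le_isoLocus_iff, isIso_restrict_iff_app]
    intro O hO
    rw [ConcreteCategory.isIso_iff_bijective]
    have key : ∀ b : Γ(X, O), (s.app O).hom (b : Γ(Coh.structureModule X, O)) =
        b • L.presheaf.map (homOfLE hO).op gV := fun b => by
      rw [app_apply, hsecV O hO]
    have hb := hbij ⟨false⟩ O hO
    constructor
    · intro b c hbc
      exact hb.1 ((key b).symm.trans (hbc.trans (key c)))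
    · intro m
      obtain ⟨b, hb'⟩ := hb.2 m
      exact ⟨b, (key b).trans hb'⟩
  · rw [le_isoLocus_iff, isIso_restrict_iff_app]
    intro O hO
    rw [ConcreteCategory.isIso_iff_bijective]
    have key : ∀ b : Γ(X, O), (t.app O).hom (b : Γ(Coh.structureModule X, O)) =
        b • L.presheaf.map (homOfLE hO).op gW := fun b => by
      rw [app_apply, hsectW O hO]
    have hb := hbij ⟨true⟩ O hO
    constructor
    · intro b c hbc
      exact hb.1 ((key b).symm.trans (hbc.trans (key c)))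
    · intro m
      obtain ⟨b, hb'⟩ := hb.2 m
      exact ⟨b, (key b).trans hb'⟩


open Groth.Agent.Lib.Helper18.Pole in
/-- **finite sets of points in the union of two affine charts glued by a pole function lie in an affine open** -/
theorem exists_affineOpen_of_two_charts [X.IsSeparated] (U N W : X.Opens) (hU : IsAffineOpen U)
    (hN : IsAffineOpen N) (hW : IsAffineOpen W) (hNW : N ≤ W) (σ : Γ(X, N)) (a : Γ(X, U))
    (hσa : rs (inf_le_left : N ⊓ U ≤ N) σ * rs (inf_le_right : N ⊓ U ≤ U) a = 1)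
    (hσU : X.basicOpen σ ≤ U) (haW : X.basicOpen a ≤ W)
    (Z : Set X) (hZ : Z.Finite) (hZUN : Z ⊆ ((U ⊔ N : X.Opens) : Set X)) :
    ∃ V : X.Opens, IsAffineOpen V ∧ Z ⊆ V := by
  classical
  set O : X.Opens := U ⊔ N with hO
  let Y : Scheme.{u} := O
  let ι : Y ⟶ X := O.ι
  have hUO : U ≤ ι.opensRange := by rw [Scheme.Opens.opensRange_ι]; exact le_sup_left
  have hNO : N ≤ ι.opensRange := by rw [Scheme.Opens.opensRange_ι]; exact le_sup_right
  let U' : Y.Opens := ι ⁻¹ᵁ U
  let N' : Y.Opens := ι ⁻¹ᵁ N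
  have hU' : IsAffineOpen U' := hU.preimage_of_isOpenImmersion ι hUO
  have hN' : IsAffineOpen N' := hN.preimage_of_isOpenImmersion ι hNO
  let σ' : Γ(Y, N') := (ι.app N).hom σ
  let a' : Γ(Y, U') := (ι.app U).hom a
  have hcov : ∀ y : Y, y ∈ N' ∨ y ∈ U' := by
    intro y
    have hy : ι y ∈ O := by
      have : ι y ∈ ι.opensRange := ⟨y, rfl⟩
      rwa [Scheme.Opens.opensRange_ι] at this
    rcases hy with h | h
    · exact Or.inr h
    · exact Or.inl h
  have hfa : (Y.presheaf.map (homOfLE (inf_le_left : N' ⊓ U' ≤ N')).op).hom σ' *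
      (Y.presheaf.map (homOfLE (inf_le_right : N' ⊓ U' ≤ U')).op).hom a' = 1 := by
    have h1 := congrArg (ι.app (N ⊓ U)).hom hσa
    rw [map_mul, map_one] at h1
    have e1 : (ι.app (N ⊓ U)).hom (rs (inf_le_left : N ⊓ U ≤ N) σ) =
        (Y.presheaf.map (homOfLE (inf_le_left : N' ⊓ U' ≤ N')).op).hom σ' := by
      have := ι.naturality (homOfLE (inf_le_left : N ⊓ U ≤ N)).op
      exact congrArg (fun φ => φ.hom σ) this
    have e2 : (ι.app (N ⊓ U)).hom (rs (inf_le_right : N ⊓ U ≤ U) a) =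
        (Y.presheaf.map (homOfLE (inf_le_right : N' ⊓ U' ≤ U')).op).hom a' := by
      have := ι.naturality (homOfLE (inf_le_right : N ⊓ U ≤ U)).op
      exact congrArg (fun φ => φ.hom a) this
    rw [e1, e2] at h1
    exact h1
  obtain ⟨L, s, t, hL, hUs, hNt, hs, ht⟩ := exists_invertible_two_sections' N' U' σ' a' hfa hcov
  have hσ' : Y.basicOpen σ' = ι ⁻¹ᵁ X.basicOpen σ := (Scheme.preimage_basicOpen ι σ).symm
  have ha' : Y.basicOpen a' = ι ⁻¹ᵁ X.basicOpen a := (Scheme.preimage_basicOpen ι a).symm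
  -- the two loci
  have hs_eq : isoLocus s = U' := by
    apply le_antisymm _ hUs
    intro y hy
    rcases hcov y with h | h
    · have h1 := hs y h hy
      rw [hσ'] at h1
      exact hσU h1
    · exact h
  have ht_le : isoLocus t ≤ ι ⁻¹ᵁ W := by
    intro y hy
    rcases hcov y with h | h
    · exact hNW h
    · have h1 := ht y h hy
      rw [ha'] at h1
      exact haW h1
  -- compactness and separatedness of `Y`
  haveI : CompactSpace Y := by
    have h : IsCompact ((O : X.Opens) : Set X) := by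
      have : ((O : X.Opens) : Set X) = (U : Set X) ∪ N := by rw [hO]; rfl
      rw [this]
      exact hU.isCompact.union hN.isCompact
    exact isCompact_iff_compactSpace.mp h
  haveI : QuasiSeparatedSpace Y := ι.isOpenEmbedding.quasiSeparatedSpace
  -- quasi-affineness of the second locus
  have hqa : (↑(isoLocus t) : Scheme.{u}).IsQuasiAffine := by
    haveI : IsAffine (↑W : Scheme.{u}) := hW
    have hc : IsCompact (isoLocus t : Set Y) := by
      rw [← genLocus_eq_isoLocus]
      exact Groth.Agent.Lib.helper11.FiniteAffine.isCompact_genLocus hL t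
    haveI : CompactSpace (↑(isoLocus t) : Scheme.{u}) := isCompact_iff_compactSpace.mp hc
    have hrange : Set.range ((isoLocus t).ι ≫ ι) ⊆ Set.range W.ι := by
      rintro _ ⟨y, rfl⟩
      rw [Scheme.Opens.range_ι]
      exact ht_le y.2
    let g : (↑(isoLocus t) : Scheme.{u}) ⟶ (↑W : Scheme.{u}) :=
      IsOpenImmersion.lift W.ι ((isoLocus t).ι ≫ ι) hrange
    haveI : IsOpenImmersion g := by
      have h1 : g ≫ W.ι = (isoLocus t).ι ≫ ι := IsOpenImmersion.lift_fac _ _ _
      have : IsOpenImmersion (g ≫ W.ι) := by rw [h1]; infer_instance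
      exact IsOpenImmersion.of_comp g W.ι
    exact Scheme.IsQuasiAffine.of_isImmersion g
  -- ampleness
  have hamp : CohB1.IsAmple L := by
    apply Groth.Agent.Lib.helper12.PullAmpleRel.isAmple_of_quasiAffine_cover hL
    intro y
    rcases hcov y with h | h
    · refine ⟨isoLocus t, ⟨0, t ≫ (Groth.Agent.Lib.Lead.ModTensor.tensorPowOne L).inv, ?_⟩, hNt h, hqa⟩
      rw [← genLocus_eq_isoLocus]
      exact (genLocus_comp_iso t (Groth.Agent.Lib.Lead.ModTensor.tensorPowOne L).symm).symm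
    · refine ⟨isoLocus s, ⟨0, s ≫ (Groth.Agent.Lib.Lead.ModTensor.tensorPowOne L).inv, ?_⟩, hUs h, ?_⟩
      · rw [← genLocus_eq_isoLocus]
        exact (genLocus_comp_iso s (Groth.Agent.Lib.Lead.ModTensor.tensorPowOne L).symm).symm
      · rw [hs_eq]
        haveI : IsAffine (↑U' : Scheme.{u}) := hU'
        infer_instance
  -- the finite set
  have hZ' : (ι ⁻¹' Z).Finite := hZ.preimage (ι.isOpenEmbedding.injective.injOn)
  obtain ⟨n, s'', hZs, -, haff⟩ := Groth.Agent.Lib.helper11.FiniteAffine.exists_affine_genLocus_of_finite hamp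
    (ι ⁻¹' Z) hZ' ⊤ (Set.subset_univ _)
  refine ⟨ι ''ᵁ (CohB1.genLocus _ s''), haff.image_of_isOpenImmersion ι, ?_⟩
  intro z hz
  have hzO : z ∈ O := hZUN hz
  exact ⟨⟨z, hzO⟩, hZs (show ι ⟨z, hzO⟩ ∈ Z from hz), rfl⟩

end Groth.Agent.Lib.Helper18.TwoChart
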