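import Mathlib
import Groth.Agent.Lib.Helper18.TwoChart
import Groth.Agent.Lib.Helper1.DimZeroAffine

/-!
# Finitely many points with Noetherian local rings of dimension `≤ 1` lie in an affine open (helper18; `S0217`)

`X` separated.

* `exists_affineOpen_insert`: `U` affine open, `Z ⊆ U` finite, `c ∉ U` with `O_{X,c}` Noetherian of dimension `≤ 1` and
  all proper generizations of `c` in `U`: some affine open contains `Z ∪ {c}` (pole lemma `Pole6.exists_pole_pair` +
  `TwoChart.exists_affineOpen_of_two_charts`).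
* `ringKrullDim_stalk_eq_zero_of_specializes`: proper generizations of a point of dimension `≤ 1` have dimension `0`.
* `exists_affineOpen_of_finite_dim_le_one`: the result (no hypothesis on irreducible components is needed).
-/

set_option autoImplicit false
universe u
open CategoryTheory CategoryTheory.Limits AlgebraicGeometry TopologicalSpace Opposite

namespace Groth.Agent.Lib.Helper18.FinAffDimOne

open Groth.Agent.Lib.Helper18.Pole Groth.Agent.Lib.Helper18.TwoChart

variable {X : Scheme.{u}}

/-- adding one point of dimension `≤ 1` to a finite subset of an affine open -/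
theorem exists_affineOpen_insert [X.IsSeparated] (U : X.Opens) (hU : IsAffineOpen U) (c : X) (hc : c ∉ U)
    (hN : IsNoetherianRing (X.presheaf.stalk c)) (hdim : ringKrullDim (X.presheaf.stalk c) ≤ 1)
    (hgen : ∀ y : X, y ⤳ c → y ≠ c → y ∈ U) (Z : Set X) (hZ : Z.Finite) (hZU : Z ⊆ U) :
    ∃ V : X.Opens, IsAffineOpen V ∧ Z ⊆ V ∧ c ∈ V := by
  obtain ⟨W, f, hW, hcW, hUW⟩ := exists_nbhd_basicOpen_eq U hU.isCompact c hc hN hdim hgen
  obtain ⟨a, N, σ, hNaff, hcN, hNW, haW, hσU, hσa⟩ :=
    exists_pole_pair U W hU hW f hUW c hcW hc hN hdim hgen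
  obtain ⟨V, hV, hZV⟩ := exists_affineOpen_of_two_charts U N W hU hNaff hW hNW σ a hσa hσU haW
    (Z ∪ {c}) (hZ.union (Set.finite_singleton c)) (by
      rintro z (hz | hz)
      · exact Or.inl (hZU hz)
      · rw [Set.mem_singleton_iff] at hz
        subst hz
        exact Or.inr hcN)
  exact ⟨V, hV, fun z hz => hZV (Or.inl hz), hZV (Or.inr rfl)⟩

/-- a proper generization of a point whose local ring has dimension `≤ 1` has a zero-dimensional local ring -/
theorem ringKrullDim_stalk_eq_zero_of_specializes (c y : X) (hdim : ringKrullDim (X.presheaf.stalk c) ≤ 1)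
    (hy : y ⤳ c) (hne : y ≠ c) : ringKrullDim (X.presheaf.stalk y) = 0 := by
  rw [ringKrullDim_stalk_eq_coheight] at hdim ⊢
  have hle : c ≤ y := hy
  have hlt : c < y := by
    refine lt_iff_le_not_ge.mpr ⟨hle, fun h => hne ?_⟩
    have h' : c ⤳ y := h
    exact (hy.antisymm h').eq
  have h1 : Order.coheight y + 1 ≤ Order.coheight c := Order.coheight_add_one_le hlt
  have h2 : Order.coheight c ≤ 1 := by exact_mod_cast hdim
  have h3 : Order.coheight y = 0 := by
    have h4 : Order.coheight y + 1 ≤ 1 := h1.trans h2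
    generalize Order.coheight y = e at h4
    enat_to_nat
    omega
  rw [h3]
  rfl

/-- **finitely many points whose local rings are Noetherian of dimension `≤ 1` lie in a common affine open** of a
separated scheme -/
theorem exists_affineOpen_of_finite_dim_le_one (X : Scheme.{u}) [X.IsSeparated] (s : Finset X)
    (hs : ∀ x ∈ s, IsNoetherianRing (X.presheaf.stalk x) ∧ ringKrullDim (X.presheaf.stalk x) ≤ 1) :
    ∃ U : X.Opens, IsAffineOpen U ∧ ∀ x ∈ s, x ∈ U := by
  classical
  -- the zero-dimensional generizations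
  let F₀ : Set X := {y | ringKrullDim (X.presheaf.stalk y) = 0 ∧ ∃ x ∈ s, y ⤳ x}
  have hF₀ : F₀.Finite := by
    have h1 : (⋃ x ∈ s, {y : X | y ⤳ x}).Finite := by
      refine Set.Finite.biUnion s.finite_toSet ?_
      intro x hx
      exact finite_generizations x (hs x hx).1 (hs x hx).2
    refine h1.subset ?_
    rintro y ⟨-, x, hx, hyx⟩
    exact Set.mem_biUnion hx hyx
  obtain ⟨U₀, hU₀, hFU₀⟩ := Groth.Agent.H1.DimZeroAffine.exists_affineOpen_of_finite_dimZero F₀ hF₀
    (fun u hu => hu.1)
  suffices H : ∀ s' : Finset X, s' ⊆ s → ∃ V : X.Opens, IsAffineOpen V ∧ F₀ ⊆ V ∧ ∀ x ∈ s', x ∈ V by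
    obtain ⟨V, hV, -, hsV⟩ := H s subset_rfl
    exact ⟨V, hV, hsV⟩
  intro s'
  induction s' using Finset.induction_on with
  | empty => exact fun _ => ⟨U₀, hU₀, hFU₀, fun x hx => absurd hx (Finset.notMem_empty x)⟩
  | insert c s'' hcs ih =>
    intro hsub
    have hcs' : c ∈ s := hsub (Finset.mem_insert_self c s'')
    obtain ⟨V, hV, hFV, hsV⟩ := ih (fun x hx => hsub (Finset.mem_insert_of_mem hx))
    by_cases hcV : c ∈ V
    · refine ⟨V, hV, hFV, fun x hx => ?_⟩
      rcases Finset.mem_insert.mp hx with rfl | hx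
      · exact hcV
      · exact hsV x hx
    · have hgen : ∀ y : X, y ⤳ c → y ≠ c → y ∈ V := by
        intro y hy hne
        apply hFV
        exact ⟨ringKrullDim_stalk_eq_zero_of_specializes c y (hs c hcs').2 hy hne, c, hcs', hy⟩
      obtain ⟨V', hV', hZV', hcV'⟩ := exists_affineOpen_insert V hV c hcV (hs c hcs').1 (hs c hcs').2 hgen
        (F₀ ∪ (s'' : Set X)) (hF₀.union s''.finite_toSet) (by
          rintro z (hz | hz)
          · exact hFV hz
          · exact hsV z hz)
      refine ⟨V', hV', fun z hz => hZV' (Or.inl hz), fun x hx => ?_⟩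
      rcases Finset.mem_insert.mp hx with rfl | hx
      · exact hcV'
      · exact hZV' (Or.inr hx)

end Groth.Agent.Lib.Helper18.FinAffDimOne
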