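import Mathlib

/-!
# A polynomial trick replacing "generic linear combinations" over finite fields (helper18)

`poly_trick`: let `A`, `B` be finite-dimensional `k`-vector spaces with `dim B < dim A`, and let
`Φ_j : A → B` (`j < n`) be linear maps.  Suppose we are given "localizations"
`g_i : A → K_i`, `γ_i : B → K_i` (additive maps to fields `K_i`, `i < n`), jointly injective on `A`,
such that `γ_i (Φ_j a) = r_{j i} · g_i a`.  Then some diagonal entry `r_{i i}` vanishes.
(Over an infinite field one would take a generic linear combination of the `Φ_j`; here we take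
`∑ t^j Φ_j` over `k[t]`.)
-/

set_option autoImplicit false

open Polynomial Module Finset

namespace Groth.Agent.Lib.Helper18.GGA

theorem poly_trick {k : Type*} [Field k] {A B : Type*} [AddCommGroup A] [Module k A]
    [AddCommGroup B] [Module k B] [Module.Finite k A] [Module.Finite k B]
    (hlt : finrank k B < finrank k A) (n : ℕ)
    (K : Fin n → Type*) [∀ i, Field (K i)]
    (g : ∀ i, A →+ K i) (hg : ∀ a : A, (∀ i, g i a = 0) → a = 0)
    (Φ : Fin n → (A →ₗ[k] B)) (γ : ∀ i, B →+ K i) (r : Fin n → ∀ i, K i)
    (hcomp : ∀ j i a, γ i (Φ j a) = r j i * g i a) : ∃ i, r i i = 0 := by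
  classical
  by_contra hr
  push Not at hr
  set m := finrank k A with hm
  set r₀ := finrank k B with hr₀
  let bA : Basis (Fin m) k A := finBasis k A
  let bB : Basis (Fin r₀) k B := finBasis k B
  -- extended families
  let Ψ : ℕ → (A →ₗ[k] B) := fun a => if h : a < n then Φ ⟨a, h⟩ else 0
  let rr : ℕ → ∀ i, K i := fun a i => if h : a < n then r ⟨a, h⟩ i else 0
  have hΨ : ∀ a i x, γ i (Ψ a x) = rr a i * g i x := by
    intro a i x
    by_cases h : a < n
    · simp only [Ψ, rr, dif_pos h]; exact hcomp _ _ _
    · simp only [Ψ, rr, dif_neg h, LinearMap.zero_apply, map_zero, zero_mul]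
  -- the matrix over `k[X]`
  let M : Matrix (Fin r₀) (Fin m) k[X] := fun ρ l =>
    ∑ j : Fin n, monomial (j : ℕ) (bB.repr (Φ j (bA l)) ρ)
  have hMcoeff : ∀ ρ l a, (M ρ l).coeff a = bB.repr (Ψ a (bA l)) ρ := by
    intro ρ l a
    simp only [M, finsetSum_coeff, coeff_monomial]
    by_cases h : a < n
    · simp only [Ψ, dif_pos h]
      rw [Finset.sum_eq_single (⟨a, h⟩ : Fin n)]
      · simp
      · intro j _ hj
        rw [if_neg]
        intro hja
        exact hj (Fin.ext hja)
      · intro h'; exact absurd (Finset.mem_univ _) h'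
    · simp only [Ψ, dif_neg h, LinearMap.zero_apply, map_zero, Finsupp.coe_zero, Pi.zero_apply]
      apply Finset.sum_eq_zero
      intro j _
      rw [if_neg]
      intro hja
      exact h (hja ▸ j.2)
  -- non-injectivity
  have hninj : ¬ Function.Injective (Matrix.mulVecLin M) := by
    intro hinj
    have := le_of_fin_injective k[X] (Matrix.mulVecLin M) hinj
    omega
  rw [← LinearMap.ker_eq_bot, Submodule.eq_bot_iff] at hninj
  push Not at hninj
  obtain ⟨v, hv, hv0⟩ := hninj
  rw [LinearMap.mem_ker] at hv
  -- the coefficient vectors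
  let p : ℕ → A := fun d => ∑ l, (v l).coeff d • bA l
  have hS : ∀ D : ℕ, ∑ ab ∈ antidiagonal D, Ψ ab.1 (p ab.2) = 0 := by
    intro D
    apply bB.repr.injective
    rw [map_zero]
    ext ρ
    rw [Finsupp.coe_zero, Pi.zero_apply, map_sum, Finsupp.coe_finsetSum, Finset.sum_apply]
    have h1 : (Matrix.mulVecLin M v ρ).coeff D = 0 := by rw [hv]; simp
    rw [Matrix.mulVecLin_apply, Matrix.mulVec, dotProduct, finsetSum_coeff] at h1
    simp only [coeff_mul, hMcoeff] at h1
    rw [Finset.sum_comm] at h1
    rw [← h1]
    apply Finset.sum_congr rfl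
    intro ab _
    simp only [p, map_sum, map_smul, Finsupp.coe_finsetSum, Finsupp.coe_smul, Finset.sum_apply,
      Pi.smul_apply, smul_eq_mul]
    apply Finset.sum_congr rfl
    intro l _
    ring
  -- localize at `i`
  have hgp : ∀ i d, g i (p d) = 0 := by
    intro i
    let R : PowerSeries (K i) := PowerSeries.mk (fun a => rr a i)
    let G : PowerSeries (K i) := PowerSeries.mk (fun d => g i (p d))
    have hRG : R * G = 0 := by
      ext D
      rw [PowerSeries.coeff_mul, map_zero]
      simp only [R, G, PowerSeries.coeff_mk]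
      have := congrArg (γ i) (hS D)
      rw [map_sum, map_zero] at this
      rw [← this]
      apply Finset.sum_congr rfl
      intro ab _
      rw [hΨ]
    have hR : R ≠ 0 := by
      intro h0
      have := congrArg (PowerSeries.coeff (i : ℕ)) h0
      simp only [R, PowerSeries.coeff_mk, map_zero, rr, dif_pos i.2] at this
      exact hr i this
    have hG : G = 0 := (mul_eq_zero.mp hRG).resolve_left hR
    intro d
    have := congrArg (PowerSeries.coeff d) hG
    simpa [G] using this
  have hp : ∀ d, p d = 0 := fun d => hg _ (fun i => hgp i d)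
  apply hv0
  ext l d
  have := Fintype.linearIndependent_iff.mp bA.linearIndependent (fun l => (v l).coeff d) (hp d) l
  simpa using this

end Groth.Agent.Lib.Helper18.GGA
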