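import Mathlib
import Groth.Agent.Lib.Helper18.SubI
import Groth.Agent.Lib.Helper18.AdjB
import Groth.Agent.Lib.Helper8.StalkExact
import Groth.Agent.Lib.Helper8.StalkIso

/-!
# Global generation on reduced curves, part B (helper18): stalks of `I' ⊗ L` at generic points

`GG Z J L = I' ⊗ L` with `I' = ker (O/J ⟶ O/(Z ⊔ J))` (sections of `L|_Y` vanishing on `Z ∩ Y`).
* `Sof J`: the non-closed points of `V(J)`.
* `stalk_GG_equiv`: at a point of `Sof J` the stalk of `GG Z J L` is free of rank one.
* `hom_eq_zero_of_stalk_GG`: a morphism to `GG Z J L` vanishing at the stalks of `Sof J` is zero.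
* `subsingleton_stalk_GG`: the stalk of `GG Z J L` off `V(J)` is zero.
-/

set_option autoImplicit false
set_option linter.unusedSectionVars false
set_option linter.unusedVariables false
set_option linter.style.haveILetI false

universe u

open CategoryTheory Limits AlgebraicGeometry Opposite TopologicalSpace

namespace Groth.Agent.Lib.Helper18.GGB

open Scheme.Modules Groth.Agent.Lib.helper7.IdealMod Groth.Agent.Lib.Helper18.SubF
  Groth.Agent.Lib.Helper18.SubB Groth.Agent.Lib.helper17.FlatOver7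
  Groth.Agent.Lib.Lead.ModTensor Groth.Agent.Lib.Helper20.DualDev
  Groth.Agent.Lib.Helper18.SubG Groth.Agent.Lib.Helper18.SubC Groth.Agent.Lib.Helper18.SubH
  Groth.Agent.Lib.Helper18.AdjB

section Top

variable {X : Scheme.{u}}

/-- the non-closed points of `V(J)` -/
def Sof (J : X.IdealSheafData) : Set X := {η | ¬ IsClosed ({η} : Set X) ∧ η ∈ J.support}

theorem Sof_nc (J : X.IdealSheafData) : ∀ η ∈ Sof J, ¬ IsClosed ({η} : Set X) := fun _ h => h.1

theorem Sof_sub (J : X.IdealSheafData) : Sof J ⊆ J.support := fun _ h => h.2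

theorem Sof_gen [IsNoetherian X] (J : X.IdealSheafData) [ConnectedSpace J.subscheme]
    (hJ : topologicalKrullDim J.subscheme = 1) :
    ∀ x ∈ J.support, ∃ η ∈ Sof J, η ⤳ x := fun x hx => by
  obtain ⟨η, hη, hsp⟩ := exists_specializes_sub J hJ x hx
  exact ⟨η, hη, hsp⟩

end Top

variable (k : Type u) [Field k] {X : Scheme.{u}} [X.Over (Spec (CommRingCat.of k))]
  [IsProper (X ↘ Spec (CommRingCat.of k))] [IsReduced X]
  (hdim : topologicalKrullDim X ≤ 1)
  {L : X.Modules} (hL : PicF.IsInvertible L)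
  (Z : X.IdealSheafData) (hZ : topologicalKrullDim (Z.support : Set X) ≤ 0)
  (J : X.IdealSheafData) [IsReduced J.subscheme]

/-- `O/J ⊗ L ⟶ O/(Z ⊔ J) ⊗ L` -/
noncomputable abbrev qq (L : X.Modules) :
    CohB1.tensorMod (ClSub.quotMod J) L ⟶ CohB1.tensorMod (ClSub.quotMod (Z ⊔ J)) L :=
  tensorMap (quotMap J (Z ⊔ J) le_sup_right) (𝟙 L)

include hZ hL in
/-- the stalk of `O/(Z ⊔ J) ⊗ L` at a non-closed point vanishes -/
theorem subsingleton_stalk_Q (η : X) (hη : ¬ IsClosed ({η} : Set X)) :
    Subsingleton ((CohB1.tensorMod (ClSub.quotMod (Z ⊔ J)) L).presheaf.stalk η) := by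
  apply subsingleton_stalk_tensor _ L hL η
  apply subsingleton_stalk_quotMod (Z ⊔ J) η
  intro h
  have h2 : η ∈ (Z.support ⊓ J.support : Closeds X) := by
    rw [← Scheme.IdealSheafData.support_sup]; exact h
  exact hη (isClosed_of_mem_support Z hZ η h2.1)

include hZ hL in
/-- `jj` is bijective on the stalk at a non-closed point -/
theorem stalkAdd_jj_bijective (η : X) (hη : ¬ IsClosed ({η} : Set X)) :
    Function.Bijective (stalkAdd (jj Z J L) η) := by
  obtain ⟨w, hw⟩ := exists_shortExact_jj hL Z J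
  haveI := hw.mono_f
  refine ⟨Groth.Agent.Lib.helper8.StalkLen.stalkAdd_injective_of_mono _ η, fun m => ?_⟩
  have hex := Groth.Agent.Lib.helper8.StalkLen.stalkAdd_exact (jj Z J L) (qq Z J L) w hw.exact η
  haveI := subsingleton_stalk_Q hL Z hZ J η hη
  exact (hex m).1 (Subsingleton.elim _ _)

include hL in
/-- the stalk of `GG Z J L` off `V(J)` vanishes -/
theorem subsingleton_stalk_GG (η : X) (hη : η ∉ J.support) :
    Subsingleton ((GG Z J L).presheaf.stalk η) := by
  haveI := mono_jj hL Z J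
  haveI : Subsingleton ((CohB1.tensorMod (ClSub.quotMod J) L).presheaf.stalk η) :=
    subsingleton_stalk_tensor _ L hL η (subsingleton_stalk_quotMod J η hη)
  exact (Groth.Agent.Lib.helper8.StalkLen.stalkAdd_injective_of_mono (jj Z J L) η).subsingleton

include hdim hZ hL in
/-- at a non-closed point of `V(J)` the stalk of `GG Z J L` is free of rank one -/
theorem stalk_GG_equiv (η : X) (hη : η ∈ Sof J) :
    Nonempty ((GG Z J L).presheaf.stalk η ≃ₗ[X.presheaf.stalk η] X.presheaf.stalk η) := by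
  have hf := Groth.Agent.Lib.Helper18.SubA.isField_stalk_of_not_isClosed hdim η hη.1
  let e0 : (GG Z J L).presheaf.stalk η ≃ₗ[X.presheaf.stalk η]
      (CohB1.tensorMod (ClSub.quotMod J) L).presheaf.stalk η :=
    LinearEquiv.ofBijective (stalkLin (jj Z J L) η) (stalkAdd_jj_bijective hL Z hZ J η hη.1)
  obtain ⟨e1⟩ := stalk_tensor_equiv (ClSub.quotMod J) L hL η
  obtain ⟨e3⟩ := stalk_structureModule_equiv η
  haveI : Epi (ClSub.toSubscheme J) := (idealSeq_shortExact J).epi_g
  let e2 : (Coh.structureModule X).presheaf.stalk η ≃ₗ[X.presheaf.stalk η]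
      (ClSub.quotMod J).presheaf.stalk η :=
    LinearEquiv.ofBijective (stalkLin (ClSub.toSubscheme J) η)
      ⟨stalkAdd_toSubscheme_injective J η hη.2 hf,
        Groth.Agent.Lib.helper25.StalkEpi.stalkAdd_surjective_of_epi (ClSub.toSubscheme J) η⟩
  exact ⟨e0.trans (e1.trans (e2.symm.trans e3))⟩

variable [ConnectedSpace J.subscheme]
  (hJd : topologicalKrullDim J.subscheme = 1)

include k hL hJd in
/-- a morphism to `GG Z J L` vanishing on the stalks at the non-closed points of `V(J)` is zero -/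
theorem hom_eq_zero_of_stalk_GG {N : X.Modules} (ν : N ⟶ GG Z J L)
    (hν : ∀ η ∈ Sof J, ∀ m, stalkAdd ν η m = 0) : ν = 0 := by
  haveI := Groth.Agent.Lib.Lead.CurveEuler.isNoetherian k X
  haveI := mono_jj_push hL Z J
  rw [← cancel_mono (jj Z J L ≫ (quotTensorPushIso J L).hom), zero_comp]
  refine hom_eq_zero_of_stalk_push J (Sof J) (Sof_sub J) (Sof_gen J hJd) _
    (Groth.Agent.Lib.helper11.InvMod.isInvertible_pullback J.subschemeι hL) _ ?_
  intro η hη m
  rw [stalkAdd_comp, hν η hη m, _root_.map_zero]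

end Groth.Agent.Lib.Helper18.GGB
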