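import Mathlib
import Groth.Agent.Lib.Helper18.GGB
import Groth.Agent.Lib.Helper18.AdjC

/-!
# Global generation on reduced curves, part C (helper18): dimension counts

For the sequence `0 → I' ⊗ L → O/J ⊗ L → O/(Z ⊔ J) ⊗ L → 0` on a proper reduced curve with
`H¹(L) = 0`, and `r` the rank of `H⁰(O/J ⊗ L) → H⁰(O/(Z ⊔ J) ⊗ L)`:
* `finrank_H0_GG_add`: `h⁰(I' ⊗ L) + r = h⁰(O/J ⊗ L)`;
* `finrank_H1_GG_add`: `h¹(I' ⊗ L) + r = h⁰(O/(Z ⊔ J))`;
* `finrank_H0_quotTensor`: `h⁰(O/J ⊗ L) = χ(O/J ⊗ L)`.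
-/

set_option autoImplicit false
set_option linter.unusedSectionVars false
set_option linter.unusedVariables false
set_option linter.style.haveILetI false

universe u

open CategoryTheory Limits AlgebraicGeometry Opposite TopologicalSpace Module

namespace Groth.Agent.Lib.Helper18.GGC

open Scheme.Modules Groth.Agent.Lib.helper7.IdealMod Groth.Agent.Lib.Helper18.SubF
  Groth.Agent.Lib.Helper18.SubB Groth.Agent.Lib.helper17.FlatOver7
  Groth.Agent.Lib.Lead.ModTensor Groth.Agent.Lib.Helper20.DualDev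
  Groth.Agent.Lib.Helper18.SubG Groth.Agent.Lib.Helper18.SubC Groth.Agent.Lib.Helper18.SubH
  Groth.Agent.Lib.Helper18.AdjB Groth.Agent.Lib.Helper18.GGB Groth.Agent.Lib.Helper18

section LinAlg

variable {k : Type*} [Field k] {V₁ V₂ V₃ : Type*} [AddCommGroup V₁] [Module k V₁]
  [AddCommGroup V₂] [Module k V₂] [AddCommGroup V₃] [Module k V₃]

theorem finrank_of_exact_injective [Module.Finite k V₂] (f : V₁ →ₗ[k] V₂) (g : V₂ →ₗ[k] V₃)
    (hf : Function.Injective f) (hex : Function.Exact f g) :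
    finrank k V₁ + finrank k (LinearMap.range g) = finrank k V₂ := by
  have h1 := LinearMap.finrank_range_add_finrank_ker g
  have h2 : LinearMap.ker g = LinearMap.range f := hex.linearMap_ker_eq
  rw [h2, LinearMap.finrank_range_of_inj hf] at h1
  omega

theorem finrank_of_exact_surjective [Module.Finite k V₂] (f : V₁ →ₗ[k] V₂) (g : V₂ →ₗ[k] V₃)
    (hg : Function.Surjective g) (hex : Function.Exact f g) :
    finrank k V₃ + finrank k (LinearMap.range f) = finrank k V₂ := by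
  have h1 := LinearMap.finrank_range_add_finrank_ker g
  have h2 : LinearMap.ker g = LinearMap.range f := hex.linearMap_ker_eq
  rw [h2, LinearMap.range_eq_top.mpr hg, finrank_top] at h1
  omega

end LinAlg

variable (k : Type u) [Field k] {X : Scheme.{u}} [X.Over (Spec (CommRingCat.of k))]
  [IsProper (X ↘ Spec (CommRingCat.of k))] [IsReduced X]
  (hdim : topologicalKrullDim X ≤ 1)
  {L : X.Modules} (hL : PicF.IsInvertible L)
  (Z : X.IdealSheafData) (hZ : topologicalKrullDim (Z.support : Set X) ≤ 0)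
  (J : X.IdealSheafData) [IsReduced J.subscheme]
  (hH1 : Subsingleton (Coh.HH X L 1))

include k hL in
theorem isCoh_quotTensor : Coh.IsCoh (CohB1.tensorMod (ClSub.quotMod J) L) := by
  haveI := isNoeth k (X := X)
  exact Groth.Agent.Lib.Helper18.DegCalc.isCoh_tensorMod
    (Groth.Agent.Lib.helper7.SnapperQuot.isCoh_quotMod J) (isCoh_L hL)

include k hdim hL hH1 in
/-- `H¹(O/J ⊗ L) = 0` if `H¹(L) = 0` -/
theorem subsingleton_H1_quotTensor :
    Subsingleton (Coh.HH X (CohB1.tensorMod (ClSub.quotMod J) L) 1) := by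
  haveI := isNoeth k (X := X)
  have hL1 := (Groth.Agent.Lib.helper16.FLF.isInvertible_iff_isFinLocFreeOfRank_one L).1 hL
  obtain ⟨w, hw⟩ := Groth.Agent.Lib.Helper18.DegCalc.shortExact_tensor _ (idealSeq_shortExact J) hL1
  have h2 : Subsingleton (Coh.HH X (CohB1.tensorMod (Coh.structureModule X) L) 1) :=
    Groth.Agent.Lib.helper11.RelSerre.subsingleton_HH_of_iso (leftUnitor L).symm 1 hH1
  have hIc : Coh.IsCoh (CohB1.tensorMod (ClSub.idealMod J) L) :=
    Groth.Agent.Lib.Helper18.DegCalc.isCoh_tensorMod (isCoh_idealMod k J) (isCoh_L hL)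
  have h1 := Groth.Agent.Lib.Lead.CurveEuler.subsingleton_HH k X hdim _ hIc.1 0
  exact HH.subsingleton_X₃ hw 1 h2 h1

include k hdim hL hH1 in
/-- `h⁰(O/J ⊗ L) = χ(O/J ⊗ L)` -/
theorem finrank_H0_quotTensor :
    (finrank k (Coh.HH X (CohB1.tensorMod (ClSub.quotMod J) L) 0) : ℤ) =
      Curv2.euler k X (CohB1.tensorMod (ClSub.quotMod J) L) := by
  haveI := subsingleton_H1_quotTensor k hdim hL J hH1
  rw [Groth.Agent.Lib.Lead.CurveEuler.euler_eq k X hdim _ (isCoh_quotTensor k hL J).1,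
    finrank_zero_of_subsingleton (M := Coh.HH X (CohB1.tensorMod (ClSub.quotMod J) L) 1)]
  simp

include k hL in
theorem finite_H (F : X.Modules) (hF : Coh.IsCoh F) (i : ℕ) : Module.Finite k (Coh.HH X F i) :=
  Groth.Agent.Lib.Lead.ProperEuler.finite_HH k X F hF i

include k hdim hL hH1 in
/-- `h⁰(I' ⊗ L) + r = h⁰(O/J ⊗ L)` -/
theorem finrank_H0_GG_add :
    finrank k (Coh.HH X (GG Z J L) 0) + finrank k (LinearMap.range (HH.mapOver k (qq Z J L) 0)) =
      finrank k (Coh.HH X (CohB1.tensorMod (ClSub.quotMod J) L) 0) := by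
  obtain ⟨w, hw⟩ := exists_shortExact_jj hL Z J
  haveI := Groth.Agent.Lib.Lead.ProperEuler.finite_HH k X _ (isCoh_quotTensor k hL J) 0
  exact finrank_of_exact_injective (HH.mapOver k (jj Z J L) 0) (HH.mapOver k (qq Z J L) 0)
    (HH.injective_mapOver_f_zero hw k) (HH.exactOver₂ hw k 0)

include k hdim hL hZ hH1 in
/-- `h⁰(O/(Z ⊔ J) ⊗ L) = h⁰(O/(Z ⊔ J))` -/
theorem finrank_H0_Q :
    finrank k (Coh.HH X (CohB1.tensorMod (ClSub.quotMod (Z ⊔ J)) L) 0) =
      finrank k (Coh.HH X (ClSub.quotMod (Z ⊔ J)) 0) := by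
  haveI := isNoeth k (X := X)
  obtain ⟨w, hw⟩ := exists_shortExact_jj hL Z J
  have hQc : Coh.IsCoh (CohB1.tensorMod (ClSub.quotMod (Z ⊔ J)) L) :=
    Groth.Agent.Lib.Helper18.DegCalc.isCoh_tensorMod
      (Groth.Agent.Lib.helper7.SnapperQuot.isCoh_quotMod (Z ⊔ J)) (isCoh_L hL)
  have h1 := Groth.Agent.Lib.Lead.CurveEuler.subsingleton_HH k X hdim _ (isCoh_GG k hL Z J).1 0
  haveI : Subsingleton (Coh.HH X (CohB1.tensorMod (ClSub.quotMod (Z ⊔ J)) L) 1) :=
    HH.subsingleton_X₃ hw 1 (subsingleton_H1_quotTensor k hdim hL J hH1) h1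
  have e1 := euler_quot_tensor k hL Z hZ J
  rw [Groth.Agent.Lib.Lead.CurveEuler.euler_eq k X hdim _ hQc.1,
    finrank_zero_of_subsingleton (M := Coh.HH X (CohB1.tensorMod (ClSub.quotMod (Z ⊔ J)) L) 1)] at e1
  simp only [Nat.cast_zero, sub_zero] at e1
  exact_mod_cast e1

include k hdim hL hZ hH1 in
/-- `h¹(I' ⊗ L) + r = h⁰(O/(Z ⊔ J))` -/
theorem finrank_H1_GG_add :
    finrank k (Coh.HH X (GG Z J L) 1) + finrank k (LinearMap.range (HH.mapOver k (qq Z J L) 0)) =
      finrank k (Coh.HH X (ClSub.quotMod (Z ⊔ J)) 0) := by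
  haveI := isNoeth k (X := X)
  obtain ⟨w, hw⟩ := exists_shortExact_jj hL Z J
  have hQc : Coh.IsCoh (CohB1.tensorMod (ClSub.quotMod (Z ⊔ J)) L) :=
    Groth.Agent.Lib.Helper18.DegCalc.isCoh_tensorMod
      (Groth.Agent.Lib.helper7.SnapperQuot.isCoh_quotMod (Z ⊔ J)) (isCoh_L hL)
  haveI := Groth.Agent.Lib.Lead.ProperEuler.finite_HH k X _ hQc 0
  rw [← finrank_H0_Q k hdim hL Z hZ J hH1]
  refine finrank_of_exact_surjective (HH.mapOver k (qq Z J L) 0) (HH.δOver hw k 0) ?_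
    (HH.exactOver₃ hw k 0)
  exact HH.surjective_δ hw 0 (subsingleton_H1_quotTensor k hdim hL J hH1)

end Groth.Agent.Lib.Helper18.GGC
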