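import Mathlib
import Groth.Agent.Lib.Helper18.GGA
import Groth.Agent.Lib.Helper18.GGC
import Groth.Agent.Lib.Helper18.ExtUnit

/-!
# Global generation on reduced curves, part D (helper18): a generic point where all
morphisms `I' ⊗ L ⟶ ω` vanish

* `finrank_hom_quot_GG`: `dim Hom(O/J, I' ⊗ L) = h⁰(I' ⊗ L)`.
* `exists_generic_vanishing`: if `dim Hom(O/J, ω) < dim Hom(O/J, I' ⊗ L)` there is a non-closed
  point `η` of `V(J)` such that every `φ : I' ⊗ L ⟶ ω` vanishes on the stalk at `η`.
  (Polynomial trick `GGA.poly_trick`; no hypothesis on the cardinality of `k`.)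
-/

set_option autoImplicit false
set_option linter.unusedSectionVars false
set_option linter.unusedVariables false
set_option linter.style.haveILetI false

universe u

open CategoryTheory Limits AlgebraicGeometry Opposite TopologicalSpace Module

namespace Groth.Agent.Lib.Helper18.GGD

open Scheme.Modules Groth.Agent.Lib.helper7.IdealMod Groth.Agent.Lib.Helper18.SubF
  Groth.Agent.Lib.Helper18.SubB Groth.Agent.Lib.helper17.FlatOver7
  Groth.Agent.Lib.Lead.ModTensor Groth.Agent.Lib.Helper20.DualDev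
  Groth.Agent.Lib.Helper18.SubG Groth.Agent.Lib.Helper18.SubC Groth.Agent.Lib.Helper18.SubH
  Groth.Agent.Lib.Helper18.SubE Groth.Agent.Lib.Helper18.SubD
  Groth.Agent.Lib.Helper18.AdjB Groth.Agent.Lib.Helper18.GGB Groth.Agent.Lib.Helper18.GGC
  Groth.Agent.Lib.Helper18

variable (k : Type u) [Field k] {X : Scheme.{u}} [X.Over (Spec (CommRingCat.of k))]
  [IsProper (X ↘ Spec (CommRingCat.of k))] [IsReduced X]
  (hdim : topologicalKrullDim X ≤ 1)
  {L : X.Modules} (hL : PicF.IsInvertible L)
  (Z : X.IdealSheafData) (hZ : topologicalKrullDim (Z.support : Set X) ≤ 0)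
  (J : X.IdealSheafData) [IsReduced J.subscheme]

/-- `Hom(O/J, G) ≃ Hom(O, G)` for `G` killed by `J` -/
noncomputable def homQuotEquiv (G : X.Modules) (hG : ClSub.KilledByIdeal J G) :
    (ClSub.quotMod J ⟶ G) ≃ₗ[k] (Coh.structureModule X ⟶ G) :=
  LinearEquiv.ofBijective (Linear.leftComp k G (ClSub.toSubscheme J)) (by
    haveI : Epi (ClSub.toSubscheme J) := (idealSeq_shortExact J).epi_g
    refine ⟨fun g g' h => (cancel_epi (ClSub.toSubscheme J)).mp h, fun f => ?_⟩
    obtain ⟨g, hg⟩ := exists_desc J f (idealModι_comp_eq_zero J G hG f)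
    exact ⟨g, hg⟩)

include hL in
/-- `dim Hom(O/J, I' ⊗ L) = h⁰(I' ⊗ L)` -/
theorem finrank_hom_quot_GG :
    finrank k (ClSub.quotMod J ⟶ GG Z J L) = finrank k (Coh.HH X (GG Z J L) 0) := by
  rw [(homQuotEquiv k J (GG Z J L) (killedByIdeal_GG hL Z J)).finrank_eq,
    (Groth.Agent.Lib.Helper18.ExtUnit.ρLin k (GG Z J L)).finrank_eq]

include hL in
theorem finite_hom_quot_GG : Module.Finite k (ClSub.quotMod J ⟶ GG Z J L) := by
  haveI := Groth.Agent.Lib.Lead.ProperEuler.finite_HH k X _ (isCoh_GG k hL Z J) 0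
  exact Module.Finite.equiv ((homQuotEquiv k J (GG Z J L) (killedByIdeal_GG hL Z J)).trans
    (Groth.Agent.Lib.Helper18.ExtUnit.ρLin k (GG Z J L))).symm

include hdim in
/-- at a non-closed point of `V(J)` the stalk of `O/J` is free of rank one -/
theorem stalk_quotMod_equiv (η : X) (hη : η ∈ Sof J) :
    Nonempty ((ClSub.quotMod J).presheaf.stalk η ≃ₗ[X.presheaf.stalk η] X.presheaf.stalk η) := by
  have hf := Groth.Agent.Lib.Helper18.SubA.isField_stalk_of_not_isClosed hdim η hη.1
  obtain ⟨e3⟩ := stalk_structureModule_equiv η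
  haveI : Epi (ClSub.toSubscheme J) := (idealSeq_shortExact J).epi_g
  let e2 : (Coh.structureModule X).presheaf.stalk η ≃ₗ[X.presheaf.stalk η]
      (ClSub.quotMod J).presheaf.stalk η :=
    LinearEquiv.ofBijective (stalkLin (ClSub.toSubscheme J) η)
      ⟨stalkAdd_toSubscheme_injective J η hη.2 hf,
        Groth.Agent.Lib.helper25.StalkEpi.stalkAdd_surjective_of_epi (ClSub.toSubscheme J) η⟩
  exact ⟨e2.symm.trans e3⟩

variable [ConnectedSpace J.subscheme] (hJd : topologicalKrullDim J.subscheme = 1)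
  {ω : X.Modules}

include hdim hL hZ hJd in
/-- **a generic point where all morphisms to `ω` vanish** -/
theorem exists_generic_vanishing [Module.Finite k (ClSub.quotMod J ⟶ ω)]
    (hlt : finrank k (ClSub.quotMod J ⟶ ω) < finrank k (ClSub.quotMod J ⟶ GG Z J L)) :
    ∃ η ∈ Sof J, ∀ (φ : GG Z J L ⟶ ω) (m : (GG Z J L).presheaf.stalk η), stalkAdd φ η m = 0 := by
  classical
  haveI := Groth.Agent.Lib.Lead.CurveEuler.isNoetherian k X
  haveI := finite_hom_quot_GG k hL Z J
  by_contra hcon
  push Not at hcon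
  have hfin : (Sof J).Finite :=
    (Groth.Agent.Lib.Helper18.SubA.finite_setOf_not_isClosed (X := X) hdim).subset (fun η h => h.1)
  haveI : Finite ↥(Sof J) := hfin.to_subtype
  let n := Nat.card ↥(Sof J)
  let en : ↥(Sof J) ≃ Fin n := Finite.equivFin ↥(Sof J)
  let pt : Fin n → X := fun i => (en.symm i).1
  have hpt : ∀ i, pt i ∈ Sof J := fun i => (en.symm i).2
  have hfield : ∀ i, IsField (X.presheaf.stalk (pt i)) := fun i =>
    Groth.Agent.Lib.Helper18.SubA.isField_stalk_of_not_isClosed hdim (pt i) (hpt i).1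
  letI : ∀ i, Field (X.presheaf.stalk (pt i)) := fun i => (hfield i).toField
  -- the chosen morphisms
  choose φ mφ hφ using fun i => hcon (pt i) (hpt i)
  -- trivializations
  have he : ∀ i, Nonempty ((GG Z J L).presheaf.stalk (pt i) ≃ₗ[X.presheaf.stalk (pt i)]
      X.presheaf.stalk (pt i)) := fun i => stalk_GG_equiv hdim hL Z hZ J (pt i) (hpt i)
  have hε : ∀ i, Nonempty ((ClSub.quotMod J).presheaf.stalk (pt i) ≃ₗ[X.presheaf.stalk (pt i)]
      X.presheaf.stalk (pt i)) := fun i => stalk_quotMod_equiv hdim J (pt i) (hpt i)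
  let e := fun i => (he i).some
  let ε := fun i => (hε i).some
  let u : ∀ i, (GG Z J L).presheaf.stalk (pt i) := fun i => (e i).symm 1
  let w : ∀ i, (ClSub.quotMod J).presheaf.stalk (pt i) := fun i => (ε i).symm 1
  have hu : ∀ i (x : (GG Z J L).presheaf.stalk (pt i)), x = (e i x) • u i := by
    intro i x
    apply (e i).injective
    rw [_root_.map_smul, LinearEquiv.apply_symm_apply, smul_eq_mul, mul_one]
  have hw : ∀ i (x : (ClSub.quotMod J).presheaf.stalk (pt i)), x = (ε i x) • w i := by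
    intro i x
    apply (ε i).injective
    rw [_root_.map_smul, LinearEquiv.apply_symm_apply, smul_eq_mul, mul_one]
  -- the vectors `v i = φ_i (u i) ≠ 0`
  have hv : ∀ i, stalkAdd (φ i) (pt i) (u i) ≠ 0 := by
    intro i h0
    apply hφ i
    rw [hu i (mφ i), stalkAdd_smul, h0, smul_zero]
  -- functionals
  have hlam : ∀ i, ∃ l : ω.presheaf.stalk (pt i) →ₗ[X.presheaf.stalk (pt i)] X.presheaf.stalk (pt i),
      l (stalkAdd (φ i) (pt i) (u i)) ≠ 0 := by
    intro i
    by_contra hall
    push Not at hall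
    haveI : Module.Free (X.presheaf.stalk (pt i)) (ω.presheaf.stalk (pt i)) :=
      Module.Free.of_divisionRing _ _
    exact hv i ((Module.forall_dual_apply_eq_zero_iff (X.presheaf.stalk (pt i)) _).mp hall)
  choose l hl using hlam
  -- apply the polynomial trick
  obtain ⟨i, hi⟩ := GGA.poly_trick (k := k) (A := (ClSub.quotMod J ⟶ GG Z J L))
    (B := (ClSub.quotMod J ⟶ ω)) hlt n (fun i => X.presheaf.stalk (pt i))
    (fun i => AddMonoidHom.mk' (fun s => e i (stalkAdd s (pt i) (w i))) (fun s s' => by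
      rw [Groth.Agent.Lib.helper8.Dev.stalkAdd_add, map_add]))
    (fun s hs => by
      refine hom_eq_zero_of_stalk_GG k hL Z J hJd s (fun η hη m => ?_)
      obtain ⟨i, hi⟩ : ∃ i, pt i = η := ⟨en ⟨η, hη⟩, by simp [pt]⟩
      subst hi
      have h1 : stalkAdd s (pt i) (w i) = 0 := by
        have := hs i
        change e i (stalkAdd s (pt i) (w i)) = 0 at this
        exact (e i).map_eq_zero_iff.mp this
      rw [hw i m, stalkAdd_smul, h1, smul_zero])
    (fun j => Linear.rightComp k (ClSub.quotMod J) (φ j))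
    (fun i => AddMonoidHom.mk' (fun ψ => l i (stalkAdd ψ (pt i) (w i))) (fun ψ ψ' => by
      rw [Groth.Agent.Lib.helper8.Dev.stalkAdd_add, map_add]))
    (fun j i => l i (stalkAdd (φ j) (pt i) (u i)))
    (fun j i s => by
      change l i (stalkAdd (s ≫ φ j) (pt i) (w i)) =
        l i (stalkAdd (φ j) (pt i) (u i)) * e i (stalkAdd s (pt i) (w i))
      rw [stalkAdd_comp]
      conv_lhs => rw [hu i (stalkAdd s (pt i) (w i))]
      rw [stalkAdd_smul, _root_.map_smul, smul_eq_mul, mul_comm])
  exact hl i hi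

end Groth.Agent.Lib.Helper18.GGD
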