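import Mathlib
import Groth.Agent.Lib.Helper18.GGD
import Groth.Agent.Lib.Helper18.AdjE

/-!
# Global generation on reduced curves, part E (helper18): passing to a smaller subcurve

`X` proper reduced of dimension `≤ 1` over `k` with a dualizing pair `(ω, t)`, `L` invertible,
`Z` a closed subscheme of dimension `≤ 0`, `J` reduced.
* `exists_factor_GG`: a morphism `I'_J ⊗ L ⟶ ω` vanishing at the non-closed points of `V(J)` outside
  `S₀` factors through `I'_{J₀} ⊗ L` (`J₀` the ideal of the closure of `S₀`).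
* `finrank_hom_GG_le`: consequently `dim Hom(I'_J ⊗ L, ω) ≤ dim Hom(I'_{J₀} ⊗ L, ω)`.
* `Sof_vanishingIdeal`: the non-closed points of the closure of a finite set of non-closed points.
-/

set_option autoImplicit false
set_option linter.unusedSectionVars false
set_option linter.unusedVariables false
set_option linter.style.haveILetI false

universe u

open CategoryTheory Limits AlgebraicGeometry Opposite TopologicalSpace Module

namespace Groth.Agent.Lib.Helper18.GGE

open Scheme.Modules Groth.Agent.Lib.helper7.IdealMod Groth.Agent.Lib.Helper18.SubF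
  Groth.Agent.Lib.Helper18.SubB Groth.Agent.Lib.helper17.FlatOver7
  Groth.Agent.Lib.Lead.ModTensor Groth.Agent.Lib.Helper20.DualDev
  Groth.Agent.Lib.Helper18.SubG Groth.Agent.Lib.Helper18.SubC Groth.Agent.Lib.Helper18.SubH
  Groth.Agent.Lib.Helper18.SubE Groth.Agent.Lib.Helper18.SubD Groth.Agent.Lib.Helper18.SubA
  Groth.Agent.Lib.Helper18.AdjB Groth.Agent.Lib.Helper18.GGB Groth.Agent.Lib.Helper18.GGC
  Groth.Agent.Lib.Helper18.GGD Groth.Agent.Lib.Helper18

section Top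

variable {X : Scheme.{u}}

/-- a morphism of modules vanishing on all stalks is zero -/
theorem hom_eq_zero_of_stalkAdd {M N : X.Modules} (f : M ⟶ N)
    (h : ∀ (y : X) (m : M.presheaf.stalk y), stalkAdd f y m = 0) : f = 0 := by
  refine Scheme.Modules.hom_ext _ _ fun W => ?_
  ext n
  change (f.app W).hom n = 0
  refine TopCat.Presheaf.section_ext ⟨N.presheaf, N.isSheaf⟩ W _ 0 (fun y hy => ?_)
  rw [map_zero]
  have := stalkAdd_germ f y W hy n
  rw [h] at this
  exact this.symm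

/-- the non-closed points of the closure of a finite set of non-closed points -/
theorem Sof_vanishingIdeal (hdim : topologicalKrullDim X ≤ 1) (S₀ : Set X) (hfin : S₀.Finite)
    (hnc : ∀ η ∈ S₀, ¬ IsClosed ({η} : Set X)) :
    Sof (Scheme.IdealSheafData.vanishingIdeal ⟨closure S₀, isClosed_closure⟩) = S₀ := by
  ext η
  constructor
  · rintro ⟨hη, hmem⟩
    have hmem' : η ∈ closure S₀ := by
      have : η ∈ ((Scheme.IdealSheafData.vanishingIdeal
        ⟨closure S₀, isClosed_closure⟩).support : Set X) := hmem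
      rwa [Scheme.IdealSheafData.coe_support_vanishingIdeal] at this
    rw [← Set.biUnion_of_singleton S₀, hfin.closure_biUnion] at hmem'
    obtain ⟨η', hη'S, hη'⟩ := Set.mem_iUnion₂.mp hmem'
    have hsp : η' ⤳ η := specializes_iff_mem_closure.mpr hη'
    have := eq_of_specializes_of_not_isClosed hdim η hη η' hsp
    rw [← this]; exact hη'S
  · intro hη
    refine ⟨hnc η hη, ?_⟩
    change η ∈ ((Scheme.IdealSheafData.vanishingIdeal
        ⟨closure S₀, isClosed_closure⟩).support : Set X)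
    rw [Scheme.IdealSheafData.coe_support_vanishingIdeal]
    exact subset_closure hη

end Top

variable (k : Type u) [Field k] {X : Scheme.{u}} [X.Over (Spec (CommRingCat.of k))]
  [IsProper (X ↘ Spec (CommRingCat.of k))] [IsReduced X]
  (hdim : topologicalKrullDim X ≤ 1)
  {L : X.Modules} (hL : PicF.IsInvertible L)
  {ω : X.Modules} (hω : Coh.IsCoh ω) (t : Coh.HH X ω 1 →ₗ[k] k)
  (hgood : ∀ F : X.Modules, Coh.IsCoh F → Good k t F)
  (Z : X.IdealSheafData) (hZ : topologicalKrullDim (Z.support : Set X) ≤ 0)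
  (J : X.IdealSheafData) [IsReduced J.subscheme]
  (J₀ : X.IdealSheafData) [IsReduced J₀.subscheme]
  (S₀ : Set X) (hS₀ : S₀ ⊆ J₀.support) (hS₀nc : ∀ η ∈ S₀, ¬ IsClosed ({η} : Set X))

include hdim hL hZ hω hgood hS₀ hS₀nc in
/-- factorization through the smaller subcurve -/
theorem exists_factor_GG (φ : GG Z J L ⟶ ω)
    (hφ : ∀ η ∈ Sof J, η ∉ S₀ → ∀ m, stalkAdd φ η m = 0) :
    ∃ φ'' : GG Z J₀ L ⟶ ω, pp Z J₀ L ≫ φ'' = pp Z J L ≫ φ := by
  refine exists_factor k hdim hL Z hZ hω t hgood J₀ S₀ hS₀nc hS₀ (pp Z J L ≫ φ) ?_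
  intro η hη hηS m
  rw [stalkAdd_comp]
  by_cases hJ : η ∈ J.support
  · exact hφ η ⟨hη, hJ⟩ hηS _
  · haveI := subsingleton_stalk_GG hL Z J η hJ
    rw [Subsingleton.elim (stalkAdd (pp Z J L) η m) 0, _root_.map_zero]

include hL in
/-- `dim Hom(I'_J ⊗ L, ω) ≤ dim Hom(I'_{J₀} ⊗ L, ω)` -/
theorem finrank_hom_GG_le [Module.Finite k (GG Z J₀ L ⟶ ω)]
    (hfac : ∀ φ : GG Z J L ⟶ ω, ∃ φ'' : GG Z J₀ L ⟶ ω, pp Z J₀ L ≫ φ'' = pp Z J L ≫ φ) :
    finrank k (GG Z J L ⟶ ω) ≤ finrank k (GG Z J₀ L ⟶ ω) := by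
  haveI := epi_pp hL Z J
  haveI := epi_pp hL Z J₀
  let P : (GG Z J L ⟶ ω) →ₗ[k] (CohB1.tensorMod (ClSub.idealMod Z) L ⟶ ω) :=
    Linear.leftComp k ω (pp Z J L)
  let P₀ : (GG Z J₀ L ⟶ ω) →ₗ[k] (CohB1.tensorMod (ClSub.idealMod Z) L ⟶ ω) :=
    Linear.leftComp k ω (pp Z J₀ L)
  have hP : Function.Injective P := fun g g' h => (cancel_epi (pp Z J L)).mp h
  have hP₀ : Function.Injective P₀ := fun g g' h => (cancel_epi (pp Z J₀ L)).mp h
  have hle : LinearMap.range P ≤ LinearMap.range P₀ := by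
    rintro _ ⟨φ, rfl⟩
    obtain ⟨φ'', h⟩ := hfac φ
    exact ⟨φ'', h⟩
  haveI : Module.Finite k (LinearMap.range P₀) := Module.Finite.range P₀
  calc finrank k (GG Z J L ⟶ ω)
      = finrank k (LinearMap.range P) := (LinearMap.finrank_range_of_inj hP).symm
    _ ≤ finrank k (LinearMap.range P₀) := Submodule.finrank_mono hle
    _ = finrank k (GG Z J₀ L ⟶ ω) := LinearMap.finrank_range_of_inj hP₀


section Conn

open Groth.Agent.Lib.Helper18.SubI

variable (hgen₀ : ∀ y ∈ J₀.support, ∃ η ∈ S₀, η ⤳ y)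
  (x : X) (hZx : (Z.support : Set X) ⊆ {x})

include k hdim hL hZ hω t hgood hS₀ hgen₀ hZx in
/-- the smaller subcurve is connected -/
theorem clopen_trivial
    (hH1 : Subsingleton (Coh.HH X (CohB1.tensorMod (ClSub.quotMod J₀) L) 1))
    (hnz : ∀ η ∈ S₀, ∃ (φ'' : GG Z J₀ L ⟶ ω) (y : (GG Z J₀ L).presheaf.stalk η),
      stalkAdd φ'' η y ≠ 0)
    (x' : J₀.subscheme) (hx' : J₀.subschemeι x' = x)
    (A : Set J₀.subscheme) (hA : IsClopen A) : A = ∅ ∨ A = Set.univ := by
  by_contra hcon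
  push Not at hcon
  obtain ⟨hAne, hAuniv⟩ := hcon
  have hAc : (Aᶜ).Nonempty := by rw [Set.nonempty_compl]; exact hAuniv
  -- the two pieces: `P` does not contain `x'`, `N` does
  obtain ⟨P, N, hPN, hsup, hPne, hxN⟩ : ∃ P N : J₀.subscheme.Opens, P ⊓ N = ⊥ ∧ P ⊔ N = ⊤ ∧
      (P : Set J₀.subscheme).Nonempty ∧ x' ∈ N := by
    let Ao : J₀.subscheme.Opens := ⟨A, hA.2⟩
    let Bo : J₀.subscheme.Opens := ⟨Aᶜ, hA.1.isOpen_compl⟩
    have hAB : Ao ⊓ Bo = ⊥ := by
      ext z
      simp only [Opens.coe_inf, Opens.coe_bot, Set.mem_inter_iff, Set.mem_empty_iff_false,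
        iff_false]
      rintro ⟨h1, h2⟩
      exact h2 h1
    have hsup' : Ao ⊔ Bo = ⊤ := by
      ext z
      simp only [Opens.coe_sup, Opens.coe_top, Set.mem_union, Set.mem_univ, iff_true]
      exact Classical.em _
    by_cases hxA : x' ∈ A
    · exact ⟨Bo, Ao, by rw [inf_comm]; exact hAB, by rw [sup_comm]; exact hsup', hAc, hxA⟩
    · exact ⟨Ao, Bo, hAB, hsup', hAne, hxA⟩
  obtain ⟨e, he1, he0⟩ := exists_idem_top P N hPN hsup
  haveI := isNoeth k (X := X)
  -- the module `M = O/J₀ ⊗ L`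
  set M := CohB1.tensorMod (ClSub.quotMod J₀) L with hM
  have hMc : Coh.IsCoh M := isCoh_quotTensor k hL J₀
  haveI : M.IsQuasicoherent := hMc.1
  have hkill : ClSub.KilledByIdeal J₀ M :=
    killedByIdeal_of_iso J₀ (quotTensorPushIso J₀ L) (killedByIdeal_push J₀ _)
  haveI hu := isIso_unit_of_killedByIdeal J₀ M hkill
  obtain ⟨w, hw⟩ := exists_shortExact_jj hL Z J₀
  haveI := hw.mono_f
  -- an open of `X` cutting out `N`
  obtain ⟨Wn, hWn, hWn'⟩ := J₀.subschemeι.isEmbedding.isInducing.isOpen_iff.mp N.2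
  have hWnN : J₀.subschemeι ⁻¹ᵁ (⟨Wn, hWn⟩ : X.Opens) = N := by
    ext z
    have := congrArg (fun s : Set J₀.subscheme => z ∈ s) hWn'
    exact this ▸ Iff.rfl
  have hxWn : x ∈ (⟨Wn, hWn⟩ : X.Opens) := by
    have : x' ∈ J₀.subschemeι ⁻¹' Wn := by rw [hWn']; exact hxN
    rw [← hx']; exact this
  -- `act e ≫ q = 0`
  have h0 : act J₀ M e ≫ qq Z J₀ L = 0 := by
    refine hom_eq_zero_of_stalkAdd _ (fun y m => ?_)
    rw [stalkAdd_comp]
    by_cases hy : y = x
    · subst hy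
      rw [stalkAdd_act_of_eq_zero J₀ M e ⟨Wn, hWn⟩
        (fun V hV => res_eq_zero_of_le N V (hWnN ▸ hV) e he0) y hxWn, _root_.map_zero]
    · haveI : Subsingleton ((CohB1.tensorMod (ClSub.quotMod (Z ⊔ J₀)) L).presheaf.stalk y) := by
        apply subsingleton_stalk_tensor _ L hL y
        apply subsingleton_stalk_quotMod (Z ⊔ J₀) y
        intro h
        have h2 : y ∈ (Z.support ⊓ J₀.support : Closeds X) := by
          rw [← Scheme.IdealSheafData.support_sup]; exact h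
        exact hy (hZx h2.1)
      exact Subsingleton.elim _ _
  -- the lift
  let ψ : M ⟶ GG Z J₀ L := hw.exact.lift (act J₀ M e) h0
  have hψ : ψ ≫ jj Z J₀ L = act J₀ M e := hw.exact.lift_f _ _
  -- all morphisms `M ⟶ ω` vanish
  have hMω : ∀ f : M ⟶ ω, f = 0 := by
    haveI := finite_hom k t hgood M hMc
    have h1 := finrank_hom k t hgood M hMc
    rw [finrank_zero_of_subsingleton (M := Coh.HH X M 1)] at h1
    haveI : Subsingleton (M ⟶ ω) := Module.finrank_zero_iff.mp h1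
    exact fun f => Subsingleton.elim _ _
  -- a point of `S₀` in `P`
  obtain ⟨η, W₁, hηS, hηW₁, hW₁⟩ := exists_mem_S_of_open J₀ S₀ hS₀ hgen₀ P hPne
  obtain ⟨φ'', y, hy⟩ := hnz η hηS
  apply hy
  have hy' : y = stalkAdd ψ η (stalkAdd (jj Z J₀ L) η y) := by
    apply Groth.Agent.Lib.helper8.StalkLen.stalkAdd_injective_of_mono (jj Z J₀ L) η
    rw [← stalkAdd_comp ψ, hψ, stalkAdd_act_of_eq_one J₀ M e W₁
      (fun V hV => res_eq_one_of_le P V (hW₁ ▸ hV) e he1) η hηW₁]
  rw [hy', ← stalkAdd_comp ψ, hMω (ψ ≫ φ'')]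
  exact stalkAdd_zero_apply _ _ η _

end Conn

end Groth.Agent.Lib.Helper18.GGE
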