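import Mathlib
import Groth.Agent.Lib.Helper18.GGE

/-!
# Global generation on reduced curves, part F (helper18): the descent step

`step`: let `X` be proper reduced of dimension `≤ 1` over `k` with a dualizing pair, `L` invertible
with `H¹(L) = 0`, `x` a closed point, `Y = V(J)` a connected reduced subcurve through `x` with
`deg(L|_Y) ≥ 2 h¹(O_Y)`.  If every section of `L|_Y` vanishes at `x`, the same holds on a connected
reduced subcurve `Y₀ ∋ x` of `Y` with strictly fewer generic points.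
-/

set_option autoImplicit false
set_option linter.unusedSectionVars false
set_option linter.unusedVariables false
set_option linter.style.haveILetI false

universe u

open CategoryTheory Limits AlgebraicGeometry Opposite TopologicalSpace Module

namespace Groth.Agent.Lib.Helper18.GGF

open Scheme.Modules Groth.Agent.Lib.helper7.IdealMod Groth.Agent.Lib.Helper18.SubF
  Groth.Agent.Lib.Helper18.SubB Groth.Agent.Lib.helper17.FlatOver7
  Groth.Agent.Lib.Lead.ModTensor Groth.Agent.Lib.Helper20.DualDev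
  Groth.Agent.Lib.Helper18.SubG Groth.Agent.Lib.Helper18.SubC Groth.Agent.Lib.Helper18.SubH
  Groth.Agent.Lib.Helper18.SubE Groth.Agent.Lib.Helper18.SubD Groth.Agent.Lib.Helper18.SubA
  Groth.Agent.Lib.Helper18.AdjB Groth.Agent.Lib.Helper18.AdjC Groth.Agent.Lib.Helper18.AdjE
  Groth.Agent.Lib.Helper18.GGB Groth.Agent.Lib.Helper18.GGC
  Groth.Agent.Lib.Helper18.GGD Groth.Agent.Lib.Helper18.GGE Groth.Agent.Lib.Helper18
  Groth.Agent.Lib.helper9.CurveGG

variable (k : Type u) [Field k] {X : Scheme.{u}} [X.Over (Spec (CommRingCat.of k))]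
  [IsProper (X ↘ Spec (CommRingCat.of k))] [IsReduced X]
  (hdim : topologicalKrullDim X ≤ 1)
  {L : X.Modules} (hL : PicF.IsInvertible L)
  {ω : X.Modules} (hω : Coh.IsCoh ω) (t : Coh.HH X ω 1 →ₗ[k] k)
  (hgood : ∀ F : X.Modules, Coh.IsCoh F → Good k t F)
  (hH1 : Subsingleton (Coh.HH X L 1))
  (x : X) (hx : IsClosed ({x} : Set X))

include hdim hL hω hgood hH1 in
theorem step (J : X.IdealSheafData) [IsReduced J.subscheme] [ConnectedSpace J.subscheme]
    (hJd : topologicalKrullDim J.subscheme = 1) (hxJ : x ∈ J.support)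
    (hJ : 2 * (finrank k (Coh.HH X (ClSub.quotMod J) 1) : ℤ) ≤
      Curv2.euler k X (CohB1.tensorMod (ClSub.quotMod J) L) - Curv2.euler k X (ClSub.quotMod J))
    (hBP : HH.mapOver k (qq (Scheme.IdealSheafData.vanishingIdeal ⟨{x}, hx⟩) J L) 0 = 0) :
    ∃ J₀ : X.IdealSheafData, IsReduced J₀.subscheme ∧ ConnectedSpace J₀.subscheme ∧
      topologicalKrullDim J₀.subscheme = 1 ∧ x ∈ J₀.support ∧ Sof J₀ ⊂ Sof J ∧
      HH.mapOver k (qq (Scheme.IdealSheafData.vanishingIdeal ⟨{x}, hx⟩) J₀ L) 0 = 0 := by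
  classical
  haveI := isNoeth k (X := X)
  set Z := Scheme.IdealSheafData.vanishingIdeal ⟨{x}, hx⟩ with hZdef
  have hZ : topologicalKrullDim ((Z.support : Closeds X) : Set X) ≤ 0 :=
    dim_support_vanishingIdeal_le X hx
  have hZsupp : ((Z.support : Closeds X) : Set X) = {x} :=
    Scheme.IdealSheafData.coe_support_vanishingIdeal _
  have hZx : ((Z.support : Closeds X) : Set X) ⊆ {x} := hZsupp.le
  -- `Z ⊔ J' = Z` for `J'` through `x`
  have hsupZ : ∀ J' : X.IdealSheafData, x ∈ J'.support → Z ⊔ J' = Z := by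
    intro J' hxJ'
    have hle : J' ≤ Z := by
      rw [hZdef, ← Scheme.IdealSheafData.le_support_iff_le_vanishingIdeal]
      intro y hy
      have : y = x := hy
      rw [this]; exact hxJ'
    exact sup_eq_left.mpr hle
  have hxZ : x ∈ ((Z.support : Closeds X) : Set X) := by rw [hZsupp]; exact Set.mem_singleton x
  -- the number `d`
  set d := finrank k (Coh.HH X (ClSub.quotMod Z) 0) with hd
  have hdpos : 0 < d := finrank_H0_quotMod_pos k X Z ⟨x, hxZ⟩
  have hQJ : finrank k (Coh.HH X (ClSub.quotMod (Z ⊔ J)) 0) = d := by rw [hsupZ J hxJ]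
  -- consequences of the base point hypothesis
  have hr : finrank k (LinearMap.range (HH.mapOver k (qq Z J L) 0)) = 0 := by
    rw [hBP, LinearMap.range_zero, finrank_bot]
  have h1GG : finrank k (Coh.HH X (GG Z J L) 1) = d := by
    have := finrank_H1_GG_add k hdim hL Z hZ J hH1
    rw [hr, hQJ] at this
    simpa using this
  have h0GG : finrank k (Coh.HH X (GG Z J L) 0) =
      finrank k (Coh.HH X (CohB1.tensorMod (ClSub.quotMod J) L) 0) := by
    have := finrank_H0_GG_add k hdim hL Z J hH1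
    rw [hr] at this
    simpa using this
  have hχ := finrank_H0_quotTensor k hdim hL J hH1
  have hQc : Coh.IsCoh (ClSub.quotMod J) := Groth.Agent.Lib.helper7.SnapperQuot.isCoh_quotMod J
  have hGc : Coh.IsCoh (GG Z J L) := isCoh_GG k hL Z J
  have hχO := Groth.Agent.Lib.Lead.CurveEuler.euler_eq k X hdim _ hQc.1
  have hpos : 0 < finrank k (Coh.HH X (ClSub.quotMod J) 0) :=
    finrank_H0_quotMod_pos k X J ⟨x, hxJ⟩
  haveI := finite_hom k t hgood _ hQc
  haveI := finite_hom k t hgood _ hGc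
  have hlt : finrank k (ClSub.quotMod J ⟶ ω) < finrank k (ClSub.quotMod J ⟶ GG Z J L) := by
    rw [finrank_hom k t hgood _ hQc, finrank_hom_quot_GG k hL Z J, h0GG]
    have hpos' : (1 : ℤ) ≤ (finrank k (Coh.HH X (ClSub.quotMod J) 0) : ℤ) := by exact_mod_cast hpos
    have : (finrank k (Coh.HH X (ClSub.quotMod J) 1) : ℤ) <
        (finrank k (Coh.HH X (CohB1.tensorMod (ClSub.quotMod J) L) 0) : ℤ) := by
      rw [hχ]; linarith
    exact_mod_cast this
  obtain ⟨η₁, hη₁, hvan⟩ := exists_generic_vanishing k hdim hL Z hZ J hJd hlt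
  -- the generic support of `Hom(I' ⊗ L, ω)`
  set S₀ : Set X := {η | η ∈ Sof J ∧ ∃ (φ : GG Z J L ⟶ ω) (m : (GG Z J L).presheaf.stalk η),
    stalkAdd φ η m ≠ 0} with hS₀def
  have hS₀sub : S₀ ⊆ Sof J := fun η h => h.1
  have hS₀nc : ∀ η ∈ S₀, ¬ IsClosed ({η} : Set X) := fun η h => h.1.1
  have hS₀fin : S₀.Finite :=
    (finite_setOf_not_isClosed (X := X) hdim).subset (fun η h => h.1.1)
  let Tc : Closeds X := ⟨closure S₀, isClosed_closure⟩
  set J₀ := Scheme.IdealSheafData.vanishingIdeal Tc with hJ₀def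
  have hJ₀supp : (J₀.support : Set X) = closure S₀ :=
    Scheme.IdealSheafData.coe_support_vanishingIdeal _
  haveI hred₀ : IsReduced J₀.subscheme := AdjB.isReduced_subscheme_vanishingIdeal Tc
  have hSof₀ : Sof J₀ = S₀ := Sof_vanishingIdeal hdim S₀ hS₀fin hS₀nc
  have hS₀J₀ : S₀ ⊆ J₀.support := by
    intro η hη
    change η ∈ (J₀.support : Set X)
    rw [hJ₀supp]; exact subset_closure hη
  have hgen₀ : ∀ y ∈ J₀.support, ∃ η ∈ S₀, η ⤳ y := by
    intro y hy
    have hy' : y ∈ closure S₀ := by rw [← hJ₀supp]; exact hy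
    rw [← Set.biUnion_of_singleton S₀, hS₀fin.closure_biUnion] at hy'
    obtain ⟨η, hηS, hη⟩ := Set.mem_iUnion₂.mp hy'
    exact ⟨η, hηS, specializes_iff_mem_closure.mpr hη⟩
  -- the factorization
  have hfac : ∀ φ : GG Z J L ⟶ ω, ∃ φ'' : GG Z J₀ L ⟶ ω, pp Z J₀ L ≫ φ'' = pp Z J L ≫ φ := by
    intro φ
    refine exists_factor_GG k hdim hL hω t hgood Z hZ J J₀ S₀ hS₀J₀ hS₀nc φ ?_
    intro η hη hηS m
    by_contra hne
    exact hηS ⟨hη, φ, m, hne⟩
  have hG₀c : Coh.IsCoh (GG Z J₀ L) := isCoh_GG k hL Z J₀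
  haveI := finite_hom k t hgood _ hG₀c
  have hle : d ≤ finrank k (Coh.HH X (GG Z J₀ L) 1) := by
    rw [← finrank_hom k t hgood _ hG₀c, ← h1GG, ← finrank_hom k t hgood _ hGc]
    exact finrank_hom_GG_le k hL Z J J₀ hfac
  have hadd₀ := finrank_H1_GG_add k hdim hL Z hZ J₀ hH1
  -- `x ∈ V(J₀)`
  have hxJ₀ : x ∈ J₀.support := by
    by_contra hxn
    have htop : Z ⊔ J₀ = ⊤ := by
      rw [← Scheme.IdealSheafData.support_eq_bot_iff, Scheme.IdealSheafData.support_sup]
      apply Closeds.ext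
      rw [Closeds.coe_inf, Closeds.coe_bot, hZsupp]
      ext y
      simp only [Set.mem_inter_iff, Set.mem_empty_iff_false, iff_false, not_and]
      intro hy hyJ
      have : y = x := hy
      rw [this] at hyJ
      exact hxn hyJ
    have h0 : finrank k (Coh.HH X (ClSub.quotMod (Z ⊔ J₀)) 0) = 0 := by
      rw [htop]; exact finrank_H0_quotMod_top k X
    omega
  have hQJ₀ : finrank k (Coh.HH X (ClSub.quotMod (Z ⊔ J₀)) 0) = d := by rw [hsupZ J₀ hxJ₀]
  have hr₀ : finrank k (LinearMap.range (HH.mapOver k (qq Z J₀ L) 0)) = 0 := by omega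
  -- `S₀` is nonempty
  have hS₀ne : S₀.Nonempty := by
    by_contra hempty
    rw [Set.not_nonempty_iff_eq_empty] at hempty
    have hall : ∀ φ : GG Z J L ⟶ ω, φ = 0 := by
      intro φ
      refine hom_eq_zero_of_stalk k hω.1 t _ hGc (hgood _ hGc).1 φ (fun y hy m => ?_)
      by_cases hyJ : y ∈ J.support
      · by_contra hne
        have : y ∈ S₀ := ⟨⟨hy, hyJ⟩, φ, m, hne⟩
        rw [hempty] at this
        exact this
      · haveI := subsingleton_stalk_GG hL Z J y hyJ
        rw [Subsingleton.elim m 0, _root_.map_zero]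
    haveI : Subsingleton (GG Z J L ⟶ ω) := ⟨fun a b => by rw [hall a, hall b]⟩
    have h0 : finrank k (GG Z J L ⟶ ω) = 0 := finrank_zero_of_subsingleton
    rw [finrank_hom k t hgood _ hGc, h1GG] at h0
    omega
  obtain ⟨η₀, hη₀⟩ := hS₀ne
  have hη₀r : η₀ ∈ Set.range J₀.subschemeι := by
    rw [Scheme.IdealSheafData.range_subschemeι]; exact hS₀J₀ hη₀
  obtain ⟨η₀', hη₀'⟩ := hη₀r
  have hxr : x ∈ Set.range J₀.subschemeι := by
    rw [Scheme.IdealSheafData.range_subschemeι]; exact hxJ₀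
  obtain ⟨x', hx'⟩ := hxr
  refine ⟨J₀, hred₀, ?_, ?_, hxJ₀, ?_, ?_⟩
  · -- connectedness
    rw [connectedSpace_iff_clopen]
    refine ⟨⟨η₀'⟩, fun A hA => ?_⟩
    refine clopen_trivial k hdim hL hω t hgood Z hZ J₀ S₀ hS₀J₀ hgen₀ x hZx
      (subsingleton_H1_quotTensor k hdim hL J₀ hH1) ?_ x' hx' A hA
    intro η hη
    obtain ⟨φ, m, hm⟩ := hη.2
    obtain ⟨φ'', hφ''⟩ := hfac φ
    haveI := epi_pp hL Z J
    obtain ⟨m', rfl⟩ := Groth.Agent.Lib.helper25.StalkEpi.stalkAdd_surjective_of_epi (pp Z J L) η m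
    refine ⟨φ'', stalkAdd (pp Z J₀ L) η m', ?_⟩
    rw [← stalkAdd_comp, hφ'', stalkAdd_comp]
    exact hm
  · -- dimension one
    have hdY : topologicalKrullDim J₀.subscheme ≤ 1 :=
      (J₀.subschemeι.isClosedEmbedding.topologicalKrullDim_le).trans hdim
    by_contra hne
    have h0 : topologicalKrullDim J₀.subscheme ≤ 0 :=
      Groth.Agent.Lib.Helper18.DegTensor.le_zero_of_le_one_of_ne_one _ hdY hne
    have e : J₀.subscheme ≃ₜ ↥(Set.range J₀.subschemeι) :=
      J₀.subschemeι.isClosedEmbedding.isEmbedding.toHomeomorph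
    have h0' : topologicalKrullDim ↥(Set.range J₀.subschemeι) ≤ 0 := by
      rw [← IsHomeomorph.topologicalKrullDim_eq e e.isHomeomorph]; exact h0
    refine hS₀nc η₀ hη₀ (Groth.Agent.Lib.Helper20.DimZeroClosed.isClosed_singleton_of_dim_le_zero
      (Set.range J₀.subschemeι) J₀.subschemeι.isClosedEmbedding.isClosed_range h0' η₀ ⟨η₀', hη₀'⟩)
  · -- fewer generic points
    rw [hSof₀]
    refine ⟨hS₀sub, fun hsub => ?_⟩
    obtain ⟨φ, m, hm⟩ := (hsub hη₁).2
    exact hm (hvan φ m)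
  · -- the base point persists
    have hQ₀c : Coh.IsCoh (CohB1.tensorMod (ClSub.quotMod (Z ⊔ J₀)) L) :=
      Groth.Agent.Lib.Helper18.DegCalc.isCoh_tensorMod
        (Groth.Agent.Lib.helper7.SnapperQuot.isCoh_quotMod (Z ⊔ J₀)) (isCoh_L hL)
    haveI := Groth.Agent.Lib.Lead.ProperEuler.finite_HH k X _ hQ₀c 0
    have := Submodule.finrank_eq_zero.mp hr₀
    exact LinearMap.range_eq_bot.mp this

end Groth.Agent.Lib.Helper18.GGF
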