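import Mathlib
import Groth.Agent.Lib.Helper18.EtGR9

/-!
# Normalization of an integral scheme in a finite extension of its function field, part 1 (helper18)

* `isPullback_fromSpecStalk_of_isPushout`: the fibre of an affine morphism over `Spec O_{X,x}`
  computed by a pushout of rings on an affine open `U ∋ x`.
* `jmap L : Spec L ⟶ X` (through the generic point), `jmap_apply`, `jmap_appLE`.
* `aU L U : Γ(X', ν⁻¹ U) ⟶ L` for the normalization `ν : X' ⟶ X` of `X` in `Spec L`;
  `app_aU`, `specMap_aU`, `aU_injective`, `isIntegralElem_aU`, `exists_aU_eq`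
  (its range is the set of elements integral over `Γ(X, U)`).
-/

set_option autoImplicit false
universe u
open AlgebraicGeometry CategoryTheory CategoryTheory.Limits

namespace Groth.Agent.Lib.Helper18.GenNorm

/-- The fibre of an affine morphism over a point `x`, computed on an affine open `U ∋ x` by a
pushout of rings. -/
theorem isPullback_fromSpecStalk_of_isPushout {Z X : Scheme.{u}} (p : Z ⟶ X) [IsAffineHom p]
    {U : X.Opens} (hU : IsAffineOpen U) (x : X) (hx : x ∈ U) {R : CommRingCat.{u}}
    (a : Γ(Z, p ⁻¹ᵁ U) ⟶ R) (b : X.presheaf.stalk x ⟶ R)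
    (h : IsPushout (p.app U) (X.presheaf.germ U x hx) a b) :
    IsPullback (Spec.map a ≫ (hU.preimage p).fromSpec) (Spec.map b) p (X.fromSpecStalk x) := by
  have h1 : IsPullback (Spec.map a) (Spec.map b) (Spec.map (p.app U))
      (Spec.map (X.presheaf.germ U x hx)) := isPullback_SpecMap_of_isPushout _ _ _ _ h
  have h2 : IsPullback (Spec.map (p.app U)) (hU.preimage p).fromSpec hU.fromSpec p := by
    apply IsOpenImmersion.isPullback
    · rw [Scheme.Hom.app_eq_appLE, IsAffineOpen.SpecMap_appLE_fromSpec]
    · rw [IsAffineOpen.opensRange_fromSpec, IsAffineOpen.opensRange_fromSpec]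
  have h3 := h1.flip.paste_vert h2
  rw [← hU.fromSpecStalk_eq_fromSpecStalk hx]
  exact h3.flip

section

variable {X : Scheme.{u}} [IsIntegral X] (L : Type u) [Field L] [Algebra X.functionField L]

/-- the morphism `Spec L ⟶ X` at the generic point -/
noncomputable abbrev jmap : Spec (CommRingCat.of L) ⟶ X :=
  Spec.map (CommRingCat.ofHom (algebraMap X.functionField L)) ≫ X.fromSpecStalk (genericPoint X)

theorem jmap_apply (z : ↥(Spec (CommRingCat.of L))) : (jmap (X := X) L) z = genericPoint X := by
  have h1 : (jmap (X := X) L) z ∈ Set.range (X.fromSpecStalk (genericPoint X)) := by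
    rw [Scheme.Hom.comp_apply]
    exact ⟨_, rfl⟩
  rw [Scheme.range_fromSpecStalk] at h1
  exact ((genericPoint_specializes _).antisymm h1).symm.eq

theorem genericPoint_mem (U : X.Opens) [h : Nonempty U] : genericPoint X ∈ U :=
  ((genericPoint_spec X).mem_open_set_iff U.isOpen).mpr (by simpa using h)

theorem top_le_preimage (U : X.Opens) [Nonempty U] :
    (⊤ : (Spec (CommRingCat.of L)).Opens) ≤ (jmap (X := X) L) ⁻¹ᵁ U := by
  intro z _
  show (jmap (X := X) L) z ∈ U
  rw [jmap_apply]
  exact genericPoint_mem U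

/-- `Γ(X, U) ⟶ L` through `Spec L ⟶ X` is the germ map followed by `K ⟶ L` -/
theorem jmap_appLE (U : X.Opens) [Nonempty U] :
    (jmap (X := X) L).appLE U ⊤ (top_le_preimage L U) ≫ (Scheme.ΓSpecIso (CommRingCat.of L)).hom =
      X.germToFunctionField U ≫ CommRingCat.ofHom (algebraMap X.functionField L) := by
  rw [Scheme.Hom.comp_appLE, Scheme.fromSpecStalk_app (genericPoint_mem U)]
  simp only [Category.assoc, Scheme.Hom.map_appLE]
  have h1 : ∀ (g : X.functionField ⟶ CommRingCat.of L) (e : (⊤ : (Spec (CommRingCat.of L)).Opens) ≤ (Spec.map g) ⁻¹ᵁ ⊤),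
      (Spec.map g).appLE ⊤ ⊤ e = (Spec.map g).appTop := by
    intro g e
    rw [Scheme.Hom.appTop, Scheme.Hom.app_eq_appLE]
    rfl
  rw [h1, Scheme.ΓSpecIso_naturality, Iso.inv_hom_id_assoc]
  rfl

theorem appLE_congr_hom {Y Z : Scheme.{u}} {f g : Y ⟶ Z} (h : f = g) (U : Z.Opens) (V : Y.Opens)
    (e : V ≤ f ⁻¹ᵁ U) : f.appLE U V e = g.appLE U V (h ▸ e) := by
  subst h
  rfl

variable [QuasiCompact (jmap (X := X) L)] [QuasiSeparated (jmap (X := X) L)]

theorem top_le_preimage' (U : X.Opens) [Nonempty U] :
    (⊤ : (Spec (CommRingCat.of L)).Opens) ≤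
      (jmap (X := X) L).toNormalization ⁻¹ᵁ ((jmap (X := X) L).fromNormalization ⁻¹ᵁ U) := by
  rw [← Scheme.Hom.comp_preimage, Scheme.Hom.toNormalization_fromNormalization]
  exact top_le_preimage L U

/-- the map `Γ(X', ν⁻¹ U) ⟶ L` -/
noncomputable def aU (U : X.Opens) [Nonempty U] :
    Γ((jmap (X := X) L).normalization, (jmap (X := X) L).fromNormalization ⁻¹ᵁ U) ⟶
      CommRingCat.of L :=
  (jmap (X := X) L).toNormalization.appLE _ ⊤ (top_le_preimage' L U) ≫
    (Scheme.ΓSpecIso (CommRingCat.of L)).hom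

theorem app_aU (U : X.Opens) [Nonempty U] :
    (jmap (X := X) L).fromNormalization.app U ≫ aU L U =
      X.germToFunctionField U ≫ CommRingCat.ofHom (algebraMap X.functionField L) := by
  rw [aU, ← Category.assoc, ← Scheme.Hom.comp_appLE,
    appLE_congr_hom (Scheme.Hom.toNormalization_fromNormalization (jmap (X := X) L))]
  exact jmap_appLE L U

theorem specMap_aU {U : X.Opens} (hU : IsAffineOpen U) [Nonempty U] :
    Spec.map (aU L U) ≫ (hU.preimage (jmap (X := X) L).fromNormalization).fromSpec =
      (jmap (X := X) L).toNormalization := by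
  rw [aU, Spec.map_comp, Category.assoc, IsAffineOpen.SpecMap_appLE_fromSpec _ _
    (isAffineOpen_top _), IsAffineOpen.fromSpec_top, Scheme.isoSpec_Spec_inv, ← Category.assoc,
    ← Spec.map_comp, Iso.inv_hom_id, Spec.map_id, Category.id_comp]

theorem aU_injective {U : X.Opens} (hU : IsAffineOpen U) [Nonempty U] :
    Function.Injective (aU L U).hom := by
  rw [aU]
  simp only [CommRingCat.hom_comp, RingHom.coe_comp]
  refine Function.Injective.comp
    ((ConcreteCategory.isIso_iff_bijective (Scheme.ΓSpecIso (CommRingCat.of L)).hom).mp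
      inferInstance).1 ?_
  rw [Scheme.Hom.appLE]
  simp only [CommRingCat.hom_comp, RingHom.coe_comp]
  refine Function.Injective.comp ?_
    (Groth.Agent.Lib.Helper18.EtGR.toNormalization_app_injective (jmap (X := X) L) hU)
  have hiso : IsIso ((Spec (CommRingCat.of L)).presheaf.map
      (homOfLE (top_le_preimage' (X := X) L U)).op) := by
    have : (⊤ : (Spec (CommRingCat.of L)).Opens) =
        (jmap (X := X) L).toNormalization ⁻¹ᵁ ((jmap (X := X) L).fromNormalization ⁻¹ᵁ U) :=
      le_antisymm (top_le_preimage' L U) le_top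
    have h2 : homOfLE (top_le_preimage' (X := X) L U) = eqToHom this := Subsingleton.elim _ _
    rw [h2]
    infer_instance
  exact ((ConcreteCategory.isIso_iff_bijective _).mp hiso).1

/-- the structure map `Γ(X, U) →+* L` -/
noncomputable def γU (U : X.Opens) [Nonempty U] : Γ(X, U) →+* L :=
  (algebraMap X.functionField L).comp (X.germToFunctionField U).hom

theorem isIntegralElem_aU {U : X.Opens} (hU : IsAffineOpen U) [Nonempty U]
    (y : Γ((jmap (X := X) L).normalization, (jmap (X := X) L).fromNormalization ⁻¹ᵁ U)) :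
    (γU L U).IsIntegralElem ((aU L U).hom y) := by
  obtain ⟨p, hp, hpy⟩ := (jmap (X := X) L).fromNormalization.isIntegral_app U hU y
  refine ⟨p, hp, ?_⟩
  have h1 : γU L U = (aU L U).hom.comp ((jmap (X := X) L).fromNormalization.app U).hom := by
    have := congrArg CommRingCat.Hom.hom (app_aU L U)
    rw [CommRingCat.hom_comp, CommRingCat.hom_comp] at this
    exact this.symm
  rw [h1, ← Polynomial.hom_eval₂, hpy, map_zero]

theorem exists_aU_eq {U : X.Opens} (hU : IsAffineOpen U) [Nonempty U] (l : L)
    (hl : (γU L U).IsIntegralElem l) : ∃ y, (aU L U).hom y = l := by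
  letI := ((jmap (X := X) L).app U).hom.toAlgebra
  obtain ⟨p, hp, hpl⟩ := hl
  -- the iso `ρ : Γ(Spec L, j⁻¹ U) ≅ L`
  let r : Γ(Spec (CommRingCat.of L), (jmap (X := X) L) ⁻¹ᵁ U) ⟶ CommRingCat.of L :=
    (Spec (CommRingCat.of L)).presheaf.map (homOfLE (top_le_preimage (X := X) L U)).op ≫
      (Scheme.ΓSpecIso (CommRingCat.of L)).hom
  have hriso : IsIso r := by
    have : (⊤ : (Spec (CommRingCat.of L)).Opens) = (jmap (X := X) L) ⁻¹ᵁ U :=
      le_antisymm (top_le_preimage L U) le_top
    have h2 : homOfLE (top_le_preimage (X := X) L U) = eqToHom this := Subsingleton.elim _ _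
    dsimp only [r]
    rw [h2]
    infer_instance
  have hrbij := (ConcreteCategory.isIso_iff_bijective r).mp hriso
  have hr1 : (jmap (X := X) L).app U ≫ r =
      X.germToFunctionField U ≫ CommRingCat.ofHom (algebraMap X.functionField L) := by
    rw [← jmap_appLE L U, Scheme.Hom.appLE, Category.assoc]
  have hr1' : γU L U = r.hom.comp ((jmap (X := X) L).app U).hom := by
    have := congrArg CommRingCat.Hom.hom hr1
    rw [CommRingCat.hom_comp, CommRingCat.hom_comp] at this
    exact this.symm
  obtain ⟨m, hm⟩ := hrbij.2 l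
  have hmint : IsIntegral Γ(X, U) m := by
    refine ⟨p, hp, ?_⟩
    apply hrbij.1
    rw [map_zero]
    have : r.hom (Polynomial.eval₂ (algebraMap Γ(X, U) _) m p) =
        Polynomial.eval₂ (γU L U) l p := by
      rw [Polynomial.hom_eval₂, hr1']
      congr 1
    exact this.trans hpl
  let m' : integralClosure Γ(X, U) Γ(Spec (CommRingCat.of L), (jmap (X := X) L) ⁻¹ᵁ U) :=
    ⟨m, hmint⟩
  refine ⟨((jmap (X := X) L).normalizationObjIso hU).inv m', ?_⟩
  have h3 := (jmap (X := X) L).normalizationObjIso_hom_val hU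
  have h4 : aU L U = ((jmap (X := X) L).normalizationObjIso hU).hom ≫
      CommRingCat.ofHom (Subalgebra.val _).toRingHom ≫ r := by
    rw [← Category.assoc, h3, aU]
    dsimp only [r]
    rw [← Category.assoc, Scheme.Hom.appLE_map]
  have h5 : ((jmap (X := X) L).normalizationObjIso hU).hom.hom
      (((jmap (X := X) L).normalizationObjIso hU).inv.hom m') = m' := by
    have := congrArg (fun φ => φ.hom m') ((jmap (X := X) L).normalizationObjIso hU).inv_hom_id
    exact this
  rw [h4]
  simp only [CommRingCat.hom_comp, RingHom.coe_comp, Function.comp_apply]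
  erw [h5]
  exact hm

end

end Groth.Agent.Lib.Helper18.GenNorm
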