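import Mathlib
import Groth.Agent.Lib.Helper18.GenNorm1

set_option autoImplicit false
universe u
open AlgebraicGeometry CategoryTheory CategoryTheory.Limits

namespace Groth.Agent.Lib.Helper18.GenNorm

section

variable {X : Scheme.{u}} [IsIntegral X] (L : Type u) [Field L] [Algebra X.functionField L]
  [QuasiCompact (jmap (X := X) L)] [QuasiSeparated (jmap (X := X) L)]

theorem γU_injective (U : X.Opens) [Nonempty U] : Function.Injective (γU L U) := by
  rw [γU]
  exact (algebraMap X.functionField L).injective.comp (X.germToFunctionField_injective U)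

/-- `L` is the localization of `Γ(X', ν⁻¹ U)` at the nonzero elements of `Γ(X, U)`. -/
theorem isPushout_aU [Algebra.IsAlgebraic X.functionField L] {U : X.Opens} (hU : IsAffineOpen U)
    [Nonempty U] :
    IsPushout ((jmap (X := X) L).fromNormalization.app U) (X.germToFunctionField U) (aU L U)
      (CommRingCat.ofHom (algebraMap X.functionField L)) := by
  haveI : IsDomain Γ(X, U) := inferInstance
  haveI := functionField_isFractionRing_of_isAffineOpen X U hU
  letI : Algebra Γ((jmap (X := X) L).normalization, (jmap (X := X) L).fromNormalization ⁻¹ᵁ U) L :=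
    (aU L U).hom.toAlgebra
  letI algAL : Algebra Γ(X, U) L := (γU L U).toAlgebra
  haveI : IsScalarTower Γ(X, U) X.functionField L := IsScalarTower.of_algebraMap_eq' rfl
  have hcomp : (aU L U).hom.comp ((jmap (X := X) L).fromNormalization.app U).hom = γU L U := by
    have := congrArg CommRingCat.Hom.hom (app_aU L U)
    rw [CommRingCat.hom_comp, CommRingCat.hom_comp] at this
    exact this
  haveI hloc : IsLocalization ((nonZeroDivisors Γ(X, U)).map
      ((jmap (X := X) L).fromNormalization.app U).hom) L := by
    refine ⟨?_, ?_, ?_⟩
    · rintro ⟨y, s, hs, rfl⟩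
      show IsUnit ((aU L U).hom (((jmap (X := X) L).fromNormalization.app U).hom s))
      have : (aU L U).hom (((jmap (X := X) L).fromNormalization.app U).hom s) = γU L U s :=
        congrArg (fun φ => φ s) hcomp
      rw [this, isUnit_iff_ne_zero]
      intro h0
      have := γU_injective L U (h0.trans (map_zero _).symm)
      exact nonZeroDivisors.ne_zero hs this
    · intro z
      have hz : IsAlgebraic Γ(X, U) z :=
        (IsFractionRing.isAlgebraic_iff Γ(X, U) X.functionField L).mpr
          (Algebra.IsAlgebraic.isAlgebraic z)
      obtain ⟨s, hs0, hsz⟩ := hz.exists_integral_multiple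
      obtain ⟨y, hy⟩ := exists_aU_eq L hU (s • z) hsz
      refine ⟨⟨y, ⟨((jmap (X := X) L).fromNormalization.app U).hom s,
        ⟨s, mem_nonZeroDivisors_of_ne_zero hs0, rfl⟩⟩⟩, ?_⟩
      show z * (aU L U).hom (((jmap (X := X) L).fromNormalization.app U).hom s) = (aU L U).hom y
      have : (aU L U).hom (((jmap (X := X) L).fromNormalization.app U).hom s) = γU L U s :=
        congrArg (fun φ => φ s) hcomp
      rw [this, hy, mul_comm]
      rfl
    · intro x y hxy
      refine ⟨1, ?_⟩
      have : x = y := aU_injective L hU hxy
      rw [this]
  have H : (algebraMap X.functionField L).comp (algebraMap Γ(X, U) X.functionField) =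
      (algebraMap Γ((jmap (X := X) L).normalization, (jmap (X := X) L).fromNormalization ⁻¹ᵁ U) L).comp
        ((jmap (X := X) L).fromNormalization.app U).hom := hcomp.symm
  exact CommRingCat.isPushout_of_isLocalization
    ((jmap (X := X) L).fromNormalization.app U).hom (algebraMap X.functionField L) H
    (nonZeroDivisors Γ(X, U))

/-- `Spec L` is the generic fibre of the normalization of `X` in `Spec L`. -/
theorem isPullback_toNormalization [Algebra.IsAlgebraic X.functionField L] :
    IsPullback (jmap (X := X) L).toNormalization
      (Spec.map (CommRingCat.ofHom (algebraMap X.functionField L)))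
      (jmap (X := X) L).fromNormalization (X.fromSpecStalk (genericPoint X)) := by
  obtain ⟨_, ⟨U, hU, rfl⟩, hxU, -⟩ := X.isBasis_affineOpens.exists_subset_of_mem_open
    (Set.mem_univ (genericPoint X)) isOpen_univ
  haveI : Nonempty U := ⟨⟨_, hxU⟩⟩
  have h := isPullback_fromSpecStalk_of_isPushout (jmap (X := X) L).fromNormalization hU
    (genericPoint X) (genericPoint_mem U) _ _ (isPushout_aU L hU)
  rwa [specMap_aU L hU] at h

end

end Groth.Agent.Lib.Helper18.GenNorm
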