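import Mathlib
import Groth.Agent.Lib.Helper18.GenNorm2

set_option autoImplicit false
universe u
open AlgebraicGeometry CategoryTheory CategoryTheory.Limits

namespace Groth.Agent.Lib.Helper18.GenNorm

/-! ### ring-level lemmas -/

theorem injective_of_isLocalization_flat (A B L : Type*) [CommRing A] [CommRing B]
    [CommRing L] [Algebra A B] [Module.Flat A B] [Algebra B L]
    [IsLocalization (Algebra.algebraMapSubmonoid B (nonZeroDivisors A)) L] :
    Function.Injective (algebraMap B L) := by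
  refine IsLocalization.injective L (M := Algebra.algebraMapSubmonoid B (nonZeroDivisors A)) ?_
  rintro _ ⟨s, hs, rfl⟩
  have hreg : IsSMulRegular B s := Module.Flat.isSMulRegular_of_nonZeroDivisors hs
  rw [mem_nonZeroDivisors_iff]
  refine ⟨fun x hx => ?_, fun x hx => ?_⟩
  · apply hreg
    show s • x = s • (0 : B)
    rw [smul_zero, Algebra.smul_def]
    exact hx
  · apply hreg
    show s • x = s • (0 : B)
    rw [smul_zero, Algebra.smul_def, mul_comm]
    exact hx

theorem isIntegral_iff_mem_range (A B L : Type*) [CommRing A] [CommRing B] [IsDomain B]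
    [Field L] [Algebra A B] [Algebra B L] [Algebra A L] [IsScalarTower A B L]
    [Algebra.IsIntegral A B] [IsFractionRing B L] [IsIntegrallyClosed B] (l : L) :
    IsIntegral A l ↔ l ∈ Set.range (algebraMap B L) := by
  constructor
  · intro h
    have h2 : IsIntegral B l := h.tower_top
    obtain ⟨b, hb⟩ := IsIntegrallyClosed.isIntegral_iff.mp h2
    exact ⟨b, hb⟩
  · rintro ⟨b, rfl⟩
    exact (Algebra.IsIntegral.isIntegral (R := A) b).algebraMap

theorem bijective_of_range_eq {B C L : Type*} (a : B → L) (a' : C → L) (φ : B → C)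
    (ha : Function.Injective a) (ha' : Function.Injective a') (h : ∀ b, a' (φ b) = a b)
    (hr : ∀ c, ∃ b, a b = a' c) : Function.Bijective φ := by
  refine ⟨fun x y hxy => ha ?_, fun c => ?_⟩
  · rw [← h, ← h, hxy]
  · obtain ⟨b, hb⟩ := hr c
    exact ⟨b, ha' ((h b).trans hb)⟩

/-! ### comparing pullback squares over `Spec O_{X,x}` -/

/-- Converse of `isPullback_fromSpecStalk_of_isPushout`. -/
theorem isPushout_of_isPullback_fromSpecStalk {Z X : Scheme.{u}} (p : Z ⟶ X) [IsAffineHom p]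
    {U : X.Opens} (hU : IsAffineOpen U) (x : X) (hx : x ∈ U) {R : CommRingCat.{u}}
    (a : Γ(Z, p ⁻¹ᵁ U) ⟶ R) (b : X.presheaf.stalk x ⟶ R)
    (hab : p.app U ≫ a = X.presheaf.germ U x hx ≫ b)
    (h : IsPullback (Spec.map a ≫ (hU.preimage p).fromSpec) (Spec.map b) p (X.fromSpecStalk x)) :
    IsPushout (p.app U) (X.presheaf.germ U x hx) a b := by
  have hP : IsPushout (p.app U) (X.presheaf.germ U x hx) (pushout.inl _ _) (pushout.inr _ _) :=
    IsPushout.of_hasPushout _ _
  have G := isPullback_fromSpecStalk_of_isPushout p hU x hx _ _ hP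
  let d : pushout (p.app U) (X.presheaf.germ U x hx) ⟶ R := pushout.desc a b hab
  have hd1 : pushout.inl _ _ ≫ d = a := pushout.inl_desc _ _ _
  have hd2 : pushout.inr _ _ ≫ d = b := pushout.inr_desc _ _ _
  have hiso : IsIso (Spec.map d) := by
    have : Spec.map d = (h.isoIsPullback _ _ G).hom := by
      apply G.hom_ext
      · rw [IsPullback.isoIsPullback_hom_fst, ← Category.assoc, ← Spec.map_comp, hd1]
      · rw [IsPullback.isoIsPullback_hom_snd, ← Spec.map_comp, hd2]
    rw [this]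
    infer_instance
  haveI : IsIso d := by
    have h1 : IsIso (Scheme.Spec.map d.op) := hiso
    have h2 : IsIso d.op := isIso_of_reflects_iso d.op Scheme.Spec
    exact isIso_of_op d
  refine IsPushout.of_iso hP (Iso.refl _) (Iso.refl _) (Iso.refl _) (asIso d) ?_ ?_ ?_ ?_
  · simp
  · simp
  · simp [hd1]
  · simp [hd2]

/-! ### the maps to `L` for a general factorization of `Spec L ⟶ X` -/

section gen

variable {X : Scheme.{u}} [IsIntegral X] (L : Type u) [Field L] [Algebra X.functionField L]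
  {Z : Scheme.{u}} (p : Spec (CommRingCat.of L) ⟶ Z) (q : Z ⟶ X) (hpq : p ≫ q = jmap (X := X) L)

include hpq in
theorem top_le_preimage_gen (U : X.Opens) [Nonempty U] :
    (⊤ : (Spec (CommRingCat.of L)).Opens) ≤ p ⁻¹ᵁ (q ⁻¹ᵁ U) := by
  rw [← Scheme.Hom.comp_preimage, hpq]
  exact top_le_preimage L U

/-- the map `Γ(Z, q⁻¹ U) ⟶ L` -/
noncomputable def aGen (U : X.Opens) [Nonempty U] : Γ(Z, q ⁻¹ᵁ U) ⟶ CommRingCat.of L :=
  p.appLE _ ⊤ (top_le_preimage_gen L p q hpq U) ≫ (Scheme.ΓSpecIso (CommRingCat.of L)).hom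

theorem app_aGen (U : X.Opens) [Nonempty U] :
    q.app U ≫ aGen L p q hpq U =
      X.germToFunctionField U ≫ CommRingCat.ofHom (algebraMap X.functionField L) := by
  rw [aGen, ← Category.assoc, ← Scheme.Hom.comp_appLE, appLE_congr_hom hpq]
  exact jmap_appLE L U

theorem specMap_aGen [IsAffineHom q] {U : X.Opens} (hU : IsAffineOpen U) [Nonempty U] :
    Spec.map (aGen L p q hpq U) ≫ (hU.preimage q).fromSpec = p := by
  rw [aGen, Spec.map_comp, Category.assoc, IsAffineOpen.SpecMap_appLE_fromSpec _ _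
    (isAffineOpen_top _), IsAffineOpen.fromSpec_top, Scheme.isoSpec_Spec_inv, ← Category.assoc,
    ← Spec.map_comp, Iso.inv_hom_id, Spec.map_id, Category.id_comp]

theorem aGen_comp {Z' : Scheme.{u}} (c : Z ⟶ Z') (q' : Z' ⟶ X) (hc : c ≫ q' = q)
    (U : X.Opens) [Nonempty U] (e : q ⁻¹ᵁ U ≤ c ⁻¹ᵁ (q' ⁻¹ᵁ U)) :
    c.appLE (q' ⁻¹ᵁ U) (q ⁻¹ᵁ U) e ≫ aGen L p q hpq U =
      aGen L (p ≫ c) q' (by rw [Category.assoc, hc, hpq]) U := by
  rw [aGen, aGen, ← Category.assoc, Scheme.Hom.appLE_comp_appLE]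

end gen

end Groth.Agent.Lib.Helper18.GenNorm
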