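import Mathlib
import Groth.Agent.Lib.Helper18.GenNorm3
import Groth.Agent.Lib.Helper13.Normal2

set_option autoImplicit false
universe u
open AlgebraicGeometry CategoryTheory CategoryTheory.Limits

namespace Groth.Agent.Lib.Helper18.GenNorm

theorem isIso_of_appLE_bijective {W Z Y : Scheme.{u}} (c : W ⟶ Z) (p : Z ⟶ Y) (r : W ⟶ Y)
    [IsAffineHom p] [IsAffineHom r] (hc : c ≫ p = r)
    (hbij : ∀ y : Y, ∃ (V : Y.Opens) (e : r ⁻¹ᵁ V ≤ c ⁻¹ᵁ (p ⁻¹ᵁ V)), IsAffineOpen V ∧ y ∈ V ∧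
      Function.Bijective (c.appLE (p ⁻¹ᵁ V) (r ⁻¹ᵁ V) e).hom) : IsIso c := by
  subst hc
  haveI : IsAffineHom c := .of_comp _ p
  apply IsZariskiLocalAtTarget.of_forall_exists_morphismRestrict (P := .isomorphisms _) fun z ↦ ?_
  obtain ⟨V, e, hV, hzV, hb⟩ := hbij (p z)
  refine ⟨p ⁻¹ᵁ V, hzV, (isIso_morphismRestrict_iff_isIso_app _ (hV.preimage p)).mpr ?_⟩
  rw [ConcreteCategory.isIso_iff_bijective, Scheme.Hom.app_eq_appLE]
  exact hb

section main

variable {X : Scheme.{u}} [IsIntegral X] (L : Type u) [Field L] [Algebra X.functionField L]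
  {T : Scheme.{u}} (t : T ⟶ X) [IsFinite t] [Etale t] (j' : Spec (CommRingCat.of L) ⟶ T)
  (hpb : IsPullback j' (Spec.map (CommRingCat.ofHom (algebraMap X.functionField L))) t
    (X.fromSpecStalk (genericPoint X)))

include hpb in
theorem isPushout_aGen {U : X.Opens} (hU : IsAffineOpen U) [Nonempty U] :
    IsPushout (t.app U) (X.germToFunctionField U) (aGen L j' t hpb.w U)
      (CommRingCat.ofHom (algebraMap X.functionField L)) := by
  refine isPushout_of_isPullback_fromSpecStalk t hU (genericPoint X) (genericPoint_mem U) _ _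
    (app_aGen L j' t hpb.w U) ?_
  rw [specMap_aGen L j' t hpb.w hU]
  exact hpb

include hpb in
theorem aGen_injective_and_range (hX : Pi1.IsNormalScheme X) {U : X.Opens} (hU : IsAffineOpen U)
    [Nonempty U] :
    Function.Injective (aGen L j' t hpb.w U).hom ∧
      ∀ l : L, (γU L U).IsIntegralElem l → ∃ b, (aGen L j' t hpb.w U).hom b = l := by
  haveI : IsDomain Γ(X, U) := inferInstance
  haveI := functionField_isFractionRing_of_isAffineOpen X U hU
  letI algAB : Algebra Γ(X, U) Γ(T, t ⁻¹ᵁ U) := (t.app U).hom.toAlgebra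
  letI algBL : Algebra Γ(T, t ⁻¹ᵁ U) L := (aGen L j' t hpb.w U).hom.toAlgebra
  letI algAL : Algebra Γ(X, U) L := (γU L U).toAlgebra
  haveI : IsScalarTower Γ(X, U) X.functionField L := IsScalarTower.of_algebraMap_eq' rfl
  have hcomp : (aGen L j' t hpb.w U).hom.comp (t.app U).hom = γU L U := by
    have := congrArg CommRingCat.Hom.hom (app_aGen L j' t hpb.w U)
    rw [CommRingCat.hom_comp, CommRingCat.hom_comp] at this
    exact this
  haveI : IsScalarTower Γ(X, U) Γ(T, t ⁻¹ᵁ U) L := IsScalarTower.of_algebraMap_eq' hcomp.symm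
  have hpo : Algebra.IsPushout Γ(X, U) Γ(T, t ⁻¹ᵁ U) X.functionField L :=
    CommRingCat.isPushout_iff_isPushout.mp (isPushout_aGen L t j' hpb hU)
  haveI hloc : IsLocalization (Algebra.algebraMapSubmonoid Γ(T, t ⁻¹ᵁ U)
      (nonZeroDivisors Γ(X, U))) L :=
    (Algebra.isLocalization_iff_isPushout _ X.functionField).mpr hpo
  haveI : Module.Flat Γ(X, U) Γ(T, t ⁻¹ᵁ U) := by
    have := t.flat_appLE hU (hU.preimage t) le_rfl
    rw [← Scheme.Hom.app_eq_appLE] at this
    exact this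
  have hinj := injective_of_isLocalization_flat Γ(X, U) Γ(T, t ⁻¹ᵁ U) L
  haveI : IsDomain Γ(T, t ⁻¹ᵁ U) := hinj.isDomain _
  haveI : FaithfulSMul Γ(T, t ⁻¹ᵁ U) L := (faithfulSMul_iff_algebraMap_injective _ _).mpr hinj
  haveI : IsFractionRing Γ(T, t ⁻¹ᵁ U) L := by
    refine IsFractionRing.of_field (R := Γ(T, t ⁻¹ᵁ U)) (K := L) fun z => ?_
    obtain ⟨⟨b, ⟨s, hs⟩⟩, hbs⟩ := IsLocalization.surj (Algebra.algebraMapSubmonoid Γ(T, t ⁻¹ᵁ U)
      (nonZeroDivisors Γ(X, U))) z
    refine ⟨b, s, ?_⟩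
    have hs0 : algebraMap Γ(T, t ⁻¹ᵁ U) L s ≠ 0 := (IsLocalization.map_units L (⟨s, hs⟩ : Algebra.algebraMapSubmonoid Γ(T, t ⁻¹ᵁ U)
      (nonZeroDivisors Γ(X, U)))).ne_zero
    rw [eq_div_iff hs0]
    exact hbs
  haveI : IsIntegrallyClosed Γ(T, t ⁻¹ᵁ U) :=
    IsIntegrallyClosed.of_localization_maximal fun p _ _ =>
      ((Groth.Agent.Lib.helper13.Normal.iff_affineOpens T).mp
        (Groth.Agent.Lib.helper13.Normal.of_etale t hX) _ (hU.preimage t) p).2
  haveI : Algebra.IsIntegral Γ(X, U) Γ(T, t ⁻¹ᵁ U) := ⟨t.isIntegral_app U hU⟩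
  refine ⟨hinj, fun l hl => ?_⟩
  exact (isIntegral_iff_mem_range Γ(X, U) Γ(T, t ⁻¹ᵁ U) L l).mp hl

theorem aGen_congr {Z : Scheme.{u}} {p p' : Spec (CommRingCat.of L) ⟶ Z} (hp : p = p') (q : Z ⟶ X)
    (hpq : p ≫ q = jmap (X := X) L) (U : X.Opens) [Nonempty U] :
    aGen L p q hpq U = aGen L p' q (hp ▸ hpq) U := by
  subst hp
  rfl

variable [QuasiCompact (jmap (X := X) L)] [QuasiSeparated (jmap (X := X) L)]

include hpb in
theorem isIso_normalizationDesc (hX : Pi1.IsNormalScheme X) :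
    IsIso ((jmap (X := X) L).normalizationDesc j' t hpb.w.symm) := by
  have hc1 : (jmap (X := X) L).toNormalization ≫
      (jmap (X := X) L).normalizationDesc j' t hpb.w.symm = j' :=
    Scheme.Hom.toNormalization_normalizationDesc _ _ _ _
  have hc2 : (jmap (X := X) L).normalizationDesc j' t hpb.w.symm ≫ t =
      (jmap (X := X) L).fromNormalization :=
    Scheme.Hom.normalizationDesc_comp _ _ _ _
  refine isIso_of_appLE_bijective _ t _ hc2 fun y => ?_
  obtain ⟨_, ⟨U, hU, rfl⟩, hyU, -⟩ := X.isBasis_affineOpens.exists_subset_of_mem_open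
    (Set.mem_univ y) isOpen_univ
  haveI : Nonempty U := ⟨⟨_, hyU⟩⟩
  have e : (jmap (X := X) L).fromNormalization ⁻¹ᵁ U ≤
      ((jmap (X := X) L).normalizationDesc j' t hpb.w.symm) ⁻¹ᵁ (t ⁻¹ᵁ U) := by
    rw [← Scheme.Hom.comp_preimage, hc2]
  refine ⟨U, e, hU, hyU, ?_⟩
  obtain ⟨hinj, hrange⟩ := aGen_injective_and_range L t j' hpb hX hU
  have hcomp := aGen_comp L (jmap (X := X) L).toNormalization (jmap (X := X) L).fromNormalization
    (Scheme.Hom.toNormalization_fromNormalization _) _ t hc2 U e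
  rw [aGen_congr L hc1] at hcomp
  refine bijective_of_range_eq (aGen L j' t hpb.w U).hom (aU L U).hom _ hinj (aU_injective L hU)
    (fun b => ?_) (fun c => ?_)
  · have := congrArg (fun φ => φ.hom b) hcomp
    exact this
  · exact hrange _ (isIntegralElem_aU L hU c)

include hpb in
theorem etale_and_isFinite_fromNormalization (hX : Pi1.IsNormalScheme X) :
    Etale (jmap (X := X) L).fromNormalization ∧ IsFinite (jmap (X := X) L).fromNormalization := by
  haveI := isIso_normalizationDesc L t j' hpb hX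
  have hc2 : (jmap (X := X) L).normalizationDesc j' t hpb.w.symm ≫ t =
      (jmap (X := X) L).fromNormalization :=
    Scheme.Hom.normalizationDesc_comp _ _ _ _
  rw [← hc2]
  exact ⟨inferInstance, inferInstance⟩

end main

end Groth.Agent.Lib.Helper18.GenNorm
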