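import Mathlib

/-!
# Primitive elements with separable reduction (helper18)

`A` an integrally closed domain with fraction field `K`, `L/K` finite of degree `n`, `β ∈ L`
integral over `A`, `φ : A → Ω` a ring map to a field such that the reduction of the minimal
polynomial of `β` has `n` distinct roots in `Ω`. Then the minimal polynomial `Q` has degree `n`,
the resultant `d` of `Q` and `Q'` is not killed by `φ`, and `d` times any element of `L` integral
over `A` lies in `A[β]`.
-/

set_option autoImplicit false
open Polynomial Module

namespace Groth.Agent.Lib.Helper18.PrimGen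

section LemmaM

variable {A K L Ω : Type*} [CommRing A] [IsDomain A] [IsIntegrallyClosed A] [Field K] [Field L]
  [Algebra A K] [IsFractionRing A K] [Algebra K L] [Algebra A L] [IsScalarTower A K L]
  [FiniteDimensional K L] [Field Ω] (φ : A →+* Ω)
  (β : L) (hβ : IsIntegral A β) (r : Fin (finrank K L) → Ω) (hr : Function.Injective r)
  (hroot : ∀ i, ((minpoly A β).map φ).IsRoot (r i))

include hβ hr hroot

theorem natDegree_minpoly_eq : (minpoly A β).natDegree = finrank K L := by
  have hmon : (minpoly A β).Monic := minpoly.monic hβ
  apply le_antisymm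
  · have h1 : (minpoly K β).natDegree ≤ finrank K L := minpoly.natDegree_le β
    rwa [minpoly.isIntegrallyClosed_eq_field_fractions' K hβ, hmon.natDegree_map] at h1
  · classical
    have hne : (minpoly A β).map φ ≠ 0 := (hmon.map φ).ne_zero
    have h2 : (Finset.univ.image r).val ⊆ ((minpoly A β).map φ).roots := by
      intro x hx
      rw [Finset.mem_val, Finset.mem_image] at hx
      obtain ⟨i, -, rfl⟩ := hx
      exact (mem_roots hne).mpr (hroot i)
    have h3 := card_le_degree_of_subset_roots h2
    rwa [Finset.card_image_of_injective _ hr, Finset.card_univ, Fintype.card_fin,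
      hmon.natDegree_map] at h3

theorem map_minpoly_eq_prod : (minpoly A β).map φ = ∏ i, (X - C (r i)) := by
  classical
  have hmon : ((minpoly A β).map φ).Monic := (minpoly.monic hβ).map φ
  have hdeg : ((minpoly A β).map φ).natDegree = finrank K L := by
    rw [(minpoly.monic hβ).natDegree_map, natDegree_minpoly_eq φ β hβ r hr hroot]
  have hne : (minpoly A β).map φ ≠ 0 := hmon.ne_zero
  have h2 : (Finset.univ.image r).val ≤ ((minpoly A β).map φ).roots := by
    rw [Multiset.le_iff_subset (Finset.nodup _)]
    intro x hx
    rw [Finset.mem_val, Finset.mem_image] at hx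
    obtain ⟨i, -, rfl⟩ := hx
    exact (mem_roots hne).mpr (hroot i)
  have hcard : (Finset.univ.image r).val.card = finrank K L := by
    show (Finset.univ.image r).card = _
    rw [Finset.card_image_of_injective _ hr, Finset.card_univ, Fintype.card_fin]
  have h3 : ((minpoly A β).map φ).roots = (Finset.univ.image r).val := by
    refine (Multiset.eq_of_le_of_card_le h2 ?_).symm
    rw [hcard, ← hdeg]
    exact card_roots' _
  have h4 := prod_multiset_X_sub_C_of_monic_of_roots_card_eq hmon (by rw [h3, hcard, hdeg])
  rw [← h4, h3, Finset.image_val_of_injOn (hr.injOn), Multiset.map_map]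
  rfl

theorem separable_map_minpoly : ((minpoly A β).map φ).Separable := by
  rw [map_minpoly_eq_prod φ β hβ r hr hroot]
  exact separable_prod_X_sub_C_iff.mpr hr

/-- the resultant of the minimal polynomial and its derivative -/
noncomputable def resD (A : Type*) {L : Type*} [CommRing A] [Ring L] [Algebra A L] (β : L) : A :=
  resultant (minpoly A β) (derivative (minpoly A β))

theorem map_resD_ne_zero : φ (resD A β) ≠ 0 := by
  have hmon : (minpoly A β).Monic := minpoly.monic hβ
  have hsep := separable_map_minpoly φ β hβ r hr hroot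
  have h1 : φ (resD A β) = resultant ((minpoly A β).map φ) ((derivative (minpoly A β)).map φ)
      (minpoly A β).natDegree (derivative (minpoly A β)).natDegree :=
    (resultant_map_map _ _ _ _ φ).symm
  rw [h1, ← derivative_map]
  obtain ⟨k, hk⟩ : ∃ k, (derivative (minpoly A β)).natDegree =
      (derivative ((minpoly A β).map φ)).natDegree + k := by
    refine Nat.exists_eq_add_of_le ?_
    rw [derivative_map]
    exact natDegree_map_le
  rw [hk, resultant_add_right_deg _ _ _ _ _ le_rfl, ← hmon.natDegree_map φ,
    coeff_natDegree, (hmon.map φ).leadingCoeff, one_pow, one_mul]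
  exact resultant_ne_zero _ _ hsep

theorem exists_mul_add_mul_eq_C_resD :
    ∃ p q : A[X], minpoly A β * p + derivative (minpoly A β) * q = C (resD A β) := by
  have hpos : (minpoly A β).natDegree ≠ 0 := by
    rw [natDegree_minpoly_eq φ β hβ r hr hroot]
    exact (finrank_pos (R := K) (M := L)).ne'
  obtain ⟨p, q, -, -, h⟩ := exists_mul_add_mul_eq_C_resultant (minpoly A β)
    (derivative (minpoly A β)) le_rfl le_rfl (Or.inl hpos)
  exact ⟨p, q, h⟩

theorem resD_ne_zero : resD A β ≠ 0 := fun h =>
  map_resD_ne_zero φ β hβ r hr hroot (by rw [h, map_zero])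

theorem minpoly_field_eq : minpoly K β = (minpoly A β).map (algebraMap A K) :=
  minpoly.isIntegrallyClosed_eq_field_fractions' K hβ

theorem isSeparable_gen : IsSeparable K β := by
  rw [IsSeparable, minpoly_field_eq φ β hβ r hr hroot]
  obtain ⟨p, q, h⟩ := exists_mul_add_mul_eq_C_resD φ β hβ r hr hroot
  have hd : algebraMap A K (resD A β) ≠ 0 := by
    intro h0
    exact resD_ne_zero φ β hβ r hr hroot
      ((IsFractionRing.injective A K) (h0.trans (map_zero _).symm))
  have h2 := congrArg (Polynomial.map (algebraMap A K)) h
  rw [Polynomial.map_add, Polynomial.map_mul, Polynomial.map_mul, map_C, ← derivative_map] at h2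
  refine ⟨C (algebraMap A K (resD A β))⁻¹ * p.map (algebraMap A K),
    C (algebraMap A K (resD A β))⁻¹ * q.map (algebraMap A K), ?_⟩
  calc C (algebraMap A K (resD A β))⁻¹ * p.map (algebraMap A K) * (minpoly A β).map (algebraMap A K) +
      C (algebraMap A K (resD A β))⁻¹ * q.map (algebraMap A K) *
        derivative ((minpoly A β).map (algebraMap A K))
      = C (algebraMap A K (resD A β))⁻¹ * ((minpoly A β).map (algebraMap A K) * p.map (algebraMap A K) +
        derivative ((minpoly A β).map (algebraMap A K)) * q.map (algebraMap A K)) := by ring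
    _ = 1 := by
      rw [h2, ← C_mul, inv_mul_cancel₀ hd, C_1]

theorem adjoin_eq_top : IntermediateField.adjoin K {β} = ⊤ := by
  rw [Field.primitive_element_iff_minpoly_natDegree_eq, minpoly_field_eq φ β hβ r hr hroot,
    (minpoly.monic hβ).natDegree_map, natDegree_minpoly_eq φ β hβ r hr hroot]

theorem algebra_isSeparable : Algebra.IsSeparable K L := by
  have h1 : Algebra.IsSeparable K (IntermediateField.adjoin K {β}) :=
    (IntermediateField.isSeparable_adjoin_simple_iff_isSeparable K L).mpr
      (isSeparable_gen φ β hβ r hr hroot)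
  rw [adjoin_eq_top φ β hβ r hr hroot] at h1
  exact Algebra.IsSeparable.of_algHom K _ (IntermediateField.topEquiv (F := K) (E := L)).symm.toAlgHom

theorem algebra_adjoin_eq_top : Algebra.adjoin K {β} = ⊤ := by
  have h1 := adjoin_eq_top φ β hβ r hr hroot
  have h2 := IntermediateField.adjoin_simple_toSubalgebra_of_isAlgebraic
    (Algebra.IsAlgebraic.isAlgebraic (R := K) β)
  rw [← h2, h1, IntermediateField.top_toSubalgebra]

/-- `d` times an integral element lies in `A[β]`. -/
theorem resD_mul_mem_adjoin (z : L) (hz : IsIntegral A z) :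
    algebraMap A L (resD A β) * z ∈ Algebra.adjoin A {β} := by
  haveI := algebra_isSeparable φ β hβ r hr hroot
  have hdual := traceForm_dualSubmodule_adjoin A K (algebra_adjoin_eq_top φ β hβ r hr hroot) hβ
  have hz' : z ∈ (Algebra.traceForm K L).dualSubmodule
      (Subalgebra.toSubmodule (Algebra.adjoin A {β})) := by
    intro y hy
    have hy' : IsIntegral A y := by
      have : y ∈ Algebra.adjoin A {β} := hy
      exact IsIntegral.of_mem_of_fg _ (hβ.fg_adjoin_singleton) _ this
    have h1 : IsIntegral A (Algebra.trace K L (z * y)) := Algebra.isIntegral_trace (hz.mul hy')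
    obtain ⟨a, ha⟩ := IsIntegrallyClosed.isIntegral_iff.mp h1
    rw [Algebra.traceForm_apply, Submodule.mem_one]
    exact ⟨a, ha⟩
  rw [hdual, Submodule.mem_smul_pointwise_iff_exists] at hz'
  obtain ⟨w, hw, hwz⟩ := hz'
  obtain ⟨p, q, h⟩ := exists_mul_add_mul_eq_C_resD φ β hβ r hr hroot
  have h3 := congrArg (aeval β) h
  rw [map_add, map_mul, map_mul, minpoly.aeval, zero_mul, zero_add, aeval_C] at h3
  have hder : aeval β (derivative (minpoly K β)) = aeval β (derivative (minpoly A β)) := by
    rw [minpoly_field_eq φ β hβ r hr hroot, derivative_map, aeval_map_algebraMap]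
  have hne : aeval β (derivative (minpoly K β)) ≠ 0 :=
    (isSeparable_gen φ β hβ r hr hroot).aeval_derivative_ne_zero (minpoly.aeval K β)
  have hw2 : aeval β (derivative (minpoly A β)) * z = w := by
    rw [← hder, ← hwz, smul_eq_mul, ← mul_assoc, mul_inv_cancel₀ hne, one_mul]
  rw [← h3, mul_comm (aeval β (derivative (minpoly A β))), mul_assoc, hw2]
  exact Subalgebra.mul_mem _ (aeval_mem_adjoin_singleton A β) hw

end LemmaM

end Groth.Agent.Lib.Helper18.PrimGen
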