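import Mathlib
import Groth.Agent.Lib.Helper18.PrimGen1

set_option autoImplicit false
open Polynomial Module TensorProduct

namespace Groth.Agent.Lib.Helper18.PrimGen

/-- `A[T]/(Q)` becomes finite étale after inverting an element `d` of the ideal `(Q, Q')`. -/
theorem etale_finite_away_tensor_adjoinRoot {A : Type*} [CommRing A] (Q p q : A[X]) (d : A)
    (hQ : Q.Monic) (h : Q * p + derivative Q * q = C d) :
    Algebra.Etale (Localization.Away d) (Localization.Away d ⊗[A] AdjoinRoot Q) ∧
      Module.Finite (Localization.Away d) (Localization.Away d ⊗[A] AdjoinRoot Q) := by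
  haveI := hQ.finite_adjoinRoot
  refine ⟨?_, Module.Finite.base_change A (Localization.Away d) (AdjoinRoot Q)⟩
  let P : StandardEtalePair A := ⟨Q, hQ, C d, ⟨q, p, 1, by rw [pow_one]; linear_combination h⟩⟩
  let E := Localization.Away d ⊗[A] AdjoinRoot Q
  let x : E := (1 : Localization.Away d) ⊗ₜ[A] AdjoinRoot.root Q
  have hx : P.HasMap x := by
    refine ⟨?_, ?_⟩
    · show aeval x Q = 0
      have : x = (Algebra.TensorProduct.includeRight : AdjoinRoot Q →ₐ[A] E) (AdjoinRoot.root Q) := rfl
      rw [this, aeval_algHom_apply, AdjoinRoot.aeval_eq, AdjoinRoot.mk_self, map_zero]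
    · show IsUnit (aeval x (C d))
      rw [aeval_C]
      have h1 : algebraMap A E d = algebraMap (Localization.Away d) E (algebraMap A _ d) :=
        IsScalarTower.algebraMap_apply A (Localization.Away d) E d
      rw [h1]
      exact (IsLocalization.Away.algebraMap_isUnit d).map _
  let e₁ : P.Ring →ₐ[A] E := P.lift x hx
  let f : Localization.Away d →ₐ[A] P.Ring :=
    IsLocalization.liftAlgHom (M := Submonoid.powers d) (f := Algebra.ofId A P.Ring) (by
      rintro ⟨_, n, rfl⟩
      have h2 : IsUnit (aeval P.X P.g) := P.hasMap_X.2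
      have h3 : aeval P.X P.g = algebraMap A P.Ring d := aeval_C _ _
      rw [h3] at h2
      show IsUnit (Algebra.ofId A P.Ring (d ^ n))
      rw [map_pow]
      exact h2.pow n)
  let g : AdjoinRoot Q →ₐ[A] P.Ring :=
    AdjoinRoot.liftAlgHom Q (Algebra.ofId A P.Ring) P.X (by
      have := P.hasMap_X.1
      exact this)
  let e₂ : E →ₐ[A] P.Ring := Algebra.TensorProduct.lift f g (fun _ _ => Commute.all _ _)
  have h21 : e₂.comp e₁ = AlgHom.id A P.Ring := by
    apply P.hom_ext
    show e₂ (e₁ P.X) = P.X
    have h4 : e₁ P.X = x := P.lift_X x hx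
    rw [h4]
    show e₂ ((1 : Localization.Away d) ⊗ₜ[A] AdjoinRoot.root Q) = P.X
    rw [Algebra.TensorProduct.lift_tmul, map_one, one_mul]
    exact AdjoinRoot.liftAlgHom_root _ _ _ _
  have h12 : e₁.comp e₂ = AlgHom.id A E := by
    apply Algebra.TensorProduct.ext
    · haveI := IsLocalization.algHom_subsingleton (Submonoid.powers d)
        (S := Localization.Away d) (P := E)
      exact Subsingleton.elim _ _
    · apply AdjoinRoot.algHom_ext
      show e₁ (e₂ ((1 : Localization.Away d) ⊗ₜ[A] AdjoinRoot.root Q)) = x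
      rw [Algebra.TensorProduct.lift_tmul, map_one, one_mul]
      have : g (AdjoinRoot.root Q) = P.X := AdjoinRoot.liftAlgHom_root _ _ _ _
      rw [this]
      exact P.lift_X x hx
  let e : P.Ring ≃ₐ[A] E := AlgEquiv.ofAlgHom e₁ e₂ h12 h21
  haveI : Algebra.Etale A E := Algebra.Etale.of_equiv e
  haveI : Algebra.FormallyEtale (Localization.Away d) E :=
    Algebra.FormallyEtale.localization_base (Submonoid.powers d)
  haveI : Algebra.FinitePresentation (Localization.Away d) E :=
    Algebra.FinitePresentation.of_restrict_scalars_finitePresentation A _ _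
  exact ⟨inferInstance, inferInstance⟩

section TheoremM

variable {A K L B Ω : Type*} [CommRing A] [IsDomain A] [IsIntegrallyClosed A] [Field K] [Field L]
  [Algebra A K] [IsFractionRing A K] [Algebra K L] [Algebra A L] [IsScalarTower A K L]
  [FiniteDimensional K L] [CommRing B] [Algebra A B] [Algebra B L] [IsScalarTower A B L]
  [Algebra.IsIntegral A B] [Field Ω] (φ : A →+* Ω)
  (hinj : Function.Injective (algebraMap B L))
  (b₀ : B) (r : Fin (finrank K L) → Ω) (hr : Function.Injective r)
  (hroot : ∀ i, ((minpoly A b₀).map φ).IsRoot (r i))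

include hinj hr hroot in
/-- **Monogenic case.** If the reduction of the minimal polynomial of `b₀ ∈ B` has `[L:K]` distinct
roots, then `B` is finite étale over `A` after inverting some `d` with `φ d ≠ 0`. -/
theorem exists_etale_finite_away :
    ∃ d : A, φ d ≠ 0 ∧ Algebra.Etale (Localization.Away d) (Localization.Away d ⊗[A] B) ∧
      Module.Finite (Localization.Away d) (Localization.Away d ⊗[A] B) := by
  obtain ⟨β, hβdef⟩ : ∃ β : L, β = algebraMap B L b₀ := ⟨_, rfl⟩
  have hβ : IsIntegral A β := by
    rw [hβdef]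
    exact (Algebra.IsIntegral.isIntegral (R := A) b₀).algebraMap
  have hmin : minpoly A β = minpoly A b₀ := by
    rw [hβdef]
    exact minpoly.algebraMap_eq hinj b₀
  have hroot' : ∀ i, ((minpoly A β).map φ).IsRoot (r i) := by
    rw [hmin]
    exact hroot
  refine ⟨resD A β, map_resD_ne_zero φ β hβ r hr hroot', ?_⟩
  obtain ⟨p, q, hpq⟩ := exists_mul_add_mul_eq_C_resD φ β hβ r hr hroot'
  obtain ⟨het, hfin⟩ := etale_finite_away_tensor_adjoinRoot (minpoly A β) p q (resD A β)
    (minpoly.monic hβ) hpq
  set d := resD A β with hd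
  set Q := minpoly A β with hQ
  have haev : ∀ f : A[X], algebraMap B L (aeval b₀ f) = aeval β f := by
    intro f
    rw [hβdef, aeval_algebraMap_apply]
  have hb₀ : eval₂ (algebraMap A B) b₀ Q = 0 := by
    apply hinj
    rw [map_zero]
    have := haev Q
    rw [aeval_def] at this
    rw [this, hQ, minpoly.aeval]
  let ψ : AdjoinRoot Q →ₐ[A] B := AdjoinRoot.liftAlgHom Q (Algebra.ofId A B) b₀ hb₀
  have hψmk : ∀ f : A[X], ψ (AdjoinRoot.mk Q f) = aeval b₀ f := by
    intro f
    show AdjoinRoot.liftAlgHom Q (Algebra.ofId A B) b₀ hb₀ (AdjoinRoot.mk Q f) = _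
    rw [AdjoinRoot.liftAlgHom_mk]
    rfl
  have hψinj : Function.Injective ψ := by
    rw [injective_iff_map_eq_zero]
    intro c hc
    obtain ⟨f, rfl⟩ := AdjoinRoot.mk_surjective c
    rw [hψmk] at hc
    have h1 : aeval β f = 0 := by rw [← haev, hc, map_zero]
    have h2 : minpoly K β ∣ f.map (algebraMap A K) := by
      apply minpoly.dvd
      rw [aeval_map_algebraMap, h1]
    rw [minpoly_field_eq φ β hβ r hr hroot',
      Polynomial.map_dvd_map _ (IsFractionRing.injective A K) (minpoly.monic hβ)] at h2
    exact AdjoinRoot.mk_eq_zero.mpr h2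
  have hψsurj : ∀ z : B, ∃ c, ψ c = d • z := by
    intro z
    have hz : IsIntegral A (algebraMap B L z) :=
      (Algebra.IsIntegral.isIntegral (R := A) z).algebraMap
    have h1 := resD_mul_mem_adjoin φ β hβ r hr hroot' _ hz
    rw [Algebra.adjoin_singleton_eq_range_aeval] at h1
    obtain ⟨f, hf⟩ := h1
    refine ⟨AdjoinRoot.mk Q f, ?_⟩
    rw [hψmk]
    apply hinj
    rw [haev]
    have hf' : aeval β f = algebraMap A L d * algebraMap B L z := hf
    rw [hf', Algebra.smul_def, map_mul, ← IsScalarTower.algebraMap_apply]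
  let Φ : Localization.Away d ⊗[A] AdjoinRoot Q →ₐ[Localization.Away d]
      Localization.Away d ⊗[A] B :=
    Algebra.TensorProduct.map (AlgHom.id (Localization.Away d) (Localization.Away d)) ψ
  have hΦfun : ∀ x, Φ x = (LinearMap.lTensor (Localization.Away d) ψ.toLinearMap) x := by
    intro x
    induction x using TensorProduct.induction_on with
    | zero => simp
    | tmul a c => rfl
    | add x y hx hy => rw [map_add, map_add, hx, hy]
  have hΦinj : Function.Injective Φ := by
    have h1 := Module.Flat.lTensor_preserves_injective_linearMap (M := Localization.Away d)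
      ψ.toLinearMap hψinj
    intro x y hxy
    apply h1
    rw [← hΦfun, ← hΦfun, hxy]
  have hΦsurj : Function.Surjective Φ := by
    intro y
    induction y using TensorProduct.induction_on with
    | zero => exact ⟨0, map_zero _⟩
    | tmul a z =>
      obtain ⟨c, hc⟩ := hψsurj z
      obtain ⟨u, hu⟩ := IsLocalization.Away.algebraMap_isUnit (S := Localization.Away d) d
      refine ⟨(a * (u⁻¹ : (Localization.Away d)ˣ)) ⊗ₜ[A] c, ?_⟩
      show (AlgHom.id (Localization.Away d) (Localization.Away d) (a * (u⁻¹ : (Localization.Away d)ˣ))) ⊗ₜ[A] ψ c = _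
      rw [hc, TensorProduct.tmul_smul, TensorProduct.smul_tmul']
      congr 1
      show d • (a * ((u⁻¹ : (Localization.Away d)ˣ) : Localization.Away d)) = a
      rw [Algebra.smul_def, ← hu, mul_comm a, ← mul_assoc, Units.mul_inv, one_mul]
    | add x y hx hy =>
      obtain ⟨x', rfl⟩ := hx
      obtain ⟨y', rfl⟩ := hy
      exact ⟨x' + y', map_add _ _ _⟩
  let e : (Localization.Away d ⊗[A] AdjoinRoot Q) ≃ₐ[Localization.Away d]
      (Localization.Away d ⊗[A] B) := AlgEquiv.ofBijective Φ ⟨hΦinj, hΦsurj⟩
  haveI := het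
  haveI := hfin
  exact ⟨Algebra.Etale.of_equiv e, Module.Finite.equiv e.toLinearEquiv⟩

end TheoremM

end Groth.Agent.Lib.Helper18.PrimGen
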