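import Mathlib
import Groth.Agent.Lib.Helper18.PrimGen2

set_option autoImplicit false
open Polynomial Module TensorProduct

namespace Groth.Agent.Lib.Helper18.PrimGen

section Generic

attribute [local instance 900] Polynomial.algebra
attribute [local instance] FractionRing.liftAlgebra

theorem faithfulSMul_of_tower (A K L : Type*) [CommRing A] [IsDomain A] [Field K] [Field L]
    [Algebra A K] [IsFractionRing A K] [Algebra K L] [Algebra A L] [IsScalarTower A K L] :
    FaithfulSMul A L := by
  rw [faithfulSMul_iff_algebraMap_injective, IsScalarTower.algebraMap_eq A K L]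
  exact (algebraMap K L).injective.comp (IsFractionRing.injective A K)

theorem isAlgebraic_of_tower (A K L : Type*) [CommRing A] [IsDomain A] [Field K] [Field L]
    [Algebra A K] [IsFractionRing A K] [Algebra K L] [Algebra A L] [IsScalarTower A K L]
    [FiniteDimensional K L] : Algebra.IsAlgebraic A L := by
  haveI : Algebra.IsAlgebraic K L := inferInstance
  constructor
  intro x
  exact (IsFractionRing.isAlgebraic_iff A K L).mpr (Algebra.IsAlgebraic.isAlgebraic x)

theorem finrank_fractionRing_polynomial (A K L : Type*) [CommRing A] [IsDomain A] [Field K]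
    [Field L] [Algebra A K] [IsFractionRing A K] [Algebra K L] [Algebra A L] [IsScalarTower A K L]
    [FiniteDimensional K L] [FaithfulSMul A L] :
    finrank (FractionRing A[X]) (FractionRing L[X]) = finrank K L := by
  haveI := isAlgebraic_of_tower A K L
  have h1 : Module.rank (FractionRing A[X]) (FractionRing L[X]) = Module.rank A L :=
    Algebra.IsAlgebraic.rank_fractionRing_polynomial
  have h2 : Module.rank K L = Module.rank A L :=
    IsLocalization.rank_eq K (nonZeroDivisors A) le_rfl
  unfold finrank
  rw [h1, h2]

variable {A K L B W : Type*} [CommRing A] [IsDomain A] [IsIntegrallyClosed A] [Field K] [Field L]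
  [Algebra A K] [IsFractionRing A K] [Algebra K L] [Algebra A L] [IsScalarTower A K L]
  [FiniteDimensional K L] [CommRing B] [Algebra A B] [Algebra B L] [IsScalarTower A B L]
  [Algebra.IsIntegral A B] [Field W] (φ : A →+* W)
  (hinj : Function.Injective (algebraMap B L))
  (η : Fin (finrank K L) → (B →+* W)) (hη : Function.Injective η)
  (hηφ : ∀ i, (η i).comp (algebraMap A B) = φ)

include hinj hη hηφ in
/-- **Generic element.** `n = [L:K]` distinct points of `B` over `φ` make `B[X]` finite étale over
`A[X]` after inverting a polynomial `D` whose reduction is nonzero. -/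
theorem exists_etale_finite_away_polynomial :
    ∃ D : A[X], D.map φ ≠ 0 ∧
      Algebra.Etale (Localization.Away D) (Localization.Away D ⊗[A[X]] B[X]) ∧
      Module.Finite (Localization.Away D) (Localization.Away D ⊗[A[X]] B[X]) := by
  classical
  haveI hfs : FaithfulSMul A L := faithfulSMul_of_tower A K L
  -- separating elements
  have hsep : ∀ i i' : Fin (finrank K L), ∃ b : B, i ≠ i' → η i b ≠ η i' b := by
    intro i i'
    by_cases h : i = i'
    · exact ⟨0, fun h' => (h' h).elim⟩
    · have : η i ≠ η i' := fun h' => h (hη h')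
      obtain ⟨b, hb⟩ : ∃ b, η i b ≠ η i' b := by
        by_contra hne
        push Not at hne
        exact this (RingHom.ext hne)
      exact ⟨b, fun _ => hb⟩
  choose sep hsep using hsep
  let c : ℕ → B := fun k => if h : k < finrank K L * finrank K L then
    sep (finProdFinEquiv.symm ⟨k, h⟩).1 (finProdFinEquiv.symm ⟨k, h⟩).2 else 0
  let β : B[X] := ∑ k ∈ Finset.range (finrank K L * finrank K L), C (c k) * X ^ k
  have hβcoeff : ∀ k, k < finrank K L * finrank K L → β.coeff k = c k := by
    intro k hk
    simp only [β, finsetSum_coeff, coeff_C_mul_X_pow]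
    rw [Finset.sum_eq_single k]
    · simp
    · intro j _ hj
      rw [if_neg (Ne.symm hj)]
    · intro hk'
      exact (hk' (Finset.mem_range.mpr hk)).elim
  let ℓ : Fin (finrank K L) → W[X] := fun i => β.map (η i)
  have hℓ : Function.Injective ℓ := by
    intro i i' h
    by_contra hne
    obtain ⟨k, hk⟩ : ∃ k : Fin (finrank K L * finrank K L), finProdFinEquiv.symm k = (i, i') :=
      ⟨finProdFinEquiv (i, i'), by simp⟩
    have h1 := congrArg (fun f => f.coeff (k : ℕ)) h
    simp only [ℓ, coeff_map, hβcoeff k k.2] at h1
    have h2 : c (k : ℕ) = sep i i' := by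
      simp only [c, dif_pos k.2]
      rw [show (⟨(k : ℕ), k.2⟩ : Fin (finrank K L * finrank K L)) = k from rfl, hk]
    rw [h2] at h1
    exact hsep i i' hne h1
  -- the instances over the polynomial rings
  have hn₁ : finrank (FractionRing A[X]) (FractionRing L[X]) = finrank K L :=
    finrank_fractionRing_polynomial A K L
  haveI : FiniteDimensional (FractionRing A[X]) (FractionRing L[X]) :=
    Module.finite_of_finrank_pos (by rw [hn₁]; exact finrank_pos)
  haveI : Algebra.IsIntegral A[X] B[X] := by
    constructor
    intro f
    rw [isIntegral_iff_isIntegral_coeff]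
    intro k
    exact Algebra.IsIntegral.isIntegral _
  have hinj₁ : Function.Injective (algebraMap B[X] (FractionRing L[X])) := by
    rw [IsScalarTower.algebraMap_eq B[X] L[X] (FractionRing L[X])]
    exact (IsFractionRing.injective L[X] (FractionRing L[X])).comp (map_injective _ hinj)
  let φ₁ : A[X] →+* FractionRing W[X] := (algebraMap W[X] (FractionRing W[X])).comp (mapRingHom φ)
  let r₁ : Fin (finrank (FractionRing A[X]) (FractionRing L[X])) → FractionRing W[X] :=
    fun i => algebraMap W[X] (FractionRing W[X]) (ℓ (Fin.cast hn₁ i))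
  have hr₁ : Function.Injective r₁ := by
    intro i i' h
    have h1 := hℓ (IsFractionRing.injective W[X] (FractionRing W[X]) h)
    exact Fin.cast_injective hn₁ h1
  have hroot₁ : ∀ i, ((minpoly A[X] β).map φ₁).IsRoot (r₁ i) := by
    intro i
    let ψ : B[X] →+* FractionRing W[X] :=
      (algebraMap W[X] (FractionRing W[X])).comp (mapRingHom (η (Fin.cast hn₁ i)))
    have hψ : ψ.comp (algebraMap A[X] B[X]) = φ₁ := by
      show ((algebraMap W[X] (FractionRing W[X])).comp (mapRingHom (η (Fin.cast hn₁ i)))).comp
        (mapRingHom (algebraMap A B)) = _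
      rw [RingHom.comp_assoc, mapRingHom_comp, hηφ]
    rw [IsRoot, eval_map, ← hψ]
    have h1 : r₁ i = ψ β := rfl
    rw [h1, ← hom_eval₂, ← aeval_def, minpoly.aeval, map_zero]
  obtain ⟨D, hD, het, hfin⟩ := exists_etale_finite_away (A := A[X]) (K := FractionRing A[X])
    (L := FractionRing L[X]) (B := B[X]) φ₁ hinj₁ β r₁ hr₁ hroot₁
  refine ⟨D, ?_, het, hfin⟩
  intro h0
  apply hD
  show algebraMap W[X] (FractionRing W[X]) (D.map φ) = 0
  rw [h0, map_zero]

end Generic

end Groth.Agent.Lib.Helper18.PrimGen
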