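import Mathlib
import Groth.Agent.Lib.Helper18.PrimGen3

set_option autoImplicit false
open Polynomial Module TensorProduct

namespace Groth.Agent.Lib.Helper18.PrimGen

/-- `R[X]` localized away from a polynomial with a unit coefficient is faithfully flat over `R`. -/
theorem faithfullyFlat_away_polynomial {R : Type*} [CommRing R] (f : R[X]) (k : ℕ)
    (hk : IsUnit (f.coeff k)) : Module.FaithfullyFlat R (Localization.Away f) := by
  haveI : Module.Flat R[X] (Localization.Away f) := IsLocalization.flat _ (Submonoid.powers f)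
  haveI : Module.Flat R (Localization.Away f) := Module.Flat.trans R R[X] (Localization.Away f)
  apply Module.FaithfullyFlat.of_comap_surjective
  intro 𝔭
  haveI := 𝔭.isPrime
  have hprime : (Ideal.map C 𝔭.asIdeal).IsPrime := Ideal.isPrime_map_C_of_isPrime
  have hdisj : Disjoint (Submonoid.powers f : Set R[X]) (Ideal.map C 𝔭.asIdeal : Set R[X]) := by
    rw [Set.disjoint_left]
    rintro _ ⟨n, rfl⟩ hmem
    have h1 : f ∈ Ideal.map C 𝔭.asIdeal := hprime.mem_of_pow_mem n hmem
    rw [Ideal.mem_map_C_iff] at h1
    exact 𝔭.isPrime.ne_top (Ideal.eq_top_of_isUnit_mem _ (h1 k) hk)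
  have hP' := IsLocalization.isPrime_of_isPrime_disjoint (Submonoid.powers f)
    (Localization.Away f) _ hprime hdisj
  refine ⟨⟨_, hP'⟩, ?_⟩
  ext a
  have h2 := IsLocalization.under_map_of_isPrime_disjoint (Submonoid.powers f)
    (Localization.Away f) hprime hdisj
  show algebraMap R (Localization.Away f) a ∈ Ideal.map (algebraMap R[X] (Localization.Away f))
    (Ideal.map C 𝔭.asIdeal) ↔ a ∈ 𝔭.asIdeal
  have h3 : algebraMap R (Localization.Away f) a = algebraMap R[X] (Localization.Away f) (C a) := by
    rw [IsScalarTower.algebraMap_apply R R[X] (Localization.Away f)]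
    rfl
  rw [h3]
  have h4 : algebraMap R[X] (Localization.Away f) (C a) ∈
      Ideal.map (algebraMap R[X] (Localization.Away f)) (Ideal.map C 𝔭.asIdeal) ↔
      C a ∈ Ideal.under R[X] (Ideal.map (algebraMap R[X] (Localization.Away f))
        (Ideal.map C 𝔭.asIdeal)) := Iff.rfl
  rw [h4, h2, Ideal.mem_map_C_iff]
  constructor
  · intro h
    simpa using h 0
  · intro h n
    rw [coeff_C]
    split_ifs
    · exact h
    · exact zero_mem _

/-- Base change of "finite étale after inverting `d`" to any algebra in which `d` is a unit. -/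
theorem etale_finite_of_isUnit {A B : Type*} [CommRing A] [CommRing B] [Algebra A B] (d : A)
    (h : Algebra.Etale (Localization.Away d) (Localization.Away d ⊗[A] B) ∧
      Module.Finite (Localization.Away d) (Localization.Away d ⊗[A] B))
    (A' : Type*) [CommRing A'] [Algebra A A'] (hd : IsUnit (algebraMap A A' d)) :
    Algebra.Etale A' (A' ⊗[A] B) ∧ Module.Finite A' (A' ⊗[A] B) := by
  obtain ⟨het, hfin⟩ := h
  letI : Algebra (Localization.Away d) A' :=
    (IsLocalization.Away.lift (S := Localization.Away d) d hd).toAlgebra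
  haveI : IsScalarTower A (Localization.Away d) A' := by
    apply IsScalarTower.of_algebraMap_eq'
    exact (IsLocalization.Away.lift_comp (S := Localization.Away d) d hd).symm
  let e : A' ⊗[Localization.Away d] (Localization.Away d ⊗[A] B) ≃ₐ[A'] A' ⊗[A] B :=
    Algebra.TensorProduct.cancelBaseChange A (Localization.Away d) A' A' B
  haveI : Algebra.Etale A' (A' ⊗[Localization.Away d] (Localization.Away d ⊗[A] B)) :=
    inferInstance
  haveI : Module.Finite A' (A' ⊗[Localization.Away d] (Localization.Away d ⊗[A] B)) :=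
    inferInstance
  refine ⟨?_, Module.Finite.equiv e.toLinearEquiv⟩
  exact Algebra.Etale.of_equiv (A := A' ⊗[Localization.Away d] (Localization.Away d ⊗[A] B))
    (AlgEquiv.ofRingEquiv (f := e.toRingEquiv) (fun x => e.commutes x))

section Descent

attribute [local instance 900] Polynomial.algebra

variable {A K L B W : Type*} [CommRing A] [IsDomain A] [IsIntegrallyClosed A] [Field K] [Field L]
  [Algebra A K] [IsFractionRing A K] [Algebra K L] [Algebra A L] [IsScalarTower A K L]
  [FiniteDimensional K L] [CommRing B] [Algebra A B] [Algebra B L] [IsScalarTower A B L]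
  [Algebra.IsIntegral A B] [Field W] (φ : A →+* W)
  (hinj : Function.Injective (algebraMap B L))
  (η : Fin (finrank K L) → (B →+* W)) (hη : Function.Injective η)
  (hηφ : ∀ i, (η i).comp (algebraMap A B) = φ)

include hinj hη hηφ in
/-- **Main ring-level theorem.** `A` an integrally closed domain with fraction field `K`, `L/K`
finite of degree `n`, `B ⊆ L` integral over `A`; if `B` has `n` distinct points with values in a
field `W` over `φ : A → W`, then `B` is finite étale over `A` after inverting some `d` with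
`φ d ≠ 0`. -/
theorem exists_etale_finite_away_of_points :
    ∃ d : A, φ d ≠ 0 ∧ Algebra.Etale (Localization.Away d) (Localization.Away d ⊗[A] B) ∧
      Module.Finite (Localization.Away d) (Localization.Away d ⊗[A] B) := by
  obtain ⟨D, hD, hDet⟩ := exists_etale_finite_away_polynomial φ hinj η hη hηφ
  obtain ⟨k, hk⟩ : ∃ k, φ (D.coeff k) ≠ 0 := by
    by_contra hne
    push Not at hne
    apply hD
    ext j
    rw [coeff_map, hne j, coeff_zero]
  refine ⟨D.coeff k, hk, ?_⟩
  obtain ⟨d, hd⟩ : ∃ d, d = D.coeff k := ⟨_, rfl⟩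
  rw [← hd]
  let R := Localization.Away d
  let D_R : R[X] := D.map (algebraMap A R)
  let T := Localization.Away D_R
  haveI ff : Module.FaithfullyFlat R T := by
    refine faithfullyFlat_away_polynomial D_R k ?_
    show IsUnit ((D.map (algebraMap A R)).coeff k)
    rw [coeff_map, ← hd]
    exact IsLocalization.Away.algebraMap_isUnit d
  haveI t1 : IsScalarTower A A[X] T := by
    apply IsScalarTower.of_algebraMap_eq
    intro a
    rw [IsScalarTower.algebraMap_apply A[X] R[X] T, IsScalarTower.algebraMap_apply A R[X] T]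
    congr 1
    rw [Polynomial.algebraMap_def, coe_mapRingHom]
    show C (algebraMap A R a) = map (algebraMap A R) (C a)
    rw [map_C]
  haveI t2 : IsScalarTower A R T := by
    apply IsScalarTower.of_algebraMap_eq
    intro a
    rw [IsScalarTower.algebraMap_apply R R[X] T, IsScalarTower.algebraMap_apply A R[X] T]
    rfl
  have hunit : IsUnit (algebraMap A[X] T D) := by
    rw [IsScalarTower.algebraMap_apply A[X] R[X] T]
    exact IsLocalization.Away.algebraMap_isUnit D_R
  obtain ⟨h1e, h1f⟩ := etale_finite_of_isUnit D hDet T hunit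
  let e1 : A[X] ⊗[A] B ≃ₐ[A[X]] B[X] := Algebra.IsPushout.equiv A A[X] B B[X]
  let e2 : T ⊗[A[X]] (A[X] ⊗[A] B) ≃ₐ[T] T ⊗[A[X]] B[X] :=
    Algebra.TensorProduct.congr AlgEquiv.refl e1
  let e3 : T ⊗[A[X]] (A[X] ⊗[A] B) ≃ₐ[T] T ⊗[A] B :=
    Algebra.TensorProduct.cancelBaseChange A A[X] T T B
  let e4 : T ⊗[R] (R ⊗[A] B) ≃ₐ[T] T ⊗[A] B :=
    Algebra.TensorProduct.cancelBaseChange A R T T B
  let e : T ⊗[A[X]] B[X] ≃ₐ[T] T ⊗[R] (R ⊗[A] B) := e2.symm.trans (e3.trans e4.symm)
  haveI : Algebra.Etale T (T ⊗[R] (R ⊗[A] B)) :=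
    Algebra.Etale.of_equiv (A := T ⊗[A[X]] B[X])
      (AlgEquiv.ofRingEquiv (f := e.toRingEquiv) (fun x => e.commutes x))
  haveI : Module.Finite T (T ⊗[R] (R ⊗[A] B)) := Module.Finite.equiv e.toLinearEquiv
  exact ⟨Algebra.Etale.of_etale_tensorProduct_of_faithfullyFlat T,
    Module.Finite.of_finite_tensorProduct_of_faithfullyFlat T⟩

end Descent

end Groth.Agent.Lib.Helper18.PrimGen
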