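import Mathlib
import Groth.Agent.Lib.Helper18.GenNorm4
import Groth.Agent.Lib.Helper18.PrimGen4
import Groth.Agent.Lib.Helper9.SteinGen10

set_option autoImplicit false
universe u
open AlgebraicGeometry CategoryTheory CategoryTheory.Limits

namespace Groth.Agent.Lib.Helper18.GenNorm

/-! ### field-valued points and sections -/

section pt

variable {W : Type u} [Field W] {Z : Scheme.{u}}

theorem top_le_preimage_of_range (g : Spec (CommRingCat.of W) ⟶ Z) (V : Z.Opens)
    (h : Set.range g ⊆ (V : Set Z)) : (⊤ : (Spec (CommRingCat.of W)).Opens) ≤ g ⁻¹ᵁ V :=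
  fun z _ => h ⟨z, rfl⟩

/-- the value map `Γ(Z, V) ⟶ W` of a `W`-point landing in `V` -/
noncomputable def ptMap (g : Spec (CommRingCat.of W) ⟶ Z) (V : Z.Opens)
    (h : Set.range g ⊆ (V : Set Z)) : Γ(Z, V) ⟶ CommRingCat.of W :=
  g.appLE V ⊤ (top_le_preimage_of_range g V h) ≫ (Scheme.ΓSpecIso (CommRingCat.of W)).hom

theorem specMap_ptMap (g : Spec (CommRingCat.of W) ⟶ Z) {V : Z.Opens} (hV : IsAffineOpen V)
    (h : Set.range g ⊆ (V : Set Z)) : Spec.map (ptMap g V h) ≫ hV.fromSpec = g := by
  rw [ptMap, Spec.map_comp, Category.assoc, IsAffineOpen.SpecMap_appLE_fromSpec _ _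
    (isAffineOpen_top _), IsAffineOpen.fromSpec_top, Scheme.isoSpec_Spec_inv, ← Category.assoc,
    ← Spec.map_comp, Iso.inv_hom_id, Spec.map_id, Category.id_comp]

theorem ptMap_comp {Z' : Scheme.{u}} (g : Spec (CommRingCat.of W) ⟶ Z) (f : Z ⟶ Z')
    (g' : Spec (CommRingCat.of W) ⟶ Z') (hg : g ≫ f = g') (V' : Z'.Opens)
    (h' : Set.range g' ⊆ (V' : Set Z')) (h : Set.range g ⊆ ((f ⁻¹ᵁ V' : Z.Opens) : Set Z)) :
    f.app V' ≫ ptMap g (f ⁻¹ᵁ V') h = ptMap g' V' h' := by
  subst hg
  rw [ptMap, ptMap, ← Category.assoc, ← Scheme.Hom.comp_appLE]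

theorem ptMap_injective {V : Z.Opens} (hV : IsAffineOpen V) (g g' : Spec (CommRingCat.of W) ⟶ Z)
    (h : Set.range g ⊆ (V : Set Z)) (h' : Set.range g' ⊆ (V : Set Z))
    (he : ptMap g V h = ptMap g' V h') : g = g' := by
  rw [← specMap_ptMap g hV h, ← specMap_ptMap g' hV h', he]

/-- a point lands in the basic open of a section with nonzero value -/
theorem range_subset_basicOpen (g : Spec (CommRingCat.of W) ⟶ Z) (V : Z.Opens)
    (h : Set.range g ⊆ (V : Set Z)) (s : Γ(Z, V)) (hs : (ptMap g V h).hom s ≠ 0) :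
    Set.range g ⊆ ((Z.basicOpen s : Z.Opens) : Set Z) := by
  rintro _ ⟨z, rfl⟩
  show z ∈ g ⁻¹ᵁ Z.basicOpen s
  rw [Scheme.preimage_basicOpen]
  have hunit : IsUnit ((g.app V).hom s) := by
    have hres : IsIso ((Spec (CommRingCat.of W)).presheaf.map
        (homOfLE (top_le_preimage_of_range g V h)).op) := by
      have : (⊤ : (Spec (CommRingCat.of W)).Opens) = g ⁻¹ᵁ V :=
        le_antisymm (top_le_preimage_of_range g V h) le_top
      have h2 : homOfLE (top_le_preimage_of_range g V h) = eqToHom this := Subsingleton.elim _ _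
      rw [h2]
      infer_instance
    let r : Γ(Spec (CommRingCat.of W), g ⁻¹ᵁ V) ⟶ CommRingCat.of W :=
      (Spec (CommRingCat.of W)).presheaf.map (homOfLE (top_le_preimage_of_range g V h)).op ≫
        (Scheme.ΓSpecIso (CommRingCat.of W)).hom
    haveI : IsIso r := by dsimp only [r]; infer_instance
    have hr : r.hom ((g.app V).hom s) = (ptMap g V h).hom s := by
      rw [ptMap, Scheme.Hom.appLE]
      rfl
    have h3 : IsUnit (r.hom ((g.app V).hom s)) := by
      rw [hr]
      exact isUnit_iff_ne_zero.mpr hs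
    have hbij := (ConcreteCategory.isIso_iff_bijective r).mp inferInstance
    let e : Γ(Spec (CommRingCat.of W), g ⁻¹ᵁ V) ≃+* W := RingEquiv.ofBijective r.hom hbij
    have : IsUnit (e ((g.app V).hom s)) := h3
    exact (isUnit_map_iff e _).mp this
  rw [Scheme.basicOpen_of_isUnit _ hunit]
  exact top_le_preimage_of_range g V h (Set.mem_univ z)

end pt

/-! ### from rings to schemes over a basic open -/

theorem isPullback_fromSpec {Z X : Scheme.{u}} (p : Z ⟶ X) [IsAffineHom p] {U : X.Opens}
    (hU : IsAffineOpen U) :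
    IsPullback (Spec.map (p.app U)) (hU.preimage p).fromSpec hU.fromSpec p := by
  apply IsOpenImmersion.isPullback
  · rw [Scheme.Hom.app_eq_appLE, IsAffineOpen.SpecMap_appLE_fromSpec]
  · rw [IsAffineOpen.opensRange_fromSpec, IsAffineOpen.opensRange_fromSpec]

theorem range_specMap_comp_fromSpec {X : Scheme.{u}} {U : X.Opens} (hU : IsAffineOpen U)
    (d : Γ(X, U)) :
    Set.range (Spec.map (CommRingCat.ofHom (algebraMap Γ(X, U) (Localization.Away d))) ≫
      hU.fromSpec) = ((X.basicOpen d : X.Opens) : Set X) := by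
  rw [Scheme.Hom.comp_base, TopCat.coe_comp, Set.range_comp]
  have h1 : Set.range (Spec.map (CommRingCat.ofHom (algebraMap Γ(X, U) (Localization.Away d)))) =
      (PrimeSpectrum.basicOpen d : Set (PrimeSpectrum Γ(X, U))) :=
    PrimeSpectrum.localization_away_comap_range (Localization.Away d) d
  rw [h1, ← hU.fromSpec_image_basicOpen d]
  rfl

/-- `p` is finite étale over the basic open `D(d)` as soon as the base change of the ring map
`Γ(X, U₀) ⟶ Γ(Z, p⁻¹ U₀)` to `Γ(X, U₀)[1/d]` is. -/
theorem etale_isFinite_snd_basicOpen {Z X : Scheme.{u}} (p : Z ⟶ X) [IsAffineHom p] {U₀ : X.Opens}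
    (hU₀ : IsAffineOpen U₀) (d : Γ(X, U₀)) {S' : CommRingCat.{u}}
    (b : CommRingCat.of (Localization.Away d) ⟶ S') (c : Γ(Z, p ⁻¹ᵁ U₀) ⟶ S')
    (hpo : IsPushout (p.app U₀) (CommRingCat.ofHom (algebraMap Γ(X, U₀) (Localization.Away d))) c b)
    (hb : b.hom.Etale ∧ b.hom.Finite) :
    Etale (pullback.snd p (X.basicOpen d).ι) ∧ IsFinite (pullback.snd p (X.basicOpen d).ι) := by
  have sq1 := isPullback_SpecMap_of_isPushout _ _ _ _ hpo
  have sq2 := isPullback_fromSpec p hU₀
  have sq3 := (sq1.flip.paste_vert sq2).flip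
  haveI : IsOpenImmersion
      (Spec.map (CommRingCat.ofHom (algebraMap Γ(X, U₀) (Localization.Away d)))) :=
    IsOpenImmersion.of_isLocalization d
  let j : Spec (CommRingCat.of (Localization.Away d)) ⟶ X :=
    Spec.map (CommRingCat.ofHom (algebraMap Γ(X, U₀) (Localization.Away d))) ≫ hU₀.fromSpec
  have hrange : Set.range (X.basicOpen d).ι = Set.range j := by
    rw [Scheme.Opens.range_ι]
    exact (range_specMap_comp_fromSpec hU₀ d).symm
  let e := IsOpenImmersion.isoOfRangeEq (X.basicOpen d).ι j hrange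
  have he : e.hom ≫ j = (X.basicOpen d).ι := IsOpenImmersion.isoOfRangeEq_hom_fac _ _ _
  have sq4 : IsPullback (Spec.map c ≫ (hU₀.preimage p).fromSpec) (Spec.map b ≫ e.inv) p
      (X.basicOpen d).ι := by
    refine IsPullback.of_iso sq3 (Iso.refl _) (Iso.refl _) e.symm (Iso.refl _) ?_ ?_ ?_ ?_
    · simp
    · simp
    · simp
    · rw [Iso.refl_hom, Category.comp_id, Iso.symm_hom, ← he, e.inv_hom_id_assoc]
  have hsnd : pullback.snd p (X.basicOpen d).ι = sq4.isoPullback.inv ≫ (Spec.map b ≫ e.inv) := by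
    rw [Iso.eq_inv_comp]
    exact sq4.isoPullback_hom_snd
  rw [hsnd]
  constructor
  · rw [MorphismProperty.cancel_left_of_respectsIso (P := @Etale),
      MorphismProperty.cancel_right_of_respectsIso (P := @Etale)]
    exact (HasRingHomProperty.Spec_iff (P := @Etale)).mpr hb.1
  · rw [MorphismProperty.cancel_left_of_respectsIso (P := @IsFinite),
      MorphismProperty.cancel_right_of_respectsIso (P := @IsFinite)]
    exact (IsFinite.SpecMap_iff b).mpr hb.2

/-! ### the criterion by the cardinality of a geometric fibre -/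

section main

open TensorProduct

variable {X : Scheme.{u}} [IsIntegral X] (L : Type u) [Field L] [Algebra X.functionField L]
  [FiniteDimensional X.functionField L]
  [QuasiCompact (jmap (X := X) L)] [QuasiSeparated (jmap (X := X) L)]

theorem exists_finite_etale_nhd (hX : Pi1.IsNormalScheme X) (W : Type u) [Field W]
    (ξ : Spec (CommRingCat.of W) ⟶ X)
    (hcard : Nonempty (Fin (Module.finrank X.functionField L) ↪
      {η : Spec (CommRingCat.of W) ⟶ (jmap (X := X) L).normalization //
        η ≫ (jmap (X := X) L).fromNormalization = ξ})) :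
    ∃ U : X.Opens, Set.range ξ ⊆ (U : Set X) ∧
      Etale (pullback.snd (jmap (X := X) L).fromNormalization U.ι) ∧
      IsFinite (pullback.snd (jmap (X := X) L).fromNormalization U.ι) := by
  obtain ⟨emb⟩ := hcard
  -- an affine neighbourhood of the image point
  obtain ⟨z₀⟩ : Nonempty ↥(Spec (CommRingCat.of W)) := inferInstance
  obtain ⟨_, ⟨U₀, hU₀, rfl⟩, hxU₀, -⟩ := X.isBasis_affineOpens.exists_subset_of_mem_open
    (Set.mem_univ (ξ z₀)) isOpen_univ
  haveI : Nonempty U₀ := ⟨⟨_, hxU₀⟩⟩
  have hξ₀ : Set.range ξ ⊆ (U₀ : Set X) := by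
    rintro _ ⟨z, rfl⟩
    have : z = z₀ := Subsingleton.elim _ _
    rw [this]
    exact hxU₀
  have hrange : ∀ i, Set.range (emb i).1 ⊆
      (((jmap (X := X) L).fromNormalization ⁻¹ᵁ U₀ : (jmap (X := X) L).normalization.Opens) :
        Set (jmap (X := X) L).normalization) := by
    rintro i _ ⟨z, rfl⟩
    show (jmap (X := X) L).fromNormalization ((emb i).1 z) ∈ U₀
    rw [← Scheme.Hom.comp_apply, (emb i).2]
    exact hξ₀ ⟨z, rfl⟩
  -- the ring-level set-up
  haveI : IsDomain Γ(X, U₀) := inferInstance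
  haveI := functionField_isFractionRing_of_isAffineOpen X U₀ hU₀
  letI algAB : Algebra Γ(X, U₀) Γ((jmap (X := X) L).normalization,
      (jmap (X := X) L).fromNormalization ⁻¹ᵁ U₀) :=
    ((jmap (X := X) L).fromNormalization.app U₀).hom.toAlgebra
  letI algBL : Algebra Γ((jmap (X := X) L).normalization,
      (jmap (X := X) L).fromNormalization ⁻¹ᵁ U₀) L := (aU L U₀).hom.toAlgebra
  letI algAL : Algebra Γ(X, U₀) L := (γU L U₀).toAlgebra
  haveI : IsScalarTower Γ(X, U₀) X.functionField L := IsScalarTower.of_algebraMap_eq' rfl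
  have hcomp : (aU L U₀).hom.comp ((jmap (X := X) L).fromNormalization.app U₀).hom = γU L U₀ := by
    have := congrArg CommRingCat.Hom.hom (app_aU L U₀)
    rw [CommRingCat.hom_comp, CommRingCat.hom_comp] at this
    exact this
  haveI : IsScalarTower Γ(X, U₀) Γ((jmap (X := X) L).normalization,
      (jmap (X := X) L).fromNormalization ⁻¹ᵁ U₀) L := IsScalarTower.of_algebraMap_eq' hcomp.symm
  haveI : IsIntegrallyClosed Γ(X, U₀) :=
    Groth.Agent.Lib.helper9.SteinGen.isIntegrallyClosed_of_isNormalScheme hX U₀ hU₀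
  haveI : Algebra.IsIntegral Γ(X, U₀) Γ((jmap (X := X) L).normalization,
      (jmap (X := X) L).fromNormalization ⁻¹ᵁ U₀) :=
    ⟨(jmap (X := X) L).fromNormalization.isIntegral_app U₀ hU₀⟩
  have hinj : Function.Injective (algebraMap Γ((jmap (X := X) L).normalization,
      (jmap (X := X) L).fromNormalization ⁻¹ᵁ U₀) L) := aU_injective L hU₀
  let φ : Γ(X, U₀) →+* W := (ptMap ξ U₀ hξ₀).hom
  let η' : Fin (Module.finrank X.functionField L) → (Γ((jmap (X := X) L).normalization,
      (jmap (X := X) L).fromNormalization ⁻¹ᵁ U₀) →+* W) :=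
    fun i => (ptMap (emb i).1 _ (hrange i)).hom
  have hη' : Function.Injective η' := by
    intro i i' h
    have h1 : ptMap (emb i).1 _ (hrange i) = ptMap (emb i').1 _ (hrange i') :=
      CommRingCat.hom_ext h
    have h2 := ptMap_injective (hU₀.preimage (jmap (X := X) L).fromNormalization) _ _ _ _ h1
    exact emb.injective (Subtype.ext h2)
  have hηφ : ∀ i, (η' i).comp (algebraMap Γ(X, U₀) Γ((jmap (X := X) L).normalization,
      (jmap (X := X) L).fromNormalization ⁻¹ᵁ U₀)) = φ := by
    intro i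
    have h1 := ptMap_comp (emb i).1 (jmap (X := X) L).fromNormalization ξ (emb i).2 U₀ hξ₀
      (hrange i)
    have h2 := congrArg CommRingCat.Hom.hom h1
    rw [CommRingCat.hom_comp] at h2
    exact h2
  obtain ⟨d, hd, het, hfin⟩ := PrimGen.exists_etale_finite_away_of_points
    (A := Γ(X, U₀)) (K := X.functionField) (L := L) φ hinj η' hη' hηφ
  refine ⟨X.basicOpen d, range_subset_basicOpen ξ U₀ hξ₀ d hd, ?_⟩
  have hpo := (CommRingCat.isPushout_tensorProduct Γ(X, U₀) (Localization.Away d)
    Γ((jmap (X := X) L).normalization, (jmap (X := X) L).fromNormalization ⁻¹ᵁ U₀)).flip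
  have hbe : (Algebra.TensorProduct.includeLeftRingHom : Localization.Away d →+*
      Localization.Away d ⊗[Γ(X, U₀)] Γ((jmap (X := X) L).normalization,
        (jmap (X := X) L).fromNormalization ⁻¹ᵁ U₀)) = algebraMap _ _ := by
    ext x
    simp [Algebra.TensorProduct.algebraMap_apply]
  refine etale_isFinite_snd_basicOpen (jmap (X := X) L).fromNormalization hU₀ d _ _ hpo ⟨?_, ?_⟩
  · show (Algebra.TensorProduct.includeLeftRingHom : Localization.Away d →+*
      Localization.Away d ⊗[Γ(X, U₀)] Γ((jmap (X := X) L).normalization,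
        (jmap (X := X) L).fromNormalization ⁻¹ᵁ U₀)).Etale
    rw [hbe]
    exact RingHom.etale_algebraMap.mpr het
  · show (Algebra.TensorProduct.includeLeftRingHom : Localization.Away d →+*
      Localization.Away d ⊗[Γ(X, U₀)] Γ((jmap (X := X) L).normalization,
        (jmap (X := X) L).fromNormalization ⁻¹ᵁ U₀)).Finite
    rw [hbe]
    exact RingHom.finite_algebraMap.mpr hfin

end main

end Groth.Agent.Lib.Helper18.GenNorm
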