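import Mathlib
import Groth.Prelude.Def_MeroSh
import Groth.Agent.S10856

set_option autoImplicit false
universe u

namespace Groth.Agent.Lib.Helper18.MeroDom

open AlgebraicGeometry CategoryTheory TopologicalSpace Opposite Mero
open Groth.Agent.S10856 (mk_eq_algebraMap_iff)

/-- local fraction representation of a meromorphic function on an open `U` -/
theorem local_frac' {X : Scheme.{u}} {U : X.Opens} (f : Γ(Mero.kmod X, U)) (x : X) (hx : x ∈ U) :
    ∃ (V : X.Opens) (_ : x ∈ V) (hVU : V ≤ U) (a : Γ(X, V)) (b : regSub X V),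
      ∀ (y : X) (hy : y ∈ V),
        f.1 ⟨y, hVU hy⟩ = LocalizedModule.mk (X.presheaf.germ V y hy a) (regGerm ⟨y, hy⟩ b) := by
  obtain ⟨V, hxV, i, a, b, h⟩ := f.2 ⟨x, hx⟩
  exact ⟨V, hxV, i.le, a, b, fun y hy => h ⟨y, hy⟩⟩

/-- the domain of definition of a meromorphic function on `U` is open and schematically dense in `U` -/
theorem domain {X : Scheme.{u}} {U : X.Opens} (f : Γ(Mero.kmod X, U)) :
    ∃ D : X.Opens, D ≤ U ∧
      (∀ (x : X) (hx : x ∈ U), x ∈ D ↔
        f.1 ⟨x, hx⟩ ∈ (algebraMap (X.presheaf.stalk x) (Mero.KStalk X x)).range) ∧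
        ∀ W : X.Opens, W ≤ U →
          Function.Injective (X.presheaf.map (homOfLE (inf_le_left : W ⊓ D ≤ W)).op) := by
  set S : Set X := {x | ∃ hx : x ∈ U, f.1 ⟨x, hx⟩ ∈
    (algebraMap (X.presheaf.stalk x) (Mero.KStalk X x)).range} with hS
  -- `S` is open
  have hopen : IsOpen S := by
    rw [isOpen_iff_forall_mem_open]
    intro x hx
    obtain ⟨hxU, g₀, hg₀⟩ := hx
    obtain ⟨V, hxV, hVU, a, b, hab⟩ := local_frac' f x hxU
    obtain ⟨W₀, hxW₀, g, hg⟩ := TopCat.Presheaf.exists_germ_eq X.presheaf g₀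
    have h1 := (hab x hxV).symm.trans hg₀.symm
    rw [mk_eq_algebraMap_iff (regStalk_le_nonZeroDivisors x)] at h1
    -- `germ a = germ b * germ g`
    let W : X.Opens := V ⊓ W₀
    have hxW : x ∈ W := ⟨hxV, hxW₀⟩
    let aW : Γ(X, W) := X.presheaf.map (homOfLE (inf_le_left : W ≤ V)).op a
    let bW : Γ(X, W) := X.presheaf.map (homOfLE (inf_le_left : W ≤ V)).op b.1
    let gW : Γ(X, W) := X.presheaf.map (homOfLE (inf_le_right : W ≤ W₀)).op g
    have h2 : X.presheaf.germ W x hxW aW = X.presheaf.germ W x hxW (bW * gW) := by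
      rw [map_mul]
      have e1 : X.presheaf.germ W x hxW aW = X.presheaf.germ V x hxV a :=
        TopCat.Presheaf.germ_res_apply X.presheaf (homOfLE (inf_le_left : W ≤ V)) x hxW a
      have e2 : X.presheaf.germ W x hxW bW = X.presheaf.germ V x hxV b.1 :=
        TopCat.Presheaf.germ_res_apply X.presheaf (homOfLE (inf_le_left : W ≤ V)) x hxW b.1
      have e3 : X.presheaf.germ W x hxW gW = X.presheaf.germ W₀ x hxW₀ g :=
        TopCat.Presheaf.germ_res_apply X.presheaf (homOfLE (inf_le_right : W ≤ W₀)) x hxW g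
      rw [e1, e2, e3, hg]
      exact h1
    obtain ⟨W', hxW', i₁, i₂, hW'⟩ := TopCat.Presheaf.germ_eq X.presheaf x hxW hxW aW (bW * gW) h2
    refine ⟨W', ?_, W'.2, hxW'⟩
    intro y hy
    have hyW : y ∈ W := i₁.le hy
    have hyV : y ∈ V := hyW.1
    refine ⟨hVU hyV, X.presheaf.germ W y hyW gW, ?_⟩
    rw [hab y hyV]
    symm
    rw [mk_eq_algebraMap_iff (regStalk_le_nonZeroDivisors y)]
    have h3 := congrArg (X.presheaf.germ W' y hy) hW'
    have e1 : X.presheaf.germ W' y hy (X.presheaf.map i₁.op aW) = X.presheaf.germ W y hyW aW :=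
      TopCat.Presheaf.germ_res_apply X.presheaf i₁ y hy aW
    have e2 : X.presheaf.germ W' y hy (X.presheaf.map i₂.op (bW * gW)) =
        X.presheaf.germ W y hyW (bW * gW) :=
      TopCat.Presheaf.germ_res_apply X.presheaf i₂ y hy (bW * gW)
    have h3' : X.presheaf.germ W y hyW aW = X.presheaf.germ W y hyW (bW * gW) :=
      e1.symm.trans (h3.trans e2)
    have h4 : X.presheaf.germ W y hyW aW = X.presheaf.germ V y hyV a :=
      TopCat.Presheaf.germ_res_apply X.presheaf (homOfLE (inf_le_left : W ≤ V)) y hyW a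
    have h5 : X.presheaf.germ W y hyW bW = X.presheaf.germ V y hyV b.1 :=
      TopCat.Presheaf.germ_res_apply X.presheaf (homOfLE (inf_le_left : W ≤ V)) y hyW b.1
    rw [map_mul, h4, h5] at h3'
    exact h3'
  refine ⟨⟨S, hopen⟩, fun x hx => hx.1, fun x hx => ⟨fun h => h.2, fun h => ⟨hx, h⟩⟩, ?_⟩
  intro V hVU
  rw [injective_iff_map_eq_zero]
  intro s hs
  apply TopCat.Presheaf.section_ext X.sheaf V
  intro x hxV
  refine Eq.trans ?_ (map_zero _).symm
  obtain ⟨V', hxV', hV'U, a, b, hab⟩ := local_frac' f x (hVU hxV)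
  obtain ⟨W, hW, hxW, hWle⟩ := exists_isAffineOpen_mem_and_subset (x := x) (U := V ⊓ V')
    ⟨hxV, hxV'⟩
  have hWV : W ≤ V := fun y hy => (hWle hy).1
  have hWV' : W ≤ V' := fun y hy => (hWle hy).2
  let bW : Γ(X, W) := X.presheaf.map (homOfLE hWV').op b.1
  let sW : Γ(X, W) := X.presheaf.map (homOfLE hWV).op s
  -- `D(b) ⊆ S`
  have hbS : ∀ y, y ∈ X.basicOpen bW → y ∈ S := by
    intro y hy
    have hyW : y ∈ W := X.basicOpen_le bW hy
    have hyV' : y ∈ V' := hWV' hyW
    have hu : IsUnit (X.presheaf.germ W y hyW bW) := (X.mem_basicOpen bW y hyW).mp hy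
    have hu' : IsUnit (X.presheaf.germ V' y hyV' b.1) := by
      have : X.presheaf.germ W y hyW bW = X.presheaf.germ V' y hyV' b.1 :=
        TopCat.Presheaf.germ_res_apply X.presheaf (homOfLE hWV') y hyW b.1
      rw [← this]; exact hu
    obtain ⟨u, hu⟩ := hu'
    refine ⟨hV'U hyV', X.presheaf.germ V' y hyV' a * ↑u⁻¹, ?_⟩
    show algebraMap _ _ _ = f.1 ⟨y, _⟩
    rw [hab y hyV']
    symm
    rw [mk_eq_algebraMap_iff (regStalk_le_nonZeroDivisors y)]
    show _ = X.presheaf.germ V' y hyV' b.1 * _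
    rw [← hu]
    rw [mul_comm (X.presheaf.germ V' y hyV' a), ← mul_assoc, Units.mul_inv, one_mul]
  have hle : X.basicOpen bW ≤ V ⊓ ⟨S, hopen⟩ := fun y hy =>
    ⟨hWV (X.basicOpen_le bW hy), hbS y hy⟩
  have hres : X.presheaf.map (homOfLE (X.basicOpen_le bW)).op sW = 0 := by
    have h1 : X.presheaf.map (homOfLE (X.basicOpen_le bW)).op sW =
        X.presheaf.map (homOfLE hle).op
          (X.presheaf.map (homOfLE (inf_le_left : V ⊓ ⟨S, hopen⟩ ≤ V)).op s) := by
      show X.presheaf.map _ (X.presheaf.map _ s) = _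
      rw [← ConcreteCategory.comp_apply, ← ConcreteCategory.comp_apply, ← Functor.map_comp,
        ← Functor.map_comp]
      rfl
    rw [h1, hs, map_zero]
  obtain ⟨n, hn⟩ := exists_pow_mul_eq_zero_of_res_basicOpen_eq_zero_of_isAffineOpen X hW sW bW hres
  have h2 := congrArg (X.presheaf.germ W x hxW) hn
  rw [map_mul, map_pow, map_zero] at h2
  have hreg : X.presheaf.germ W x hxW bW ∈ nonZeroDivisors (X.presheaf.stalk x) := by
    have : X.presheaf.germ W x hxW bW = X.presheaf.germ V' x hxV' b.1 :=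
      TopCat.Presheaf.germ_res_apply X.presheaf (homOfLE hWV') x hxW b.1
    rw [this]
    exact b.2 ⟨x, hxV'⟩
  have h3 : X.presheaf.germ W x hxW sW = 0 :=
    (mul_left_mem_nonZeroDivisors_eq_zero_iff (pow_mem hreg n)).mp h2
  have h4 : X.presheaf.germ W x hxW sW = X.presheaf.germ V x hxV s :=
    TopCat.Presheaf.germ_res_apply X.presheaf (homOfLE hWV) x hxW s
  exact h4.symm.trans h3

/-- near a point where a meromorphic function is defined, it is the image of a function -/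
theorem local_section {X : Scheme.{u}} {U : X.Opens} (f : Γ(Mero.kmod X, U)) (x : X) (hxU : x ∈ U)
    (hx : f.1 ⟨x, hxU⟩ ∈ (algebraMap (X.presheaf.stalk x) (Mero.KStalk X x)).range) :
    ∃ (W : X.Opens) (_ : x ∈ W) (hWU : W ≤ U) (g : Γ(X, W)), ∀ (y : X) (hy : y ∈ W),
      f.1 ⟨y, hWU hy⟩ = algebraMap (X.presheaf.stalk y) (Mero.KStalk X y) (X.presheaf.germ W y hy g) := by
  obtain ⟨g₀, hg₀⟩ := hx
  obtain ⟨V, hxV, hVU, a, b, hab⟩ := local_frac' f x hxU
  obtain ⟨W₀, hxW₀, g, hg⟩ := TopCat.Presheaf.exists_germ_eq X.presheaf g₀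
  have h1 := (hab x hxV).symm.trans hg₀.symm
  rw [mk_eq_algebraMap_iff (regStalk_le_nonZeroDivisors x)] at h1
  let W : X.Opens := V ⊓ W₀
  have hxW : x ∈ W := ⟨hxV, hxW₀⟩
  let aW : Γ(X, W) := X.presheaf.map (homOfLE (inf_le_left : W ≤ V)).op a
  let bW : Γ(X, W) := X.presheaf.map (homOfLE (inf_le_left : W ≤ V)).op b.1
  let gW : Γ(X, W) := X.presheaf.map (homOfLE (inf_le_right : W ≤ W₀)).op g
  have h2 : X.presheaf.germ W x hxW aW = X.presheaf.germ W x hxW (bW * gW) := by
    rw [map_mul]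
    have e1 : X.presheaf.germ W x hxW aW = X.presheaf.germ V x hxV a :=
      TopCat.Presheaf.germ_res_apply X.presheaf (homOfLE (inf_le_left : W ≤ V)) x hxW a
    have e2 : X.presheaf.germ W x hxW bW = X.presheaf.germ V x hxV b.1 :=
      TopCat.Presheaf.germ_res_apply X.presheaf (homOfLE (inf_le_left : W ≤ V)) x hxW b.1
    have e3 : X.presheaf.germ W x hxW gW = X.presheaf.germ W₀ x hxW₀ g :=
      TopCat.Presheaf.germ_res_apply X.presheaf (homOfLE (inf_le_right : W ≤ W₀)) x hxW g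
    rw [e1, e2, e3, hg]
    exact h1
  obtain ⟨W', hxW', i₁, i₂, hW'⟩ := TopCat.Presheaf.germ_eq X.presheaf x hxW hxW aW (bW * gW) h2
  have hW'V : W' ≤ V := fun y hy => (i₁.le hy).1
  refine ⟨W', hxW', hW'V.trans hVU, X.presheaf.map i₁.op gW, ?_⟩
  intro y hy
  have hyW : y ∈ W := i₁.le hy
  have hyV : y ∈ V := hyW.1
  have e0 : X.presheaf.germ W' y hy (X.presheaf.map i₁.op gW) = X.presheaf.germ W y hyW gW :=
    TopCat.Presheaf.germ_res_apply X.presheaf i₁ y hy gW
  rw [e0, hab y hyV]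
  rw [mk_eq_algebraMap_iff (regStalk_le_nonZeroDivisors y)]
  have h3 := congrArg (X.presheaf.germ W' y hy) hW'
  have e1 : X.presheaf.germ W' y hy (X.presheaf.map i₁.op aW) = X.presheaf.germ W y hyW aW :=
    TopCat.Presheaf.germ_res_apply X.presheaf i₁ y hy aW
  have e2 : X.presheaf.germ W' y hy (X.presheaf.map i₂.op (bW * gW)) =
      X.presheaf.germ W y hyW (bW * gW) :=
    TopCat.Presheaf.germ_res_apply X.presheaf i₂ y hy (bW * gW)
  have h3' : X.presheaf.germ W y hyW aW = X.presheaf.germ W y hyW (bW * gW) :=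
    e1.symm.trans (h3.trans e2)
  have h4 : X.presheaf.germ W y hyW aW = X.presheaf.germ V y hyV a :=
    TopCat.Presheaf.germ_res_apply X.presheaf (homOfLE (inf_le_left : W ≤ V)) y hyW a
  have h5 : X.presheaf.germ W y hyW bW = X.presheaf.germ V y hyV b.1 :=
    TopCat.Presheaf.germ_res_apply X.presheaf (homOfLE (inf_le_left : W ≤ V)) y hyW b.1
  rw [map_mul, h4, h5] at h3'
  exact h3'

/-- a meromorphic function defined at every point of `V` is a function on `V` -/
theorem exists_toK_eq {X : Scheme.{u}} {V : X.Opens} (s : Γ(Mero.kmod X, V))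
    (hs : ∀ x : V, s.1 x ∈ (algebraMap (X.presheaf.stalk x.1) (Mero.KStalk X x.1)).range) :
    ∃ g : Γ(X, V), Mero.toK X V g = s := by
  have hloc : ∀ x : V, ∃ (W : X.Opens) (_ : x.1 ∈ W) (hWV : W ≤ V) (g : Γ(X, W)),
      ∀ (y : X) (hy : y ∈ W), s.1 ⟨y, hWV hy⟩ =
        algebraMap (X.presheaf.stalk y) (Mero.KStalk X y) (X.presheaf.germ W y hy g) :=
    fun x => local_section s x.1 x.2 (hs x)
  choose W hxW hWV g hg using hloc
  have hcov : V ≤ iSup W := by
    intro y hy
    exact (le_iSup W ⟨y, hy⟩) (hxW ⟨y, hy⟩)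
  have compat : TopCat.Presheaf.IsCompatible X.presheaf W g := by
    intro i j
    apply TopCat.Presheaf.section_ext X.sheaf (W i ⊓ W j)
    intro z hz
    have e1 : X.presheaf.germ (W i ⊓ W j) z hz
        (X.presheaf.map (Opens.infLELeft (W i) (W j)).op (g i)) = X.presheaf.germ (W i) z hz.1 (g i) :=
      TopCat.Presheaf.germ_res_apply X.presheaf (Opens.infLELeft (W i) (W j)) z hz (g i)
    have e2 : X.presheaf.germ (W i ⊓ W j) z hz
        (X.presheaf.map (Opens.infLERight (W i) (W j)).op (g j)) = X.presheaf.germ (W j) z hz.2 (g j) :=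
      TopCat.Presheaf.germ_res_apply X.presheaf (Opens.infLERight (W i) (W j)) z hz (g j)
    refine e1.trans (Eq.trans ?_ e2.symm)
    apply algebraMap_KStalk_injective z
    rw [← hg i z hz.1, ← hg j z hz.2]
  obtain ⟨e, he, -⟩ : ∃! e : Γ(X, V), ∀ i : V,
      X.presheaf.map (homOfLE (hWV i)).op e = g i :=
    X.sheaf.existsUnique_gluing' W V (fun i => homOfLE (hWV i)) hcov g compat
  refine ⟨e, Subtype.ext (funext fun y => ?_)⟩
  show (LocalizedModule.mk (X.presheaf.germ V y.1 y.2 e) 1 : KStalk X y.1) = s.1 y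
  rw [hg y y.1 (hxW y)]
  rw [mk_eq_algebraMap_iff (regStalk_le_nonZeroDivisors y.1)]
  have e1 : X.presheaf.germ (W y) y.1 (hxW y) (X.presheaf.map (homOfLE (hWV y)).op e) =
      X.presheaf.germ V y.1 y.2 e :=
    TopCat.Presheaf.germ_res_apply X.presheaf (homOfLE (hWV y)) y.1 (hxW y) e
  rw [← he y, e1]
  simp

end Groth.Agent.Lib.Helper18.MeroDom
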