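import Mathlib

set_option autoImplicit false
universe u

namespace Groth.Agent.Lib.Helper18.RegAvoid

/-- prime avoidance: an ideal not contained in any of finitely many primes covering the zero divisors
contains a nonzerodivisor -/
theorem exists_nzd_mem {A : Type u} [CommRing A] (J : Ideal A) (Ps : Set (Ideal A)) (hfin : Ps.Finite)
    (hprime : ∀ P ∈ Ps, P.IsPrime)
    (hzd : ∀ a : A, a ∉ nonZeroDivisors A → ∃ P ∈ Ps, a ∈ P)
    (hJ : ∀ P ∈ Ps, ¬ J ≤ P) : ∃ b ∈ J, b ∈ nonZeroDivisors A := by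
  by_contra hcon
  push Not at hcon
  have hsub : (J : Set A) ⊆ ⋃ i ∈ (↑hfin.toFinset : Set (Ideal A)), (id i : Ideal A) := by
    intro b hb
    obtain ⟨P, hP, hbP⟩ := hzd b (hcon b hb)
    simp only [Set.mem_iUnion]
    exact ⟨P, by simpa using hP, hbP⟩
  have h := (Ideal.subset_union_prime (s := hfin.toFinset) (f := id) (R := A) ⊥ ⊥
    (fun i hi _ _ => hprime i (by simpa using hi)) (I := J)).mp hsub
  obtain ⟨P, hP, hJP⟩ := h
  exact hJ P (by simpa using hP) hJP

/-- Noetherian case: data for `exists_nzd_mem`. -/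
theorem noeth_data (A : Type u) [CommRing A] [IsNoetherianRing A] :
    ∃ Ps : Set (Ideal A), Ps.Finite ∧ (∀ P ∈ Ps, P.IsPrime) ∧
      (∀ a : A, a ∉ nonZeroDivisors A → ∃ P ∈ Ps, a ∈ P) ∧
      (∀ P ∈ Ps, ∃ t : A, t ≠ 0 ∧ ∀ p ∈ P, p * t = 0) := by
  refine ⟨associatedPrimes A A, associatedPrimes.finite A A, fun P hP => hP.1, ?_, ?_⟩
  · intro a ha
    have h := biUnion_associatedPrimes_eq_compl_nonZeroDivisors A
    have : a ∈ ((nonZeroDivisors A : Set A))ᶜ := ha
    rw [← h] at this
    simp only [Set.mem_iUnion] at this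
    obtain ⟨P, hP, haP⟩ := this
    exact ⟨P, hP, haP⟩
  · intro P hP
    have hP' : (⊥ : Submodule A A).IsAssociatedPrime P := hP
    rw [Submodule.isAssociatedPrime_iff] at hP'
    obtain ⟨hprime, t, ht⟩ := hP'
    refine ⟨t, ?_, ?_⟩
    · rintro rfl
      apply hprime.ne_top
      rw [ht]
      rw [Ideal.eq_top_iff_one]
      rw [Submodule.mem_colon_singleton]
      simp
    · intro p hp
      rw [ht, Submodule.mem_colon_singleton] at hp
      simpa using hp

/-- reduced case with finitely many minimal primes: data for `exists_nzd_mem`. -/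
theorem reduced_data (A : Type u) [CommRing A] [IsReduced A] (hfin : (minimalPrimes A).Finite) :
    ∃ Ps : Set (Ideal A), Ps.Finite ∧ (∀ P ∈ Ps, P.IsPrime) ∧
      (∀ a : A, a ∉ nonZeroDivisors A → ∃ P ∈ Ps, a ∈ P) ∧
      (∀ P ∈ Ps, ∃ t : A, t ≠ 0 ∧ ∀ p ∈ P, p * t = 0) := by
  have hnil : sInf (minimalPrimes A) = (⊥ : Ideal A) := by
    have h1 : sInf (minimalPrimes A) = nilradical A := by
      rw [minimalPrimes, Ideal.sInf_minimalPrimes]
      rfl
    rw [h1, nilradical_eq_zero]
    rfl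
  have hmem0 : ∀ c : A, (∀ P ∈ minimalPrimes A, c ∈ P) → c = 0 := by
    intro c hc
    have : c ∈ sInf (minimalPrimes A) := by
      rw [Ideal.mem_sInf]
      intro P hP
      exact hc P hP
    rw [hnil] at this
    exact this
  refine ⟨minimalPrimes A, hfin, fun P hP => hP.1.1, ?_, ?_⟩
  · intro a ha
    rw [mem_nonZeroDivisors_iff_right] at ha
    push Not at ha
    obtain ⟨c, hc, hc0⟩ := ha
    by_contra hcon
    push Not at hcon
    apply hc0
    apply hmem0
    intro P hP
    have hprime : P.IsPrime := hP.1.1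
    have : c * a ∈ P := by rw [hc]; exact P.zero_mem
    rcases hprime.mem_or_mem this with h | h
    · exact h
    · exact absurd h (hcon P hP)
  · intro P hP
    have hprime : P.IsPrime := hP.1.1
    -- `t ∈ ⋂_{Q ≠ P} Q ∖ P`
    have hex : ∃ t : A, t ∉ P ∧ ∀ Q ∈ minimalPrimes A, Q ≠ P → t ∈ Q := by
      by_contra hcon
      push Not at hcon
      -- then `⨅_{Q ≠ P} Q ≤ P`
      have hle : (hfin.toFinset.erase P).inf id ≤ P := by
        intro t ht
        by_contra htP
        obtain ⟨Q, hQ, hQP, htQ⟩ := hcon t htP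
        apply htQ
        have hQm : Q ∈ hfin.toFinset.erase P := by
          simp [hQ, hQP]
        exact (Finset.inf_le hQm : (hfin.toFinset.erase P).inf id ≤ id Q) ht
      obtain ⟨Q, hQ, hQP⟩ := (Ideal.IsPrime.inf_le' hprime).mp hle
      simp only [Finset.mem_erase, Set.Finite.mem_toFinset] at hQ
      apply hQ.1
      have hQle : Q ≤ P := hQP
      exact le_antisymm hQle (hP.2 ⟨hQ.2.1.1, bot_le⟩ hQle)
    obtain ⟨t, htP, htQ⟩ := hex
    refine ⟨t, ?_, ?_⟩
    · rintro rfl
      exact htP P.zero_mem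
    · intro p hp
      apply hmem0
      intro Q hQ
      by_cases hQP : Q = P
      · subst hQP
        exact Q.mul_mem_right _ hp
      · exact Q.mul_mem_left _ (htQ Q hQ hQP)

end Groth.Agent.Lib.Helper18.RegAvoid
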