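import Mathlib
import Groth.Prelude.Def_MeroSh
import Groth.Agent.Lib.Helper18.RegAvoid

set_option autoImplicit false
universe u

namespace Groth.Agent.Lib.Helper18.MeroExt

open AlgebraicGeometry CategoryTheory TopologicalSpace Opposite Mero

/-- the ideal of functions on `W` whose nonvanishing locus lies in `V` -/
def basicIdeal {X : Scheme.{u}} (W V : X.Opens) : Ideal Γ(X, W) where
  carrier := {h | X.basicOpen h ≤ V}
  zero_mem' := by
    show X.basicOpen (0 : Γ(X, W)) ≤ V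
    rw [Scheme.basicOpen_zero]; exact bot_le
  add_mem' := by
    intro a b ha hb
    exact (X.basicOpen_add_le a b).trans (sup_le ha hb)
  smul_mem' := by
    intro c a ha
    show X.basicOpen (c * a) ≤ V
    rw [Scheme.basicOpen_mul]
    exact inf_le_right.trans ha

theorem mem_basicIdeal {X : Scheme.{u}} (W V : X.Opens) (h : Γ(X, W)) :
    h ∈ basicIdeal W V ↔ X.basicOpen h ≤ V := Iff.rfl

/-- a nonzerodivisor on an affine open is germwise regular -/
theorem mem_regSub_of_mem_nonZeroDivisors {X : Scheme.{u}} {W : X.Opens} (hW : IsAffineOpen W)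
    (b : Γ(X, W)) (hb : b ∈ nonZeroDivisors Γ(X, W)) : b ∈ regSub X W := by
  intro y
  letI := X.presheaf.algebra_section_stalk y
  haveI := hW.isLocalization_stalk y
  have h := IsLocalization.map_nonZeroDivisors_le (hW.primeIdealOf y).asIdeal.primeCompl
    (X.presheaf.stalk y.1)
  exact h ⟨b, hb, rfl⟩

/-- if `V` is schematically dense in `U ⊇ W`, `W` affine, then the ideal of `V` is not contained in a prime
killing a nonzero element -/
theorem not_basicIdeal_le {X : Scheme.{u}} {U V W : X.Opens} (hW : IsAffineOpen W) (hWU : W ≤ U)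
    (hV : ∀ W : X.Opens, W ≤ U →
      Function.Injective ⇑(X.presheaf.map (homOfLE (inf_le_left : W ⊓ V ≤ W)).op))
    (P : Ideal Γ(X, W)) (t : Γ(X, W)) (ht : t ≠ 0) (hPt : ∀ p ∈ P, p * t = 0) :
    ¬ basicIdeal W V ≤ P := by
  intro hle
  apply ht
  apply hV W hWU
  rw [map_zero]
  apply TopCat.Presheaf.section_ext X.sheaf (W ⊓ V)
  intro y hy
  refine Eq.trans ?_ (map_zero _).symm
  obtain ⟨h, hhV, hyh⟩ := hW.exists_basicOpen_le (V := V) ⟨y, hy.2⟩ hy.1
  have h0 : h * t = 0 := hPt h (hle hhV)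
  have e : X.presheaf.germ (W ⊓ V) y hy (X.presheaf.map (homOfLE (inf_le_left : W ⊓ V ≤ W)).op t) =
      X.presheaf.germ W y hy.1 t :=
    TopCat.Presheaf.germ_res_apply X.presheaf (homOfLE (inf_le_left : W ⊓ V ≤ W)) y hy t
  refine e.trans ?_
  have hu : IsUnit (X.presheaf.germ W y hy.1 h) := (X.mem_basicOpen h y hy.1).mp hyh
  have h1 := congrArg (X.presheaf.germ W y hy.1) h0
  rw [map_mul, map_zero] at h1
  exact (hu.mul_right_eq_zero).mp h1

/-- existence of a regular function on an affine `W ≤ U` with `D(b) ≤ V` -/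
theorem exists_regular_basicOpen_le {X : Scheme.{u}} {U V W : X.Opens} (hW : IsAffineOpen W)
    (hWU : W ≤ U)
    (hV : ∀ W : X.Opens, W ≤ U →
      Function.Injective ⇑(X.presheaf.map (homOfLE (inf_le_left : W ⊓ V ≤ W)).op))
    (hdata : ∃ Ps : Set (Ideal Γ(X, W)), Ps.Finite ∧ (∀ P ∈ Ps, P.IsPrime) ∧
      (∀ a : Γ(X, W), a ∉ nonZeroDivisors Γ(X, W) → ∃ P ∈ Ps, a ∈ P) ∧
      (∀ P ∈ Ps, ∃ t : Γ(X, W), t ≠ 0 ∧ ∀ p ∈ P, p * t = 0)) :
    ∃ b : Γ(X, W), b ∈ regSub X W ∧ X.basicOpen b ≤ V := by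
  obtain ⟨Ps, hfin, hprime, hzd, hkill⟩ := hdata
  obtain ⟨b, hbJ, hb⟩ := RegAvoid.exists_nzd_mem (basicIdeal W V) Ps hfin hprime hzd (by
    intro P hP
    obtain ⟨t, ht, hPt⟩ := hkill P hP
    exact not_basicIdeal_le hW hWU hV P t ht hPt)
  exact ⟨b, mem_regSub_of_mem_nonZeroDivisors hW b hb, hbJ⟩

/-- local representation of a function on a schematically dense open as a fraction with regular denominator -/
theorem exists_local_rep {X : Scheme.{u}} {U V W : X.Opens} (hW : IsAffineOpen W)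
    (hWU : W ≤ U)
    (hV : ∀ W : X.Opens, W ≤ U →
      Function.Injective ⇑(X.presheaf.map (homOfLE (inf_le_left : W ⊓ V ≤ W)).op))
    (hdata : ∃ Ps : Set (Ideal Γ(X, W)), Ps.Finite ∧ (∀ P ∈ Ps, P.IsPrime) ∧
      (∀ a : Γ(X, W), a ∉ nonZeroDivisors Γ(X, W) → ∃ P ∈ Ps, a ∈ P) ∧
      (∀ P ∈ Ps, ∃ t : Γ(X, W), t ≠ 0 ∧ ∀ p ∈ P, p * t = 0))
    (g : Γ(X, V)) :
    ∃ (a : Γ(X, W)) (b : regSub X W), ∀ (z : X) (hzW : z ∈ W) (hzV : z ∈ V),
      X.presheaf.germ W z hzW a = X.presheaf.germ W z hzW b.1 * X.presheaf.germ V z hzV g := by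
  obtain ⟨b₀, hb₀, hb₀V⟩ := exists_regular_basicOpen_le hW hWU hV hdata
  let g' : Γ(X, X.basicOpen b₀) := X.presheaf.map (homOfLE hb₀V).op g
  obtain ⟨n, a, ha⟩ := exists_eq_pow_mul_of_isAffineOpen X W hW b₀ g'
  refine ⟨a, ⟨b₀ ^ n, pow_mem hb₀ n⟩, ?_⟩
  -- the equation on `D(b₀)`
  have hE : ∀ (y : X) (hy : y ∈ X.basicOpen b₀),
      X.presheaf.germ W y (X.basicOpen_le b₀ hy) a =
        (X.presheaf.germ W y (X.basicOpen_le b₀ hy) b₀) ^ n * X.presheaf.germ V y (hb₀V hy) g := by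
    intro y hy
    have h1 := congrArg (X.presheaf.germ (X.basicOpen b₀) y hy) ha
    rw [map_mul, map_pow] at h1
    have e1 : X.presheaf.germ (X.basicOpen b₀) y hy (a |_ X.basicOpen b₀) =
        X.presheaf.germ W y (X.basicOpen_le b₀ hy) a :=
      TopCat.Presheaf.germ_res_apply X.presheaf (homOfLE (X.basicOpen_le b₀)) y hy a
    have e2 : X.presheaf.germ (X.basicOpen b₀) y hy (b₀ |_ X.basicOpen b₀) =
        X.presheaf.germ W y (X.basicOpen_le b₀ hy) b₀ :=
      TopCat.Presheaf.germ_res_apply X.presheaf (homOfLE (X.basicOpen_le b₀)) y hy b₀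
    have e3 : X.presheaf.germ (X.basicOpen b₀) y hy g' = X.presheaf.germ V y (hb₀V hy) g :=
      TopCat.Presheaf.germ_res_apply X.presheaf (homOfLE hb₀V) y hy g
    rw [e1, e2, e3] at h1
    exact h1
  intro z hzW hzV
  obtain ⟨W', hW', hzW', hW'le⟩ := exists_isAffineOpen_mem_and_subset (x := z) (U := W ⊓ V)
    ⟨hzW, hzV⟩
  have hW'W : W' ≤ W := fun y hy => (hW'le hy).1
  have hW'V : W' ≤ V := fun y hy => (hW'le hy).2
  let aW : Γ(X, W') := X.presheaf.map (homOfLE hW'W).op a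
  let bW : Γ(X, W') := X.presheaf.map (homOfLE hW'W).op b₀
  let gW : Γ(X, W') := X.presheaf.map (homOfLE hW'V).op g
  let t : Γ(X, W') := aW - bW ^ n * gW
  have hres : X.presheaf.map (homOfLE (X.basicOpen_le bW)).op t = 0 := by
    apply TopCat.Presheaf.section_ext X.sheaf (X.basicOpen bW)
    intro y hy
    refine Eq.trans ?_ (map_zero _).symm
    have hyW' : y ∈ W' := X.basicOpen_le bW hy
    have hyb : y ∈ X.basicOpen b₀ := by
      have : X.basicOpen bW = W' ⊓ X.basicOpen b₀ := Scheme.basicOpen_res _ _ _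
      rw [this] at hy
      exact hy.2
    have e : X.presheaf.germ (X.basicOpen bW) y hy
        (X.presheaf.map (homOfLE (X.basicOpen_le bW)).op t) = X.presheaf.germ W' y hyW' t :=
      TopCat.Presheaf.germ_res_apply X.presheaf (homOfLE (X.basicOpen_le bW)) y hy t
    refine e.trans ?_
    show X.presheaf.germ W' y hyW' (aW - bW ^ n * gW) = 0
    rw [map_sub, map_mul, map_pow]
    have e1 : X.presheaf.germ W' y hyW' aW = X.presheaf.germ W y (hW'W hyW') a :=
      TopCat.Presheaf.germ_res_apply X.presheaf (homOfLE hW'W) y hyW' a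
    have e2 : X.presheaf.germ W' y hyW' bW = X.presheaf.germ W y (hW'W hyW') b₀ :=
      TopCat.Presheaf.germ_res_apply X.presheaf (homOfLE hW'W) y hyW' b₀
    have e3 : X.presheaf.germ W' y hyW' gW = X.presheaf.germ V y (hW'V hyW') g :=
      TopCat.Presheaf.germ_res_apply X.presheaf (homOfLE hW'V) y hyW' g
    rw [e1, e2, e3, sub_eq_zero]
    exact hE y hyb
  obtain ⟨m, hm⟩ := exists_pow_mul_eq_zero_of_res_basicOpen_eq_zero_of_isAffineOpen X hW' t bW hres
  have h2 := congrArg (X.presheaf.germ W' z hzW') hm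
  rw [map_mul, map_pow, map_zero] at h2
  have e1 : X.presheaf.germ W' z hzW' aW = X.presheaf.germ W z hzW a :=
    TopCat.Presheaf.germ_res_apply X.presheaf (homOfLE hW'W) z hzW' a
  have e2 : X.presheaf.germ W' z hzW' bW = X.presheaf.germ W z hzW b₀ :=
    TopCat.Presheaf.germ_res_apply X.presheaf (homOfLE hW'W) z hzW' b₀
  have e3 : X.presheaf.germ W' z hzW' gW = X.presheaf.germ V z hzV g :=
    TopCat.Presheaf.germ_res_apply X.presheaf (homOfLE hW'V) z hzW' g
  have hreg : X.presheaf.germ W' z hzW' bW ∈ nonZeroDivisors (X.presheaf.stalk z) := by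
    rw [e2]
    exact hb₀ ⟨z, hzW⟩
  have h3 : X.presheaf.germ W' z hzW' t = 0 :=
    (mul_left_mem_nonZeroDivisors_eq_zero_iff (pow_mem hreg m)).mp h2
  have h4 : X.presheaf.germ W' z hzW' (aW - bW ^ n * gW) = 0 := h3
  rw [map_sub, map_mul, map_pow, e1, e2, e3, sub_eq_zero] at h4
  show _ = X.presheaf.germ W z hzW (b₀ ^ n) * _
  rw [map_pow]
  exact h4

end Groth.Agent.Lib.Helper18.MeroExt
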