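import Mathlib
import Groth.Agent.S18922
import Groth.Agent.Lib.Helper25.StalkExact
import Groth.Prelude.Def_TFOne

/-!
# Torsion-free quotients on reduced schemes with finitely many components (helper18)

`X` reduced with finitely many irreducible components; `IsGen η` (`Groth.Agent.S10961.IsGen`) says
that `η` is the generic point of an irreducible component.

* `eq_zero_of_germ_gen`: a section of a quasi-coherent torsion-free module whose germs at all
  generic points vanish is zero.
* `hom_eq_zero_of_stalk_gen`: a morphism into a quasi-coherent torsion-free module whose stalk maps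
  at the generic points vanish is zero.
* `bijective_stalk_of_gen`: for `M` of rank one and `π : M ⟶ G` an epimorphism, the stalk map of `π`
  at a generic point in the support of `G` is bijective.
* `exists_factor`: a torsion-free quotient of a rank one module with smaller (generic) support is a
  quotient of one with bigger support.
-/

set_option autoImplicit false
set_option linter.unusedSectionVars false
set_option linter.unusedVariables false
set_option linter.style.haveILetI false
universe u
open CategoryTheory CategoryTheory.Limits AlgebraicGeometry TopologicalSpace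

namespace Groth.Agent.Lib.Helper18.TFQuot

open Groth.Agent.S10961 Groth.Agent.Lib.helper16.QCohAss Groth.Agent.Lib.Helper25.StalkExact

variable {X : Scheme.{u}}

/-- a section of a quasi-coherent torsion-free module on a reduced scheme with finitely many
irreducible components vanishes if its germs at the generic points vanish -/
theorem eq_zero_of_germ_gen [IsReduced X]
    (hfin : (irreducibleComponents (X : Type u)).Finite)
    (F : X.Modules) [F.IsQuasicoherent] (htF : TorSh.IsTorsionFree F) (U : X.Opens) (s : Γ(F, U))
    (hgen0 : ∀ (η : X) (hη : η ∈ U), IsGen η → (F.presheaf.germ U η hη).hom s = 0) : s = 0 := by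
  classical
  refine TopCat.Presheaf.section_ext ⟨F.presheaf, F.isSheaf⟩ U _ 0 (fun z hz => ?_)
  refine Eq.trans ?_ (map_zero _).symm
  obtain ⟨W, hW, hzW, hWU⟩ := exists_isAffineOpen_mem_and_subset (x := z) (U := U) hz
  let m : Γ(F, W) := F.presheaf.map (homOfLE hWU).op s
  have hm0 : ∀ (η : X) (hη : η ∈ W), IsGen η → (F.presheaf.germ W η hη).hom m = 0 := by
    intro η hη hgen
    have := hgen0 η (hWU hη) hgen
    rwa [← TopCat.Presheaf.germ_res_apply F.presheaf (homOfLE hWU) η hη s] at this
  have hann : ∀ η : X, ∃ r : Γ(X, W), r • m = 0 ∧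
      (IsGen η → ∀ hη : η ∈ W, IsUnit (X.presheaf.germ W η hη r)) := by
    intro η
    by_cases hc : IsGen η ∧ η ∈ W
    · obtain ⟨f, hηf, hfm⟩ := Groth.Agent.Lib.helper28.exists_smul_eq_zero_of_germ_eq_zero F hW m η
        hc.2 (hm0 η hc.2 hc.1)
      exact ⟨f, hfm, fun _ hη => (X.mem_basicOpen f η hη).mp hηf⟩
    · exact ⟨0, zero_smul _ _, fun h1 h2 => (hc ⟨h1, h2⟩).elim⟩
  choose r hr0 hru using hann
  obtain ⟨G, e, hB⟩ := Groth.Agent.S18922.exists_nzd_combination hfin hW r
    (fun η hη hgen => hru η hgen hη)
  set B := ∑ η ∈ G, e η * r η with hBdef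
  have hBm : B • m = 0 := by
    rw [hBdef, Finset.sum_smul]
    refine Finset.sum_eq_zero (fun η _ => ?_)
    rw [mul_smul, hr0, smul_zero]
  have hreg := Groth.Agent.Lib.Helper18.MeroExt.mem_regSub_of_mem_nonZeroDivisors hW B hB ⟨z, hzW⟩
  have h1 := congrArg (F.presheaf.germ W z hzW).hom hBm
  rw [germ_smul', map_zero] at h1
  have hmz : (F.presheaf.germ W z hzW).hom m = 0 := by
    haveI := htF z
    have hregular : IsRegular ((X.presheaf.germ W z hzW).hom B) :=
      isRegular_iff_mem_nonZeroDivisors.mpr hreg
    have := (Module.IsTorsionFree.isSMulRegular (M := F.presheaf.stalk z) hregular)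
    exact this (h1.trans (smul_zero _).symm)
  rw [← TopCat.Presheaf.germ_res_apply F.presheaf (homOfLE hWU) z hzW s]
  exact hmz

/-- a morphism into a quasi-coherent torsion-free module whose stalk maps at the generic points
vanish is zero -/
theorem hom_eq_zero_of_stalk_gen [IsReduced X]
    (hfin : (irreducibleComponents (X : Type u)).Finite)
    {A G : X.Modules} [G.IsQuasicoherent] (hG : TorSh.IsTorsionFree G) (φ : A ⟶ G)
    (h : ∀ η : X, IsGen η → (DerSch.stalkFunctor X η).map φ = 0) : φ = 0 := by
  apply Scheme.Modules.hom_ext
  intro U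
  ext s
  change (φ.app U).hom s = 0
  apply eq_zero_of_germ_gen hfin G hG U
  intro η hη hgen
  have h1 := DerSch.stalkFunctor_map_germ η φ U hη s
  rw [h η hgen] at h1
  exact h1.symm

/-- stalks of modules not in the support are trivial -/
theorem subsingleton_of_not_mem_support {G : X.Modules} {η : X} (h : η ∉ CohB1.support G) :
    Subsingleton ((DerSch.stalkFunctor X η).obj G) := by
  have h1 : Subsingleton (G.presheaf.stalk η) := not_not.mp h
  exact h1

theorem map_eq_zero_of_not_mem_support {A G : X.Modules} (φ : A ⟶ G) {η : X}
    (h : η ∉ CohB1.support G) : (DerSch.stalkFunctor X η).map φ = 0 := by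
  haveI := subsingleton_of_not_mem_support h
  ext m
  exact Subsingleton.elim _ _

theorem map_eq_zero_of_not_mem_support' {A G : X.Modules} (φ : A ⟶ G) {η : X}
    (h : η ∉ CohB1.support A) : (DerSch.stalkFunctor X η).map φ = 0 := by
  haveI := subsingleton_of_not_mem_support h
  ext m
  rw [Subsingleton.elim m 0, map_zero]
  rfl

/-- the stalk map of an epimorphism is surjective -/
theorem surjective_stalk_of_epi {M G : X.Modules} (π : M ⟶ G) [Epi π] (η : X) :
    Function.Surjective ((DerSch.stalkFunctor X η).map π).hom := by
  have : Epi ((DerSch.stalkFunctor X η).map π) := inferInstance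
  exact (ModuleCat.epi_iff_surjective _).1 this

/-- for `M` of rank one, the stalk map of an epimorphism `M ⟶ G` at a generic point in the
support of `G` is bijective -/
theorem bijective_stalk_of_gen [IsReduced X]
    (hfin : (irreducibleComponents (X : Type u)).Finite)
    {M G : X.Modules} (hM : TFOne.IsRkOne X M) (π : M ⟶ G) [Epi π] (η : X) (hgen : IsGen η)
    (hη : η ∈ CohB1.support G) :
    Function.Bijective ((DerSch.stalkFunctor X η).map π).hom := by
  refine ⟨?_, surjective_stalk_of_epi π η⟩
  obtain ⟨e₀⟩ := hM η hgen
  let e : ((DerSch.stalkFunctor X η).obj M) ≃ₗ[X.presheaf.stalk η] X.presheaf.stalk η := e₀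
  have hfield := hgen.isField hfin
  set f := ((DerSch.stalkFunctor X η).map π).hom with hf
  rw [injective_iff_map_eq_zero]
  intro m hm
  by_contra hm0
  apply hη
  -- `m` spans the stalk
  have hem : e m ≠ 0 := fun h0 => hm0 (e.injective (h0.trans (map_zero e).symm))
  obtain ⟨c, hc⟩ := hfield.mul_inv_cancel hem
  have hspan : ∀ m' : ((DerSch.stalkFunctor X η).obj M), m' = (e m' * c) • m := by
    intro m'
    apply e.injective
    rw [map_smul, smul_eq_mul, mul_assoc, mul_comm c, hc, mul_one]
  constructor
  intro a b
  obtain ⟨a', rfl⟩ := surjective_stalk_of_epi π η a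
  obtain ⟨b', rfl⟩ := surjective_stalk_of_epi π η b
  have h0 : ∀ m' : ((DerSch.stalkFunctor X η).obj M), f m' = 0 := by
    intro m'
    rw [hspan m', map_smul, hm, smul_zero]
  exact (h0 a').trans (h0 b').symm

/-- a torsion-free quotient of a rank one module is a quotient of any quotient with bigger
support at the generic points -/
theorem exists_factor [IsReduced X]
    (hfin : (irreducibleComponents (X : Type u)).Finite)
    {M G G' : X.Modules} (hM : TFOne.IsRkOne X M) (π : M ⟶ G) (π' : M ⟶ G') [Epi π]
    [G'.IsQuasicoherent] (hG' : TorSh.IsTorsionFree G')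
    (hsub : ∀ η : X, IsGen η → η ∈ CohB1.support G' → η ∈ CohB1.support G) :
    ∃ ρ : G ⟶ G', π ≫ ρ = π' := by
  have hker : kernel.ι π ≫ π' = 0 := by
    apply hom_eq_zero_of_stalk_gen hfin hG'
    intro η hgen
    by_cases hη : η ∈ CohB1.support G'
    · have hbij := bijective_stalk_of_gen hfin hM π η hgen (hsub η hgen hη)
      have hmono : Mono ((DerSch.stalkFunctor X η).map π) :=
        (ModuleCat.mono_iff_injective _).2 hbij.1
      have h1 : (DerSch.stalkFunctor X η).map (kernel.ι π) ≫ (DerSch.stalkFunctor X η).map π = 0 := by
        rw [← Functor.map_comp, kernel.condition, Functor.map_zero]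
      have h2 : (DerSch.stalkFunctor X η).map (kernel.ι π) = 0 := by
        rw [← cancel_mono ((DerSch.stalkFunctor X η).map π), h1, zero_comp]
      rw [Functor.map_comp, h2, zero_comp]
    · exact map_eq_zero_of_not_mem_support _ hη
  exact ⟨Abelian.epiDesc π π' hker, Abelian.comp_epiDesc π π' hker⟩

end Groth.Agent.Lib.Helper18.TFQuot
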