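import Mathlib
import Groth.Agent.Lib.Helper18.TFQuot
import Groth.Agent.Lib.Helper18.AlgClosedIn
import Groth.Agent.Lib.Helper8.FormalBasic
import Groth.Prelude.Def_KLin
import Groth.Agent.Lib.Helper8.SupportProper

/-!
# Generic scalars of endomorphisms of rank one modules (helper18)

`Sc η φ a`: the endomorphism `φ : M ⟶ M` acts on the stalk `M_η` as multiplication by `a ∈ O_{X,η}`.

* `Sc.add`, `Sc.sub`, `Sc.comp`, `Sc.zero`, `Sc.id`, `Sc.pow`, `Sc.smulModΓ`, `Sc.smulMod`,
  `Sc.aeval` (`P(φ)` acts as `P(a)`, for `P ∈ k[T]` and `End M` a `k`-algebra through `KLin`).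
* `exists_sc`, `sc_unique`: for `M` of rank one and `η` a generic point the scalar exists and is unique.
* `eq_zero_of_sc`: an endomorphism of a quasi-coherent torsion-free module (on a reduced scheme with
  finitely many components) acting as `0` at all generic points vanishes.
* `subsingleton_stalk_of_gen`: a quasi-coherent torsion-free module has trivial stalk at `x` if its
  stalks at the generic points specializing to `x` are trivial.
* `compUnion T`: the union of the components whose generic points satisfy `T`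
  (`mem_compUnion_iff`, `isClosed_compUnion`, `isSubcurve_compUnion`, `compUnion_ne_univ`).
* `isQuotOn_of_split`: a split idempotent `e = p ≫ i` of a torsion-free rank one module acting as
  `1` at the generic points in `T` and as `0` at the others gives `TFOne.IsQuotOn X M (compUnion T) G p`.
-/

set_option autoImplicit false
set_option linter.unusedSectionVars false
set_option linter.unusedVariables false
set_option linter.style.haveILetI false
universe u
open CategoryTheory CategoryTheory.Limits AlgebraicGeometry TopologicalSpace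

namespace Groth.Agent.Lib.Helper18.GenScalar

open Groth.Agent.S10961 Groth.Agent.Lib.helper16.QCohAss Groth.Agent.Lib.Helper25.StalkExact
  Groth.Agent.Lib.Helper18.TFQuot Groth.Agent.Lib.Helper18.AlgClosedIn

variable {X : Scheme.{u}}

/-- `φ` acts on the stalk at `η` as multiplication by `a` -/
def Sc {M : X.Modules} (η : X) (φ : M ⟶ M) (a : X.presheaf.stalk η) : Prop :=
  ∀ m : (DerSch.stalkFunctor X η).obj M, ((DerSch.stalkFunctor X η).map φ).hom m = a • m

namespace Sc

variable {M : X.Modules} {η : X}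

theorem add {φ ψ : M ⟶ M} {a b : X.presheaf.stalk η} (h₁ : Sc η φ a) (h₂ : Sc η ψ b) :
    Sc η (φ + ψ) (a + b) := by
  intro m
  rw [Functor.map_add, ModuleCat.hom_add, LinearMap.add_apply, h₁ m, h₂ m, add_smul]

theorem sub {φ ψ : M ⟶ M} {a b : X.presheaf.stalk η} (h₁ : Sc η φ a) (h₂ : Sc η ψ b) :
    Sc η (φ - ψ) (a - b) := by
  intro m
  rw [Functor.map_sub, ModuleCat.hom_sub, LinearMap.sub_apply, h₁ m, h₂ m, sub_smul]

theorem comp {φ ψ : M ⟶ M} {a b : X.presheaf.stalk η} (h₁ : Sc η φ a) (h₂ : Sc η ψ b) :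
    Sc η (φ ≫ ψ) (a * b) := by
  intro m
  rw [Functor.map_comp, ModuleCat.hom_comp, LinearMap.comp_apply, h₁ m, map_smul, h₂ m,
    ← mul_smul]

theorem zero : Sc η (0 : M ⟶ M) 0 := by
  intro m
  rw [Functor.map_zero, ModuleCat.hom_zero, LinearMap.zero_apply, zero_smul]

theorem id : Sc η (𝟙 M) 1 := by
  intro m
  rw [CategoryTheory.Functor.map_id, ModuleCat.hom_id, LinearMap.id_apply, one_smul]

theorem congr {φ : M ⟶ M} {a b : X.presheaf.stalk η} (h : Sc η φ a) (hab : a = b) : Sc η φ b :=
  hab ▸ h

theorem smulModΓ (r : Coh.Γtop X) :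
    Sc η (Formal.smulModΓ M r) ((X.presheaf.germ ⊤ η trivial).hom r) := by
  intro m
  obtain ⟨U, hU, s, rfl⟩ := M.presheaf.exists_germ_eq (x := η) m
  have h1 := DerSch.stalkFunctor_map_germ η (Formal.smulModΓ M r) U hU s
  refine h1.trans ?_
  have h2 : (Formal.smulModΓ M r).app U s =
      X.presheaf.map (homOfLE (le_top : U ≤ ⊤)).op r • s := KLin.smulModΓ_app_apply M r U s
  rw [h2]
  refine (germ_smul' M U η hU _ s).trans ?_
  congr 1
  exact TopCat.Presheaf.germ_res_apply X.presheaf (homOfLE (le_top : U ≤ ⊤)) η hU r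

theorem smulMod (k : Type u) [Field k] [X.Over (Spec (CommRingCat.of k))] (c : k) :
    Sc η (Formal.smulMod k M c) (stalkGlobal (X ↘ Spec (CommRingCat.of k)) η c) :=
  smulModΓ _

theorem pow {φ : End M} {a : X.presheaf.stalk η} (h : Sc η φ a) (n : ℕ) :
    Sc η (φ ^ n) (a ^ n) := by
  induction n with
  | zero =>
    rw [pow_zero, pow_zero]
    exact Sc.id
  | succ n ih =>
    rw [pow_succ, pow_succ']
    exact Sc.comp h ih

theorem aeval (k : Type u) [Field k] [X.Over (Spec (CommRingCat.of k))] {φ : End M}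
    {a : X.presheaf.stalk η} (h : Sc η φ a) (P : Polynomial k) :
    Sc η (Polynomial.aeval (R := k) (A := End M) φ P)
      (P.eval₂ (stalkGlobal (X ↘ Spec (CommRingCat.of k)) η) a) := by
  induction P using Polynomial.induction_on' with
  | add p q hp hq =>
    rw [map_add, Polynomial.eval₂_add]
    exact Sc.add hp hq
  | monomial n c =>
    rw [Polynomial.aeval_monomial, Polynomial.eval₂_monomial, Algebra.algebraMap_eq_smul_one]
    have h1 : (c • (1 : End M)) = Formal.smulMod k M c := KLin.smul_id M c
    rw [h1, mul_comm (stalkGlobal _ η c)]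
    exact Sc.comp (Sc.pow h n) (Sc.smulMod k c)

end Sc

variable {M : X.Modules}

/-- on a module of rank one every endomorphism acts as a scalar at the generic points -/
theorem exists_sc (hM : TFOne.IsRkOne X M) {η : X} (hgen : IsGen η) (φ : M ⟶ M) :
    ∃ a : X.presheaf.stalk η, Sc η φ a := by
  obtain ⟨e₀⟩ := hM η hgen
  let e : ((DerSch.stalkFunctor X η).obj M) ≃ₗ[X.presheaf.stalk η] X.presheaf.stalk η := e₀
  set f := ((DerSch.stalkFunctor X η).map φ).hom with hf
  refine ⟨e (f (e.symm 1)), fun m => ?_⟩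
  have hm : m = (e m) • e.symm 1 := by
    apply e.injective
    rw [map_smul, LinearEquiv.apply_symm_apply, smul_eq_mul, mul_one]
  have h1 : f (e.symm 1) = (e (f (e.symm 1))) • e.symm 1 := by
    apply e.injective
    rw [map_smul, LinearEquiv.apply_symm_apply, smul_eq_mul, mul_one]
  calc f m = f ((e m) • e.symm 1) := by rw [← hm]
    _ = (e m) • f (e.symm 1) := map_smul _ _ _
    _ = (e m) • ((e (f (e.symm 1))) • e.symm 1) := by rw [← h1]
    _ = (e (f (e.symm 1))) • ((e m) • e.symm 1) := smul_comm _ _ _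
    _ = (e (f (e.symm 1))) • m := by rw [← hm]

/-- the scalar is unique -/
theorem sc_unique (hM : TFOne.IsRkOne X M) {η : X} (hgen : IsGen η) {φ : M ⟶ M}
    {a b : X.presheaf.stalk η} (ha : Sc η φ a) (hb : Sc η φ b) : a = b := by
  obtain ⟨e₀⟩ := hM η hgen
  let e : ((DerSch.stalkFunctor X η).obj M) ≃ₗ[X.presheaf.stalk η] X.presheaf.stalk η := e₀
  have h := (ha (e.symm 1)).symm.trans (hb (e.symm 1))
  have h2 := congrArg e h
  rwa [map_smul, map_smul, LinearEquiv.apply_symm_apply, smul_eq_mul, mul_one, smul_eq_mul,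
    mul_one] at h2

/-- an endomorphism of a quasi-coherent torsion-free module acting as `0` at all generic points
vanishes -/
theorem eq_zero_of_sc [IsReduced X] (hfin : (irreducibleComponents (X : Type u)).Finite)
    [M.IsQuasicoherent] (hM : TorSh.IsTorsionFree M) (φ : M ⟶ M)
    (h : ∀ η : X, IsGen η → Sc η φ 0) : φ = 0 := by
  apply hom_eq_zero_of_stalk_gen hfin hM
  intro η hgen
  ext m
  exact (h η hgen m).trans (zero_smul _ _)

/-- a quasi-coherent torsion-free module has trivial stalk at `x` if its stalks at all generic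
points specializing to `x` are trivial -/
theorem subsingleton_stalk_of_gen [IsReduced X]
    (hfin : (irreducibleComponents (X : Type u)).Finite)
    (G : X.Modules) [G.IsQuasicoherent] (hG : TorSh.IsTorsionFree G) (x : X)
    (h : ∀ η : X, IsGen η → η ⤳ x → Subsingleton (G.presheaf.stalk η)) :
    Subsingleton (G.presheaf.stalk x) := by
  suffices h0 : ∀ g : G.presheaf.stalk x, g = 0 from ⟨fun a b => (h0 a).trans (h0 b).symm⟩
  intro g
  obtain ⟨U, hxU, s, rfl⟩ := G.presheaf.exists_germ_eq (x := x) g
  set 𝒮 : Set (Set X) := {C | C ∈ irreducibleComponents (X : Type u) ∧ x ∉ C} with h𝒮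
  have hclosed : IsClosed (⋃₀ 𝒮) := by
    rw [Set.sUnion_eq_biUnion]
    exact Set.Finite.isClosed_biUnion (hfin.subset fun C hC => hC.1)
      (fun C hC => isClosed_of_mem_irreducibleComponents C hC.1)
  have hx : x ∉ ⋃₀ 𝒮 := by
    rintro ⟨C, hC, hxC⟩
    exact hC.2 hxC
  let U' : X.Opens := U ⊓ ⟨(⋃₀ 𝒮)ᶜ, hclosed.isOpen_compl⟩
  have hxU' : x ∈ U' := ⟨hxU, hx⟩
  have hle : U' ≤ U := inf_le_left
  have hs' : G.presheaf.map (homOfLE hle).op s = 0 := by
    apply eq_zero_of_germ_gen hfin G hG U'
    intro η hη hgen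
    have hsp : η ⤳ x := by
      rw [specializes_iff_mem_closure]
      by_contra hcon
      exact hη.2 ⟨closure {η}, ⟨hgen, hcon⟩, subset_closure rfl⟩
    haveI := h η hgen hsp
    exact Subsingleton.elim _ _
  have := TopCat.Presheaf.germ_res_apply G.presheaf (homOfLE hle) x hxU' s
  rw [← this, hs', map_zero]

/-- the union of the irreducible components whose generic points satisfy `T` -/
def compUnion (T : X → Prop) : Set X :=
  ⋃₀ {C | ∃ η : X, IsGen η ∧ T η ∧ C = closure {η}}

theorem mem_compUnion_iff (T : X → Prop) (x : X) :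
    x ∈ compUnion T ↔ ∃ η : X, IsGen η ∧ T η ∧ η ⤳ x := by
  constructor
  · rintro ⟨C, ⟨η, hgen, hT, rfl⟩, hx⟩
    exact ⟨η, hgen, hT, specializes_iff_mem_closure.mpr hx⟩
  · rintro ⟨η, hgen, hT, hsp⟩
    exact ⟨closure {η}, ⟨η, hgen, hT, rfl⟩, specializes_iff_mem_closure.mp hsp⟩

theorem isClosed_compUnion (hfin : (irreducibleComponents (X : Type u)).Finite) (T : X → Prop) :
    IsClosed (compUnion T) := by
  unfold compUnion
  rw [Set.sUnion_eq_biUnion]
  refine Set.Finite.isClosed_biUnion (hfin.subset ?_) ?_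
  · rintro C ⟨η, hgen, -, rfl⟩
    exact hgen
  · rintro C ⟨η, -, -, rfl⟩
    exact isClosed_closure

theorem isSubcurve_compUnion (T : X → Prop) (h : ∃ η : X, IsGen η ∧ T η) :
    VecSt.IsSubcurve X (compUnion T) := by
  refine ⟨{C | ∃ η : X, IsGen η ∧ T η ∧ C = closure {η}}, ?_, ?_, rfl⟩
  · rintro C ⟨η, hgen, -, rfl⟩
    exact hgen
  · obtain ⟨η, hgen, hT⟩ := h
    exact ⟨closure {η}, η, hgen, hT, rfl⟩

theorem compUnion_ne_univ (T : X → Prop) (h : ∃ η : X, IsGen η ∧ ¬ T η) :
    compUnion T ≠ Set.univ := by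
  obtain ⟨η₂, hgen₂, hT₂⟩ := h
  intro huniv
  have hmem : η₂ ∈ compUnion T := by rw [huniv]; trivial
  obtain ⟨η, hgen, hT, hsp⟩ := (mem_compUnion_iff T η₂).mp hmem
  have := IsGen.eq_of_specializes hgen₂ hgen hsp
  exact hT₂ (this ▸ hT)

/-- a split idempotent acting as `1` at the generic points in `T` and as `0` at the others
gives the torsion-free quotient on the union of the components in `T` -/
theorem isQuotOn_of_split [IsReduced X] (hfin : (irreducibleComponents (X : Type u)).Finite)
    {M G : X.Modules} (hM1 : TFOne.IsRkOne X M) (hMtf : TorSh.IsTorsionFree M)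
    (hGc : Coh.IsCoh G) (e : M ⟶ M) (i : G ⟶ M) (p : M ⟶ G) (hip : i ≫ p = 𝟙 G)
    (hpi : p ≫ i = e) (T : X → Prop) (h1 : ∀ η : X, IsGen η → T η → Sc η e 1)
    (h0 : ∀ η : X, IsGen η → ¬ T η → Sc η e 0) :
    TFOne.IsQuotOn X M (compUnion T) G p := by
  haveI : G.IsQuasicoherent := hGc.1
  have hinj : ∀ x : X, Function.Injective ((DerSch.stalkFunctor X x).map i).hom := by
    intro x
    have h : (DerSch.stalkFunctor X x).map i ≫ (DerSch.stalkFunctor X x).map p = 𝟙 _ := by
      rw [← Functor.map_comp, hip, CategoryTheory.Functor.map_id]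
    intro a b hab
    have := congrArg ((DerSch.stalkFunctor X x).map p).hom hab
    have h2 : ∀ g, ((DerSch.stalkFunctor X x).map p).hom (((DerSch.stalkFunctor X x).map i).hom g) = g := by
      intro g
      have := congrArg (fun f => f.hom g) h
      exact this
    rwa [h2, h2] at this
  have hGtf : TorSh.IsTorsionFree G := by
    intro x
    haveI : Module.IsTorsionFree (X.presheaf.stalk x) (M.presheaf.stalk x) := hMtf x
    let f : G.presheaf.stalk x → M.presheaf.stalk x :=
      fun m => ((DerSch.stalkFunctor X x).map i).hom m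
    exact Function.Injective.moduleIsTorsionFree f (hinj x)
      (fun r m => map_smul ((DerSch.stalkFunctor X x).map i).hom r m)
  -- stalks at generic points outside `T` vanish
  have hzero : ∀ η : X, IsGen η → ¬ T η → Subsingleton (G.presheaf.stalk η) := by
    intro η hgen hT
    suffices h : ∀ g : (DerSch.stalkFunctor X η).obj G, g = 0 from
      ⟨fun a b => (h a).trans (h b).symm⟩
    intro g
    apply hinj η
    rw [map_zero]
    have h2 : i = i ≫ e := by rw [← hpi, ← Category.assoc, hip, Category.id_comp]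
    have h3 : ((DerSch.stalkFunctor X η).map i).hom g =
        ((DerSch.stalkFunctor X η).map e).hom (((DerSch.stalkFunctor X η).map i).hom g) := by
      conv_lhs => rw [h2, Functor.map_comp]
      rfl
    rw [h3, h0 η hgen hT, zero_smul]
  refine ⟨?_, hGc, hGtf, ?_⟩
  · haveI : IsSplitEpi p := IsSplitEpi.mk' ⟨i, hip⟩
    infer_instance
  · ext x
    constructor
    · intro hx
      by_contra hxY
      apply hx
      apply subsingleton_stalk_of_gen hfin G hGtf x
      intro η hgen hsp
      apply hzero η hgen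
      intro hT
      exact hxY ((mem_compUnion_iff T x).mpr ⟨η, hgen, hT, hsp⟩)
    · intro hx
      obtain ⟨η, hgen, hT, hsp⟩ := (mem_compUnion_iff T x).mp hx
      have hη : η ∈ CohB1.support G := by
        intro hsub
        haveI : Subsingleton ((DerSch.stalkFunctor X η).obj G) := hsub
        obtain ⟨e₀⟩ := hM1 η hgen
        let ε : ((DerSch.stalkFunctor X η).obj M) ≃ₗ[X.presheaf.stalk η] X.presheaf.stalk η := e₀
        have h4 := h1 η hgen hT (ε.symm 1)
        rw [← hpi, Functor.map_comp] at h4
        have h5 : ((DerSch.stalkFunctor X η).map p).hom (ε.symm 1) = 0 := Subsingleton.elim _ _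
        have h6 : (1 : X.presheaf.stalk η) • ε.symm 1 = 0 := by
          rw [← h4]
          change ((DerSch.stalkFunctor X η).map i).hom (((DerSch.stalkFunctor X η).map p).hom (ε.symm 1)) = 0
          rw [h5, map_zero]
        rw [one_smul] at h6
        have h7 := congrArg ε h6
        rw [LinearEquiv.apply_symm_apply, map_zero] at h7
        haveI : Nontrivial (X.presheaf.stalk η) := inferInstance
        exact one_ne_zero h7
      have hcl : IsClosed (CohB1.support G) :=
        Groth.Agent.Lib.helper8.SchemeSupport.isClosed_support G hGc.2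
      exact hcl.closure_subset_iff.mpr (Set.singleton_subset_iff.mpr hη)
        (specializes_iff_mem_closure.mp hsp)

end Groth.Agent.Lib.Helper18.GenScalar
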