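import Mathlib
import Groth.Prelude.Def_MeroDiv
import Groth.Agent.Lib.Helper18.InvGen

set_option autoImplicit false
universe u
open CategoryTheory CategoryTheory.Limits AlgebraicGeometry TopologicalSpace Opposite

namespace Groth.Agent.Lib.Helper18.GenericOpen

open InvGen

section Top

variable {T : Type*} [TopologicalSpace T]

/-- the union of the irreducible components other than `Z₀` is closed when the components are
locally finite -/
theorem isClosed_iUnion_other
    (hLF : LocallyFinite (fun Z : irreducibleComponents T => (Z : Set T))) (Z₀ : Set T) :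
    IsClosed (⋃ Z : {Z : Set T // Z ∈ irreducibleComponents T ∧ Z ≠ Z₀}, (Z : Set T)) := by
  let g : {Z : Set T // Z ∈ irreducibleComponents T ∧ Z ≠ Z₀} → irreducibleComponents T :=
    fun Z => ⟨Z.1, Z.2.1⟩
  have hg : Function.Injective g := fun a b h => Subtype.ext
    (congrArg (fun Z : irreducibleComponents T => (Z : Set T)) h)
  exact (hLF.comp_injective hg).isClosed_iUnion
    (fun Z => isClosed_of_mem_irreducibleComponents Z.1 Z.2.1)

/-- the open neighbourhood of a generic point avoiding the other components -/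
def nbhd (hLF : LocallyFinite (fun Z : irreducibleComponents T => (Z : Set T))) (ξ : T) : Opens T :=
  ⟨(⋃ Z : {Z : Set T // Z ∈ irreducibleComponents T ∧ Z ≠ closure {ξ}}, (Z : Set T))ᶜ,
    (isClosed_iUnion_other hLF (closure {ξ})).isOpen_compl⟩

theorem mem_nbhd_iff (hLF : LocallyFinite (fun Z : irreducibleComponents T => (Z : Set T)))
    (ξ y : T) : y ∈ nbhd hLF ξ ↔ ∀ Z ∈ irreducibleComponents T, y ∈ Z → Z = closure {ξ} := by
  show y ∈ (⋃ Z : {Z : Set T // Z ∈ irreducibleComponents T ∧ Z ≠ closure {ξ}}, (Z : Set T))ᶜ ↔ _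
  rw [Set.mem_compl_iff, Set.mem_iUnion]
  constructor
  · intro h Z hZ hy
    by_contra hne
    exact h ⟨⟨Z, hZ, hne⟩, hy⟩
  · rintro h ⟨⟨Z, hZ, hne⟩, hy⟩
    exact hne (h Z hZ hy)

theorem self_mem_nbhd (hLF : LocallyFinite (fun Z : irreducibleComponents T => (Z : Set T)))
    (ξ : T) (hξ : closure {ξ} ∈ irreducibleComponents T) : ξ ∈ nbhd hLF ξ := by
  rw [mem_nbhd_iff]
  intro Z hZ hy
  have h1 : closure {ξ} ⊆ Z :=
    (isClosed_of_mem_irreducibleComponents Z hZ).closure_subset_iff.mpr (Set.singleton_subset_iff.mpr hy)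
  exact le_antisymm (hξ.2 hZ.1 h1) h1

theorem nbhd_disjoint [T0Space T]
    (hLF : LocallyFinite (fun Z : irreducibleComponents T => (Z : Set T)))
    (ξ ξ' y : T) (hy : y ∈ nbhd hLF ξ) (hy' : y ∈ nbhd hLF ξ') : ξ = ξ' := by
  rw [mem_nbhd_iff] at hy hy'
  have h1 := hy _ (irreducibleComponent_mem_irreducibleComponents y) mem_irreducibleComponent
  have h2 := hy' _ (irreducibleComponent_mem_irreducibleComponents y) mem_irreducibleComponent
  have h3 : closure {ξ} = closure {ξ'} := h1.symm.trans h2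
  have g1 : IsGenericPoint ξ (closure {ξ}) := isGenericPoint_closure
  have g2 : IsGenericPoint ξ' (closure {ξ}) := h3 ▸ isGenericPoint_closure
  exact g1.eq g2

/-- every point is a specialization of a generic point of an irreducible component -/
theorem exists_generic_specializes [QuasiSober T] (y : T) :
    ∃ ξ : T, closure {ξ} ∈ irreducibleComponents T ∧ ξ ⤳ y := by
  have hZ := irreducibleComponent_mem_irreducibleComponents y
  have hirr : IsIrreducible (irreducibleComponent y) := isIrreducible_irreducibleComponent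
  have hcl : IsClosed (irreducibleComponent y) := isClosed_irreducibleComponent
  refine ⟨hirr.genericPoint, ?_, ?_⟩
  · rw [hirr.closure_genericPoint hcl]
    exact hZ
  · rw [specializes_iff_mem_closure, hirr.closure_genericPoint hcl]
    exact mem_irreducibleComponent

end Top

variable {X : Scheme.{u}}

/-- a generator of an invertible module over an open containing all generic points -/
theorem exists_generic_generator
    (hLF : LocallyFinite (fun Z : irreducibleComponents X => (Z : Set X)))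
    {L : X.Modules} (hL : PicF.IsInvertible L) :
    ∃ (D : X.Opens) (ℓD : Γ(L, D)),
      (∀ ξ : X, closure {ξ} ∈ irreducibleComponents X → ξ ∈ D) ∧ IsGen L D ℓD := by
  let G := {ξ : X // closure ({ξ} : Set X) ∈ irreducibleComponents X}
  have hloc : ∀ ξ : G, ∃ (W : X.Opens) (ℓ : Γ(L, W)),
      ξ.1 ∈ W ∧ W ≤ nbhd hLF ξ.1 ∧ IsGen L W ℓ := by
    intro ξ
    obtain ⟨W, ℓ, -, h1, h2, h3⟩ := exists_isGen hL ξ.1 (nbhd hLF ξ.1) (self_mem_nbhd hLF ξ.1 ξ.2)
    exact ⟨W, ℓ, h1, h2, h3⟩
  choose W ℓ hξW hWN hℓ using hloc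
  have hdisj : ∀ (i j : G) (y : X), y ∈ W i → y ∈ W j → i = j := by
    intro i j y hi hj
    exact Subtype.ext (nbhd_disjoint hLF i.1 j.1 y (hWN i hi) (hWN j hj))
  let F : TopCat.Sheaf Ab X := ⟨L.presheaf, L.isSheaf⟩
  have compat : TopCat.Presheaf.IsCompatible F.1 W ℓ := by
    intro i j
    apply TopCat.Presheaf.section_ext F (W i ⊓ W j)
    intro y hy
    obtain rfl := hdisj i j y hy.1 hy.2
    rfl
  obtain ⟨ℓD, hℓD, -⟩ := F.existsUnique_gluing' W (iSup W) (fun i => homOfLE (le_iSup W i)) le_rfl ℓ compat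
  refine ⟨iSup W, ℓD, fun ξ hξ => (le_iSup W ⟨ξ, hξ⟩) (hξW ⟨ξ, hξ⟩), ?_⟩
  intro y hy
  obtain ⟨i, hi⟩ := Opens.mem_iSup.mp hy
  have e : L.presheaf.germ (iSup W) y hy ℓD = L.presheaf.germ (W i) y hi (ℓ i) := by
    rw [← hℓD i]
    exact (TopCat.Presheaf.germ_res_apply L.presheaf (homOfLE (le_iSup W i)) y hi ℓD).symm
  rw [e]
  exact hℓ i y hi

/-- on a reduced scheme, an open containing all generic points is schematically dense -/
theorem injective_res_of_generic_mem_of_isReduced [IsReduced X] (D : X.Opens)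
    (hD : ∀ ξ : X, closure {ξ} ∈ irreducibleComponents X → ξ ∈ D) (W : X.Opens) :
    Function.Injective ⇑(X.presheaf.map (homOfLE (inf_le_left : W ⊓ D ≤ W)).op) := by
  rw [← RingHom.coe_coe, injective_iff_map_eq_zero]
  intro c hc
  rw [← basicOpen_eq_bot_iff, eq_bot_iff]
  intro y hy
  exfalso
  obtain ⟨ξ, hξ, hξy⟩ := exists_generic_specializes y
  have hξc : ξ ∈ X.basicOpen c := hξy.mem_open (X.basicOpen c).2 hy
  have hξW : ξ ∈ W := X.basicOpen_le c hξc
  have hξD : ξ ∈ D := hD ξ hξ
  have hunit := (X.mem_basicOpen c ξ hξW).mp hξc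
  have e : X.presheaf.germ (W ⊓ D) ξ ⟨hξW, hξD⟩
      (X.presheaf.map (homOfLE (inf_le_left : W ⊓ D ≤ W)).op c) = X.presheaf.germ W ξ hξW c :=
    TopCat.Presheaf.germ_res_apply X.presheaf (homOfLE (inf_le_left : W ⊓ D ≤ W)) ξ ⟨hξW, hξD⟩ c
  have hc' : X.presheaf.map (homOfLE (inf_le_left : W ⊓ D ≤ W)).op c = 0 := hc
  rw [hc', map_zero] at e
  rw [← e] at hunit
  exact not_isUnit_zero hunit

end Groth.Agent.Lib.Helper18.GenericOpen
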