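import Mathlib
import Groth.Agent.Lib.Helper18.RatPt
import Groth.Agent.Lib.Helper18.CurvePt4
import Groth.Agent.Lib.Helper18.P1Iso
import Groth.Agent.Lib.Lead.VBCurve15
import Groth.Agent.Lib.Helper12.InvDual2

set_option autoImplicit false
set_option linter.style.haveILetI false
universe u
open CategoryTheory CategoryTheory.Limits AlgebraicGeometry Opposite TopologicalSpace Module
open Scheme.Modules

namespace Groth.Agent.Lib.Helper18.TwoPts

open Groth.Agent.Lib.Helper18 Groth.Agent.Lib.helper11.IsoLocus Groth.Agent.Lib.helper11.InvMod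
open Groth.Agent.Lib.Lead.ModTensor Groth.Agent.Lib.helper9.CurvePunctual
open Groth.Agent.Lib.helper11.TwistH1

section ker

variable {k : Type u} [Field k] {X : Scheme.{u}}

/-- the kernel of a `k`-point is the vanishing ideal of its image point -/
theorem ker_eq_vanishingIdeal (s : Spec (CommRingCat.of k) ⟶ X) [QuasiCompact s] {y : X}
    (hy : IsClosed ({y} : Set X)) (hsy : ∀ p, s p = y) :
    s.ker = Scheme.IdealSheafData.vanishingIdeal ⟨{y}, hy⟩ := by
  apply le_antisymm
  · rw [← Scheme.IdealSheafData.le_support_iff_le_vanishingIdeal]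
    intro z hz
    have hzy : z = y := hz
    rw [hzy, ← hsy (Classical.arbitrary _)]
    exact s.range_subset_ker_support ⟨_, rfl⟩
  · exact RatPt.vanishingIdeal_le_ker s hy hsy

/-- two sections of a separated morphism to `Spec k` with the same kernel are equal -/
theorem eq_of_ker_eq (p : X ⟶ Spec (CommRingCat.of k)) [IsSeparated p]
    (x y : Spec (CommRingCat.of k) ⟶ X) (hx : x ≫ p = 𝟙 _) (hy : y ≫ p = 𝟙 _)
    (h : x.ker = y.ker) : x = y := by
  haveI : IsClosedImmersion (x ≫ p) := by rw [hx]; infer_instance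
  haveI : IsClosedImmersion (y ≫ p) := by rw [hy]; infer_instance
  haveI := IsClosedImmersion.of_comp x p
  haveI := IsClosedImmersion.of_comp y p
  have h1 := IsClosedImmersion.lift_fac x y h.le
  have h2 : IsClosedImmersion.lift x y h.le = 𝟙 _ := by
    have h3 := congrArg (· ≫ p) h1
    simp only [Category.assoc, hx, hy, Category.comp_id] at h3
    exact h3
  rw [h2, Category.id_comp] at h1
  exact h1

end ker

section twist

variable {X : Scheme.{u}}

/-- `I_Z ⊗ L ⟶ L` is an isomorphism away from the support of `Z` -/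
theorem compl_support_le_isoLocus_twistι (Z : X.IdealSheafData) {L : X.Modules}
    (hL : PicF.IsInvertible L) (W : X.Opens)
    (hW : Disjoint (W : Set X) (Z.support : Set X)) :
    W ≤ isoLocus (CurvePt.twistι X Z L) := by
  have hWι : W ≤ isoLocus (ClSub.idealModι Z) :=
    le_isoLocus_kernel_ι (ClSub.toSubscheme Z) W (fun V hV =>
      subsingleton_quotMod_of_disjoint Z V (Set.disjoint_left.mpr fun x hxV hxZ =>
        Set.disjoint_left.mp hW (hV hxV) hxZ))
  have hWφ : W ≤ isoLocus (tensorMap (ClSub.idealModι Z) (𝟙 L)) :=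
    hWι.trans (isoLocus_le_tensorMap (ClSub.idealModι Z) L hL)
  unfold CurvePt.twistι
  rw [isoLocus_comp_of_isIso_right]
  exact hWφ

end twist

section main

variable (k : Type u) [Field k] (X : Scheme.{u}) [X.Over (Spec (CommRingCat.of k))]
  [IsProper (X ↘ Spec (CommRingCat.of k))] [IsIntegral X]

/-- an integral proper curve with two distinct rational points `x ≠ y`, the local ring at `x` being a
PID, and `I_x ≅ I_y`, is the projective line -/
theorem exists_iso_of_two_ratPoints (hdim : topologicalKrullDim X = 1)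
    (x y : Spec (CommRingCat.of k) ⟶ X) (hx : x ≫ (X ↘ Spec (CommRingCat.of k)) = 𝟙 _)
    (hy : y ≫ (X ↘ Spec (CommRingCat.of k)) = 𝟙 _) (hxy : x ≠ y)
    (hpid : ∀ p, IsPrincipalIdealRing (X.presheaf.stalk (x p)))
    (hlin : Nonempty (ClSub.idealMod x.ker ≅ ClSub.idealMod y.ker)) :
    ∃ e : X ≅ CohB1.ProjSpace 1 k,
      e.hom ≫ CohB1.ProjSpace.toSpec 1 k = X ↘ Spec (CommRingCat.of k) := by
  haveI := Groth.Agent.Lib.Lead.CurveEuler.isNoetherian k X
  haveI : Nonempty (Spec (CommRingCat.of k)) := inferInstance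
  let p₀ : Spec (CommRingCat.of k) := Classical.arbitrary _
  haveI : Subsingleton (Spec (CommRingCat.of k)) :=
    inferInstanceAs (Subsingleton (PrimeSpectrum k))
  -- the two points are closed
  have hclosed : ∀ (s : Spec (CommRingCat.of k) ⟶ X),
      s ≫ (X ↘ Spec (CommRingCat.of k)) = 𝟙 _ → IsClosed ({s p₀} : Set X) := by
    intro s hs
    haveI : IsProper s := by
      haveI : IsProper (s ≫ (X ↘ Spec (CommRingCat.of k))) := by rw [hs]; infer_instance
      exact IsProper.of_comp s (X ↘ Spec (CommRingCat.of k))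
    have h1 : IsClosed (Set.range s) := s.isClosedMap.isClosed_range
    have h2 : Set.range s = {s p₀} := by
      ext z
      simp only [Set.mem_range, Set.mem_singleton_iff]
      constructor
      · rintro ⟨p, rfl⟩; rw [Subsingleton.elim p p₀]
      · rintro rfl; exact ⟨p₀, rfl⟩
    rwa [h2] at h1
  have hsx : ∀ p, x p = x p₀ := fun p => by rw [Subsingleton.elim p p₀]
  have hsy : ∀ p, y p = y p₀ := fun p => by rw [Subsingleton.elim p p₀]
  have hpx := hclosed x hx
  have hpy := hclosed y hy
  haveI : QuasiCompact x := inferInstance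
  haveI : QuasiCompact y := inferInstance
  have hkx := ker_eq_vanishingIdeal x hpx hsx
  have hky := ker_eq_vanishingIdeal y hpy hsy
  have hne : x p₀ ≠ y p₀ := by
    intro h
    apply hxy
    apply eq_of_ker_eq (X ↘ Spec (CommRingCat.of k)) x y hx hy
    rw [hkx, hky]
    congr 1
    ext z
    simp [h]
  rw [hkx, hky] at hlin
  obtain ⟨φ⟩ := hlin
  set Zx := Scheme.IdealSheafData.vanishingIdeal ⟨{x p₀}, hpx⟩ with hZx
  set Zy := Scheme.IdealSheafData.vanishingIdeal ⟨{y p₀}, hpy⟩ with hZy
  -- `I_x` is invertible of degree `-1`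
  have hgen := Groth.Agent.Lib.Helper18.CurvePt.ne_genericPoint_of_isClosed hdim hpx
  obtain ⟨t, ht⟩ := ((hpid p₀).principal
    (IsLocalRing.maximalIdeal (X.presheaf.stalk (x p₀)))).principal
  have ht0 : t ≠ 0 := by
    rintro rfl
    apply Groth.Agent.Lib.Helper18.RegPoint.maximalIdeal_stalk_ne_bot hpx hgen
    rw [ht]
    simp
  obtain ⟨_, hinv⟩ := Groth.Agent.Lib.Helper18.CurvePt.goodPt_of_uniformizer hpx t ht0 ht
  have hq := Groth.Agent.Lib.Helper18.RatPt.finrank_H0_quotMod_ratPoint k X x hx hpx hsx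
  have hdegI := Groth.Agent.Lib.Helper18.CurvePt.deg_idealMod_point k X hdim.le hpx hinv hq
  obtain ⟨N, hN, ⟨e⟩, hNI⟩ := Groth.Agent.Lib.helper12.InvDual.exists_inverse hinv
  have hdegN : Curv2.deg k X N 1 = 1 := by
    have := Groth.Agent.Lib.Lead.VBCurve.deg_add_deg_of_isInverseOf k X hdim.le hinv hN hNI
    linarith
  -- the two sections
  let σ₀ : Coh.structureModule X ⟶ N := e.inv ≫ CurvePt.twistι X Zx N
  let σ₁ : Coh.structureModule X ⟶ N :=
    (e.inv ≫ (tensorIso φ (Iso.refl N)).hom) ≫ CurvePt.twistι X Zy N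
  let σ : Fin (1 + 1) → (Coh.structureModule X ⟶ N) := ![σ₀, σ₁]
  have hcov : ⨆ i, Groth.Agent.Lib.helper12.ProjUP3.gU σ i = ⊤ := by
    rw [eq_top_iff]
    intro z _
    by_cases hz : z = x p₀
    · -- `z ≠ y`, use `σ₁`
      have hzy : z ≠ y p₀ := fun h => hne (hz.symm.trans h)
      let W : X.Opens := ⟨({y p₀} : Set X)ᶜ, hpy.isOpen_compl⟩
      have hW : Disjoint (W : Set X) (Zy.support : Set X) := by
        rw [hZy, Scheme.IdealSheafData.coe_support_vanishingIdeal]
        exact disjoint_compl_left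
      have h1 := compl_support_le_isoLocus_twistι Zy hN W hW
      have h2 : isoLocus σ₁ = isoLocus (CurvePt.twistι X Zy N) :=
        isoLocus_comp_of_isIso_left _ _
      have h3 : z ∈ isoLocus σ₁ := by
        rw [h2]
        exact h1 (show z ∈ ({y p₀} : Set X)ᶜ from hzy)
      refine (le_iSup (Groth.Agent.Lib.helper12.ProjUP3.gU σ) (1 : Fin (1 + 1))) ?_
      change z ∈ CohB1.genLocus N σ₁
      rw [genLocus_eq_isoLocus]
      exact h3
    · let W : X.Opens := ⟨({x p₀} : Set X)ᶜ, hpx.isOpen_compl⟩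
      have hW : Disjoint (W : Set X) (Zx.support : Set X) := by
        rw [hZx, Scheme.IdealSheafData.coe_support_vanishingIdeal]
        exact disjoint_compl_left
      have h1 := compl_support_le_isoLocus_twistι Zx hN W hW
      have h2 : isoLocus σ₀ = isoLocus (CurvePt.twistι X Zx N) :=
        isoLocus_comp_of_isIso_left _ _
      have h3 : z ∈ isoLocus σ₀ := by
        rw [h2]
        exact h1 (show z ∈ ({x p₀} : Set X)ᶜ from hz)
      refine (le_iSup (Groth.Agent.Lib.helper12.ProjUP3.gU σ) (0 : Fin (1 + 1))) ?_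
      change z ∈ CohB1.genLocus N σ₀
      rw [genLocus_eq_isoLocus]
      exact h3
  exact Groth.Agent.Lib.Helper18.P1Iso.exists_iso_projSpace_one k X hdim N hdegN σ hcov

end main

end Groth.Agent.Lib.Helper18.TwoPts
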