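import Mathlib
import Groth.Agent.Lib.Helper18.TwoPts
import Groth.Agent.Lib.Helper18.ResDeg

set_option autoImplicit false
set_option linter.style.haveILetI false
universe u
open CategoryTheory CategoryTheory.Limits AlgebraicGeometry Opposite TopologicalSpace Module
open Scheme.Modules

attribute [local instance] Curv2.resAlgebra

namespace Groth.Agent.Lib.Helper18.TwoPts

open Groth.Agent.Lib.Helper18 Groth.Agent.Lib.helper11.IsoLocus Groth.Agent.Lib.helper11.InvMod
open Groth.Agent.Lib.Lead.ModTensor Groth.Agent.Lib.helper9.CurvePunctual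
open Groth.Agent.Lib.helper11.TwistH1

section main

variable (k : Type u) [Field k] (X : Scheme.{u}) [X.Over (Spec (CommRingCat.of k))]
  [IsProper (X ↘ Spec (CommRingCat.of k))] [IsIntegral X]

/-- an integral proper curve with two distinct closed points `P ≠ Q`, `P` of degree one with
invertible ideal, and `I_P ≅ I_Q`, is the projective line -/
theorem exists_iso_of_two_points (hdim : topologicalKrullDim X = 1)
    {P Q : X} (hP : IsClosed ({P} : Set X)) (hQ : IsClosed ({Q} : Set X)) (hne : P ≠ Q)
    (hinv : PicF.IsInvertible (ClSub.idealMod (Scheme.IdealSheafData.vanishingIdeal ⟨{P}, hP⟩)))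
    (hq : finrank k (Coh.HH X (ClSub.quotMod (Scheme.IdealSheafData.vanishingIdeal ⟨{P}, hP⟩)) 0) = 1)
    (φ : ClSub.idealMod (Scheme.IdealSheafData.vanishingIdeal ⟨{P}, hP⟩) ≅
      ClSub.idealMod (Scheme.IdealSheafData.vanishingIdeal ⟨{Q}, hQ⟩)) :
    ∃ e : X ≅ CohB1.ProjSpace 1 k,
      e.hom ≫ CohB1.ProjSpace.toSpec 1 k = X ↘ Spec (CommRingCat.of k) := by
  haveI := Groth.Agent.Lib.Lead.CurveEuler.isNoetherian k X
  set Zx := Scheme.IdealSheafData.vanishingIdeal ⟨{P}, hP⟩ with hZx
  set Zy := Scheme.IdealSheafData.vanishingIdeal ⟨{Q}, hQ⟩ with hZy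
  have hdegI := Groth.Agent.Lib.Helper18.CurvePt.deg_idealMod_point k X hdim.le hP hinv hq
  obtain ⟨N, hN, ⟨e⟩, hNI⟩ := Groth.Agent.Lib.helper12.InvDual.exists_inverse hinv
  have hdegN : Curv2.deg k X N 1 = 1 := by
    have := Groth.Agent.Lib.Lead.VBCurve.deg_add_deg_of_isInverseOf k X hdim.le hinv hN hNI
    linarith
  let σ₀ : Coh.structureModule X ⟶ N := e.inv ≫ CurvePt.twistι X Zx N
  let σ₁ : Coh.structureModule X ⟶ N :=
    (e.inv ≫ (tensorIso φ (Iso.refl N)).hom) ≫ CurvePt.twistι X Zy N
  let σ : Fin (1 + 1) → (Coh.structureModule X ⟶ N) := ![σ₀, σ₁]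
  have hcov : ⨆ i, Groth.Agent.Lib.helper12.ProjUP3.gU σ i = ⊤ := by
    rw [eq_top_iff]
    intro z _
    by_cases hz : z = P
    · have hzy : z ≠ Q := fun h => hne (hz.symm.trans h)
      let W : X.Opens := ⟨({Q} : Set X)ᶜ, hQ.isOpen_compl⟩
      have hW : Disjoint (W : Set X) (Zy.support : Set X) := by
        rw [hZy, Scheme.IdealSheafData.coe_support_vanishingIdeal]
        exact disjoint_compl_left
      have h1 := compl_support_le_isoLocus_twistι Zy hN W hW
      have h2 : isoLocus σ₁ = isoLocus (CurvePt.twistι X Zy N) :=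
        isoLocus_comp_of_isIso_left _ _
      have h3 : z ∈ isoLocus σ₁ := by
        rw [h2]
        exact h1 (show z ∈ ({Q} : Set X)ᶜ from hzy)
      refine (le_iSup (Groth.Agent.Lib.helper12.ProjUP3.gU σ) (1 : Fin (1 + 1))) ?_
      change z ∈ CohB1.genLocus N σ₁
      rw [genLocus_eq_isoLocus]
      exact h3
    · let W : X.Opens := ⟨({P} : Set X)ᶜ, hP.isOpen_compl⟩
      have hW : Disjoint (W : Set X) (Zx.support : Set X) := by
        rw [hZx, Scheme.IdealSheafData.coe_support_vanishingIdeal]
        exact disjoint_compl_left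
      have h1 := compl_support_le_isoLocus_twistι Zx hN W hW
      have h2 : isoLocus σ₀ = isoLocus (CurvePt.twistι X Zx N) :=
        isoLocus_comp_of_isIso_left _ _
      have h3 : z ∈ isoLocus σ₀ := by
        rw [h2]
        exact h1 (show z ∈ ({P} : Set X)ᶜ from hz)
      refine (le_iSup (Groth.Agent.Lib.helper12.ProjUP3.gU σ) (0 : Fin (1 + 1))) ?_
      change z ∈ CohB1.genLocus N σ₀
      rw [genLocus_eq_isoLocus]
      exact h3
  exact Groth.Agent.Lib.Helper18.P1Iso.exists_iso_projSpace_one k X hdim N hdegN σ hcov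

end main

section rat

variable (k : Type u) [Field k] (X : Scheme.{u}) [X.Over (Spec (CommRingCat.of k))]

/-- a point is rational iff its residue field has degree one -/
theorem bijective_resMap_iff (y : X) :
    Function.Bijective (Curv2.resMap k X y) ↔ finrank k (X.residueField y) = 1 := by
  constructor
  · intro h
    have e : k ≃ₗ[k] X.residueField y := LinearEquiv.ofBijective (Algebra.linearMap k _) h
    rw [← e.finrank_eq, finrank_self]
  · intro h
    exact Groth.Agent.Lib.Helper18.P1Iso.bijective_of_finrank_eq_one (Field.toIsField k)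
      (Field.toIsField _) (Curv2.resMap k X y) h

end rat

end Groth.Agent.Lib.Helper18.TwoPts
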