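import Mathlib
import Groth.Agent.Lib.Helper18.TwoPts2
import Groth.Agent.Lib.Helper18.TwoSec
import Groth.Agent.Lib.Helper18.P1Euler
import Groth.Agent.Lib.Lead.CurveSec
import Groth.Agent.Lib.Helper18.H0One

set_option autoImplicit false
set_option linter.style.haveILetI false
universe u
open CategoryTheory CategoryTheory.Limits AlgebraicGeometry Opposite TopologicalSpace Module
open Scheme.Modules

attribute [local instance] Curv2.resAlgebra

namespace Groth.Agent.Lib.Helper18.GenusOne

open Groth.Agent.Lib.Helper18 Groth.Agent.Lib.helper11.IsoLocus Groth.Agent.Lib.helper11.InvMod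
open Groth.Agent.Lib.Lead.ModTensor Groth.Agent.Lib.helper9.CurvePunctual
open Groth.Agent.Lib.helper9.CurveVanish Groth.Agent.Lib.helper9.CurveTwist
open Groth.Agent.Lib.helper7 Groth.Agent.Lib.helper11.TwistH1
open Groth.Agent.Lib.Lead.CurveInv Groth.Agent.Lib.Lead.CurveEuler

variable (k : Type u) [Field k] (X : Scheme.{u}) [X.Over (Spec (CommRingCat.of k))]
  [IsProper (X ↘ Spec (CommRingCat.of k))] [IsIntegral X]

/-- on a curve with `χ(O) = 0`, `h⁰(O) = 1` and PID local rings, every invertible module of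
degree one is `O(y)` for a closed point `y` of degree one -/
theorem exists_point_of_deg_one (hdim : topologicalKrullDim X = 1)
    (h0 : finrank k (Coh.HH X (Coh.structureModule X) 0) = 1) (hg : Curv2.genus k X = 1)
    {M : X.Modules} (hM : PicF.IsInvertible M) (hdeg : Curv2.deg k X M 1 = 1) :
    ∃ (y : X) (hy : IsClosed ({y} : Set X)),
      finrank k (X.residueField y) = 1 ∧
      Nonempty (CohB1.tensorMod (ClSub.idealMod (Scheme.IdealSheafData.vanishingIdeal ⟨{y}, hy⟩)) M ≅
        Coh.structureModule X) := by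
  haveI := Groth.Agent.Lib.Lead.CurveEuler.isNoetherian k X
  have hO := isInvertible_structureModule X
  have hOc := isCoh_of_isInvertible X hO
  have hMc := isCoh_of_isInvertible X hM
  have hg' : finrank k (Coh.HH X (Coh.structureModule X) 1) = 1 := hg
  have heO := euler_eq k X hdim.le (Coh.structureModule X) hOc.1
  rw [h0, hg'] at heO
  have hχO : Curv2.euler k X (Coh.structureModule X) = 0 := by rw [heO]; norm_num
  have hd : Curv2.deg k X M 1 = Curv2.euler k X M - 1 * Curv2.euler k X (Coh.structureModule X) :=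
    rfl
  have hχM : Curv2.euler k X M = 1 := by rw [hχO, hdeg] at hd; linarith
  have hH1 : Subsingleton (Coh.HH X M 1) :=
    subsingleton_H1_of_deg_ge k X hdim.le h0 hM (by rw [hg, hdeg]; norm_num)
  have heM := euler_eq k X hdim.le M hMc.1
  have h1' : finrank k (Coh.HH X M 1) = 0 := (Module.finrank_zero_iff (R := k)).mpr hH1
  rw [hχM, h1'] at heM
  have h0M : finrank k (Coh.HH X M 0) = 1 := by
    have : (finrank k (Coh.HH X M 0) : ℤ) = 1 := by push_cast at heM; linarith
    exact_mod_cast this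
  obtain ⟨s, hs⟩ := Groth.Agent.Lib.Lead.CurveSec.exists_hom_ne_zero_of_finrank_pos k X M (by omega)
  have hne := isoLocus_nonempty X hO hM s hs
  have hntop : isoLocus s ≠ ⊤ := by
    intro htop
    haveI : IsIso s := (isoLocus_eq_top_iff s).mp htop
    have := deg_eq_of_iso k X (asIso s) 1
    rw [deg_structureModule, hdeg] at this
    norm_num at this
  obtain ⟨y, hys⟩ : ∃ y : X, y ∉ isoLocus s := by
    by_contra h
    push Not at h
    exact hntop (eq_top_iff.mpr fun x _ => h x)
  have hy : IsClosed ({y} : Set X) := isClosed_singleton_of_not_mem hdim.le (isoLocus s) hne y hys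
  refine ⟨y, hy, ?_⟩
  set Z := Scheme.IdealSheafData.vanishingIdeal ⟨{y}, hy⟩ with hZdef
  have hZ : topologicalKrullDim (Z.support : Set X) ≤ 0 :=
    Groth.Agent.Lib.helper9.CurveGG.dim_support_vanishingIdeal_le X hy
  obtain ⟨hFc, heul, -⟩ := idealTwist_main k X hdim.le M hM Z hZ
  obtain ⟨s', hs'⟩ := TwoSec.exists_factor hM s hy hys
  haveI : Mono (ClSub.idealModι Z) := IdealMod.mono_idealModι Z
  haveI hφmono : Mono (tensorMap (ClSub.idealModι Z) (𝟙 M)) := mono_tensorMap_left _ hM
  let j : CohB1.tensorMod (ClSub.idealMod Z) M ⟶ M :=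
    tensorMap (ClSub.idealModι Z) (𝟙 M) ≫ (leftUnitor M).hom
  haveI : Mono j := mono_comp _ _
  have hs'0 : s' ≠ 0 := by
    intro h0
    apply hs
    rw [← hs', h0, zero_comp]
  have hpos := Groth.Agent.Lib.helper9.CurveGG.finrank_H0_quotMod_pos k X hy
  have hχ : Curv2.euler k X (CohB1.tensorMod (ClSub.idealMod Z) M) ≤
      Curv2.euler k X (Coh.structureModule X) := by
    rw [heul, hχM, hχO]
    have h2 : (1 : ℤ) ≤ (finrank k (Coh.HH X (ClSub.quotMod Z) 0) : ℤ) := by exact_mod_cast hpos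
    linarith
  haveI : IsIso s' := TwoSec.isIso_of_euler_le k X hdim.le hFc hM j s' hs'0 hχ
  have hχeq := euler_eq_of_iso k X (asIso s')
  rw [heul, hχM, hχO] at hχeq
  constructor
  · rw [← ResDeg.finrank_H0_quotMod_eq_finrank_residueField k X hy]
    have : (finrank k (Coh.HH X (ClSub.quotMod Z) 0) : ℤ) = 1 := by linarith
    exact_mod_cast this
  · exact ⟨(asIso s').symm⟩

include k in
/-- the ideal of a closed point with PID local ring on an integral curve is invertible -/
theorem isInvertible_idealMod_of_pid (hdim : topologicalKrullDim X = 1) {y : X}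
    (hy : IsClosed ({y} : Set X)) (hpid : IsPrincipalIdealRing (X.presheaf.stalk y)) :
    PicF.IsInvertible (ClSub.idealMod (Scheme.IdealSheafData.vanishingIdeal ⟨{y}, hy⟩)) := by
  haveI := Groth.Agent.Lib.Lead.CurveEuler.isNoetherian k X
  have hgen := Groth.Agent.Lib.Helper18.CurvePt.ne_genericPoint_of_isClosed hdim hy
  obtain ⟨t, ht⟩ := (hpid.principal (IsLocalRing.maximalIdeal (X.presheaf.stalk y))).principal
  have ht0 : t ≠ 0 := by
    rintro rfl
    apply Groth.Agent.Lib.Helper18.RegPoint.maximalIdeal_stalk_ne_bot hy hgen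
    rw [ht]
    simp
  obtain ⟨_, hinv⟩ := Groth.Agent.Lib.Helper18.CurvePt.goodPt_of_uniformizer hy t ht0 ht
  exact hinv

/-- **genus one**: with a rational point `O`, every invertible module of degree zero is
`O(P - O)` for a unique rational point `P` -/
theorem existsUnique_point (hdim : topologicalKrullDim X = 1) (hg : Curv2.genus k X = 1)
    (hpid : ∀ x : X, IsPrincipalIdealRing (X.presheaf.stalk x))
    (O : X) (hOc : IsClosed ({O} : Set X)) (hO : Function.Bijective (Curv2.resMap k X O))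
    (L : X.Modules) (hL : PicF.IsInvertible L) (hdeg : Curv2.deg k X L 1 = 0) :
    ∃! P : {x : X // IsClosed ({x} : Set X) ∧ Function.Bijective (Curv2.resMap k X x)},
      Nonempty (CohB1.tensorMod L
        (ClSub.idealMod (Scheme.IdealSheafData.vanishingIdeal ⟨{P.1}, P.2.1⟩)) ≅
          ClSub.idealMod (Scheme.IdealSheafData.vanishingIdeal ⟨{O}, hOc⟩)) := by
  haveI := Groth.Agent.Lib.Lead.CurveEuler.isNoetherian k X
  have hOr := (TwoPts.bijective_resMap_iff k X O).mp hO
  have hinvO := isInvertible_idealMod_of_pid k X hdim hOc (hpid O)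
  have hqO : finrank k (Coh.HH X (ClSub.quotMod (Scheme.IdealSheafData.vanishingIdeal ⟨{O}, hOc⟩)) 0)
      = 1 := (ResDeg.finrank_H0_quotMod_eq_finrank_residueField k X hOc).trans hOr
  have h0 := Groth.Agent.Lib.Helper18.H0One.finrank_H0_eq_one_of_finrank_HH_eq_one k X _ 0 hqO
  have hdegI := Groth.Agent.Lib.Helper18.CurvePt.deg_idealMod_point k X hdim.le hOc hinvO hqO
  obtain ⟨N, hN, hIN, hNI⟩ := Groth.Agent.Lib.helper12.InvDual.exists_inverse hinvO
  have hdegN : Curv2.deg k X N 1 = 1 := by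
    have := Groth.Agent.Lib.Lead.VBCurve.deg_add_deg_of_isInverseOf k X hdim.le hinvO hN hNI
    linarith
  have hM : PicF.IsInvertible (CohB1.tensorMod L N) :=
    Groth.Agent.Lib.helper12.TensorInv.isInvertible_tensorMod hL hN
  have hdegM : Curv2.deg k X (CohB1.tensorMod L N) 1 = 1 := by
    rw [Groth.Agent.Lib.helper9.CurveDegAdd.deg_tensorMod k X hdim.le hL hN, hdeg, hdegN]
    norm_num
  obtain ⟨y, hy, hyr, ⟨ε⟩⟩ := exists_point_of_deg_one k X hdim h0 hg hM hdegM
  -- `I_P ⊗ (L ⊗ N) ≅ O` implies `L ⊗ I_P ≅ I_O`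
  have key : ∀ (Q : X) (hQ : IsClosed ({Q} : Set X)),
      ClSub.IsInverseOf (ClSub.idealMod (Scheme.IdealSheafData.vanishingIdeal ⟨{Q}, hQ⟩))
        (CohB1.tensorMod L N) ↔
      Nonempty (CohB1.tensorMod L
        (ClSub.idealMod (Scheme.IdealSheafData.vanishingIdeal ⟨{Q}, hQ⟩)) ≅
          ClSub.idealMod (Scheme.IdealSheafData.vanishingIdeal ⟨{O}, hOc⟩)) := by
    intro Q hQ
    set IQ := ClSub.idealMod (Scheme.IdealSheafData.vanishingIdeal ⟨{Q}, hQ⟩)
    set IO := ClSub.idealMod (Scheme.IdealSheafData.vanishingIdeal ⟨{O}, hOc⟩)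
    constructor
    · rintro ⟨ε'⟩
      have h1 : ClSub.IsInverseOf N (CohB1.tensorMod L IQ) :=
        ⟨braid N (CohB1.tensorMod L IQ) ≪≫ tensorIso (braid L IQ) (Iso.refl N) ≪≫
          assoc IQ L N ≪≫ ε'⟩
      obtain ⟨i⟩ := isInverseOf_unique hNI h1
      exact ⟨i.symm⟩
    · rintro ⟨ψ⟩
      obtain ⟨εO⟩ := hIN
      exact ⟨(assoc IQ L N).symm ≪≫ tensorIso (braid IQ L) (Iso.refl N) ≪≫
        tensorIso ψ (Iso.refl N) ≪≫ εO⟩
  refine ⟨⟨y, hy, (TwoPts.bijective_resMap_iff k X y).mpr hyr⟩, (key y hy).mp ⟨ε⟩, ?_⟩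
  rintro ⟨Q, hQc, hQr⟩ hQ
  apply Subtype.ext
  change Q = y
  by_contra hne
  have hεQ := (key Q hQc).mpr hQ
  obtain ⟨φ⟩ := isInverseOf_unique (isInverseOf_symm ⟨ε⟩) (isInverseOf_symm hεQ)
  have hinvy := isInvertible_idealMod_of_pid k X hdim hy (hpid y)
  have hqy : finrank k (Coh.HH X (ClSub.quotMod (Scheme.IdealSheafData.vanishingIdeal ⟨{y}, hy⟩)) 0)
      = 1 := (ResDeg.finrank_H0_quotMod_eq_finrank_residueField k X hy).trans hyr
  obtain ⟨e, he⟩ := TwoPts.exists_iso_of_two_points k X hdim hy hQc (fun h => hne h.symm) hinvy hqy φ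
  have hsub := P1Euler.subsingleton_HH_structureModule_of_isIso e.hom 1
    (P1Euler.subsingleton_HH_projSpace k 1 1 le_rfl)
  have h1 : finrank k (Coh.HH X (Coh.structureModule X) 1) = 0 :=
    (Module.finrank_zero_iff (R := k)).mpr hsub
  have hg' : finrank k (Coh.HH X (Coh.structureModule X) 1) = 1 := hg
  omega

end Groth.Agent.Lib.Helper18.GenusOne
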