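import Mathlib
import Groth.Agent.Lib.Helper18.GenusZeroPts

/-!
# Genus-zero curves over an infinite field: divisibility of degrees (helper18)

* `nonempty_iso_structureModule_of_deg_eq_zero`: genus zero, `deg M = 0` ⇒ `M ≅ O`.
* `dvd_deg_of_minimal`: the degree of a regular closed point of minimal degree divides the degree of every invertible
  module (`k` infinite).
-/

set_option autoImplicit false
set_option linter.style.haveILetI false
universe u
open CategoryTheory CategoryTheory.Limits AlgebraicGeometry Opposite TopologicalSpace Module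
open Scheme.Modules

namespace Groth.Agent.Lib.Helper18.GenusZeroPts

open Groth.Agent.Lib.Helper18 Groth.Agent.Lib.helper11.IsoLocus Groth.Agent.Lib.helper11.InvMod
open Groth.Agent.Lib.helper9.CurveGG
open Groth.Agent.Lib.Lead.CurveInv Groth.Agent.Lib.Lead.CurveEuler Groth.Agent.Lib.Lead.CurveSec

section curve

variable (k : Type u) [Field k] (X : Scheme.{u}) [X.Over (Spec (CommRingCat.of k))]
  [IsProper (X ↘ Spec (CommRingCat.of k))] [IsIntegral X]

/-- genus zero: an invertible module of degree zero is trivial -/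
theorem nonempty_iso_structureModule_of_deg_eq_zero (hdim : topologicalKrullDim X ≤ 1)
    (h1 : Subsingleton (Coh.HH X (Coh.structureModule X) 1))
    {M : X.Modules} (hM : PicF.IsInvertible M) (hdeg : Curv2.deg k X M 1 = 0) :
    Nonempty (M ≅ Coh.structureModule X) := by
  have hO := isInvertible_structureModule X
  obtain ⟨-, h0⟩ := h1_h0_of_deg_nonneg k X hdim h1 hM hdeg.ge
  have hpos0 := finrank_H0_structureModule_pos k X
  have hpos : 0 < finrank k (Coh.HH X M 0) := by
    have : (0 : ℤ) < (finrank k (Coh.HH X M 0) : ℤ) := by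
      have : (0 : ℤ) < (finrank k (Coh.HH X (Coh.structureModule X) 0) : ℤ) := by exact_mod_cast hpos0
      linarith
    exact_mod_cast this
  obtain ⟨s, hs⟩ := exists_hom_ne_zero_of_finrank_pos k X M hpos
  haveI := isIso_of_deg_eq k X hdim hO hM s hs (by rw [deg_structureModule k X, hdeg])
  exact ⟨(asIso s).symm⟩

/-- genus zero, `k` infinite: the degree of a regular closed point of minimal degree divides the degree of every
invertible module -/
theorem dvd_deg_of_minimal [Infinite k] (hdim : topologicalKrullDim X = 1)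
    (h1 : Subsingleton (Coh.HH X (Coh.structureModule X) 1))
    {P : X} (hPc : IsClosed ({P} : Set X)) (hPreg : IsRegularLocalRing (X.presheaf.stalk P))
    (hmin : ∀ (Q : X) (hQc : IsClosed ({Q} : Set X)), IsRegularLocalRing (X.presheaf.stalk Q) →
      finrank k (Coh.HH X (ClSub.quotMod (Scheme.IdealSheafData.vanishingIdeal ⟨{P}, hPc⟩)) 0) ≤
        finrank k (Coh.HH X (ClSub.quotMod (Scheme.IdealSheafData.vanishingIdeal ⟨{Q}, hQc⟩)) 0))
    {M : X.Modules} (hM : PicF.IsInvertible M) :
    (finrank k (Coh.HH X (ClSub.quotMod (Scheme.IdealSheafData.vanishingIdeal ⟨{P}, hPc⟩)) 0) : ℤ) ∣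
      Curv2.deg k X M 1 := by
  set d := finrank k (Coh.HH X (ClSub.quotMod (Scheme.IdealSheafData.vanishingIdeal ⟨{P}, hPc⟩)) 0)
    with hddef
  have hdpos : 0 < d := finrank_H0_quotMod_pos k X hPc
  have hinv := isInvertible_idealMod_of_regular k X hdim hPc hPreg
  have hdegI := deg_idealMod_eq_neg k X hdim.le hPc hinv
  let D := Groth.Agent.Lib.Helper18.ResDeg.degSubgroup k X hdim.le
  have hmD : Curv2.deg k X M 1 ∈ D := ⟨M, hM, rfl⟩
  have hdD : -(d : ℤ) ∈ D := ⟨_, hinv, hdegI⟩
  set m := Curv2.deg k X M 1 with hmdef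
  have hrD : m % (d : ℤ) ∈ D := by
    have h2 : m % (d : ℤ) = m + (m / (d : ℤ)) • (-(d : ℤ)) := by
      rw [smul_eq_mul, Int.emod_def]
      ring
    rw [h2]
    exact D.add_mem hmD (D.zsmul_mem hdD _)
  have hd0 : (d : ℤ) ≠ 0 := by exact_mod_cast hdpos.ne'
  have hr_nonneg : 0 ≤ m % (d : ℤ) := Int.emod_nonneg m hd0
  have hr_lt : m % (d : ℤ) < d := Int.emod_lt_of_pos m (by exact_mod_cast hdpos)
  rcases hr_nonneg.eq_or_lt with hr0 | hrpos
  · exact Int.dvd_of_emod_eq_zero hr0.symm
  · exfalso
    obtain ⟨N, hN, hNdeg⟩ := hrD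
    obtain ⟨Q, hQc, -, hQreg, hQle⟩ := exists_regular_closedPoint_deg_le k X hdim h1 hN
      (by rw [hNdeg]; exact hrpos) ∅ (fun y hy => absurd hy (Finset.notMem_empty y))
    have h3 := hmin Q hQc hQreg
    rw [hNdeg] at hQle
    have h4 : (d : ℤ) ≤ (finrank k (Coh.HH X (ClSub.quotMod
        (Scheme.IdealSheafData.vanishingIdeal ⟨{Q}, hQc⟩)) 0) : ℤ) := by exact_mod_cast h3
    linarith

end curve

end Groth.Agent.Lib.Helper18.GenusZeroPts
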