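import Mathlib
import Groth.Agent.S7673
import Groth.Agent.S14512
import Groth.Agent.Lib.Helper17.FieldBCDim
import Groth.Agent.Lib.Helper9.CurveVanish
import Groth.Agent.Lib.Helper19.ProjSpaceProper

set_option autoImplicit false
universe u
open CategoryTheory CategoryTheory.Limits AlgebraicGeometry

namespace Groth.Agent.Lib.Helper18.GeomGenusZero

open Groth.Agent.Lib.Helper18 Module

variable (k : Type u) [Field k] (X : Scheme.{u}) [X.Over (Spec (CommRingCat.of k))]
  [IsProper (X ↘ Spec (CommRingCat.of k))] [GeometricallyIntegral (X ↘ Spec (CommRingCat.of k))]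

/-- a geometrically integral proper curve over `k` with `χ(O) ≥ 1` is smooth -/
theorem smooth_of_euler_pos (hdim : topologicalKrullDim X = 1)
    (hpa : 1 ≤ Curv2.euler k X (Coh.structureModule X)) :
    Smooth (X ↘ Spec (CommRingCat.of k)) := by
  let K : Type u := AlgebraicClosure k
  let X' : Scheme.{u} := Curv2.bc k X K
  letI : X'.Over (Spec (CommRingCat.of K)) := ⟨Curv2.bcSnd k X K⟩
  haveI : IsProper (X' ↘ Spec (CommRingCat.of K)) :=
    inferInstanceAs (IsProper (pullback.snd (X ↘ Spec (CommRingCat.of k))
      (Spec.map (CommRingCat.ofHom (algebraMap k K)))))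
  haveI : IsIntegral X' :=
    GeometricallyIntegral.geometrically_isIntegral _ _ _ (IsPullback.of_hasPullback _ _)
  have hdim' : topologicalKrullDim X' = 1 := by
    rw [← hdim]
    exact Groth.Agent.Lib.helper17.FieldBCDim.topologicalKrullDim_eq_of_isPullback
      (k := CommRingCat.of k) (K := CommRingCat.of K) (Field.toIsField k) (Field.toIsField K)
      (CommRingCat.ofHom (algebraMap k K)) (X ↘ Spec (CommRingCat.of k))
      (Curv2.bcSnd k X K) (Curv2.bcFst k X K) (IsPullback.of_hasPullback _ _).flip
  -- Euler characteristic of the structure sheaf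
  have hOc : Coh.IsCoh (Coh.structureModule X) :=
    Groth.Agent.Lib.Lead.CurveInv.isCoh_of_isInvertible X
      (Groth.Agent.Lib.helper11.InvMod.isInvertible_structureModule X)
  have hOc' : Coh.IsCoh (Coh.structureModule X') :=
    Groth.Agent.Lib.Lead.CurveInv.isCoh_of_isInvertible X'
      (Groth.Agent.Lib.helper11.InvMod.isInvertible_structureModule X')
  have h2 := Groth.Agent.S7673.result k X K (Coh.structureModule X) hOc
  have h3 := Groth.Agent.Lib.Lead.CurveEuler.euler_eq_of_iso K X'
    (Groth.Agent.Lib.helper11.InvMod.pullbackUnitIso (Curv2.bcFst k X K))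
  have hχ : Curv2.euler K X' (Coh.structureModule X') = Curv2.euler k X (Coh.structureModule X) :=
    h3.symm.trans h2
  have h0 : finrank K (Coh.HH X' (Coh.structureModule X') 0) = 1 :=
    Groth.Agent.Lib.helper9.CurveVanish.finrank_H0_structureModule_eq_one K X'
  have he := Groth.Agent.Lib.Lead.CurveEuler.euler_eq K X' hdim'.le (Coh.structureModule X') hOc'.1
  have hg : Curv2.genus K X' = 0 := by
    have : (finrank K (Coh.HH X' (Coh.structureModule X') 1) : ℤ) = 0 := by
      rw [h0] at he
      have h1 : (0 : ℤ) ≤ (finrank K (Coh.HH X' (Coh.structureModule X') 1) : ℤ) :=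
        Int.natCast_nonneg _
      rw [hχ] at he
      push_cast at he
      linarith
    exact_mod_cast this
  have hsm : Smooth (X' ↘ Spec (CommRingCat.of K)) := Groth.Agent.S14512.result K X' hdim' hg
  -- descent
  have hQ : (@Surjective ⊓ @Flat ⊓ @QuasiCompact : MorphismProperty Scheme.{u})
      (Spec.map (CommRingCat.ofHom (algebraMap k K))) := by
    refine ⟨⟨?_, ?_⟩, inferInstance⟩
    · exact Groth.Agent.Lib.helper17.FieldBCDim.surjective_specMap_of_isField
        (k := CommRingCat.of k) (K := CommRingCat.of K) (Field.toIsField k)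
        (CommRingCat.ofHom (algebraMap k K))
    · rw [HasRingHomProperty.Spec_iff (P := @Flat)]
      exact (RingHom.flat_algebraMap_iff).mpr inferInstance
  exact MorphismProperty.of_pullback_snd_of_descendsAlong (P := @Smooth)
    (Q := (@Surjective ⊓ @Flat ⊓ @QuasiCompact : MorphismProperty Scheme.{u})) hQ hsm

end Groth.Agent.Lib.Helper18.GeomGenusZero
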