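import Mathlib
import Groth.Agent.Lib.Helper18.HHZero
import Groth.Agent.Lib.Helper13.Normal10

/-!
# Schemes over a field with `h⁰(O) = 1`: global functions form a field; connectedness (helper18)

* `isUnit_of_ne_zero`: if `dim_k H⁰(X, O_X) = 1`, every nonzero global function is a unit.
* `isDomain_sections_top`, `connectedSpace_of_finrank_H0_eq_one`.
-/

set_option autoImplicit false
set_option linter.style.haveILetI false
universe u
open CategoryTheory CategoryTheory.Limits AlgebraicGeometry Opposite TopologicalSpace Module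

namespace Groth.Agent.Lib.Helper18.H0Field

variable (k : Type u) [Field k] (X : Scheme.{u}) [X.Over (Spec (CommRingCat.of k))]

theorem nontrivial_sections_top (h0 : finrank k (Coh.HH X (Coh.structureModule X) 0) = 1) :
    Nontrivial Γ(X, ⊤) := by
  haveI : Nontrivial (Coh.HH X (Coh.structureModule X) 0) :=
    Module.nontrivial_of_finrank_pos (R := k) (by omega)
  exact (HH.equiv₀ (Coh.structureModule X)).symm.toEquiv.nontrivial

/-- every global function is a scalar -/
theorem exists_toGlobal_eq (h0 : finrank k (Coh.HH X (Coh.structureModule X) 0) = 1) (β : Γ(X, ⊤)) :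
    ∃ c : k, Coh.toGlobal (X ↘ Spec (CommRingCat.of k)) c = β := by
  let φ : k →+* Γ(X, ⊤) := Coh.toGlobal (X ↘ Spec (CommRingCat.of k))
  letI alg : Algebra k Γ(X, ⊤) := φ.toAlgebra
  let e' : Coh.HH X (Coh.structureModule X) 0 ≃ₗ[k] Γ(X, ⊤) :=
    { (HH.equiv₀ (Coh.structureModule X)).toAddEquiv with
      map_smul' := fun a x => (HH.equiv₀ (Coh.structureModule X)).map_smul (φ a) x }
  haveI := nontrivial_sections_top k X h0
  have h1 : finrank k Γ(X, ⊤) = 1 := by rw [← e'.finrank_eq, h0]
  have h2 : (⊥ : Subalgebra k Γ(X, ⊤)) = ⊤ := Subalgebra.bot_eq_top_of_finrank_eq_one h1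
  have h3 : β ∈ (⊥ : Subalgebra k Γ(X, ⊤)) := by rw [h2]; exact Algebra.mem_top
  obtain ⟨c, hc⟩ := Algebra.mem_bot.mp h3
  exact ⟨c, hc⟩

/-- every nonzero global function is a unit -/
theorem isUnit_of_ne_zero (h0 : finrank k (Coh.HH X (Coh.structureModule X) 0) = 1) (β : Γ(X, ⊤))
    (hβ : β ≠ 0) : IsUnit β := by
  obtain ⟨c, rfl⟩ := exists_toGlobal_eq k X h0 β
  have hc : c ≠ 0 := by
    rintro rfl
    exact hβ (map_zero _)
  exact (IsUnit.mk0 c hc).map _

theorem isDomain_sections_top (h0 : finrank k (Coh.HH X (Coh.structureModule X) 0) = 1) :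
    IsDomain Γ(X, ⊤) := by
  haveI := nontrivial_sections_top k X h0
  haveI : NoZeroDivisors Γ(X, ⊤) := ⟨fun {a b} hab => by
    by_cases ha : a = 0
    · exact Or.inl ha
    · right
      obtain ⟨u, rfl⟩ := isUnit_of_ne_zero k X h0 a ha
      exact u.mul_right_eq_zero.mp hab⟩
  exact NoZeroDivisors.to_isDomain _

theorem connectedSpace_of_finrank_H0_eq_one
    (h0 : finrank k (Coh.HH X (Coh.structureModule X) 0) = 1) : ConnectedSpace X := by
  haveI := isDomain_sections_top k X h0
  exact Groth.Agent.Lib.helper13.Normal.connectedSpace_of_isDomain X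

end Groth.Agent.Lib.Helper18.H0Field
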