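import Mathlib
import Groth.Agent.Lib.Lead.DimOneAffine
import Groth.Agent.Lib.Helper18.AbsCurveDiv

/-!
# The map to the scheme-theoretic image is an isomorphism where the morphism is a closed immersion (helper18)

* `isSchemeTheoreticallyDominant_toImage`: `f.toImage` is scheme-theoretically dominant (`f` quasi-compact).
* `isIso_toImage_morphismRestrict`: if `f ∣_ V` is a closed immersion then `f.toImage ∣_ (f.imageι ⁻¹ᵁ V)` is an isomorphism.
* `discreteTopology_compl_of_dense`: the complement of a dense open of a Noetherian scheme of dimension `≤ 1` is discrete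
  (a finite set of closed points: `finite_compl_of_dense`, `isClosed_singleton_of_not_mem_dense`).
-/

set_option autoImplicit false
universe u
open CategoryTheory CategoryTheory.Limits AlgebraicGeometry TopologicalSpace Opposite

namespace Groth.Agent.Lib.Helper18.ImageIso

variable {X Y : Scheme.{u}}

theorem isSchemeTheoreticallyDominant_toImage (f : X ⟶ Y) [QuasiCompact f] :
    IsSchemeTheoreticallyDominant f.toImage := by
  rw [isSchemeTheoreticallyDominant_iff]
  refine Scheme.IdealSheafData.ext_of_iSup_eq_top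
    (fun U : Y.affineOpens => (⟨f.imageι ⁻¹ᵁ U.1, U.2.preimage f.imageι⟩ : f.image.affineOpens)) ?_ ?_
  · rw [eq_top_iff]
    intro z _
    obtain ⟨_, ⟨U, hU, rfl⟩, hxU, -⟩ :=
      Y.isBasis_affineOpens.exists_subset_of_mem_open (Set.mem_univ (f.imageι z)) isOpen_univ
    exact TopologicalSpace.Opens.mem_iSup.2 ⟨⟨U, hU⟩, hxU⟩
  · intro U
    rw [Scheme.Hom.ker_apply, Scheme.IdealSheafData.ideal_bot]
    exact (RingHom.injective_iff_ker_eq_bot _).1 (f.toImage_app_injective U)

theorem isClosedImmersion_morphismRestrict_of_eq {A B : Scheme.{u}} {a b : A ⟶ B} (h : a = b) (U : B.Opens)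
    (hb : IsClosedImmersion (b ∣_ U)) : IsClosedImmersion (a ∣_ U) := by
  subst h
  exact hb

/-- **the map to the scheme-theoretic image is an isomorphism over the locus where `f` is a closed immersion** -/
theorem isIso_toImage_morphismRestrict (f : X ⟶ Y) [QuasiCompact f] (V : Y.Opens)
    (hfV : IsClosedImmersion (f ∣_ V)) : IsIso (f.toImage ∣_ (f.imageι ⁻¹ᵁ V)) := by
  have h1 : IsClosedImmersion ((f.toImage ≫ f.imageι) ∣_ V) :=
    isClosedImmersion_morphismRestrict_of_eq f.toImage_imageι V hfV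
  rw [morphismRestrict_comp] at h1
  haveI : IsClosedImmersion (f.toImage ∣_ (f.imageι ⁻¹ᵁ V)) :=
    @IsClosedImmersion.of_comp _ _ _ (f.toImage ∣_ (f.imageι ⁻¹ᵁ V)) (f.imageι ∣_ V) h1 inferInstance
  haveI := isSchemeTheoreticallyDominant_toImage f
  haveI : IsSchemeTheoreticallyDominant (f.toImage ∣_ (f.imageι ⁻¹ᵁ V)) :=
    IsSchemeTheoreticallyDominant.of_isPullback (isPullback_morphismRestrict f.toImage (f.imageι ⁻¹ᵁ V)).flip
  exact IsClosedImmersion.isIso_iff_ker_eq_bot.mpr (Scheme.Hom.ker_eq_bot _)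

open Groth.Agent.Lib.Lead.DimOneAffine in
/-- a generic point lies in every dense open -/
theorem mem_of_isGen_of_dense [NoetherianSpace Y] (V : Y.Opens) (hV : Dense (V : Set Y)) (η : Y)
    (hη : IsGen Y η) : η ∈ V := by
  have hfin : (irreducibleComponents Y).Finite := NoetherianSpace.finite_irreducibleComponents
  let T : Set Y := closure {η}
  have hclosed : IsClosed (⋃₀ ((irreducibleComponents Y) \ {T})) := by
    rw [Set.sUnion_eq_biUnion]
    exact Set.Finite.isClosed_biUnion (hfin.subset Set.sdiff_subset)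
      (fun s hs => isClosed_of_mem_irreducibleComponents s hs.1)
  have hηW : η ∈ (⋃₀ ((irreducibleComponents Y) \ {T}))ᶜ := by
    rintro ⟨T', ⟨hT', hne⟩, hηT'⟩
    apply hne
    have hsub : T ⊆ T' :=
      (isClosed_of_mem_irreducibleComponents T' hT').closure_subset_iff.mpr
        (Set.singleton_subset_iff.mpr hηT')
    exact (hη.2 hT'.1 hsub).antisymm hsub |>.symm ▸ rfl
  obtain ⟨v, hvW, hvV⟩ := hV.inter_open_nonempty _ hclosed.isOpen_compl ⟨η, hηW⟩
  have hv0 : v ∈ ⋃₀ irreducibleComponents Y := by rw [sUnion_irreducibleComponents]; trivial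
  obtain ⟨T'', hT'', hvT''⟩ := hv0
  have hT''T : T'' = T := by
    by_contra h
    exact hvW ⟨T'', ⟨hT'', h⟩, hvT''⟩
  have hsp : η ⤳ v := by
    rw [specializes_iff_mem_closure]
    rw [hT''T] at hvT''
    exact hvT''
  exact hsp.mem_open V.isOpen hvV

open Groth.Agent.Lib.Lead.DimOneAffine in
theorem isClosed_singleton_of_not_mem_dense [NoetherianSpace Y] (hdim : topologicalKrullDim Y ≤ 1)
    (V : Y.Opens) (hV : Dense (V : Set Y)) (y : Y) (hy : y ∉ V) : IsClosed ({y} : Set Y) :=
  isClosed_singleton_of_dim_le_one Y hdim y (fun hg => hy (mem_of_isGen_of_dense V hV y hg))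

theorem finite_compl_of_dense [NoetherianSpace Y] (hdim : topologicalKrullDim Y ≤ 1)
    (V : Y.Opens) (hV : Dense (V : Set Y)) : ((V : Set Y)ᶜ).Finite := by
  have h := Groth.Agent.Lib.Helper18.AbsCurveDiv.finite_inter_of_forall_isClosed_singleton
    ((V : Set Y)ᶜ) Set.univ V.isOpen.isClosed_compl isOpen_univ
    (fun y hy => isClosed_singleton_of_not_mem_dense hdim V hV y hy.1)
  rwa [Set.inter_univ] at h

theorem discreteTopology_compl_of_dense [NoetherianSpace Y] (hdim : topologicalKrullDim Y ≤ 1)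
    (V : Y.Opens) (hV : Dense (V : Set Y)) : DiscreteTopology ↥((V : Set Y)ᶜ) := by
  haveI : Finite ↥((V : Set Y)ᶜ) := (finite_compl_of_dense hdim V hV).to_subtype
  haveI : T1Space ↥((V : Set Y)ᶜ) := by
    refine ⟨fun y => ?_⟩
    have h1 := (isClosed_singleton_of_not_mem_dense hdim V hV y.1 y.2).preimage
      (continuous_subtype_val (p := fun y => y ∈ (V : Set Y)ᶜ))
    have h2 : (Subtype.val ⁻¹' {y.1} : Set ↥((V : Set Y)ᶜ)) = {y} := by
      ext z
      exact ⟨fun hz => Subtype.ext hz, fun hz => by rw [hz]; rfl⟩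
    rw [h2] at h1
    exact h1
  exact inferInstance

end Groth.Agent.Lib.Helper18.ImageIso
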