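import Mathlib
import Groth.Agent.Lib.Helper8.LocalFlat

universe u

open TensorProduct

namespace Groth.Agent.Lib.Helper18.InfNbhd

/-- Transport of flatness of a base change along a surjection `A → A'` with kernel `K` to the
literal quotient `A ⧸ K`. -/
theorem flat_quotient_tensor_of_surjective {A A' M : Type u} [CommRing A] [CommRing A']
    [Algebra A A'] [AddCommGroup M] [Module A M] (K : Ideal A)
    (hsurj : Function.Surjective (algebraMap A A'))
    (hker : RingHom.ker (algebraMap A A') = K) [Module.Flat A' (A' ⊗[A] M)] :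
    Module.Flat (A ⧸ K) ((A ⧸ K) ⊗[A] M) := by
  subst hker
  let e : (A ⧸ RingHom.ker (algebraMap A A')) ≃ₐ[A] A' :=
    Ideal.quotientKerAlgEquivOfSurjective (f := Algebra.ofId A A') hsurj
  let _ : Algebra A' (A ⧸ RingHom.ker (algebraMap A A')) := e.symm.toAlgHom.toRingHom.toAlgebra
  have : IsScalarTower A A' (A ⧸ RingHom.ker (algebraMap A A')) :=
    .of_algebraMap_eq fun a => (e.symm.commutes a).symm
  exact Module.Flat.of_linearEquiv
    (AlgebraTensorModule.cancelBaseChange A A' (A ⧸ RingHom.ker (algebraMap A A'))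
      (A ⧸ RingHom.ker (algebraMap A A')) M).symm

/-- If `C = Aₖ ⊗ B` is flat over `Aₖ`, so is `Aₖ ⊗ B_q`. -/
theorem flat_tensor_localization {A B Ak : Type u} [CommRing A] [CommRing B] [CommRing Ak]
    [Algebra A B] [Algebra A Ak] (q : Ideal B) [q.IsPrime] [Module.Flat Ak (Ak ⊗[A] B)] :
    Module.Flat Ak (Ak ⊗[A] Localization.AtPrime q) := by
  let Bq := Localization.AtPrime q
  let φ : Ak ⊗[A] B →ₐ[Ak] Ak ⊗[A] Bq :=
    Algebra.TensorProduct.map (AlgHom.id Ak Ak) (IsScalarTower.toAlgHom A B Bq)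
  let _ : Algebra (Ak ⊗[A] B) (Ak ⊗[A] Bq) := φ.toRingHom.toAlgebra
  have : IsScalarTower Ak (Ak ⊗[A] B) (Ak ⊗[A] Bq) :=
    .of_algebraMap_eq fun a => (φ.commutes a).symm
  have H : (algebraMap (Ak ⊗[A] B) (Ak ⊗[A] Bq)).comp
      (Algebra.TensorProduct.includeRight : B →ₐ[A] Ak ⊗[A] B).toRingHom =
      (Algebra.TensorProduct.includeRight : Bq →ₐ[A] Ak ⊗[A] Bq).toRingHom.comp
        (algebraMap B Bq) := by
    ext b
    show φ (1 ⊗ₜ b) = 1 ⊗ₜ algebraMap B Bq b
    rfl
  have hloc := IsLocalization.tensorProduct_tensorProduct_right A Ak q.primeCompl Bq H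
  have : Module.Flat (Ak ⊗[A] B) (Ak ⊗[A] Bq) := IsLocalization.flat _
    (q.primeCompl.map (Algebra.TensorProduct.includeRight (R := A) (A := Ak)))
  exact Module.Flat.trans Ak (Ak ⊗[A] B) (Ak ⊗[A] Bq)

/-- Local criterion: if `B ⧸ Jᵏ B` is flat over `A ⧸ Jᵏ` for all `k ≥ 1` and `J B ⊆ q`, then
`B_q` is flat over `A` (Noetherian case). -/
theorem flat_localization_of_forall_flat_quotient_pow {A B : Type u} [CommRing A] [CommRing B]
    [Algebra A B] [IsNoetherianRing A] [IsNoetherianRing B] (J : Ideal A) (q : Ideal B)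
    [q.IsPrime] (hJq : J.map (algebraMap A B) ≤ q)
    (h : ∀ k : ℕ, 0 < k → Module.Flat (A ⧸ J ^ k) ((A ⧸ J ^ k) ⊗[A] B)) :
    Module.Flat A (Localization.AtPrime q) := by
  refine Groth.Agent.Lib.helper8.LocalFlat.flat_of_forall_flat_quotient_pow
    (R := A) (S := Localization.AtPrime q) (M := Localization.AtPrime q) J ?_ ?_
  · rw [IsLocalRing.jacobson_eq_maximalIdeal ⊥ bot_ne_top,
      IsScalarTower.algebraMap_eq A B (Localization.AtPrime q), ← Ideal.map_map,
      ← Localization.AtPrime.map_eq_maximalIdeal]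
    exact Ideal.map_mono hJq
  · intro k hk
    have := h k hk
    exact flat_tensor_localization q

end Groth.Agent.Lib.Helper18.InfNbhd
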