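import Mathlib
import Groth.Agent.Lib.Helper18.InfNbhdRing
import Groth.Agent.Lib.Helper18.RelSmoothFiberScheme

universe u
open CategoryTheory CategoryTheory.Limits AlgebraicGeometry TensorProduct

namespace Groth.Agent.Lib.Helper18.InfNbhd

open Groth.Agent.Lib.Helper18.RelSmoothFiber H18Stalk

variable {X : Scheme.{u}}

theorem mem_basicOpen_iff_notMem_primeIdealOf {V : X.Opens} (hV : IsAffineOpen V) (x : V)
    (r : Γ(X, V)) : x.1 ∈ X.basicOpen r ↔ r ∉ (hV.primeIdealOf x).asIdeal := by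
  have h1 : hV.fromSpec (hV.primeIdealOf x) = x.1 := hV.fromSpec_primeIdealOf x
  have h2 : hV.primeIdealOf x ∈ hV.fromSpec ⁻¹ᵁ X.basicOpen r ↔
      hV.primeIdealOf x ∈ PrimeSpectrum.basicOpen r := by
    rw [hV.fromSpec_preimage_basicOpen]
    rfl
  rw [← h1, ← Scheme.Hom.mem_preimage]
  exact h2.trans (PrimeSpectrum.mem_basicOpen _ _)

theorem ideal_le_primeIdealOf_of_mem_support (I : X.IdealSheafData) {U : X.Opens}
    (hU : IsAffineOpen U) (x : U) (hx : x.1 ∈ I.support) :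
    I.ideal ⟨U, hU⟩ ≤ (hU.primeIdealOf x).asIdeal := by
  rw [I.mem_support_iff_of_mem (U := ⟨U, hU⟩) x.2, Scheme.mem_zeroLocus_iff] at hx
  intro r hr
  by_contra hcon
  exact hx r hr ((mem_basicOpen_iff_notMem_primeIdealOf hU x r).mpr hcon)

/-- Ring-level pushout step: from a pushout square of rings with `A → A'` surjective with kernel
`K` and `A' → B'` flat, deduce that `(A ⧸ K) ⊗ B` is flat over `A ⧸ K`. -/
theorem flat_quotient_tensor_of_isPushout {A A' B B' : CommRingCat.{u}} {φ : A ⟶ B} {γ : A ⟶ A'}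
    {α : B ⟶ B'} {β : A' ⟶ B'} (hPO : IsPushout φ γ α β) (hβ : β.hom.Flat) (K : Ideal A)
    (hsurj : Function.Surjective γ.hom) (hker : RingHom.ker γ.hom = K) :
    letI := φ.hom.toAlgebra
    Module.Flat (A ⧸ K) ((A ⧸ K) ⊗[A] B) := by
  let _ : Algebra A B := φ.hom.toAlgebra
  let _ : Algebra A A' := γ.hom.toAlgebra
  let _ : Algebra B B' := α.hom.toAlgebra
  let _ : Algebra A' B' := β.hom.toAlgebra
  let _ : Algebra A B' := (α.hom.comp φ.hom).toAlgebra
  have : IsScalarTower A B B' := IsScalarTower.of_algebraMap_eq fun _ => rfl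
  have : IsScalarTower A A' B' := IsScalarTower.of_algebraMap_eq fun r => congr($(hPO.w).hom r)
  have : Algebra.IsPushout A A' B B' := CommRingCat.isPushout_iff_isPushout.mp hPO.flip
  have hfl : Module.Flat A' B' := hβ
  have : Module.Flat A' (A' ⊗[A] B) :=
    Module.Flat.of_linearEquiv (Algebra.IsPushout.equiv A A' B B').toLinearEquiv
  exact flat_quotient_tensor_of_surjective K hsurj hker

/-- If all base changes of `f` to the infinitesimal neighbourhoods of `V(I)` are flat, then `f` is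
flat at every point over `V(I)` (`S` locally Noetherian, `f` locally of finite type). -/
theorem flat_stalkMap_of_flat_infinitesimal {X S : Scheme.{u}} (f : X ⟶ S) [IsLocallyNoetherian S]
    [LocallyOfFiniteType f] (I : S.IdealSheafData)
    (h : ∀ n : ℕ, Flat (pullback.snd f (I ^ (n + 1)).subschemeι)) (x : X)
    (hx : f x ∈ I.support) : (f.stalkMap x).hom.Flat := by
  obtain ⟨_, ⟨U, hU, rfl⟩, hxU, -⟩ :=
    S.isBasis_affineOpens.exists_subset_of_mem_open (Set.mem_univ (f x)) isOpen_univ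
  obtain ⟨_, ⟨V, hV, rfl⟩, hxV, hVU⟩ :=
    X.isBasis_affineOpens.exists_subset_of_mem_open hxU (U.2.preimage f.continuous)
  have hVU' : V ≤ f ⁻¹ᵁ U := hVU
  have hft := f.finiteType_appLE hU hV hVU'
  have hN : IsNoetherianRing Γ(S, U) := IsLocallyNoetherian.component_noetherian ⟨U, hU⟩
  let _ : Algebra Γ(S, U) Γ(X, V) := (f.appLE U V hVU').hom.toAlgebra
  have : Algebra.FiniteType Γ(S, U) Γ(X, V) := hft
  have hNB : IsNoetherianRing Γ(X, V) := Algebra.FiniteType.isNoetherianRing Γ(S, U) Γ(X, V)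
  let p := (hU.primeIdealOf ⟨f x, hVU' hxV⟩).asIdeal
  let q := (hV.primeIdealOf ⟨x, hxV⟩).asIdeal
  have hqp : q.LiesOver p :=
    ⟨congr($(IsAffineOpen.comap_primeIdealOf_appLE U hU V hV hVU' hxV).1).symm⟩
  let J := I.ideal ⟨U, hU⟩
  have hJp : J ≤ p := ideal_le_primeIdealOf_of_mem_support I hU ⟨f x, hVU' hxV⟩ hx
  have hJq : J.map (algebraMap Γ(S, U) Γ(X, V)) ≤ q := by
    rw [Ideal.map_le_iff_le_comap]
    exact hJp.trans (le_of_eq hqp.over)
  have key : ∀ k : ℕ, 0 < k →
      Module.Flat (Γ(S, U) ⧸ J ^ k) ((Γ(S, U) ⧸ J ^ k) ⊗[Γ(S, U)] Γ(X, V)) := by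
    intro k hk
    obtain ⟨n, rfl⟩ : ∃ n, k = n + 1 := ⟨k - 1, by omega⟩
    let g := (I ^ (n + 1)).subschemeι
    have hUT : IsAffineOpen (g ⁻¹ᵁ U) := hU.preimage g
    have H := IsPullback.of_hasPullback f g
    obtain ⟨hW, hPO⟩ := chart_of_isPullback H hU hV hUT hVU' le_rfl
    have := h n
    have hβ := (pullback.snd f g).flat_appLE hUT hW inf_le_right
    refine flat_quotient_tensor_of_isPushout hPO hβ (J ^ (n + 1)) ?_ ?_
    · rw [Scheme.Hom.appLE_eq_app]
      exact (I ^ (n + 1)).subschemeι_app_surjective ⟨U, hU⟩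
    · rw [Scheme.Hom.appLE_eq_app]
      exact (I ^ (n + 1)).ker_subschemeι_app ⟨U, hU⟩
  have hfl : Module.Flat Γ(S, U) (Localization.AtPrime q) :=
    flat_localization_of_forall_flat_quotient_pow J q hJq key
  let _ := Localization.AtPrime.algebraOfLiesOver p q
  refine (flat_stalkMap_iff U hU V hV hVU' hxV).mpr ?_
  exact (Module.flat_iff_of_isLocalization (Localization.AtPrime p) p.primeCompl
    (Localization.AtPrime q)).mpr hfl

end Groth.Agent.Lib.Helper18.InfNbhd
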