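import Mathlib
import Groth.Agent.Lib.Helper18.StalkEtale

/-!
# Étale in a neighbourhood iff stalk map flat and unramified, finite presentation version
(helper18)
-/

set_option autoImplicit false
universe u

open AlgebraicGeometry CategoryTheory IsLocalRing TensorProduct Algebra

namespace H18Stalk

theorem isEtaleAt_of_fp (A B : Type u) [CommRing A] [CommRing B]
    [Algebra A B] [Algebra.FinitePresentation A B]
    (p : Ideal A) [p.IsPrime] (q : Ideal B) [q.IsPrime] [q.LiesOver p]
    [Algebra (Localization.AtPrime p) (Localization.AtPrime q)]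
    [Localization.AtPrime.IsLiesOverAlgebra p q]
    [Module.Flat (Localization.AtPrime p) (Localization.AtPrime q)]
    [Algebra.IsUnramifiedAt A q] : Algebra.IsEtaleAt A q := by
  let Rp := Localization.AtPrime p
  let Sp := Localization (algebraMapSubmonoid B p.primeCompl)
  let Sq := Localization.AtPrime q
  let f : Sp →ₐ[B] Sq := IsLocalization.liftAlgHom (M := algebraMapSubmonoid B p.primeCompl)
        (f := Algebra.ofId _ _) (by
      rintro ⟨_, x, hx, rfl⟩
      simpa using! IsLocalization.map_units (M := q.primeCompl) Sq ⟨algebraMap _ _ x,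
        by simp_all [q.over_def p]⟩)
  algebraize [f.toRingHom]
  have : IsScalarTower A Sp Sq := .to₁₃₄ _ B _ _
  have : IsScalarTower Rp Sp Sq := .of_algebraMap_eq' <| by
    apply IsLocalization.ringHom_ext p.primeCompl
    simp only [RingHom.comp_assoc, ← IsScalarTower.algebraMap_eq]
  have : IsLocalization (algebraMapSubmonoid Sp q.primeCompl) Sq :=
    .isLocalization_of_submonoid_le _ _ (algebraMapSubmonoid B p.primeCompl) _
    (by rintro _ ⟨x, hx, rfl⟩; simp_all [q.over_def p])
  have : FinitePresentation Rp Sp := by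
    have : Algebra.IsPushout A Rp B Sp :=
      .symm <| Algebra.isPushout_of_isLocalization p.primeCompl _ _ _
    exact .equiv (Algebra.IsPushout.equiv A Rp B Sp)
  have : FormallyUnramified Rp Sq := .of_restrictScalars A _ _
  have : EssFiniteType Rp Sq := .of_comp A _ _
  have : FormallyEtale (ResidueField Rp) ((ResidueField Rp) ⊗[Rp] Sq) :=
    .of_formallyUnramified_of_field _ _
  have := FormallySmooth.of_formallySmooth_residueField_tensor
    (R := Rp) (S := Sq) (P := Sp) (algebraMapSubmonoid _ q.primeCompl)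
  have : FormallySmooth A Sq := .comp A Rp Sq
  exact FormallyEtale.iff_formallyUnramified_and_formallySmooth.mpr ⟨inferInstance, this⟩

variable {X Y : Scheme.{u}}

set_option backward.defeqAttrib.useBackward true in
set_option backward.isDefEq.respectTransparency false in
theorem exists_etale_nhd_iff_fp (f : X ⟶ Y) [LocallyOfFinitePresentation f] (x : X) :
    (∃ U : X.Opens, x ∈ U ∧ Etale (U.ι ≫ f)) ↔
      (f.stalkMap x).hom.Flat ∧ (f.stalkMap x).hom.FormallyUnramified := by
  constructor
  · rintro ⟨U, hxU, hU⟩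
    have h1 := Flat.stalkMap (U.ι ≫ f) (⟨x, hxU⟩ : U.toScheme)
    have h2 := FormallyUnramified.stalkMap (U.ι ≫ f) (⟨x, hxU⟩ : U.toScheme)
    exact ⟨(stalkMap_ι_comp_iff RingHom.Flat.respectsIso f U ⟨x, hxU⟩).mp h1,
      (stalkMap_ι_comp_iff RingHom.FormallyUnramified.respectsIso f U ⟨x, hxU⟩).mp h2⟩
  · rintro ⟨H1, H2⟩
    obtain ⟨_, ⟨U, hU, rfl⟩, hxU, -⟩ :=
      Y.isBasis_affineOpens.exists_subset_of_mem_open (Set.mem_univ (f x)) isOpen_univ
    obtain ⟨_, ⟨V, hV, rfl⟩, hxV, hVU⟩ :=
      X.isBasis_affineOpens.exists_subset_of_mem_open hxU (U.2.preimage f.continuous)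
    have := f.finitePresentation_appLE hU hV hVU
    algebraize [(f.appLE U V hVU).hom]
    have hunr : Algebra.IsUnramifiedAt _ _ :=
      (formallyUnramified_stalkMap_iff U hU V hV hVU hxV).mp H2
    let p := (hU.primeIdealOf ⟨f x, hVU hxV⟩).asIdeal
    let q := (hV.primeIdealOf ⟨x, hxV⟩).asIdeal
    have : q.LiesOver p :=
      ⟨congr($(IsAffineOpen.comap_primeIdealOf_appLE U hU V hV hVU hxV).1).symm⟩
    let := Localization.AtPrime.algebraOfLiesOver p q
    have hflat : Module.Flat (Localization.AtPrime p) (Localization.AtPrime q) :=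
      (flat_stalkMap_iff U hU V hV hVU hxV).mp H1
    have hE : Algebra.IsEtaleAt Γ(Y, U) q := isEtaleAt_of_fp Γ(Y, U) Γ(X, V) p q
    obtain ⟨r, hrx, hr⟩ := Algebra.exists_etale_of_isEtaleAt (R := Γ(Y, U)) q
    refine ⟨X.basicOpen r, ?_, ?_⟩
    · rwa [← PrimeSpectrum.mem_basicOpen, IsAffineOpen.primeIdealOf,
        ← hV.fromSpec_preimage_basicOpen, Scheme.Hom.mem_preimage, ← Scheme.Hom.comp_apply,
        IsAffineOpen.isoSpec_hom, IsAffineOpen.toSpecΓ_fromSpec] at hrx
    · refine comp_ι_of_appLE (P := @Etale) (fun g _ ↦ inferInstance) f U hU _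
        (hV.basicOpen r) ((X.basicOpen_le r).trans hVU) ?_
      refine appLE_basicOpen_of_away RingHom.Etale.respectsIso f U V hV hVU r ?_
      rw [← RingHom.etale_algebraMap] at hr
      convert hr using 1
      rw [IsScalarTower.algebraMap_eq Γ(Y, U) Γ(X, V) (Localization.Away r)]
      rfl

end H18Stalk
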