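import Mathlib
import Groth.Agent.Lib.Helper18.InfNbhdFlat
import Groth.Agent.Lib.Helper18.ThickeningFiber
import Groth.Agent.Lib.Helper18.RelFiberMapOver

universe u
open CategoryTheory CategoryTheory.Limits AlgebraicGeometry

namespace Groth.Agent.Lib.Helper18.InfNbhd

open Groth.Agent.Lib.Helper18.RelSmoothFiber Groth.Agent.Lib.Helper18.SmoothFiber
  Groth.Agent.Lib.Helper18.PullbackStalk H18Stalk

/-- A morphism from a reduced scheme whose image lies in the range of a closed immersion factors
through it. -/
theorem exists_factor_of_isReduced_of_range_subset {S S' T : Scheme.{u}} (iS : S ⟶ S')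
    [IsClosedImmersion iS] [IsReduced T] (φ : T ⟶ S') (h : Set.range φ ⊆ Set.range iS) :
    ∃ τ : T ⟶ S, τ ≫ iS = φ := by
  have : Surjective (pullback.fst φ iS) := ⟨fun t => by
    obtain ⟨s', hs'⟩ := h ⟨t, rfl⟩
    obtain ⟨z, hz, -⟩ := Scheme.Pullback.exists_preimage_pullback (f := φ) (g := iS) t s' hs'.symm
    exact ⟨z, hz⟩⟩
  have : IsIso (pullback.fst φ iS) := isIso_of_isClosedImmersion_of_surjective _
  refine ⟨inv (pullback.fst φ iS) ≫ pullback.snd φ iS, ?_⟩
  rw [Category.assoc, ← pullback.condition, IsIso.inv_hom_id_assoc]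

/-- If the base change of `f` to the closed subscheme `V(I)` has a property `P` stable under base
change, then so has the fibre of `f` over any point of `V(I)`. -/
theorem fiber_of_subscheme (P : MorphismProperty Scheme.{u}) [P.IsStableUnderBaseChange]
    {X S : Scheme.{u}} (f : X ⟶ S) (I : S.IdealSheafData)
    (h : P (pullback.snd f (I ^ (0 + 1)).subschemeι)) (s : S) (hs : s ∈ I.support) :
    P (pullback.snd f (S.fromSpecResidueField s)) := by
  obtain ⟨τ, hτ⟩ := exists_factor_of_isReduced_of_range_subset (I ^ (0 + 1)).subschemeι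
    (S.fromSpecResidueField s) (by
      rw [Scheme.range_fromSpecResidueField, Scheme.IdealSheafData.range_subschemeι,
        Scheme.IdealSheafData.support_pow_succ]
      simpa using hs)
  exact snd_of_factor P (IsPullback.of_hasPullback f (I ^ (0 + 1)).subschemeι) h _ τ hτ

/-- Smoothness on all infinitesimal neighbourhoods implies smoothness at points over `V(I)`. -/
theorem formallySmooth_stalk_of_smooth_infinitesimal {X S : Scheme.{u}} (f : X ⟶ S)
    [IsLocallyNoetherian S] [LocallyOfFinitePresentation f] (I : S.IdealSheafData)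
    (h : ∀ n : ℕ, Smooth (pullback.snd f (I ^ (n + 1)).subschemeι)) (x : X)
    (hx : f x ∈ I.support) : (f.stalkMap x).hom.FormallySmooth := by
  have hflat := flat_stalkMap_of_flat_infinitesimal f I (fun n => by have := h n; infer_instance)
    x hx
  have hfib : Smooth (pullback.snd f (S.fromSpecResidueField (f x))) :=
    fiber_of_subscheme @Smooth f I (h 0) (f x) hx
  have H := IsPullback.of_hasPullback f (S.fromSpecResidueField (f x))
  have h3 : pullback.fst f (S.fromSpecResidueField (f x)) (f.asFiber x) = x := f.fiberι_asFiber x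
  have := formallySmooth_stalk_of_isPullback_field (K := S.residueField (f x))
    (g := S.fromSpecResidueField (f x)) H (f.asFiber x) (by rw [h3]; exact hflat)
    ((Scheme.Hom.smoothLocus_eq_top (pullback.snd f (S.fromSpecResidueField (f x)))).ge
      (Set.mem_univ _))
  rwa [h3] at this

end Groth.Agent.Lib.Helper18.InfNbhd

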