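import Groth.Agent.S3289

/-!
Pre-λ-rings in which `λ_t(1) = 1 + t` (helper18).
-/

set_option autoImplicit false
universe u

namespace Groth.Agent.Lib.helper18

open PowerSeries LambdaRing

variable {K : Type u} [CommRing K] [LambdaRing.LambdaOps K]

theorem lamSeries_add (x y : K) : lamSeries (x + y) = lamSeries x * lamSeries y :=
  Groth.Agent.S3289.lamSeries_add x y

theorem coeff_lamSeries (k : ℕ) (x : K) : coeff k (lamSeries x) = LambdaOps.lam k x := by
  rw [lamSeries, coeff_mk]

theorem lamSeries_one (h1 : ∀ k : ℕ, 2 ≤ k → LambdaRing.LambdaOps.lam k (1 : K) = 0) :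
    lamSeries (1 : K) = 1 + X := by
  ext k
  rw [coeff_lamSeries, map_add, coeff_one, coeff_X]
  rcases Nat.lt_or_ge k 2 with hk | hk
  · interval_cases k
    · simp [LambdaOps.lam_zero]
    · simp [LambdaOps.lam_one]
  · rw [h1 k hk, if_neg (by omega), if_neg (by omega), add_zero]

theorem lamSeries_add_natCast (h1 : ∀ k : ℕ, 2 ≤ k → LambdaRing.LambdaOps.lam k (1 : K) = 0)
    (x : K) (m : ℕ) : lamSeries (x + (m : K)) = lamSeries x * (1 + X) ^ m := by
  induction m with
  | zero => simp
  | succ m ih =>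
    rw [Nat.cast_succ, ← add_assoc, lamSeries_add, ih, lamSeries_one h1, pow_succ, mul_assoc]

omit [LambdaRing.LambdaOps K] in
theorem coeff_one_add_X_pow (m j : ℕ) : coeff j ((1 + X : K⟦X⟧) ^ m) = (m.choose j : K) := by
  have h : ((1 + Polynomial.X : Polynomial K) ^ m : Polynomial K) = ((1 + X : K⟦X⟧) ^ m) := by
    rw [Polynomial.coe_pow, Polynomial.coe_add, Polynomial.coe_one, Polynomial.coe_X]
  rw [← h, Polynomial.coeff_coe, Polynomial.coeff_one_add_X_pow]

theorem lam_succ_of_sub_one (h1 : ∀ k : ℕ, 2 ≤ k → LambdaRing.LambdaOps.lam k (1 : K) = 0)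
    (y : K) (i : ℕ) :
    LambdaOps.lam (i + 1) y = LambdaOps.lam (i + 1) (y - 1) + LambdaOps.lam i (y - 1) := by
  have h : lamSeries y = lamSeries (y - 1) * (1 + X) := by
    rw [← lamSeries_one h1, ← lamSeries_add, sub_add_cancel]
  have h2 := congrArg (coeff (i + 1)) h
  rw [mul_add, mul_one, map_add, coeff_succ_mul_X, coeff_lamSeries, coeff_lamSeries,
    coeff_lamSeries] at h2
  exact h2

end Groth.Agent.Lib.helper18
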