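import Groth.Prelude.Def_Adeq
import Mathlib.Algebra.Homology.ShortComplex.ModuleCat
import Mathlib.Algebra.Homology.ShortComplex.ExactFunctor
import Mathlib.Algebra.Category.ModuleCat.Presheaf.Limits
import Mathlib.Algebra.Category.ModuleCat.Presheaf.Colimits

/-! Objectwise exactness for short exact sequences of presheaves of modules. -/

set_option autoImplicit false

namespace Groth.Agent.Lib.helper18

open CategoryTheory Limits

universe v u₁ v₁ u

variable {C : Type u₁} [Category.{v₁} C] {R : Cᵒᵖ ⥤ RingCat.{u}}

theorem pom_shortExact_app (S : ShortComplex (PresheafOfModules.{v} R)) (hS : S.ShortExact)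
    (X : Cᵒᵖ) :
    Function.Injective (S.f.app X) ∧ Function.Surjective (S.g.app X) ∧
      ∀ y : S.X₂.obj X, S.g.app X y = 0 → ∃ x : S.X₁.obj X, S.f.app X x = y := by
  have h := hS.map_of_exact (PresheafOfModules.evaluation.{v} R X)
  refine ⟨h.moduleCat_injective_f, h.moduleCat_surjective_g, ?_⟩
  intro y hy
  have := (ShortComplex.moduleCat_exact_iff _).mp h.exact y hy
  exact this

end Groth.Agent.Lib.helper18
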