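import Mathlib
import Groth.Prelude.Def_MeroDiv
import Groth.Agent.Lib.Helper18.InvGen

set_option autoImplicit false
universe u
open CategoryTheory CategoryTheory.Limits AlgebraicGeometry TopologicalSpace Opposite

namespace Groth.Agent.Lib.Helper18.MeroTwist

open Mero InvGen

variable {X : Scheme.{u}}

/-- the basis element `ℓ_y / 1` of `S_y⁻¹ L_y` -/
noncomputable abbrev bas (L : X.Modules) {W : X.Opens} (ℓ : Γ(L, W)) (y : X) (hy : y ∈ W) : MStalk L y :=
  LocalizedModule.mk (L.presheaf.germ W y hy ℓ) 1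

theorem mk_smul_bas (L : X.Modules) {W : X.Opens} (ℓ : Γ(L, W)) (y : X) (hy : y ∈ W)
    (a : X.presheaf.stalk y) (b : regStalk X y) :
    (LocalizedModule.mk a b : KStalk X y) • bas L ℓ y hy =
      LocalizedModule.mk (a • L.presheaf.germ W y hy ℓ) b := by
  have h := LocalizedModule.mk_smul_mk (S := regStalk X y) a (L.presheaf.germ W y hy ℓ) b 1
  rw [mul_one] at h
  exact h

theorem bas_injective {L : X.Modules} {W : X.Opens} {ℓ : Γ(L, W)} (hℓ : IsGen L W ℓ)
    (y : X) (hy : y ∈ W) (q : KStalk X y) (hq : q • bas L ℓ y hy = 0) : q = 0 := by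
  induction q using LocalizedModule.induction_on with
  | h a b =>
    rw [mk_smul_bas, ← LocalizedModule.zero_mk (1 : regStalk X y), LocalizedModule.mk_eq] at hq
    obtain ⟨u, hu⟩ := hq
    rw [smul_zero, smul_zero, one_smul, Submonoid.smul_def, ← mul_smul] at hu
    have h1 : (u : X.presheaf.stalk y) * a = 0 := by
      apply (hℓ y hy).1
      show ((u : X.presheaf.stalk y) * a) • _ = (0 : X.presheaf.stalk y) • _
      rw [hu, zero_smul]
    have h2 : a = 0 := by
      have hu' := regStalk_le_nonZeroDivisors y u.2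
      exact (mem_nonZeroDivisors_iff.1 hu').1 a h1
    rw [h2, LocalizedModule.zero_mk]

theorem bas_surjective {L : X.Modules} {W : X.Opens} {ℓ : Γ(L, W)} (hℓ : IsGen L W ℓ)
    (y : X) (hy : y ∈ W) (t : MStalk L y) : ∃ q : KStalk X y, q • bas L ℓ y hy = t := by
  induction t using LocalizedModule.induction_on with
  | h n b =>
    obtain ⟨a, ha⟩ := (hℓ y hy).2 n
    refine ⟨LocalizedModule.mk a b, ?_⟩
    rw [mk_smul_bas]
    exact mk_congr ha rfl

theorem bas_cancel {L : X.Modules} {W : X.Opens} {ℓ : Γ(L, W)} (hℓ : IsGen L W ℓ)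
    (y : X) (hy : y ∈ W) (q q' : KStalk X y) (h : q • bas L ℓ y hy = q' • bas L ℓ y hy) : q = q' := by
  have h1 : (q - q') • bas L ℓ y hy = 0 := by rw [sub_smul, h, sub_self]
  exact sub_eq_zero.mp (bas_injective hℓ y hy _ h1)

/-- multiply a meromorphic function by a section of `L` -/
noncomputable def twist (L : X.Modules) {W V : X.Opens} (ℓ : Γ(L, W)) (hV : V ≤ W)
    (k : Γ(Mero.kmod X, V)) : Γ(Mero.merMod L, V) :=
  ⟨fun y => k.1 y • bas L ℓ y.1 (hV y.2), by
    intro y
    obtain ⟨V₁, hy₁, i, a, b, hab⟩ := k.2 y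
    refine ⟨V₁, hy₁, i, a • L.presheaf.map (homOfLE (i.le.trans hV)).op ℓ, b, fun z => ?_⟩
    have h := hab z
    dsimp only at h
    show k.1 (i z) • bas L ℓ z.1 (hV (i.le z.2)) = _
    rw [h, mk_smul_bas]
    exact mk_congr (germ_smul_res L ℓ (i.le.trans hV) a z.1 z.2).symm rfl⟩

@[simp] theorem twist_apply (L : X.Modules) {W V : X.Opens} (ℓ : Γ(L, W)) (hV : V ≤ W)
    (k : Γ(Mero.kmod X, V)) (y : V) :
    (twist L ℓ hV k).1 y = k.1 y • bas L ℓ y.1 (hV y.2) := rfl

/-- every meromorphic section of `L` near a generator is a meromorphic function times the generator -/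
theorem exists_untwist {L : X.Modules} {W V : X.Opens} {ℓ : Γ(L, W)} (hℓ : IsGen L W ℓ) (hV : V ≤ W)
    (t : Γ(Mero.merMod L, V)) : ∃ k : Γ(Mero.kmod X, V), twist L ℓ hV k = t := by
  have hex : ∀ y : V, ∃ q : KStalk X y.1, q • bas L ℓ y.1 (hV y.2) = t.1 y :=
    fun y => bas_surjective hℓ y.1 (hV y.2) (t.1 y)
  choose q hq using hex
  have hpred : (kLoc X).pred q := by
    intro y
    obtain ⟨V₁, hy₁, i, m, b, hmb⟩ := t.2 y
    obtain ⟨g, hg⟩ := hℓ.exists_smul_eq (i.le.trans hV) m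
    refine ⟨V₁, hy₁, i, g, b, fun z => ?_⟩
    have h := hmb z
    dsimp only at h
    show q (i z) = _
    apply bas_cancel hℓ z.1 (hV (i.le z.2))
    refine (hq (i z)).trans ?_
    rw [h, mk_smul_bas]
    refine mk_congr ?_ rfl
    rw [← hg]
    exact germ_smul_res L ℓ (i.le.trans hV) g z.1 z.2
  exact ⟨⟨q, hpred⟩, Subtype.ext (funext fun y => hq y)⟩

end Groth.Agent.Lib.Helper18.MeroTwist
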