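import Mathlib
import Groth.Prelude.Def_MeroDiv
import Groth.Agent.Lib.Helper18.InvGen
import Groth.Agent.Lib.Helper18.MeroTwist
import Groth.Agent.Lib.Helper18.MeroDom
import Groth.Agent.Lib.Helper26.KSections

set_option autoImplicit false
universe u
open CategoryTheory CategoryTheory.Limits AlgebraicGeometry TopologicalSpace Opposite

namespace Groth.Agent.Lib.Helper18.MeroDivSec

open Mero InvGen MeroTwist

variable {X : Scheme.{u}}

section HomTo

variable {T : X → Type u} [∀ x, AddCommGroup (T x)] [∀ x, Module (X.presheaf.stalk x) (T x)]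
  (P : TopCat.LocalPredicate T) [IsModPred P]

/-- a morphism into `modOf P` from stalkwise linear maps -/
noncomputable def homToModOf (F : X.Modules)
    (φ : ∀ x : X, F.presheaf.stalk x →ₗ[X.presheaf.stalk x] T x)
    (hφ : ∀ (U : X.Opens) (m : Γ(F, U)),
      P.pred (fun x : U => φ x.1 (F.presheaf.germ U x.1 x.2 m))) :
    F ⟶ modOf P :=
  ⟨PresheafOfModules.homMk (M₁ := F.val) (M₂ := (modOf P).val)
    { app := fun U => AddCommGrpCat.ofHom
        { toFun := fun (m : Γ(F, U.unop)) =>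
            (⟨fun x => φ x.1 (F.presheaf.germ U.unop x.1 x.2 m), hφ _ m⟩ : Γ(modOf P, U.unop))
          map_zero' := Subtype.ext (funext fun x => by
            show φ x.1 (F.presheaf.germ U.unop x.1 x.2 0) = 0
            rw [map_zero, map_zero])
          map_add' := fun a b => Subtype.ext (funext fun x => by
            have h : F.presheaf.germ U.unop x.1 x.2 (a + b : Γ(F, U.unop)) =
                F.presheaf.germ U.unop x.1 x.2 a + F.presheaf.germ U.unop x.1 x.2 b := map_add _ _ _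
            exact (congrArg (φ x.1) h).trans (map_add _ _ _)) }
      naturality := fun {U V} i => by
        ext m
        refine Subtype.ext (funext fun x => ?_)
        exact congrArg (φ x.1) (TopCat.Presheaf.germ_res_apply' F.presheaf i x.1 x.2 m) }
    (fun U r m => Subtype.ext <| funext fun x =>
      (congrArg (φ x.1) (Mero.germ_smul F U.unop x.1 x.2 r m)).trans (map_smul _ _ _))⟩

theorem homToModOf_app_apply (F : X.Modules)
    (φ : ∀ x : X, F.presheaf.stalk x →ₗ[X.presheaf.stalk x] T x)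
    (hφ : ∀ (U : X.Opens) (m : Γ(F, U)),
      P.pred (fun x : U => φ x.1 (F.presheaf.germ U x.1 x.2 m)))
    (U : X.Opens) (m : Γ(F, U)) (x : U) :
    ((homToModOf P F φ hφ).app U m).1 x = φ x.1 (F.presheaf.germ U x.1 x.2 m) := rfl

end HomTo

open Groth.Agent.Lib.helper26 in
/-- a meromorphic function which is a nonzerodivisor at every point is a unit -/
theorem isUnit_of_forall_nzd {U : X.Opens} (k : Γ(Mero.kmod X, U))
    (hk : ∀ (y : U) (q : KStalk X y.1), q * k.1 y = 0 → q = 0) : IsUnit k := by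
  have hloc := k.2
  choose V₁ hyV i a b hab₀ using hloc
  have hab : ∀ (y : U) (z : V₁ y), k.1 (i y z) =
      LocalizedModule.mk (X.presheaf.germ (V₁ y) z.1 z.2 (a y)) (regGerm z (b y)) :=
    fun y z => hab₀ y z
  have hareg : ∀ y : U, a y ∈ regSub X (V₁ y) := by
    intro y z
    rw [mem_nonZeroDivisors_iff_right]
    intro c hc
    have h1 : (LocalizedModule.mk c 1 : KStalk X z.1) * k.1 (i y z) = 0 := by
      rw [hab y z]
      refine LocalizedModule.mk_mul_mk.trans ?_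
      rw [hc, LocalizedModule.zero_mk]
    have h2 := hk (i y z) _ h1
    apply algebraMap_KStalk_injective z.1
    rw [kstalk_algebraMap_eq_mk, h2, map_zero]
  -- the pointwise inverse
  let inv : ∀ y : U, KStalk X y.1 := fun y =>
    LocalizedModule.mk (X.presheaf.germ (V₁ y) y.1 (hyV y) (b y).1)
      (regGerm ⟨y.1, hyV y⟩ ⟨a y, hareg y⟩)
  have hmul : ∀ (y : U) (z : V₁ y),
      k.1 (i y z) * (LocalizedModule.mk (X.presheaf.germ (V₁ y) z.1 z.2 (b y).1)
        (regGerm z ⟨a y, hareg y⟩) : KStalk X z.1) = 1 := by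
    intro y z
    rw [hab y z]
    refine LocalizedModule.mk_mul_mk.trans ?_
    rw [← mk_self_eq_one (regGerm z (b y) * regGerm z ⟨a y, hareg y⟩)]
    exact mk_congr (mul_comm _ _) rfl
  have hinv : ∀ y : U, k.1 y * inv y = 1 := fun y => hmul y ⟨y.1, hyV y⟩
  have hpred : (kLoc X).pred inv := by
    intro y
    refine ⟨V₁ y, hyV y, i y, (b y).1, ⟨a y, hareg y⟩, fun z => ?_⟩
    show inv (i y z) = _
    have h1 : k.1 (i y z) * inv (i y z) = 1 := hinv (i y z)
    have h2 := hmul y z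
    generalize (LocalizedModule.mk (X.presheaf.germ (V₁ y) z.1 z.2 (b y).1)
        (regGerm z ⟨a y, hareg y⟩) : KStalk X z.1) = w at h2 ⊢
    calc inv (i y z) = inv (i y z) * (k.1 (i y z) * w) := by rw [h2, mul_one]
      _ = (k.1 (i y z) * inv (i y z)) * w := by ring
      _ = w := by rw [h1, one_mul]
  refine IsUnit.of_mul_eq_one (⟨inv, hpred⟩ : Γ(Mero.kmod X, U)) ?_
  exact Subtype.ext (funext fun y => hinv y)

/-- a local description of a regular meromorphic section: a generator and a unit of `K_X` -/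
structure Chart (L : X.Modules) (s : Γ(Mero.merMod L, ⊤)) where
  W : X.Opens
  ℓ : Γ(L, W)
  hℓ : IsGen L W ℓ
  u : (Γ(Mero.kmod X, W))ˣ
  hu : ∀ y : W, s.1 ⟨y.1, Opens.mem_top y.1⟩ = (u : Γ(Mero.kmod X, W)).1 y • bas L ℓ y.1 y.2

theorem exists_chart {L : X.Modules} (hL : PicF.IsInvertible L) (s : Γ(Mero.merMod L, ⊤))
    (hs : Mero.IsRegularMero L s) (x : X) : ∃ c : Chart L s, x ∈ c.W := by
  obtain ⟨W, ℓ, -, hxW, -, hℓ⟩ := exists_isGen hL x ⊤ trivial
  let sW : Γ(Mero.merMod L, W) := (Mero.merMod L).presheaf.map (homOfLE (le_top : W ≤ ⊤)).op s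
  obtain ⟨k, hk⟩ := exists_untwist hℓ le_rfl sW
  have hky : ∀ y : W, s.1 ⟨y.1, Opens.mem_top y.1⟩ = k.1 y • bas L ℓ y.1 y.2 := fun y =>
    (congrArg (fun f : Γ(Mero.merMod L, W) => f.1 y) hk).symm
  have hunit : IsUnit k := by
    refine isUnit_of_forall_nzd k (fun y q hq => hs y.1 q ?_)
    rw [hky y, ← mul_smul, hq, zero_smul]
  exact ⟨⟨W, ℓ, hℓ, hunit.unit, fun y => by rw [IsUnit.unit_spec]; exact hky y⟩, hxW⟩

open Groth.Agent.Lib.helper26 in
/-- two charts define the same germ of divisor at a common point -/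
theorem Chart.germOf_eq {L : X.Modules} {s : Γ(Mero.merMod L, ⊤)} (c c' : Chart L s)
    (y : X) (hy : y ∈ c.W) (hy' : y ∈ c'.W) :
    Mero.germOf c.u ⟨y, hy⟩ = Mero.germOf c'.u ⟨y, hy'⟩ := by
  obtain ⟨a, ha⟩ := (c.hℓ y hy).2 (L.presheaf.germ c'.W y hy' c'.ℓ)
  obtain ⟨a', ha'⟩ := (c'.hℓ y hy').2 (L.presheaf.germ c.W y hy c.ℓ)
  have ha : a • L.presheaf.germ c.W y hy c.ℓ = L.presheaf.germ c'.W y hy' c'.ℓ := ha
  have ha' : a' • L.presheaf.germ c'.W y hy' c'.ℓ = L.presheaf.germ c.W y hy c.ℓ := ha'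
  have haa : a' * a = 1 := by
    apply (c.hℓ y hy).1
    show (a' * a) • L.presheaf.germ c.W y hy c.ℓ = (1 : X.presheaf.stalk y) • _
    rw [mul_smul, ha, ha', one_smul]
  have hbas : bas L c'.ℓ y hy' = (LocalizedModule.mk a 1 : KStalk X y) • bas L c.ℓ y hy := by
    rw [mk_smul_bas]
    exact mk_congr ha.symm rfl
  have h1 : (c.u : Γ(Mero.kmod X, c.W)).1 ⟨y, hy⟩ =
      (c'.u : Γ(Mero.kmod X, c'.W)).1 ⟨y, hy'⟩ * (LocalizedModule.mk a 1 : KStalk X y) := by
    apply bas_cancel c.hℓ y hy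
    rw [mul_smul, ← hbas, ← c.hu ⟨y, hy⟩, ← c'.hu ⟨y, hy'⟩]
  have h2 : (LocalizedModule.mk a 1 : KStalk X y) * LocalizedModule.mk a' 1 = 1 := by
    refine LocalizedModule.mk_mul_mk.trans ?_
    rw [mul_comm a a', haa]
    exact (mk_congr (by simp) rfl).trans (mk_self_eq_one (1 * 1 : regStalk X y))
  have h3 : (c'.u : Γ(Mero.kmod X, c'.W)).1 ⟨y, hy'⟩ =
      (c.u : Γ(Mero.kmod X, c.W)).1 ⟨y, hy⟩ * (LocalizedModule.mk a' 1 : KStalk X y) := by
    rw [h1, mul_assoc, h2, mul_one]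
  unfold Mero.germOf
  rw [QuotientGroup.eq]
  refine ⟨⟨a', a, haa, (mul_comm a a').trans haa⟩, Units.ext ?_⟩
  show algebraMap (X.presheaf.stalk y) (KStalk X y) a' =
    ((Units.map (Mero.evalK X c.W ⟨y, hy⟩).toMonoidHom c.u)⁻¹ *
      Units.map (Mero.evalK X c'.W ⟨y, hy'⟩).toMonoidHom c'.u : (KStalk X y)ˣ)
  rw [Units.val_mul, kstalk_algebraMap_eq_mk]
  have e1 : ((Units.map (Mero.evalK X c'.W ⟨y, hy'⟩).toMonoidHom c'.u : (KStalk X y)ˣ) : KStalk X y) =
      (c'.u : Γ(Mero.kmod X, c'.W)).1 ⟨y, hy'⟩ := rfl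
  have e2 : ((Units.map (Mero.evalK X c.W ⟨y, hy⟩).toMonoidHom c.u : (KStalk X y)ˣ) : KStalk X y) =
      (c.u : Γ(Mero.kmod X, c.W)).1 ⟨y, hy⟩ := rfl
  rw [e1, h3, ← e2, Units.inv_mul_cancel_left]

theorem Chart.inv_mul {L : X.Modules} {s : Γ(Mero.merMod L, ⊤)} (c : Chart L s) (y : c.W) :
    ((↑(c.u⁻¹) : Γ(Mero.kmod X, c.W))).1 y * (c.u : Γ(Mero.kmod X, c.W)).1 y = 1 := by
  rw [← Mero.kmod_mul_apply, Units.inv_mul]
  rfl

theorem Chart.smul_inv {L : X.Modules} {s : Γ(Mero.merMod L, ⊤)} (c : Chart L s) (y : c.W) :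
    ((↑(c.u⁻¹) : Γ(Mero.kmod X, c.W))).1 y • s.1 ⟨y.1, Opens.mem_top y.1⟩ = bas L c.ℓ y.1 y.2 := by
  rw [c.hu y, ← mul_smul, c.inv_mul y, one_smul]

section Main

variable {L : X.Modules} (hL : PicF.IsInvertible L) (s : Γ(Mero.merMod L, ⊤))
  (hs : Mero.IsRegularMero L s)

/-- a chosen chart at each point -/
noncomputable def chart (x : X) : Chart L s := Classical.choose (exists_chart hL s hs x)

theorem mem_chart (x : X) : x ∈ (chart hL s hs x).W := Classical.choose_spec (exists_chart hL s hs x)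

/-- the divisor of a regular meromorphic section of an invertible module -/
noncomputable def divOf : Mero.Divisor X :=
  ⟨fun y => Mero.germOf (chart hL s hs y).u ⟨y, mem_chart hL s hs y⟩,
    fun x => ⟨(chart hL s hs x).W, mem_chart hL s hs x, (chart hL s hs x).u,
      fun y => Chart.germOf_eq _ _ y.1 (mem_chart hL s hs y.1) y.2⟩⟩

theorem divOf_apply (c : Chart L s) (y : X) (hy : y ∈ c.W) :
    (divOf hL s hs).1 y = Mero.germOf c.u ⟨y, hy⟩ :=
  Chart.germOf_eq _ _ y (mem_chart hL s hs y) hy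

omit hs in
theorem exists_coef (c : Chart L s) (y : X) (hy : y ∈ c.W) (n : L.presheaf.stalk y) :
    ∃ q : KStalk X y, q • s.1 ⟨y, Opens.mem_top y⟩ =
      LocalizedModule.mkLinearMap (regStalk X y) (L.presheaf.stalk y) n := by
  obtain ⟨α, hα⟩ := (c.hℓ y hy).2 n
  refine ⟨(LocalizedModule.mk α 1 : KStalk X y) * ((↑(c.u⁻¹) : Γ(Mero.kmod X, c.W))).1 ⟨y, hy⟩, ?_⟩
  rw [mul_smul, c.smul_inv ⟨y, hy⟩, mk_smul_bas, LocalizedModule.mkLinearMap_apply]
  exact mk_congr hα rfl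

include hs in
theorem coef_unique (y : X) (q q' : KStalk X y)
    (h : q • s.1 ⟨y, Opens.mem_top y⟩ = q' • s.1 ⟨y, Opens.mem_top y⟩) : q = q' := by
  have h1 : (q - q') • s.1 ⟨y, Opens.mem_top y⟩ = 0 := by rw [sub_smul, h, sub_self]
  exact sub_eq_zero.mp (hs y _ h1)

/-- the coefficient of an element of the stalk with respect to the section `s` -/
noncomputable def coef (y : X) (n : L.presheaf.stalk y) : KStalk X y :=
  Classical.choose (exists_coef s (chart hL s hs y) y (mem_chart hL s hs y) n)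

theorem coef_spec (y : X) (n : L.presheaf.stalk y) :
    coef hL s hs y n • s.1 ⟨y, Opens.mem_top y⟩ =
      LocalizedModule.mkLinearMap (regStalk X y) (L.presheaf.stalk y) n :=
  Classical.choose_spec (exists_coef s (chart hL s hs y) y (mem_chart hL s hs y) n)

theorem coef_eq (y : X) (n : L.presheaf.stalk y) (q : KStalk X y)
    (h : q • s.1 ⟨y, Opens.mem_top y⟩ =
      LocalizedModule.mkLinearMap (regStalk X y) (L.presheaf.stalk y) n) :
    coef hL s hs y n = q :=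
  coef_unique s hs y _ _ ((coef_spec hL s hs y n).trans h.symm)

/-- the coefficient map is linear -/
noncomputable def coefLin (y : X) : L.presheaf.stalk y →ₗ[X.presheaf.stalk y] KStalk X y where
  toFun := coef hL s hs y
  map_add' n n' := by
    apply coef_eq
    rw [add_smul, coef_spec, coef_spec, map_add]
  map_smul' r n := by
    apply coef_eq
    rw [RingHom.id_apply, smul_assoc, coef_spec, map_smul]

/-- the coefficient in terms of a chart -/
theorem coef_chart (c : Chart L s) (y : X) (hy : y ∈ c.W) (α : X.presheaf.stalk y) :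
    coef hL s hs y (α • L.presheaf.germ c.W y hy c.ℓ) =
      (LocalizedModule.mk α 1 : KStalk X y) * ((↑(c.u⁻¹) : Γ(Mero.kmod X, c.W))).1 ⟨y, hy⟩ := by
  apply coef_eq
  rw [mul_smul, c.smul_inv ⟨y, hy⟩, mk_smul_bas, LocalizedModule.mkLinearMap_apply]

open Groth.Agent.Lib.helper26 in
theorem coef_divCond (y : X) (n : L.presheaf.stalk y) :
    Mero.DivCond (divOf hL s hs) y (coef hL s hs y n) := by
  intro g hg
  set c := chart hL s hs y with hc
  have hy : y ∈ c.W := mem_chart hL s hs y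
  obtain ⟨α, hα⟩ := (c.hℓ y hy).2 n
  have hα' : α • L.presheaf.germ c.W y hy c.ℓ = n := hα
  rw [← hα', coef_chart hL s hs c y hy α]
  have hD : (divOf hL s hs).1 y = Mero.germOf c.u ⟨y, hy⟩ := divOf_apply hL s hs c y hy
  rw [hD] at hg
  unfold Mero.germOf at hg
  rw [QuotientGroup.eq] at hg
  obtain ⟨w, hw⟩ := hg
  have hw' : algebraMap (X.presheaf.stalk y) (KStalk X y) (w : X.presheaf.stalk y) =
      ((↑(c.u⁻¹) : Γ(Mero.kmod X, c.W))).1 ⟨y, hy⟩ * (g : KStalk X y) := by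
    have := congrArg (fun t : (KStalk X y)ˣ => (t : KStalk X y)) hw
    rw [Units.val_mul, ← map_inv] at this
    exact this
  refine ⟨α * (w : X.presheaf.stalk y), ?_⟩
  rw [map_mul, hw', kstalk_algebraMap_eq_mk, mul_assoc]

theorem coef_kLoc {V : X.Opens} (m : Γ(L, V)) :
    (kLoc X).pred (fun y : V => coef hL s hs y.1 (L.presheaf.germ V y.1 y.2 m)) := by
  intro y₀
  set c := chart hL s hs y₀.1 with hc
  have hy₀ : y₀.1 ∈ c.W := mem_chart hL s hs y₀.1
  let V' : X.Opens := V ⊓ c.W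
  obtain ⟨g, hg⟩ := c.hℓ.exists_smul_eq (inf_le_right : V' ≤ c.W)
    (L.presheaf.map (homOfLE (inf_le_left : V' ≤ V)).op m)
  let σ : Γ(Mero.kmod X, V') := Mero.toK X V' g *
    (Mero.kmod X).presheaf.map (homOfLE (inf_le_right : V' ≤ c.W)).op (↑(c.u⁻¹) : Γ(Mero.kmod X, c.W))
  have hσ : ∀ z : V', coef hL s hs z.1 (L.presheaf.germ V z.1 z.2.1 m) = σ.1 z := by
    intro z
    have e1 : L.presheaf.germ V z.1 z.2.1 m =
        X.presheaf.germ V' z.1 z.2 g • L.presheaf.germ c.W z.1 z.2.2 c.ℓ := by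
      rw [← germ_smul_res L c.ℓ (inf_le_right : V' ≤ c.W) g z.1 z.2, hg]
      exact (TopCat.Presheaf.germ_res_apply L.presheaf (homOfLE (inf_le_left : V' ≤ V)) z.1 z.2 m).symm
    rw [e1, coef_chart hL s hs c z.1 z.2.2]
    rfl
  obtain ⟨V₂, hy₂, i₂, a, b, hab⟩ := σ.2 ⟨y₀.1, y₀.2, hy₀⟩
  refine ⟨V₂, hy₂, i₂ ≫ homOfLE (inf_le_left : V' ≤ V), a, b, fun z => ?_⟩
  exact (hσ (i₂ z)).trans (hab z)

theorem coef_pred {V : X.Opens} (m : Γ(L, V)) :
    (divLoc X (divOf hL s hs)).pred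
      (fun y : V => coefLin hL s hs y.1 (L.presheaf.germ V y.1 y.2 m)) :=
  ⟨coef_kLoc hL s hs m, fun y => coef_divCond hL s hs y.1 _⟩

/-- the morphism `L ⟶ O_X(div s)` -/
noncomputable def toDiv : L ⟶ Mero.divMod (divOf hL s hs) :=
  homToModOf (divLoc X (divOf hL s hs)) L (coefLin hL s hs) (fun _ m => coef_pred hL s hs m)

theorem toDiv_app_apply {V : X.Opens} (m : Γ(L, V)) (y : V) :
    ((toDiv hL s hs).app V m).1 y = coef hL s hs y.1 (L.presheaf.germ V y.1 y.2 m) := rfl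

open Groth.Agent.Lib.helper26 in
include hL hs in
/-- the map from the stalk of `L` to its localization is injective -/
theorem mkLinearMap_injective (y : X) (n n' : L.presheaf.stalk y)
    (h : LocalizedModule.mkLinearMap (regStalk X y) (L.presheaf.stalk y) n =
      LocalizedModule.mkLinearMap (regStalk X y) (L.presheaf.stalk y) n') : n = n' := by
  set c := chart hL s hs y with hc
  have hy : y ∈ c.W := mem_chart hL s hs y
  obtain ⟨α, hα⟩ := (c.hℓ y hy).2 n
  obtain ⟨α', hα'⟩ := (c.hℓ y hy).2 n'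
  have hα : α • L.presheaf.germ c.W y hy c.ℓ = n := hα
  have hα' : α' • L.presheaf.germ c.W y hy c.ℓ = n' := hα'
  rw [LocalizedModule.mkLinearMap_apply, LocalizedModule.mkLinearMap_apply, ← hα, ← hα',
    ← mk_smul_bas, ← mk_smul_bas] at h
  have h1 := bas_cancel c.hℓ y hy _ _ h
  rw [← kstalk_algebraMap_eq_mk, ← kstalk_algebraMap_eq_mk] at h1
  rw [← hα, ← hα', algebraMap_KStalk_injective y h1]

theorem eq_of_coef_eq {V : X.Opens} (m m' : Γ(L, V))
    (h : ∀ y : V, coef hL s hs y.1 (L.presheaf.germ V y.1 y.2 m) =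
      coef hL s hs y.1 (L.presheaf.germ V y.1 y.2 m')) : m = m' := by
  apply TopCat.Presheaf.section_ext ⟨L.presheaf, L.isSheaf⟩ V
  intro y hy
  apply mkLinearMap_injective hL s hs y
  rw [← coef_spec hL s hs y, ← coef_spec hL s hs y, h ⟨y, hy⟩]

theorem toDiv_app_injective (V : X.Opens) : Function.Injective ((toDiv hL s hs).app V) := by
  intro m m' h
  apply eq_of_coef_eq hL s hs
  intro y
  exact congrArg (fun f : Γ(Mero.divMod (divOf hL s hs), V) => f.1 y) h

theorem exists_local_preimage {V : X.Opens} (t : Γ(Mero.divMod (divOf hL s hs), V)) (y₀ : V) :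
    ∃ (V' : X.Opens) (_ : y₀.1 ∈ V') (hle : V' ≤ V) (m₀ : Γ(L, V')),
      ∀ z : V', coef hL s hs z.1 (L.presheaf.germ V' z.1 z.2 m₀) = t.1 ⟨z.1, hle z.2⟩ := by
  set c := chart hL s hs y₀.1 with hc
  have hy₀ : y₀.1 ∈ c.W := mem_chart hL s hs y₀.1
  let V' : X.Opens := V ⊓ c.W
  let tK : Γ(Mero.kmod X, V) := ⟨t.1, t.2.1⟩
  let τ : Γ(Mero.kmod X, V') :=
    (Mero.kmod X).presheaf.map (homOfLE (inf_le_left : V' ≤ V)).op tK *
      (Mero.kmod X).presheaf.map (homOfLE (inf_le_right : V' ≤ c.W)).op (c.u : Γ(Mero.kmod X, c.W))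
  have hτz : ∀ z : V', τ.1 z = t.1 ⟨z.1, z.2.1⟩ * (c.u : Γ(Mero.kmod X, c.W)).1 ⟨z.1, z.2.2⟩ :=
    fun z => rfl
  have hτ : ∀ z : V', τ.1 z ∈ (algebraMap (X.presheaf.stalk z.1) (KStalk X z.1)).range := by
    intro z
    rw [hτz z]
    exact t.2.2 ⟨z.1, z.2.1⟩ (Units.map (Mero.evalK X c.W ⟨z.1, z.2.2⟩).toMonoidHom c.u)
      (divOf_apply hL s hs c z.1 z.2.2)
  obtain ⟨r, hr⟩ := MeroDom.exists_toK_eq τ hτ
  refine ⟨V', ⟨y₀.2, hy₀⟩, inf_le_left,
    r • L.presheaf.map (homOfLE (inf_le_right : V' ≤ c.W)).op c.ℓ, fun z => ?_⟩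
  rw [germ_smul_res, coef_chart hL s hs c z.1 z.2.2]
  have h1 : (LocalizedModule.mk (X.presheaf.germ V' z.1 z.2 r) 1 : KStalk X z.1) = τ.1 z := by
    rw [← hr]
    rfl
  rw [h1, hτz z, mul_assoc]
  have h2 : (c.u : Γ(Mero.kmod X, c.W)).1 ⟨z.1, z.2.2⟩ *
      ((↑(c.u⁻¹) : Γ(Mero.kmod X, c.W))).1 ⟨z.1, z.2.2⟩ = 1 := by
    rw [mul_comm]
    exact c.inv_mul ⟨z.1, z.2.2⟩
  rw [h2, mul_one]

theorem toDiv_app_surjective (V : X.Opens) : Function.Surjective ((toDiv hL s hs).app V) := by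
  intro t
  have hloc := fun y₀ : V => exists_local_preimage hL s hs t y₀
  choose V' hyV' hle m₀ hm₀ using hloc
  have hcov : V ≤ iSup V' := fun y hy => (le_iSup V' ⟨y, hy⟩) (hyV' ⟨y, hy⟩)
  let F : TopCat.Sheaf Ab X := ⟨L.presheaf, L.isSheaf⟩
  have compat : TopCat.Presheaf.IsCompatible F.1 V' m₀ := by
    intro i j
    apply eq_of_coef_eq hL s hs
    intro z
    have e1 : L.presheaf.germ (V' i ⊓ V' j) z.1 z.2
        (L.presheaf.map (Opens.infLELeft (V' i) (V' j)).op (m₀ i)) =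
        L.presheaf.germ (V' i) z.1 z.2.1 (m₀ i) :=
      TopCat.Presheaf.germ_res_apply L.presheaf (Opens.infLELeft (V' i) (V' j)) z.1 z.2 (m₀ i)
    have e2 : L.presheaf.germ (V' i ⊓ V' j) z.1 z.2
        (L.presheaf.map (Opens.infLERight (V' i) (V' j)).op (m₀ j)) =
        L.presheaf.germ (V' j) z.1 z.2.2 (m₀ j) :=
      TopCat.Presheaf.germ_res_apply L.presheaf (Opens.infLERight (V' i) (V' j)) z.1 z.2 (m₀ j)
    show coef hL s hs z.1 (L.presheaf.germ (V' i ⊓ V' j) z.1 z.2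
        (L.presheaf.map (Opens.infLELeft (V' i) (V' j)).op (m₀ i))) =
      coef hL s hs z.1 (L.presheaf.germ (V' i ⊓ V' j) z.1 z.2
        (L.presheaf.map (Opens.infLERight (V' i) (V' j)).op (m₀ j)))
    rw [e1, e2, hm₀ i ⟨z.1, z.2.1⟩, hm₀ j ⟨z.1, z.2.2⟩]
  obtain ⟨m, hm, -⟩ := F.existsUnique_gluing' V' V (fun i => homOfLE (hle i)) hcov m₀ compat
  refine ⟨m, Subtype.ext (funext fun y => ?_)⟩
  show coef hL s hs y.1 (L.presheaf.germ V y.1 y.2 m) = t.1 y
  have e : L.presheaf.germ V y.1 y.2 m = L.presheaf.germ (V' y) y.1 (hyV' y) (m₀ y) := by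
    rw [← hm y]
    exact (TopCat.Presheaf.germ_res_apply L.presheaf (homOfLE (hle y)) y.1 (hyV' y) m).symm
  rw [e]
  exact hm₀ y ⟨y.1, hyV' y⟩

theorem isIso_toDiv : IsIso (toDiv hL s hs) := by
  have : IsIso ((Scheme.Modules.toPresheaf _).map (toDiv hL s hs)) := by
    apply (config := {allowSynthFailures := true}) NatIso.isIso_of_isIso_app
    intro V
    rw [ConcreteCategory.isIso_iff_bijective]
    exact ⟨toDiv_app_injective hL s hs V.unop, toDiv_app_surjective hL s hs V.unop⟩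
  exact isIso_of_reflects_iso _ (Scheme.Modules.toPresheaf _)

end Main

/-- **an invertible module with a regular meromorphic section is `O_X(D)`** -/
theorem exists_iso_divMod {L : X.Modules} (hL : PicF.IsInvertible L)
    (h : Mero.HasRegularMero L) : ∃ D : Mero.Divisor X, Nonempty (L ≅ Mero.divMod D) := by
  obtain ⟨s, hs⟩ := h
  haveI := isIso_toDiv hL s hs
  exact ⟨divOf hL s hs, ⟨asIso (toDiv hL s hs)⟩⟩

end Groth.Agent.Lib.Helper18.MeroDivSec
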