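import Mathlib
import Groth.Prelude.Def_MeroSh
import Groth.Agent.Lib.Helper18.RegAvoid
import Groth.Agent.Lib.Helper18.MeroExt

set_option autoImplicit false
universe u

namespace Groth.Agent.Lib.Helper18.MeroExt2

open AlgebraicGeometry CategoryTheory TopologicalSpace Opposite Mero
open Groth.Agent.Lib.Helper18.MeroExt

/-- variant of `not_basicIdeal_le` for primes `P` with `t ∉ P` and `t * P` nil -/
theorem not_basicIdeal_le_of_nilpotent {X : Scheme.{u}} {U V W : X.Opens} (hW : IsAffineOpen W)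
    (hWU : W ≤ U)
    (hV : ∀ W : X.Opens, W ≤ U →
      Function.Injective ⇑(X.presheaf.map (homOfLE (inf_le_left : W ⊓ V ≤ W)).op))
    (P : Ideal Γ(X, W)) [P.IsPrime] (t : Γ(X, W)) (ht : t ∉ P)
    (hPt : ∀ h ∈ P, IsNilpotent (t * h)) :
    ¬ basicIdeal W V ≤ P := by
  intro hle
  apply ht
  -- `D(t) ⊓ V = ⊥`
  have hbot : X.basicOpen t ⊓ V = ⊥ := by
    rw [eq_bot_iff]
    intro y hy
    exfalso
    have hyt : y ∈ X.basicOpen t := hy.1
    have hyW : y ∈ W := X.basicOpen_le t hyt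
    obtain ⟨h, hhV, hyh⟩ := hW.exists_basicOpen_le (V := V) ⟨y, hy.2⟩ hyW
    have hnil : IsNilpotent (t * h) := hPt h (hle hhV)
    have h0 : X.basicOpen (t * h) = ⊥ := X.basicOpen_eq_bot_of_isNilpotent W (t * h) hnil
    have : y ∈ X.basicOpen (t * h) := by
      rw [Scheme.basicOpen_mul]; exact ⟨hyt, hyh⟩
    rw [h0] at this
    exact this
  have hsub : Subsingleton Γ(X, X.basicOpen t ⊓ V) := by
    rw [hbot]; infer_instance
  have hinj := hV (X.basicOpen t) ((X.basicOpen_le t).trans hWU)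
  have hsub' : Subsingleton Γ(X, X.basicOpen t) := hinj.subsingleton
  have hDt : X.basicOpen t = ⊥ := by
    rw [eq_bot_iff]
    intro y hy
    exfalso
    have h10 : (1 : Γ(X, X.basicOpen t)) = 0 := Subsingleton.elim _ _
    have := congrArg (X.presheaf.germ (X.basicOpen t) y hy) h10
    rw [map_one, map_zero] at this
    exact one_ne_zero this
  have hnil : IsNilpotent t :=
    (Scheme.isNilpotent_iff_basicOpen_eq_bot_of_isCompact hW.isCompact t).mpr hDt
  obtain ⟨n, hn⟩ := hnil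
  exact Ideal.IsPrime.mem_of_pow_mem ‹P.IsPrime› n (by rw [hn]; exact P.zero_mem)

/-- existence of a regular function on an affine `W ≤ U` with `D(b) ≤ V`, minimal primes version -/
theorem exists_regular_basicOpen_le' {X : Scheme.{u}} {U V W : X.Opens} (hW : IsAffineOpen W)
    (hWU : W ≤ U)
    (hV : ∀ W : X.Opens, W ≤ U →
      Function.Injective ⇑(X.presheaf.map (homOfLE (inf_le_left : W ⊓ V ≤ W)).op))
    (hdata : ∃ Ps : Set (Ideal Γ(X, W)), Ps.Finite ∧ (∀ P ∈ Ps, P.IsPrime) ∧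
      (∀ a : Γ(X, W), a ∉ nonZeroDivisors Γ(X, W) → ∃ P ∈ Ps, a ∈ P) ∧
      (∀ P ∈ Ps, ∃ t : Γ(X, W), t ∉ P ∧ ∀ h ∈ P, IsNilpotent (t * h))) :
    ∃ b : Γ(X, W), b ∈ regSub X W ∧ X.basicOpen b ≤ V := by
  obtain ⟨Ps, hfin, hprime, hzd, hkill⟩ := hdata
  obtain ⟨b, hbJ, hb⟩ := RegAvoid.exists_nzd_mem (basicIdeal W V) Ps hfin hprime hzd (by
    intro P hP
    obtain ⟨t, ht, hPt⟩ := hkill P hP
    haveI := hprime P hP
    exact not_basicIdeal_le_of_nilpotent hW hWU hV P t ht hPt)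
  exact ⟨b, mem_regSub_of_mem_nonZeroDivisors hW b hb, hbJ⟩

/-- local representation from a regular function whose nonvanishing locus lies in `V` -/
theorem exists_local_rep_of_regular {X : Scheme.{u}} {V W : X.Opens} (hW : IsAffineOpen W)
    (b₀ : Γ(X, W)) (hb₀ : b₀ ∈ regSub X W) (hb₀V : X.basicOpen b₀ ≤ V)
    (g : Γ(X, V)) :
    ∃ (a : Γ(X, W)) (b : regSub X W), ∀ (z : X) (hzW : z ∈ W) (hzV : z ∈ V),
      X.presheaf.germ W z hzW a = X.presheaf.germ W z hzW b.1 * X.presheaf.germ V z hzV g := by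
  let g' : Γ(X, X.basicOpen b₀) := X.presheaf.map (homOfLE hb₀V).op g
  obtain ⟨n, a, ha⟩ := exists_eq_pow_mul_of_isAffineOpen X W hW b₀ g'
  refine ⟨a, ⟨b₀ ^ n, pow_mem hb₀ n⟩, ?_⟩
  -- the equation on `D(b₀)`
  have hE : ∀ (y : X) (hy : y ∈ X.basicOpen b₀),
      X.presheaf.germ W y (X.basicOpen_le b₀ hy) a =
        (X.presheaf.germ W y (X.basicOpen_le b₀ hy) b₀) ^ n * X.presheaf.germ V y (hb₀V hy) g := by
    intro y hy
    have h1 := congrArg (X.presheaf.germ (X.basicOpen b₀) y hy) ha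
    rw [map_mul, map_pow] at h1
    have e1 : X.presheaf.germ (X.basicOpen b₀) y hy (a |_ X.basicOpen b₀) =
        X.presheaf.germ W y (X.basicOpen_le b₀ hy) a :=
      TopCat.Presheaf.germ_res_apply X.presheaf (homOfLE (X.basicOpen_le b₀)) y hy a
    have e2 : X.presheaf.germ (X.basicOpen b₀) y hy (b₀ |_ X.basicOpen b₀) =
        X.presheaf.germ W y (X.basicOpen_le b₀ hy) b₀ :=
      TopCat.Presheaf.germ_res_apply X.presheaf (homOfLE (X.basicOpen_le b₀)) y hy b₀
    have e3 : X.presheaf.germ (X.basicOpen b₀) y hy g' = X.presheaf.germ V y (hb₀V hy) g :=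
      TopCat.Presheaf.germ_res_apply X.presheaf (homOfLE hb₀V) y hy g
    rw [e1, e2, e3] at h1
    exact h1
  intro z hzW hzV
  obtain ⟨W', hW', hzW', hW'le⟩ := exists_isAffineOpen_mem_and_subset (x := z) (U := W ⊓ V)
    ⟨hzW, hzV⟩
  have hW'W : W' ≤ W := fun y hy => (hW'le hy).1
  have hW'V : W' ≤ V := fun y hy => (hW'le hy).2
  let aW : Γ(X, W') := X.presheaf.map (homOfLE hW'W).op a
  let bW : Γ(X, W') := X.presheaf.map (homOfLE hW'W).op b₀
  let gW : Γ(X, W') := X.presheaf.map (homOfLE hW'V).op g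
  let t : Γ(X, W') := aW - bW ^ n * gW
  have hres : X.presheaf.map (homOfLE (X.basicOpen_le bW)).op t = 0 := by
    apply TopCat.Presheaf.section_ext X.sheaf (X.basicOpen bW)
    intro y hy
    refine Eq.trans ?_ (map_zero _).symm
    have hyW' : y ∈ W' := X.basicOpen_le bW hy
    have hyb : y ∈ X.basicOpen b₀ := by
      have : X.basicOpen bW = W' ⊓ X.basicOpen b₀ := Scheme.basicOpen_res _ _ _
      rw [this] at hy
      exact hy.2
    have e : X.presheaf.germ (X.basicOpen bW) y hy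
        (X.presheaf.map (homOfLE (X.basicOpen_le bW)).op t) = X.presheaf.germ W' y hyW' t :=
      TopCat.Presheaf.germ_res_apply X.presheaf (homOfLE (X.basicOpen_le bW)) y hy t
    refine e.trans ?_
    show X.presheaf.germ W' y hyW' (aW - bW ^ n * gW) = 0
    rw [map_sub, map_mul, map_pow]
    have e1 : X.presheaf.germ W' y hyW' aW = X.presheaf.germ W y (hW'W hyW') a :=
      TopCat.Presheaf.germ_res_apply X.presheaf (homOfLE hW'W) y hyW' a
    have e2 : X.presheaf.germ W' y hyW' bW = X.presheaf.germ W y (hW'W hyW') b₀ :=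
      TopCat.Presheaf.germ_res_apply X.presheaf (homOfLE hW'W) y hyW' b₀
    have e3 : X.presheaf.germ W' y hyW' gW = X.presheaf.germ V y (hW'V hyW') g :=
      TopCat.Presheaf.germ_res_apply X.presheaf (homOfLE hW'V) y hyW' g
    rw [e1, e2, e3, sub_eq_zero]
    exact hE y hyb
  obtain ⟨m, hm⟩ := exists_pow_mul_eq_zero_of_res_basicOpen_eq_zero_of_isAffineOpen X hW' t bW hres
  have h2 := congrArg (X.presheaf.germ W' z hzW') hm
  rw [map_mul, map_pow, map_zero] at h2
  have e1 : X.presheaf.germ W' z hzW' aW = X.presheaf.germ W z hzW a :=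
    TopCat.Presheaf.germ_res_apply X.presheaf (homOfLE hW'W) z hzW' a
  have e2 : X.presheaf.germ W' z hzW' bW = X.presheaf.germ W z hzW b₀ :=
    TopCat.Presheaf.germ_res_apply X.presheaf (homOfLE hW'W) z hzW' b₀
  have e3 : X.presheaf.germ W' z hzW' gW = X.presheaf.germ V z hzV g :=
    TopCat.Presheaf.germ_res_apply X.presheaf (homOfLE hW'V) z hzW' g
  have hreg : X.presheaf.germ W' z hzW' bW ∈ nonZeroDivisors (X.presheaf.stalk z) := by
    rw [e2]
    exact hb₀ ⟨z, hzW⟩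
  have h3 : X.presheaf.germ W' z hzW' t = 0 :=
    (mul_left_mem_nonZeroDivisors_eq_zero_iff (pow_mem hreg m)).mp h2
  have h4 : X.presheaf.germ W' z hzW' (aW - bW ^ n * gW) = 0 := h3
  rw [map_sub, map_mul, map_pow, e1, e2, e3, sub_eq_zero] at h4
  show _ = X.presheaf.germ W z hzW (b₀ ^ n) * _
  rw [map_pow]
  exact h4

end Groth.Agent.Lib.Helper18.MeroExt2
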