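import Mathlib
import Groth.Prelude.Def_MeroDiv
import Groth.Agent.Lib.Helper18.InvGen
import Groth.Agent.Lib.Helper18.MeroTwist
import Groth.Agent.S5085
import Groth.Agent.S5086

set_option autoImplicit false
universe u
open CategoryTheory CategoryTheory.Limits AlgebraicGeometry TopologicalSpace Opposite

namespace Groth.Agent.Lib.Helper18.MeroTwistExt

open Mero InvGen MeroTwist

variable {X : Scheme.{u}}

/-- schematic density passes to larger opens -/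
theorem injective_res_of_le {W O₁ O₂ : X.Opens} (h₁ : O₁ ≤ O₂) (h₂ : O₂ ≤ W)
    (h : Function.Injective ⇑(X.presheaf.map (homOfLE (h₁.trans h₂)).op)) :
    Function.Injective ⇑(X.presheaf.map (homOfLE h₂).op) := by
  intro a b hab
  apply h
  have e : ∀ c : Γ(X, W), X.presheaf.map (homOfLE (h₁.trans h₂)).op c =
      X.presheaf.map (homOfLE h₁).op (X.presheaf.map (homOfLE h₂).op c) := fun c =>
    (map_map' h₂ h₁ c).symm
  rw [e, e, hab]

/-- schematic density of `V` in `U` restricts to opens `W ≤ U` -/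
theorem dense_inf {U V : X.Opens}
    (hV : ∀ W : X.Opens, W ≤ U →
      Function.Injective ⇑(X.presheaf.map (homOfLE (inf_le_left : W ⊓ V ≤ W)).op))
    {W : X.Opens} (hWU : W ≤ U) :
    ∀ W' : X.Opens, W' ≤ W →
      Function.Injective ⇑(X.presheaf.map (homOfLE (inf_le_left : W' ⊓ (W ⊓ V) ≤ W')).op) := by
  intro W' hW'
  have h1 : W' ⊓ V ≤ W' ⊓ (W ⊓ V) := fun y hy => ⟨hy.1, hW' hy.1, hy.2⟩
  exact injective_res_of_le h1 inf_le_left (hV W' (hW'.trans hWU))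

/-- twisted form of S5085: meromorphic sections of an invertible module agreeing on a schematically
dense open are equal -/
theorem eq_of_eq_on_dense {L : X.Modules} (hL : PicF.IsInvertible L) {U V : X.Opens} (hVU : V ≤ U)
    (hV : ∀ W : X.Opens, W ≤ U →
      Function.Injective ⇑(X.presheaf.map (homOfLE (inf_le_left : W ⊓ V ≤ W)).op))
    (t t' : Γ(Mero.merMod L, U))
    (h : ∀ y : V, t.1 ⟨y.1, hVU y.2⟩ = t'.1 ⟨y.1, hVU y.2⟩) : t = t' := by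
  refine Subtype.ext (funext fun x => ?_)
  obtain ⟨W, ℓ, -, hxW, hWU, hℓ⟩ := exists_isGen hL x.1 U x.2
  let tW : Γ(Mero.merMod L, W) := (Mero.merMod L).presheaf.map (homOfLE hWU).op t
  let tW' : Γ(Mero.merMod L, W) := (Mero.merMod L).presheaf.map (homOfLE hWU).op t'
  obtain ⟨k, hk⟩ := exists_untwist hℓ le_rfl tW
  obtain ⟨k', hk'⟩ := exists_untwist hℓ le_rfl tW'
  have hkk : k = k' := by
    apply Groth.Agent.S5085.result X W (W ⊓ V) inf_le_left (dense_inf hV hWU)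
    refine Subtype.ext (funext fun y => ?_)
    show k.1 ⟨y.1, y.2.1⟩ = k'.1 ⟨y.1, y.2.1⟩
    apply bas_cancel hℓ y.1 y.2.1
    have e1 : k.1 ⟨y.1, y.2.1⟩ • bas L ℓ y.1 y.2.1 = tW.1 ⟨y.1, y.2.1⟩ :=
      congrArg (fun f : Γ(Mero.merMod L, W) => f.1 ⟨y.1, y.2.1⟩) hk
    have e2 : k'.1 ⟨y.1, y.2.1⟩ • bas L ℓ y.1 y.2.1 = tW'.1 ⟨y.1, y.2.1⟩ :=
      congrArg (fun f : Γ(Mero.merMod L, W) => f.1 ⟨y.1, y.2.1⟩) hk'
    rw [e1, e2]
    exact h ⟨y.1, y.2.2⟩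
  have e1 : tW.1 ⟨x.1, hxW⟩ = tW'.1 ⟨x.1, hxW⟩ := by
    rw [← hk, ← hk', hkk]
  exact e1

theorem map_id_apply (L : X.Modules) (V : X.Opens) (m : Γ(L, V)) :
    L.presheaf.map (homOfLE (le_refl V)).op m = m := by
  have : (homOfLE (le_refl V)).op = 𝟙 (op V) := rfl
  rw [this, L.presheaf.map_id]
  rfl

/-- comparing two generators: the transition function extends to a unit of `K_X(W)` -/
theorem exists_unit_ext
    (hX : IsLocallyNoetherian X ∨ (IsReduced X ∧ ∀ x : ↥X, ∃ W : X.Opens, x ∈ W ∧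
      {Z : Set ↥X | Z ∈ irreducibleComponents ↥X ∧ (Z ∩ (W : Set ↥X)).Nonempty}.Finite))
    {L : X.Modules} {W V : X.Opens} {ℓ : Γ(L, W)} (hℓ : IsGen L W ℓ) (hVW : V ≤ W)
    (hV : ∀ W' : X.Opens, W' ≤ W →
      Function.Injective ⇑(X.presheaf.map (homOfLE (inf_le_left : W' ⊓ V ≤ W')).op))
    (ℓ' : Γ(L, V)) (hℓ' : IsGen L V ℓ') :
    ∃ k k' : Γ(Mero.kmod X, W), (∀ y : W, k.1 y * k'.1 y = 1) ∧
      ∀ y : V, (twist L ℓ le_rfl k).1 ⟨y.1, hVW y.2⟩ =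
        LocalizedModule.mk (L.presheaf.germ V y.1 y.2 ℓ') 1 := by
  obtain ⟨g, hg⟩ := hℓ.exists_smul_eq hVW ℓ'
  obtain ⟨g', hg'⟩ := hℓ'.exists_smul_eq le_rfl (L.presheaf.map (homOfLE hVW).op ℓ)
  rw [map_id_apply] at hg'
  have hgg : g * g' = 1 := by
    rw [mul_comm]
    apply hℓ.smul_injective hVW
    rw [mul_smul, hg, hg', one_smul]
  obtain ⟨k, hk⟩ := Groth.Agent.S5086.result X hX W V hVW hV g
  obtain ⟨k', hk'⟩ := Groth.Agent.S5086.result X hX W V hVW hV g'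
  have hky : ∀ y : V, k.1 ⟨y.1, hVW y.2⟩ = (Mero.toK X V g).1 y := fun y =>
    congrArg (fun f : Γ(Mero.kmod X, V) => f.1 y) hk
  have hky' : ∀ y : V, k'.1 ⟨y.1, hVW y.2⟩ = (Mero.toK X V g').1 y := fun y =>
    congrArg (fun f : Γ(Mero.kmod X, V) => f.1 y) hk'
  have hkk : k * k' = 1 := by
    apply Groth.Agent.S5085.result X W V hVW hV
    refine Subtype.ext (funext fun y => ?_)
    show k.1 ⟨y.1, hVW y.2⟩ * k'.1 ⟨y.1, hVW y.2⟩ = 1
    rw [hky, hky', ← Mero.kmod_mul_apply, ← map_mul, hgg, map_one]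
    rfl
  refine ⟨k, k', fun y => ?_, fun y => ?_⟩
  · rw [← Mero.kmod_mul_apply, hkk]
    rfl
  · rw [twist_apply]
    show k.1 ⟨y.1, hVW y.2⟩ • bas L ℓ y.1 (hVW y.2) = _
    rw [hky y, Mero.toK_apply, mk_smul_bas]
    refine mk_congr ?_ rfl
    rw [← hg]
    exact (germ_smul_res L ℓ hVW g y.1 y.2).symm

/-- **Existence of a regular meromorphic section** from a generator over a schematically dense
open. -/
theorem hasRegularMero_of_generator
    (hX : IsLocallyNoetherian X ∨ (IsReduced X ∧ ∀ x : ↥X, ∃ W : X.Opens, x ∈ W ∧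
      {Z : Set ↥X | Z ∈ irreducibleComponents ↥X ∧ (Z ∩ (W : Set ↥X)).Nonempty}.Finite))
    {L : X.Modules} (hL : PicF.IsInvertible L) (D : X.Opens)
    (hD : ∀ W : X.Opens,
      Function.Injective ⇑(X.presheaf.map (homOfLE (inf_le_left : W ⊓ D ≤ W)).op))
    (ℓD : Γ(L, D)) (hℓD : IsGen L D ℓD) : Mero.HasRegularMero L := by
  have hD' : ∀ W : X.Opens, W ≤ (⊤ : X.Opens) →
      Function.Injective ⇑(X.presheaf.map (homOfLE (inf_le_left : W ⊓ D ≤ W)).op) :=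
    fun W _ => hD W
  have hloc : ∀ x : X, ∃ (W : X.Opens) (ℓ : Γ(L, W)), x ∈ W ∧ IsGen L W ℓ := by
    intro x
    obtain ⟨W, ℓ, -, hx, -, h⟩ := exists_isGen hL x ⊤ trivial
    exact ⟨W, ℓ, hx, h⟩
  choose W ℓ hxW hℓ using hloc
  have hext : ∀ x : X, ∃ k k' : Γ(Mero.kmod X, W x), (∀ y : W x, k.1 y * k'.1 y = 1) ∧
      ∀ y : (W x ⊓ D : X.Opens), (twist L (ℓ x) le_rfl k).1 ⟨y.1, y.2.1⟩ =
        LocalizedModule.mk (L.presheaf.germ (W x ⊓ D) y.1 y.2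
          (L.presheaf.map (homOfLE (inf_le_right : W x ⊓ D ≤ D)).op ℓD)) 1 := fun x =>
    exists_unit_ext hX (hℓ x) inf_le_left (dense_inf hD' le_top)
      (L.presheaf.map (homOfLE (inf_le_right : W x ⊓ D ≤ D)).op ℓD) (hℓD.res inf_le_right)
  choose k k' hkk hkD using hext
  let t : ∀ x : X, Γ(Mero.merMod L, W x) := fun x => twist L (ℓ x) le_rfl (k x)
  have htD : ∀ (x y : X) (hy : y ∈ W x) (hyD : y ∈ D),
      (t x).1 ⟨y, hy⟩ = LocalizedModule.mk (L.presheaf.germ D y hyD ℓD) 1 := by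
    intro x y hy hyD
    refine (hkD x ⟨y, hy, hyD⟩).trans (mk_congr ?_ rfl)
    exact TopCat.Presheaf.germ_res_apply L.presheaf (homOfLE (inf_le_right : W x ⊓ D ≤ D)) y ⟨hy, hyD⟩ ℓD
  have hcompat : ∀ (x x' z : X) (hz : z ∈ W x) (hz' : z ∈ W x'),
      (t x).1 ⟨z, hz⟩ = (t x').1 ⟨z, hz'⟩ := by
    intro x x' z hz hz'
    let U : X.Opens := W x ⊓ W x'
    let a : Γ(Mero.merMod L, U) := (Mero.merMod L).presheaf.map (homOfLE (inf_le_left : U ≤ W x)).op (t x)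
    let b : Γ(Mero.merMod L, U) := (Mero.merMod L).presheaf.map (homOfLE (inf_le_right : U ≤ W x')).op (t x')
    have hab : a = b := by
      refine eq_of_eq_on_dense hL (V := U ⊓ D) inf_le_left (dense_inf hD' le_top) a b (fun y => ?_)
      show (t x).1 ⟨y.1, y.2.1.1⟩ = (t x').1 ⟨y.1, y.2.1.2⟩
      rw [htD x y.1 _ y.2.2, htD x' y.1 _ y.2.2]
    exact congrArg (fun f : Γ(Mero.merMod L, U) => f.1 ⟨z, hz, hz'⟩) hab
  let sfun : ∀ x : (⊤ : X.Opens), MStalk L x.1 := fun x => (t x.1).1 ⟨x.1, hxW x.1⟩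
  have hs : (mLoc L).pred sfun := by
    intro x
    obtain ⟨V₁, hx₁, i, m, b, hmb⟩ := (t x.1).2 ⟨x.1, hxW x.1⟩
    refine ⟨V₁, hx₁, homOfLE le_top, m, b, fun z => ?_⟩
    show (t z.1).1 ⟨z.1, hxW z.1⟩ = _
    rw [hcompat z.1 x.1 z.1 (hxW z.1) (i.le z.2)]
    exact hmb z
  refine ⟨⟨sfun, hs⟩, fun x q hq => ?_⟩
  have hq' : q • ((k x).1 ⟨x, hxW x⟩ • bas L (ℓ x) x (hxW x)) = 0 := hq
  rw [← mul_smul] at hq'
  have h0 := bas_injective (hℓ x) x (hxW x) _ hq'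
  calc q = q * ((k x).1 ⟨x, hxW x⟩ * (k' x).1 ⟨x, hxW x⟩) := by rw [hkk x ⟨x, hxW x⟩, mul_one]
    _ = (q * (k x).1 ⟨x, hxW x⟩) * (k' x).1 ⟨x, hxW x⟩ := by rw [mul_assoc]
    _ = 0 := by rw [h0, zero_mul]

end Groth.Agent.Lib.Helper18.MeroTwistExt
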