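import Mathlib.Algebra.Homology.Refinements
import Mathlib.Algebra.Category.ModuleCat.Abelian
import Mathlib.Algebra.Category.ModuleCat.EpiMono

/-!
# Elementwise criteria for mono/epi of the maps induced on homology by a morphism of complexes of modules
(helper18)
-/

set_option autoImplicit false
universe v u

open CategoryTheory

namespace Groth.Agent.Lib.helper18

variable {R : Type u} [Ring R] {ι : Type*} {c : ComplexShape ι}
  {K L : HomologicalComplex (ModuleCat.{v} R) c} (φ : K ⟶ L)

/-- Elementwise criterion for injectivity on homology. -/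
theorem mono_homologyMap_iff_elementwise (i j k : ι) (hi : c.prev j = i) (hk : c.next j = k) :
    Mono (HomologicalComplex.homologyMap φ j) ↔
      ∀ (x : K.X j), (K.d j k).hom x = 0 → ∀ (y : L.X i), (φ.f j).hom x = (L.d i j).hom y →
        ∃ x₁ : K.X i, x = (K.d i j).hom x₁ := by
  rw [HomologicalComplex.mono_homologyMap_iff_up_to_refinements φ i j k hi hk]
  constructor
  · intro H x hx y hxy
    -- universal test object
    let P : Submodule R (K.X j × L.X i) :=
      LinearMap.ker ((K.d j k).hom ∘ₗ LinearMap.fst R (K.X j) (L.X i)) ⊓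
        LinearMap.ker ((φ.f j).hom ∘ₗ LinearMap.fst R (K.X j) (L.X i) -
          (L.d i j).hom ∘ₗ LinearMap.snd R (K.X j) (L.X i))
    let x₂ : ModuleCat.of R P ⟶ K.X j := ModuleCat.ofHom (LinearMap.fst R _ _ ∘ₗ P.subtype)
    let y₁ : ModuleCat.of R P ⟶ L.X i := ModuleCat.ofHom (LinearMap.snd R _ _ ∘ₗ P.subtype)
    have hx₂ : x₂ ≫ K.d j k = 0 := by
      ext p
      have hp := (Submodule.mem_inf.mp p.2).1
      rw [LinearMap.mem_ker] at hp
      simp only [LinearMap.comp_apply, LinearMap.fst_apply] at hp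
      exact hp
    have hxy' : x₂ ≫ φ.f j = y₁ ≫ L.d i j := by
      ext p
      have hp := (Submodule.mem_inf.mp p.2).2
      rw [LinearMap.mem_ker] at hp
      simp only [LinearMap.sub_apply, LinearMap.comp_apply, LinearMap.fst_apply,
        LinearMap.snd_apply, sub_eq_zero] at hp
      exact hp
    obtain ⟨A', π, hπ, x₁, e⟩ := H x₂ hx₂ y₁ hxy'
    have hp : ((x, y) : K.X j × L.X i) ∈ P := by
      refine ⟨?_, ?_⟩
      · simpa [LinearMap.mem_ker] using hx
      · simpa [LinearMap.mem_ker, sub_eq_zero] using hxy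
    obtain ⟨a', ha'⟩ := (ModuleCat.epi_iff_surjective π).mp hπ ⟨(x, y), hp⟩
    refine ⟨x₁.hom a', ?_⟩
    have e' := congrArg (fun g => g.hom a') e
    simp only [ModuleCat.hom_comp, LinearMap.comp_apply] at e'
    rw [← e', ha']
    rfl
  · intro H A x₂ hx₂ y₁ hxy
    let Q : Submodule R (A × K.X i) :=
      LinearMap.ker (x₂.hom ∘ₗ LinearMap.fst R A (K.X i) -
        (K.d i j).hom ∘ₗ LinearMap.snd R A (K.X i))
    let π : ModuleCat.of R Q ⟶ A := ModuleCat.ofHom (LinearMap.fst R _ _ ∘ₗ Q.subtype)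
    let x₁ : ModuleCat.of R Q ⟶ K.X i := ModuleCat.ofHom (LinearMap.snd R _ _ ∘ₗ Q.subtype)
    have hπ : Function.Surjective π := by
      intro a
      have h1 : (K.d j k).hom (x₂.hom a) = 0 := by
        have := congrArg (fun g => g.hom a) hx₂
        simpa only [ModuleCat.hom_comp, LinearMap.comp_apply, ModuleCat.hom_zero,
          LinearMap.zero_apply] using this
      have h2 : (φ.f j).hom (x₂.hom a) = (L.d i j).hom (y₁.hom a) := by
        have := congrArg (fun g => g.hom a) hxy
        simpa only [ModuleCat.hom_comp, LinearMap.comp_apply] using this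
      obtain ⟨z, hz⟩ := H (x₂.hom a) h1 (y₁.hom a) h2
      refine ⟨⟨(a, z), ?_⟩, rfl⟩
      simpa [Q, LinearMap.mem_ker, sub_eq_zero] using hz
    refine ⟨ModuleCat.of R Q, π, (ModuleCat.epi_iff_surjective π).mpr hπ, x₁, ?_⟩
    ext q
    have hq : (q : A × K.X i) ∈ LinearMap.ker (x₂.hom ∘ₗ LinearMap.fst R A (K.X i) -
        (K.d i j).hom ∘ₗ LinearMap.snd R A (K.X i)) := q.2
    rw [LinearMap.mem_ker] at hq
    simp only [LinearMap.sub_apply, LinearMap.comp_apply, LinearMap.fst_apply,
      LinearMap.snd_apply, sub_eq_zero] at hq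
    exact hq

/-- Elementwise criterion for surjectivity on homology. -/
theorem epi_homologyMap_iff_elementwise (i j k : ι) (hi : c.prev j = i) (hk : c.next j = k) :
    Epi (HomologicalComplex.homologyMap φ j) ↔
      ∀ (y : L.X j), (L.d j k).hom y = 0 →
        ∃ (x : K.X j), (K.d j k).hom x = 0 ∧ ∃ y₁ : L.X i, y = (φ.f j).hom x + (L.d i j).hom y₁ := by
  rw [HomologicalComplex.epi_homologyMap_iff_up_to_refinements φ i j k hi hk]
  constructor
  · intro H y hy
    let P : Submodule R (L.X j) := LinearMap.ker (L.d j k).hom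
    let y₂ : ModuleCat.of R P ⟶ L.X j := ModuleCat.ofHom P.subtype
    have hy₂ : y₂ ≫ L.d j k = 0 := by
      ext p
      have hp : (p : L.X j) ∈ LinearMap.ker (L.d j k).hom := p.2
      rw [LinearMap.mem_ker] at hp
      exact hp
    obtain ⟨A', π, hπ, x₂, hx₂, y₁, e⟩ := H y₂ hy₂
    obtain ⟨a', ha'⟩ := (ModuleCat.epi_iff_surjective π).mp hπ ⟨y, hy⟩
    refine ⟨x₂.hom a', ?_, y₁.hom a', ?_⟩
    · have := congrArg (fun g => g.hom a') hx₂
      simpa only [ModuleCat.hom_comp, LinearMap.comp_apply, ModuleCat.hom_zero,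
        LinearMap.zero_apply] using this
    · have e' := congrArg (fun g => g.hom a') e
      simp only [ModuleCat.hom_comp, ModuleCat.hom_add, LinearMap.comp_apply,
        LinearMap.add_apply] at e'
      rw [← e', ha']
      rfl
  · intro H A y₂ hy₂
    let Q : Submodule R (A × K.X j × L.X i) :=
      LinearMap.ker ((K.d j k).hom ∘ₗ LinearMap.fst R (K.X j) (L.X i) ∘ₗ
          LinearMap.snd R A (K.X j × L.X i)) ⊓
        LinearMap.ker (y₂.hom ∘ₗ LinearMap.fst R A (K.X j × L.X i) -
          ((φ.f j).hom ∘ₗ LinearMap.fst R (K.X j) (L.X i) ∘ₗ LinearMap.snd R A (K.X j × L.X i) +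
            (L.d i j).hom ∘ₗ LinearMap.snd R (K.X j) (L.X i) ∘ₗ LinearMap.snd R A (K.X j × L.X i)))
    let π : ModuleCat.of R Q ⟶ A := ModuleCat.ofHom (LinearMap.fst R _ _ ∘ₗ Q.subtype)
    let x₂ : ModuleCat.of R Q ⟶ K.X j :=
      ModuleCat.ofHom (LinearMap.fst R _ _ ∘ₗ LinearMap.snd R _ _ ∘ₗ Q.subtype)
    let y₁ : ModuleCat.of R Q ⟶ L.X i :=
      ModuleCat.ofHom (LinearMap.snd R _ _ ∘ₗ LinearMap.snd R _ _ ∘ₗ Q.subtype)
    have hπ : Function.Surjective π := by
      intro a
      have h1 : (L.d j k).hom (y₂.hom a) = 0 := by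
        have := congrArg (fun g => g.hom a) hy₂
        simpa only [ModuleCat.hom_comp, LinearMap.comp_apply, ModuleCat.hom_zero,
          LinearMap.zero_apply] using this
      obtain ⟨x, hx, z, hz⟩ := H (y₂.hom a) h1
      refine ⟨⟨(a, x, z), ?_, ?_⟩, rfl⟩
      · simpa [LinearMap.mem_ker] using hx
      · simpa [LinearMap.mem_ker, sub_eq_zero] using hz
    refine ⟨ModuleCat.of R Q, π, (ModuleCat.epi_iff_surjective π).mpr hπ, x₂, ?_, y₁, ?_⟩
    · ext q
      have hq := (Submodule.mem_inf.mp q.2).1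
      rw [LinearMap.mem_ker] at hq
      simp only [LinearMap.comp_apply, LinearMap.fst_apply, LinearMap.snd_apply] at hq
      exact hq
    · ext q
      have hq := (Submodule.mem_inf.mp q.2).2
      rw [LinearMap.mem_ker] at hq
      simp only [LinearMap.sub_apply, LinearMap.add_apply, LinearMap.comp_apply,
        LinearMap.fst_apply, LinearMap.snd_apply, sub_eq_zero] at hq
      exact hq

end Groth.Agent.Lib.helper18
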