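import Mathlib
import Groth.Agent.Lib.Helper18.NNPush
import Groth.Agent.Lib.Helper18.NNMaster0

/-!
# `f_* F` near a point where `H^1` of the fibre vanishes; openness of the vanishing loci (helper18)

No comparison datum `E : SectCmp f Δ` is needed here.
-/

set_option autoImplicit false
universe u

open CategoryTheory CategoryTheory.Limits Opposite TopologicalSpace AlgebraicGeometry

namespace Groth.Agent.Lib.Helper18.NNPush2

open Groth.Agent.Lib.Helper18.NNLocal Groth.Agent.Lib.Helper18.NNRows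
  Groth.Agent.Lib.Helper18.SplitAlg Groth.Agent.Lib.Helper18.NNPush
  Groth.Agent.Lib.Helper18.NNGen Groth.Agent.Lib.Helper18.NNMaster0
  Groth.Agent.Lib.helper25.FLFLocus
open Scheme.Modules

variable {X S : Scheme.{u}} (f : X ⟶ S) [IsProper f] [LocallyOfFinitePresentation f]
  (F : X.Modules) [F.IsQuasicoherent] (hfp : CohB1.IsFP F) (hfl : FlatMod.IsFlatOver f F)

include hfp hfl in
/-- the local structure of `f_* F` near a point `v` with `H^1(X_v, F_v) = 0`: a chart of `f_* F` (for all base change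
maps `bc0Adj`) whose differential `L^0 ⟶ L^1` splits up to a function invertible at `v`, and `f_* F` is free near `v` -/
theorem exists_chart_of_vanish_one (v : S) (h1 : Subsingleton (CohIII.fiberH f F v 1)) :
    ∃ (W : S.Opens) (_ : IsAffineOpen W)
      (K : CochainComplex (ModuleCat.{u} Γ(S, W)) ℤ)
      (Θ₀ : K.homology ((0 : ℕ) : ℤ) ≃ₗ[Γ(S, W)] Γ((pushforward f).obj F, W))
      (_ : ∀ {X' S' : Scheme.{u}} (g : S' ⟶ S) (gX : X' ⟶ X) (f' : X' ⟶ S')
          (hX : IsPullback gX f' f g),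
          ChartPropGen g (CohBC.bc0Adj f g f' gX hX.w F) K ((0 : ℕ) : ℤ) Θ₀)
      (a : Γ(S, W)), v ∈ S.basicOpen a ∧ GSplit (K.sc ((0 : ℕ) : ℤ)) a ∧
        FreeNear ((pushforward f).obj F) v := by
  classical
  haveI : ((Scheme.Modules.pushforward f).obj F).IsQuasicoherent :=
    Groth.Agent.Lib.helper7.QCohPushQC.isQuasicoherent_pushforward f F
  obtain ⟨W, hW', hvW, -⟩ := TopologicalSpace.Opens.isBasis_iff_nbhd.mp S.isBasis_affineOpens
    (show v ∈ (⊤ : S.Opens) from trivial)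
  have hW : IsAffineOpen W := hW'
  obtain ⟨K, hLff, -, hneg, hK, Θ₀, hΘ₀⟩ := master_push f F hfp hfl hW
  obtain ⟨a1, hva1, -, hf1, -⟩ := exists_splits_of_vanish f hW F K hLff hK v hvW 1 h1
  have hrel1 : (ComplexShape.up ℤ).Rel ((0 : ℕ) : ℤ) ((1 : ℕ) : ℤ) := by
    show ((0 : ℕ) : ℤ) + 1 = ((1 : ℕ) : ℤ)
    norm_num
  have hg0 : GSplit (K.sc ((0 : ℕ) : ℤ)) a1 := (fsplit_iff_gsplit K hrel1 a1).mp hf1
  have hx : hW.fromSpec (hW.primeIdealOf ⟨v, hvW⟩) = v := hW.fromSpec_primeIdealOf ⟨v, hvW⟩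
  have h0 : Subsingleton ((CohIII.bcCx (algebraMap Γ(S, W)
      (hW.primeIdealOf ⟨v, hvW⟩).asIdeal.ResidueField) K).homology (-1)) :=
    ModuleCat.subsingleton_of_isZero (hneg _ (-1) (by norm_num))
  obtain ⟨am, hvam, hgm, -, -⟩ := exists_splits_of_subsingleton_bc hW K hLff
    (hW.primeIdealOf ⟨v, hvW⟩) (-1) h0
  rw [hx] at hvam
  have hrel0 : (ComplexShape.up ℤ).Rel (-1 : ℤ) ((0 : ℕ) : ℤ) := by
    show (-1 : ℤ) + 1 = ((0 : ℕ) : ℤ)
    norm_num
  have hfi : FSplit (K.sc ((0 : ℕ) : ℤ)) am := (fsplit_iff_gsplit K hrel0 am).mpr hgm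
  have hmul : S.basicOpen (a1 * am) = S.basicOpen a1 ⊓ S.basicOpen am :=
    Scheme.basicOpen_mul S a1 am
  have hle0 : S.basicOpen (a1 * am) ≤ S.basicOpen a1 := hmul.le.trans inf_le_left
  have hlem : S.basicOpen (a1 * am) ≤ S.basicOpen am := hmul.le.trans inf_le_right
  refine ⟨W, hW, K, Θ₀, hΘ₀, a1, hva1, hg0, ?_⟩
  haveI : Module.Finite Γ(S, W) (K.sc ((0 : ℕ) : ℤ)).X₂ := (hLff _).1
  haveI : Module.Free Γ(S, W) (K.sc ((0 : ℕ) : ℤ)).X₂ := (hLff _).2
  obtain ⟨p1, p2⟩ := projective_sections_basicOpen ((Scheme.Modules.pushforward f).obj F) hW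
    (K.sc ((0 : ℕ) : ℤ)) Θ₀ (a1 * am) am a1 hfi hg0 hlem hle0
  exact freeNear_of_projective_sections _ (hW.basicOpen (a1 * am)) p1 p2 v
    (by rw [hmul]; exact ⟨hva1, hvam⟩)

include hfp hfl in
/-- `f_* F` is free near a point `v` with `H^1(X_v, F_v) = 0` -/
theorem freeNear_push_of_vanish_one (v : S) (h1 : Subsingleton (CohIII.fiberH f F v 1)) :
    FreeNear ((pushforward f).obj F) v := by
  obtain ⟨W, hW, K, Θ₀, hΘ₀, a, hva, hg0, hfree⟩ := exists_chart_of_vanish_one f F hfp hfl v h1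
  exact hfree

include hfp hfl in
/-- the formation of `f_* F` commutes with every base change `g` such that `H^1` of the fibres of `f` at the points
`g z` vanishes -/
theorem isIso_bc0_of_vanish_one {X' S' : Scheme.{u}} (g : S' ⟶ S) (gX : X' ⟶ X) (f' : X' ⟶ S')
    (hX : IsPullback gX f' f g)
    (h1 : ∀ z : S', Subsingleton (CohIII.fiberH f F (g z) 1)) :
    IsIso (CohBC.bc0 f g f' gX hX.w F) := by
  haveI : ((Scheme.Modules.pushforward f).obj F).IsQuasicoherent :=
    Groth.Agent.Lib.helper7.QCohPushQC.isQuasicoherent_pushforward f F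
  refine isIso_adj_of_splitAtGen (v := CohBC.bc0Adj f g f' gX hX.w F) (fun z => ?_)
  obtain ⟨W, hW, K, Θ₀, hΘ₀, a, hva, hg0, hfree⟩ :=
    exists_chart_of_vanish_one f F hfp hfl (g z) (h1 z)
  exact splitAtGen_of_gsplit f F hW K Θ₀ hΘ₀ a hg0 g gX f' hX z hva

include hfp hfl in
/-- the locus where `H^p` of the fibres vanishes is open -/
theorem isOpen_vanish (p : ℕ) : IsOpen {s : S | Subsingleton (CohIII.fiberH f F s p)} := by
  rw [isOpen_iff_forall_mem_open]
  intro s hs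
  obtain ⟨W, hW', hsW, -⟩ := TopologicalSpace.Opens.isBasis_iff_nbhd.mp S.isBasis_affineOpens
    (show s ∈ (⊤ : S.Opens) from trivial)
  have hW : IsAffineOpen W := hW'
  obtain ⟨K, hLff, -, -, hK, -⟩ := master_push f F hfp hfl hW
  obtain ⟨a, hsa, hg, -, hz⟩ := exists_splits_of_vanish f hW F K hLff hK s hsW p hs
  exact ⟨S.basicOpen a, fun t hta => vanish_of_splits f hW F K hK t p a a hta hta hg hz,
    (S.basicOpen a).isOpen, hsa⟩

include hfp hfl in
/-- `R^p f_* F` is killed near a point where `H^p` of the fibre vanishes -/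
theorem killAt_of_vanish [HasInjectiveResolutions X.Modules] (p : ℕ) (s : S)
    (hs : Subsingleton (CohIII.fiberH f F s p)) : KillAt ((Coh.Rpush f p).obj F) s := by
  obtain ⟨W, hW', hsW, -⟩ := TopologicalSpace.Opens.isBasis_iff_nbhd.mp S.isBasis_affineOpens
    (show s ∈ (⊤ : S.Opens) from trivial)
  have hW : IsAffineOpen W := hW'
  obtain ⟨K, hLff, -, -, hK, -⟩ := master_push f F hfp hfl hW
  obtain ⟨ΘA⟩ := chart_rpush₀ f F hW K hK p
  obtain ⟨a, hsa, -, -, hz⟩ := exists_splits_of_vanish f hW F K hLff hK s hsW p hs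
  refine ⟨W, hW, a, hsa, fun m => ?_⟩
  obtain ⟨x, rfl⟩ := ΘA.surjective m
  have h0 : a • x = 0 := smul_homology_eq_zero (S := K.sc (p : ℤ)) hz x
  rw [← _root_.map_smul, h0, _root_.map_zero]

end Groth.Agent.Lib.Helper18.NNPush2
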