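import Mathlib
import Groth.Agent.Lib.Helper18.NNPush2
import Groth.Agent.Lib.Helper11.InvMod
import Groth.Agent.Lib.Helper7.IdealMod
import Groth.Agent.Lib.Lead.GrothVanish
import Groth.Agent.Lib.Helper16.FLF5
import Groth.Agent.Lib.Helper21.InvFibre

/-!
# The structure sheaf: `R^1 f_* O_X` for families of curves with `Γ(X_s, O) = κ(s)` (helper18)

* `epi_bc0_structureModule_of_h0`: if `Γ(X_s, O_{X_s}) = κ(s)` then the degree zero base change map of `O_X` at the
  fibre of `s` is an epimorphism.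
* `isFinLocFree_rpush_one_structureModule`: `f` proper, flat, locally of finite presentation, fibres of dimension `≤ 1`
  with `Γ(X_s, O_{X_s}) = κ(s)`: `R^1 f_* O_X` is finite locally free.
-/

set_option autoImplicit false
universe u

open CategoryTheory CategoryTheory.Limits Opposite TopologicalSpace AlgebraicGeometry

namespace Groth.Agent.Lib.Helper18.NNUnit

open Groth.Agent.Lib.Helper18.NNLocal Groth.Agent.Lib.Helper18.NNRows
  Groth.Agent.Lib.Helper18.SplitAlg Groth.Agent.Lib.Helper18.NNPush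
  Groth.Agent.Lib.Helper18.NNGen Groth.Agent.Lib.Helper18.NNPush2
  Groth.Agent.Lib.helper25.FLFLocus Groth.Agent.Lib.helper8.PullbackUnit
  Groth.Agent.Lib.helper11.InvMod
open Scheme.Modules

/-- the pullback of the section `1` of `O_X` is the section `1` of `O_{X'}` -/
theorem pullbackUnitIso_hom_ρ_one {X X' : Scheme.{u}} (p : X' ⟶ X) {U : X.Opens} {V : X'.Opens}
    (e : V ≤ p ⁻¹ᵁ U) :
    ((pullbackUnitIso p).hom.app V).hom
      (ρ p e (Coh.structureModule X) ((1 : Γ(X, U)) : Γ(Coh.structureModule X, U))) =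
      ((1 : Γ(X', V)) : Γ(Coh.structureModule X', V)) := by
  have h := app_ρ p e (A := Coh.structureModule X) (B := Coh.structureModule X')
    (ClSub.unitToPush p) ((1 : Γ(X, U)) : Γ(Coh.structureModule X, U))
  refine h.trans ?_
  change (X'.presheaf.map (homOfLE e).op).hom ((p.app U).hom (1 : Γ(X, U))) = 1
  rw [map_one, map_one]

/-- if `Γ(X_s, O_{X_s}) = κ(s)`, the degree zero base change map of `O_X` at the fibre of `s` is an epimorphism -/
theorem epi_bc0_structureModule_of_h0 {X S : Scheme.{u}} (f : X ⟶ S) [IsProper f] (s : S)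
    (h : IsIso (f.fiberToSpecResidueField s).appTop) :
    Epi (CohBC.bc0 f (S.fromSpecResidueField s) (f.fiberToSpecResidueField s) (f.fiberι s)
      (f.fiber_fac s) (Coh.structureModule X)) := by
  have hsq : IsPullback (f.fiberι s) (f.fiberToSpecResidueField s) f (S.fromSpecResidueField s) :=
    IsPullback.of_hasPullback _ _
  haveI : ((pushforward f).obj (Coh.structureModule X)).IsQuasicoherent :=
    Groth.Agent.Lib.helper7.QCohPushQC.isQuasicoherent_pushforward f _
  haveI : IsProper (f.fiberToSpecResidueField s) :=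
    MorphismProperty.of_isPullback hsq inferInstance
  haveI : ((Scheme.Modules.pullback (f.fiberι s)).obj (Coh.structureModule X)).IsQuasicoherent :=
    Groth.Agent.Lib.helper16.QCohPullback.isQuasicoherent_pullback (f.fiberι s) _
  haveI : ((pushforward (f.fiberToSpecResidueField s)).obj
      ((Scheme.Modules.pullback (f.fiberι s)).obj (Coh.structureModule X))).IsQuasicoherent :=
    Groth.Agent.Lib.helper7.QCohPushQC.isQuasicoherent_pushforward _ _
  obtain ⟨W, hW', hsW, -⟩ := TopologicalSpace.Opens.isBasis_iff_nbhd.mp S.isBasis_affineOpens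
    (show s ∈ (⊤ : S.Opens) from trivial)
  have hW : IsAffineOpen W := hW'
  have htop := top_le_preimage s hsW
  refine epi_of_span_range_ρv (S.fromSpecResidueField s)
    (CohBC.bc0Adj f (S.fromSpecResidueField s) (f.fiberToSpecResidueField s) (f.fiberι s)
      (f.fiber_fac s) (Coh.structureModule X))
    (fun _ : Unit => W) (fun _ => ⊤) (fun _ => hW)
    (fun _ => isAffineOpen_top (Spec (S.residueField s))) (fun _ => htop)
    (fun x => ⟨(), trivial⟩) (fun _ => ?_)
  rw [eq_top_iff]
  intro b _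
  have e := chart_le₀ f (S.fromSpecResidueField s) (f.fiberι s) (f.fiberToSpecResidueField s)
    (f.fiber_fac s) htop
  have h1 := ρv_bc0Adj f (S.fromSpecResidueField s) (f.fiberι s) (f.fiberToSpecResidueField s)
    (f.fiber_fac s) (Coh.structureModule X) htop
    (show Γ((pushforward f).obj (Coh.structureModule X), W) from
      ((1 : Γ(X, f ⁻¹ᵁ W)) : Γ(Coh.structureModule X, f ⁻¹ᵁ W)))
  have h2 := pullbackUnitIso_hom_ρ_one (f.fiberι s) e
  have hbij : Function.Bijective (f.fiberToSpecResidueField s).appTop.hom :=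
    ConcreteCategory.bijective_of_isIso (f.fiberToSpecResidueField s).appTop
  have hinj : Function.Injective
      ((pullbackUnitIso (f.fiberι s)).hom.app ((f.fiberToSpecResidueField s) ⁻¹ᵁ ⊤)).hom := by
    haveI : IsIso ((pullbackUnitIso (f.fiberι s)).hom.app ((f.fiberToSpecResidueField s) ⁻¹ᵁ ⊤)) :=
      inferInstance
    exact (ConcreteCategory.bijective_of_isIso
      ((pullbackUnitIso (f.fiberι s)).hom.app ((f.fiberToSpecResidueField s) ⁻¹ᵁ ⊤))).1
  obtain ⟨r, hr⟩ := hbij.2
    (((pullbackUnitIso (f.fiberι s)).hom.app ((f.fiberToSpecResidueField s) ⁻¹ᵁ ⊤)).hom b)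
  have hb : b = r • (ρv (S.fromSpecResidueField s) htop
      (CohBC.bc0Adj f (S.fromSpecResidueField s) (f.fiberToSpecResidueField s) (f.fiberι s)
        (f.fiber_fac s) (Coh.structureModule X))
      (show Γ((pushforward f).obj (Coh.structureModule X), W) from
        ((1 : Γ(X, f ⁻¹ᵁ W)) : Γ(Coh.structureModule X, f ⁻¹ᵁ W)))) := by
    apply hinj
    rw [h1]
    have h3 := Scheme.Modules.Hom.app_smul (pullbackUnitIso (f.fiberι s)).hom
      (U := (f.fiberToSpecResidueField s) ⁻¹ᵁ ⊤)
      (((f.fiberToSpecResidueField s).app ⊤).hom r)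
      (ρ (f.fiberι s) e (Coh.structureModule X)
        ((1 : Γ(X, f ⁻¹ᵁ W)) : Γ(Coh.structureModule X, f ⁻¹ᵁ W)))
    refine Eq.trans ?_ h3.symm
    rw [h2, ← hr]
    exact (mul_one (((f.fiberToSpecResidueField s).app ⊤).hom r)).symm
  rw [hb]
  exact Submodule.smul_mem _ _ (Submodule.subset_span ⟨_, rfl⟩)

section general

variable {X S : Scheme.{u}} (f : X ⟶ S) [IsProper f] [LocallyOfFinitePresentation f]
  (F : X.Modules) [F.IsQuasicoherent] (hfp : CohB1.IsFP F) (hfl : FlatMod.IsFlatOver f F)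

omit [LocallyOfFinitePresentation f] [F.IsQuasicoherent] in
/-- Grothendieck vanishing on the fibres -/
theorem subsingleton_fiberH_of_dim_le (d : ℕ) (s : S) (hd : topologicalKrullDim ↥(f.fiber s) ≤ d)
    (i : ℕ) (hi : d < i) : Subsingleton (CohIII.fiberH f F s i) := by
  haveI : IsProper (f.fiberToSpecResidueField s) :=
    MorphismProperty.of_isPullback (IsPullback.of_hasPullback f (S.fromSpecResidueField s))
      inferInstance
  haveI : CompactSpace (f.fiber s) :=
    QuasiCompact.compactSpace_of_compactSpace (f.fiberToSpecResidueField s)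
  haveI : QuasiSeparatedSpace (f.fiber s) :=
    quasiSeparatedSpace_of_quasiSeparated (f.fiberToSpecResidueField s)
  exact Groth.Agent.Lib.Lead.GrothVanish.subsingleton_HH_of_dim_le (f.fiber s) d hd _ i hi

include hfp hfl in
/-- `R^q f_* F = 0` above the dimension of the fibres (no Noetherian hypothesis, no comparison datum) -/
theorem isZero_rpush_of_dim_le [HasInjectiveResolutions X.Modules] (d : ℕ)
    (hd : ∀ s : S, topologicalKrullDim ↥(f.fiber s) ≤ d) (q : ℕ) (hq : d < q) :
    IsZero ((Coh.Rpush f q).obj F) := by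
  haveI : ((Coh.Rpush f q).obj F).IsQuasicoherent := Groth.Agent.S0030.result f F q
  exact Groth.Agent.Lib.Helper18.NNMaster0.isZero_of_killAt _
    (fun t => killAt_of_vanish f F hfp hfl q t (subsingleton_fiberH_of_dim_le f F d t (hd t) q hq))

include hfp hfl in
/-- `R^1 f_* F` is finite locally free if `H^2` of the fibres vanishes and the degree zero base change maps at the
fibres are epimorphisms -/
theorem isFinLocFree_rpush_one_of_epi [HasInjectiveResolutions X.Modules]
    (h2 : ∀ y : S, Subsingleton (CohIII.fiberH f F y 2))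
    (h0 : ∀ y : S, Epi (CohBC.bc0 f (S.fromSpecResidueField y) (f.fiberToSpecResidueField y)
      (f.fiberι y) (f.fiber_fac y) F)) :
    FlatMod.IsFinLocFree ((Coh.Rpush f 1).obj F) := by
  classical
  haveI : ((Coh.Rpush f 1).obj F).IsQuasicoherent := Groth.Agent.S0030.result f F 1
  intro y
  obtain ⟨W, hW', hyW, -⟩ := TopologicalSpace.Opens.isBasis_iff_nbhd.mp S.isBasis_affineOpens
    (show y ∈ (⊤ : S.Opens) from trivial)
  have hW : IsAffineOpen W := hW'
  obtain ⟨K, hLff, -, -, hK, Θ₀, hΘ₀⟩ := master_push f F hfp hfl hW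
  obtain ⟨Θ1⟩ := chart_rpush₀ f F hW K hK 1
  obtain ⟨a2, hya2, -, hf2, -⟩ := exists_splits_of_vanish f hW F K hLff hK y hyW 2 (h2 y)
  have hrel2 : (ComplexShape.up ℤ).Rel ((1 : ℕ) : ℤ) ((2 : ℕ) : ℤ) := by
    show ((1 : ℕ) : ℤ) + 1 = ((2 : ℕ) : ℤ)
    norm_num
  have hg1 : GSplit (K.sc ((1 : ℕ) : ℤ)) a2 := (fsplit_iff_gsplit K hrel2 a2).mp hf2
  obtain ⟨a0, hya0, hg0⟩ := exists_gsplit_of_epi₀ f F hW K hLff Θ₀ hΘ₀ y hyW (h0 y)
  have hrel1 : (ComplexShape.up ℤ).Rel ((0 : ℕ) : ℤ) ((1 : ℕ) : ℤ) := by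
    show ((0 : ℕ) : ℤ) + 1 = ((1 : ℕ) : ℤ)
    norm_num
  have hf1 : FSplit (K.sc ((1 : ℕ) : ℤ)) a0 := (fsplit_iff_gsplit K hrel1 a0).mpr hg0
  have hmul : S.basicOpen (a0 * a2) = S.basicOpen a0 ⊓ S.basicOpen a2 :=
    Scheme.basicOpen_mul S a0 a2
  have hle0 : S.basicOpen (a0 * a2) ≤ S.basicOpen a0 := hmul.le.trans inf_le_left
  have hle2 : S.basicOpen (a0 * a2) ≤ S.basicOpen a2 := hmul.le.trans inf_le_right
  haveI : Module.Finite Γ(S, W) (K.sc ((1 : ℕ) : ℤ)).X₂ := (hLff _).1
  haveI : Module.Free Γ(S, W) (K.sc ((1 : ℕ) : ℤ)).X₂ := (hLff _).2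
  obtain ⟨p1, p2⟩ := projective_sections_basicOpen ((Coh.Rpush f 1).obj F) hW
    (K.sc ((1 : ℕ) : ℤ)) Θ1 (a0 * a2) a0 a2 hf1 hg1 hle0 hle2
  exact freeNear_of_projective_sections _ (hW.basicOpen (a0 * a2)) p1 p2 y
    (by rw [hmul]; exact ⟨hya0, hya2⟩)

end general

section curves

variable {X S : Scheme.{u}} (f : X ⟶ S) [IsProper f] [Flat f] [LocallyOfFinitePresentation f]

/-- `O_X` is of finite presentation -/
theorem isFP_structureModule (X : Scheme.{u}) : CohB1.IsFP (Coh.structureModule X) :=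
  Groth.Agent.Lib.helper16.FLF.isFinitePresentation_of_isFinLocFree _
    (Groth.Agent.Lib.helper16.FLF.isFinLocFree_structureModule X)

omit [IsProper f] [LocallyOfFinitePresentation f] in
/-- `O_X` is flat over `S` for `f` flat -/
theorem isFlatOver_structureModule : FlatMod.IsFlatOver f (Coh.structureModule X) :=
  Groth.Agent.Lib.helper21.InvFibre.isFlatOver_of_isFinLocFree f _
    (Groth.Agent.Lib.helper16.FLF.isFinLocFree_structureModule X)

/-- **`R^1 f_* O_X` is finite locally free** for a proper flat finitely presented family of curves with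
`Γ(X_s, O_{X_s}) = κ(s)` (arbitrary base) -/
theorem isFinLocFree_rpush_one_structureModule [HasInjectiveResolutions X.Modules]
    (hdim : ∀ s : S, topologicalKrullDim ↥(f.fiber s) ≤ 1)
    (h0 : ∀ s : S, IsIso (f.fiberToSpecResidueField s).appTop) :
    FlatMod.IsFinLocFree ((Coh.Rpush f 1).obj (Coh.structureModule X)) :=
  isFinLocFree_rpush_one_of_epi f (Coh.structureModule X) (isFP_structureModule X)
    (isFlatOver_structureModule f)
    (fun y => subsingleton_fiberH_of_dim_le f _ 1 y (hdim y) 2 (by norm_num))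
    (fun y => epi_bc0_structureModule_of_h0 f y (h0 y))

/-- `R^q f_* O_X = 0` for `q ≥ 2` for a proper flat finitely presented family of curves (arbitrary base) -/
theorem isZero_rpush_structureModule [HasInjectiveResolutions X.Modules]
    (hdim : ∀ s : S, topologicalKrullDim ↥(f.fiber s) ≤ 1) (q : ℕ) (hq : 2 ≤ q) :
    IsZero ((Coh.Rpush f q).obj (Coh.structureModule X)) :=
  isZero_rpush_of_dim_le f (Coh.structureModule X) (isFP_structureModule X)
    (isFlatOver_structureModule f) 1 hdim q (by omega)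

end curves

end Groth.Agent.Lib.Helper18.NNUnit
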