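import Mathlib
import Groth.Agent.Lib.Helper18.NNUnit
import Groth.Agent.Lib.Helper18.NNFree

/-!
# The rank of a finite locally free `R^p f_* F` is the fibre rank (helper18)

No comparison datum `E : SectCmp f Δ` is needed.
-/

set_option autoImplicit false
universe u

open CategoryTheory CategoryTheory.Limits Opposite TopologicalSpace AlgebraicGeometry

namespace Groth.Agent.Lib.Helper18.NNRank

open Groth.Agent.Lib.Helper18.NNLocal Groth.Agent.Lib.Helper18.NNRows
  Groth.Agent.Lib.Helper18.SplitAlg Groth.Agent.Lib.Helper18.NNPush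
  Groth.Agent.Lib.Helper18.NNFree Groth.Agent.Lib.Helper18.NNUnit
  Groth.Agent.Lib.helper16.FLF
open Scheme.Modules

variable {X S : Scheme.{u}} (f : X ⟶ S) [IsProper f] [LocallyOfFinitePresentation f]
  (F : X.Modules) [F.IsQuasicoherent] (hfp : CohB1.IsFP F) (hfl : FlatMod.IsFlatOver f F)

include hfp hfl in
/-- if `R^p f_* F` is finite locally free and `H^{p+1}` of the fibres vanishes, the rank of `R^p f_* F` at `x` is
`dim H^p(X_x, F_x)` -/
theorem finrank_stalk_rpush [HasInjectiveResolutions X.Modules] (p : ℕ)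
    (hflf : FlatMod.IsFinLocFree ((Coh.Rpush f p).obj F))
    (x : S) (hvan : Subsingleton (CohIII.fiberH f F x (p + 1))) :
    Module.finrank (S.presheaf.stalk x) (((Coh.Rpush f p).obj F).presheaf.stalk x) =
      CohIII.fiberRank f F p x := by
  haveI : ((Coh.Rpush f p).obj F).IsQuasicoherent := Groth.Agent.S0030.result f F p
  obtain ⟨U, m, hU, hxU, -, ⟨e⟩⟩ :=
    exists_affine_free_sections_of_isFinLocFree ((Coh.Rpush f p).obj F) hflf x
  rw [finrank_stalk_of_sections ((Coh.Rpush f p).obj F) hU x hxU e]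
  obtain ⟨K, hLff, -, -, hK, -⟩ := master_push f F hfp hfl hU
  obtain ⟨Θ⟩ := chart_rpush₀ f F hU K hK p
  obtain ⟨a, hxa, -, hf, -⟩ := exists_splits_of_vanish f hU F K hLff hK x hxU (p + 1) hvan
  have hrel : (ComplexShape.up ℤ).Rel (p : ℤ) ((p + 1 : ℕ) : ℤ) := by
    show (p : ℤ) + 1 = ((p + 1 : ℕ) : ℤ)
    push_cast; ring
  have hg : GSplit (K.sc (p : ℤ)) a := (fsplit_iff_gsplit K hrel a).mp hf
  let e' : K.homology (p : ℤ) ≃ₗ[Γ(S, U)] (Fin m → Γ(S, U)) := Θ.trans e
  haveI : Module.Finite Γ(S, U) (K.homology (p : ℤ)) := Module.Finite.equiv e'.symm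
  haveI : Module.Free Γ(S, U) (K.homology (p : ℤ)) := Module.Free.of_equiv e'.symm
  have h1 := fiberRank_eq_rankAtStalk f hU F K hK p a hg x hxa
  haveI : Nontrivial Γ(S, U) := by
    haveI : Nonempty U := ⟨⟨x, hxU⟩⟩
    exact Scheme.component_nontrivial S U
  rw [h1, Module.rankAtStalk_eq_finrank_of_free, Pi.natCast_def, e'.finrank_eq,
    Module.finrank_fin_fun]
  rfl

include hfp hfl in
/-- **`R^p f_* F` is finite locally free of rank `r`** if it is finite locally free, `H^{p+1}` of the fibres vanishes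
and `dim H^p(X_s, F_s) = r` for all `s` -/
theorem isFinLocFreeOfRank_rpush [HasInjectiveResolutions X.Modules] (p r : ℕ)
    (hflf : FlatMod.IsFinLocFree ((Coh.Rpush f p).obj F))
    (hvan : ∀ s : S, Subsingleton (CohIII.fiberH f F s (p + 1)))
    (hr : ∀ s : S, CohIII.fiberRank f F p s = r) :
    FlatMod.IsFinLocFreeOfRank r ((Coh.Rpush f p).obj F) := by
  rw [isFinLocFreeOfRank_iff_finrank_stalk _ hflf]
  intro x
  rw [finrank_stalk_rpush f F hfp hfl p hflf x (hvan x), hr x]

end Groth.Agent.Lib.Helper18.NNRank
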