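import Mathlib

universe u

namespace Groth.Agent.Lib.Helper18.NilSurj

/-- If `A → B → C` has surjective composite, `B → C` has kernel contained in `N ^ 2` for a
nilpotent ideal `N` of `B`, then `A → B` is surjective. -/
theorem surjective_of_comp_surjective_of_ker_le_sq {A B C : Type*} [CommRing A] [CommRing B]
    [CommRing C] (φ : A →+* B) (π : B →+* C) (h : Function.Surjective (π.comp φ)) (N : Ideal B)
    (hN : IsNilpotent N) (hk : RingHom.ker π ≤ N ^ 2) : Function.Surjective φ := by
  let M : Subring B := φ.range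
  -- step 0: every element is in `M + N ^ 2`
  have h0 : ∀ b : B, ∃ a ∈ M, b - a ∈ N ^ 2 := by
    intro b
    obtain ⟨a, ha⟩ := h (π b)
    refine ⟨φ a, ⟨a, rfl⟩, hk ?_⟩
    rw [RingHom.mem_ker, map_sub, sub_eq_zero]
    exact ha.symm
  -- step 1: `N ^ m ⊆ M + N ^ (m + 1)` for `m ≥ 1`
  have h1 : ∀ m : ℕ, ∀ b ∈ N ^ (m + 1), ∃ a ∈ M, b - a ∈ N ^ (m + 2) := by
    intro m
    induction m with
    | zero =>
      intro b _
      obtain ⟨a, ha, hba⟩ := h0 b
      exact ⟨a, ha, by simpa using hba⟩
    | succ m ih =>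
      intro b hb
      rw [pow_succ'] at hb
      refine Submodule.mul_induction_on hb ?_ ?_
      · intro x hx y hy
        obtain ⟨a, ha, hxa⟩ := h0 x
        obtain ⟨a', ha', hya'⟩ := ih y hy
        refine ⟨a * a', M.mul_mem ha ha', ?_⟩
        have haN : a ∈ N := by
          have : a = x - (x - a) := by ring
          rw [this]
          exact N.sub_mem hx (Ideal.pow_le_self (by norm_num) hxa)
        have : x * y - a * a' = (x - a) * y + a * (y - a') := by ring
        rw [this]
        refine Ideal.add_mem _ ?_ ?_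
        · have h2 : (x - a) * y ∈ N ^ 2 * N ^ (m + 1) := Ideal.mul_mem_mul hxa hy
          rw [← pow_add] at h2
          exact Ideal.pow_le_pow_right (by omega) h2
        · have h2 : a * (y - a') ∈ N * N ^ (m + 2) := Ideal.mul_mem_mul haN hya'
          rw [← pow_succ'] at h2
          exact h2
      · rintro x y ⟨a, ha, hxa⟩ ⟨a', ha', hya'⟩
        refine ⟨a + a', M.add_mem ha ha', ?_⟩
        have : x + y - (a + a') = (x - a) + (y - a') := by ring
        rw [this]
        exact Ideal.add_mem _ hxa hya'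
  -- step 2: every element is in `M + N ^ m` for all `m`
  have h2 : ∀ m : ℕ, ∀ b : B, ∃ a ∈ M, b - a ∈ N ^ (m + 2) := by
    intro m
    induction m with
    | zero => exact h0
    | succ m ih =>
      intro b
      obtain ⟨a, ha, hba⟩ := ih b
      obtain ⟨a', ha', hba'⟩ := h1 (m + 1) (b - a) hba
      refine ⟨a + a', M.add_mem ha ha', ?_⟩
      have : b - (a + a') = b - a - a' := by ring
      rw [this]
      exact hba'
  obtain ⟨n, hn⟩ := hN
  intro b
  obtain ⟨a, ⟨a₀, rfl⟩, hba⟩ := h2 n b
  have : N ^ (n + 2) = ⊥ := by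
    rw [pow_add, hn, Ideal.zero_eq_bot, Ideal.bot_mul]
  rw [this, Ideal.mem_bot, sub_eq_zero] at hba
  exact ⟨a₀, hba.symm⟩

/-- Localized version. -/
theorem surjective_localRingHom_of_comp {R B C : Type u} [CommRing R] [CommRing B] [CommRing C]
    (φ : R →+* B) (π : B →+* C) (hπ : Function.Surjective π) (J : Ideal B) (hJ : IsNilpotent J)
    (hk : RingHom.ker π = J ^ 2) (p : Ideal R) [p.IsPrime] (q : Ideal B) [q.IsPrime]
    (q₁ : Ideal C) [q₁.IsPrime] (hpq : p = q.comap φ) (hqq₁ : q = q₁.comap π)
    (hpq₁ : p = q₁.comap (π.comp φ))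
    (h : Function.Surjective (Localization.localRingHom p q₁ (π.comp φ) hpq₁)) :
    Function.Surjective (Localization.localRingHom p q φ hpq) := by
  let ψ := Localization.localRingHom q q₁ π hqq₁
  have hcomp : Localization.localRingHom p q₁ (π.comp φ) hpq₁ =
      ψ.comp (Localization.localRingHom p q φ hpq) :=
    Localization.localRingHom_comp _ _ _ _ hpq _ hqq₁
  let N : Ideal (Localization.AtPrime q) := J.map (algebraMap B (Localization.AtPrime q))
  have hN : IsNilpotent N := by
    obtain ⟨n, hn⟩ := hJ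
    refine ⟨n, ?_⟩
    rw [← Ideal.map_pow, hn, Ideal.zero_eq_bot, Ideal.map_bot, Ideal.zero_eq_bot]
  have hT : Submonoid.map π q.primeCompl = q₁.primeCompl := by
    subst hqq₁
    exact Submonoid.map_comap_eq_of_surjective hπ q₁.primeCompl
  have hkψ : RingHom.ker ψ = N ^ 2 := by
    have := IsLocalization.ker_map (S := Localization.AtPrime q) (Localization.AtPrime q₁) π hT
    rw [← Ideal.map_pow, ← hk, ← this]
    rfl
  refine surjective_of_comp_surjective_of_ker_le_sq _ ψ ?_ N hN hkψ.le
  rw [← hcomp]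
  exact h

end Groth.Agent.Lib.Helper18.NilSurj
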