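import Mathlib
import Groth.Agent.Lib.Helper18.NilSurj

universe u

open AlgebraicGeometry CategoryTheory Limits

namespace Groth.Agent.Lib.Helper18.NilSurj

/-- A morphism `f : X ⟶ Y` is a closed immersion as soon as its restriction to the closed
subscheme cut out by the square of a nilpotent ideal sheaf is. -/
theorem isClosedImmersion_of_sq_subscheme_comp {X Y : Scheme.{u}} (f : X ⟶ Y)
    (I : X.IdealSheafData) (hI : IsNilpotent I)
    (h : IsClosedImmersion ((I ^ 2).subschemeι ≫ f)) : IsClosedImmersion f := by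
  set j := (I ^ 2).subschemeι with hj
  -- `j` is surjective
  have hjsurj : Function.Surjective j := by
    obtain ⟨n, hn⟩ := hI
    rw [← Set.range_eq_univ, hj, (I ^ 2).range_subschemeι,
      Scheme.IdealSheafData.support_pow I 2 (by norm_num), ← I.support_pow (n + 1) (by simp),
      pow_succ, hn]
    simp
  have hhomeo : IsHomeomorph j :=
    isHomeomorph_iff_isEmbedding_surjective.mpr ⟨j.isClosedEmbedding.isEmbedding, hjsurj⟩
  -- topological part
  have hemb : Topology.IsClosedEmbedding f := by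
    let e : (I ^ 2).subscheme ≃ₜ X := hhomeo.homeomorph
    have h1 : Topology.IsClosedEmbedding (j ≫ f) := (j ≫ f).isClosedEmbedding
    have h2 : (f : X → Y) = (j ≫ f : _ → _) ∘ e.symm := by
      ext x
      obtain ⟨x₁, rfl⟩ := e.surjective x
      simp only [Function.comp_apply, Homeomorph.symm_apply_apply]
      rfl
    rw [h2]
    exact h1.comp e.symm.isClosedEmbedding
  -- stalks
  have hR : (RingHom.toMorphismProperty (fun f ↦ Function.Surjective f)).RespectsIso := by
    rw [← RingHom.toMorphismProperty_respectsIso_iff]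
    exact RingHom.surjective_respectsIso
  have hstalk : ∀ x : X, Function.Surjective (f.stalkMap x) := by
    intro x
    obtain ⟨x₁, rfl⟩ := hjsurj x
    obtain ⟨_, ⟨U, hU, rfl⟩, hxU, -⟩ := Y.isBasis_affineOpens.exists_subset_of_mem_open
      (Set.mem_univ (f (j x₁))) isOpen_univ
    obtain ⟨_, ⟨V, hV, rfl⟩, hxV, hVU⟩ := X.isBasis_affineOpens.exists_subset_of_mem_open
      (a := j x₁) hxU (U.2.preimage f.continuous)
    have hVU' : V ≤ f ⁻¹ᵁ U := hVU
    have hV₁ : IsAffineOpen (j ⁻¹ᵁ V) := hV.preimage j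
    have hx₁ : x₁ ∈ j ⁻¹ᵁ V := hxV
    have hV₁U : j ⁻¹ᵁ V ≤ (j ≫ f) ⁻¹ᵁ U := fun y hy => hVU' hy
    have hsurj := (j ≫ f).stalkMap_surjective x₁
    have h1 := (MorphismProperty.arrow_mk_iso_iff
      (RingHom.toMorphismProperty (fun f ↦ Function.Surjective f))
      (IsAffineOpen.arrowStalkMapIso (j ≫ f) U hU (j ⁻¹ᵁ V) hV₁ hV₁U hx₁)).mp hsurj
    apply (MorphismProperty.arrow_mk_iso_iff
      (RingHom.toMorphismProperty (fun f ↦ Function.Surjective f))
      (IsAffineOpen.arrowStalkMapIso f U hU V hV hVU' hxV)).mpr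
    show Function.Surjective (Localization.localRingHom _ _ (f.appLE U V hVU').hom
      congr($(IsAffineOpen.comap_primeIdealOf_appLE U hU V hV hVU' hxV).1).symm)
    have hπs : Function.Surjective (j.app V).hom := (I ^ 2).subschemeι_app_surjective ⟨V, hV⟩
    have hπk : RingHom.ker (j.app V).hom = (I.ideal ⟨V, hV⟩) ^ 2 := by
      rw [hj, (I ^ 2).ker_subschemeι_app ⟨V, hV⟩, Scheme.IdealSheafData.ideal_pow]
      rfl
    have hJ : IsNilpotent (I.ideal ⟨V, hV⟩) := by
      obtain ⟨n, hn⟩ := hI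
      refine ⟨n, ?_⟩
      have := congr(($hn).ideal ⟨V, hV⟩)
      rw [Scheme.IdealSheafData.ideal_pow] at this
      exact this
    have hcomp : ((j ≫ f).appLE U (j ⁻¹ᵁ V) hV₁U).hom =
        (j.app V).hom.comp (f.appLE U V hVU').hom := by
      rw [← CommRingCat.hom_comp, Scheme.Hom.app_eq_appLE, Scheme.Hom.appLE_comp_appLE]
    have hqq₁ : (hV.primeIdealOf ⟨j x₁, hxV⟩).asIdeal =
        (hV₁.primeIdealOf ⟨x₁, hx₁⟩).asIdeal.comap (j.app V).hom := by
      have := IsAffineOpen.comap_primeIdealOf_appLE V hV (j ⁻¹ᵁ V) hV₁ le_rfl hx₁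
      rw [Scheme.Hom.appLE_eq_app] at this
      exact congr($(this).1).symm
    have key : ∀ (g : Γ(Y, U) →+* Γ((I ^ 2).subscheme, j ⁻¹ᵁ V))
        (_ : g = (j.app V).hom.comp (f.appLE U V hVU').hom) (hp),
        Function.Surjective (Localization.localRingHom
          (hU.primeIdealOf ⟨f (j x₁), hVU' hxV⟩).asIdeal
          (hV₁.primeIdealOf ⟨x₁, hx₁⟩).asIdeal g hp) →
        Function.Surjective (Localization.localRingHom
          (hU.primeIdealOf ⟨f (j x₁), hVU' hxV⟩).asIdeal
          (hV.primeIdealOf ⟨j x₁, hxV⟩).asIdeal (f.appLE U V hVU').hom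
          congr($(IsAffineOpen.comap_primeIdealOf_appLE U hU V hV hVU' hxV).1).symm) := by
      rintro g rfl hp hg
      exact surjective_localRingHom_of_comp (f.appLE U V hVU').hom (j.app V).hom hπs
        (I.ideal ⟨V, hV⟩) hJ hπk _ _ _ _ hqq₁ hp hg
    exact key _ hcomp
      congr($(IsAffineOpen.comap_primeIdealOf_appLE U hU (j ⁻¹ᵁ V) hV₁ hV₁U hx₁).1).symm h1
  have : SurjectiveOnStalks f := ⟨hstalk⟩
  exact ⟨hemb⟩

end Groth.Agent.Lib.Helper18.NilSurj
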