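import Mathlib

universe u

namespace Groth.Agent.Lib.Helper18.NilThick

/-- If `π : B → C` is surjective with finitely generated nilpotent kernel and `π ∘ φ : A → C` is of
finite type, then `φ : A → B` is of finite type. -/
theorem finiteType_of_comp_surjective_nilpotent_fg {A B C : Type*} [CommRing A] [CommRing B]
    [CommRing C] (φ : A →+* B) (π : B →+* C) (hπ : Function.Surjective π)
    (hnil : IsNilpotent (RingHom.ker π)) (hfg : (RingHom.ker π).FG)
    (h : (π.comp φ).FiniteType) : φ.FiniteType := by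
  algebraize [φ, π.comp φ]
  let π' : B →ₐ[A] C := ⟨π, fun a => rfl⟩
  set I := RingHom.ker π with hI
  obtain ⟨s, hs⟩ := (Algebra.FiniteType.out : (⊤ : Subalgebra A C).FG)
  obtain ⟨c, hc⟩ := hfg
  -- lift `s` to `B`
  have hlift : ∀ x : C, ∃ b : B, π b = x := hπ
  choose σ hσ using hlift
  classical
  let T : Finset B := s.image σ
  let B' : Subalgebra A B := Algebra.adjoin A ((T : Set B) ∪ (c : Set B))
  have hTB' : ∀ x ∈ s, σ x ∈ B' := fun x hx =>
    Algebra.subset_adjoin (Or.inl (Finset.mem_coe.mpr (Finset.mem_image_of_mem σ hx)))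
  have hcB' : ∀ x ∈ c, x ∈ B' := fun x hx => Algebra.subset_adjoin (Or.inr hx)
  -- Claim 1
  have claim1 : ∀ b : B, ∃ b' ∈ B', b - b' ∈ I := by
    intro b
    have hb : π b ∈ Algebra.adjoin A (s : Set C) := by rw [hs]; trivial
    have hle : Algebra.adjoin A (s : Set C) ≤ B'.map π' := by
      rw [Algebra.adjoin_le_iff]
      intro x hx
      exact ⟨σ x, hTB' x hx, hσ x⟩
    obtain ⟨b', hb', hbb'⟩ := hle hb
    refine ⟨b', hb', ?_⟩
    rw [hI, RingHom.mem_ker, map_sub, sub_eq_zero]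
    exact hbb'.symm
  -- Claim 2
  have claim2 : ∀ k : ℕ, ∀ b ∈ I ^ k, ∃ b' ∈ B', b - b' ∈ I ^ (k + 1) := by
    intro k
    induction k with
    | zero =>
      intro b _
      simpa using claim1 b
    | succ k ih =>
      intro b hb
      rw [pow_succ'] at hb
      -- b ∈ I * I^(k+1)... careful: pow_succ' : a^(n+1) = a * a^n
      have key : ∀ x ∈ I, ∀ y ∈ I ^ k, ∃ z' ∈ B', x * y - z' ∈ I ^ (k + 1 + 1) := by
        intro x hx
        rw [← hc] at hx
        refine Submodule.span_induction (p := fun x _ => ∀ y ∈ I ^ k,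
          ∃ z' ∈ B', x * y - z' ∈ I ^ (k + 1 + 1)) ?_ ?_ ?_ ?_ hx
        · intro x hxc y hy
          obtain ⟨y', hy', hyy'⟩ := ih y hy
          refine ⟨x * y', B'.mul_mem (hcB' x hxc) hy', ?_⟩
          rw [← mul_sub, pow_succ' I (k + 1)]
          exact Ideal.mul_mem_mul (hc ▸ Ideal.subset_span hxc) hyy'
        · intro y _
          exact ⟨0, B'.zero_mem, by simp⟩
        · intro x₁ x₂ _ _ h₁ h₂ y hy
          obtain ⟨z₁, hz₁, hz₁'⟩ := h₁ y hy
          obtain ⟨z₂, hz₂, hz₂'⟩ := h₂ y hy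
          refine ⟨z₁ + z₂, B'.add_mem hz₁ hz₂, ?_⟩
          have : (x₁ + x₂) * y - (z₁ + z₂) = (x₁ * y - z₁) + (x₂ * y - z₂) := by ring
          rw [this]
          exact Ideal.add_mem _ hz₁' hz₂'
        · intro r x₁ _ h₁ y hy
          obtain ⟨z, hz, hz'⟩ := h₁ (r * y) (Ideal.mul_mem_left _ r hy)
          refine ⟨z, hz, ?_⟩
          have : r • x₁ * y - z = x₁ * (r * y) - z := by rw [smul_eq_mul]; ring
          rw [this]
          exact hz'
      refine Submodule.mul_induction_on hb ?_ ?_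
      · intro x hx y hy
        exact key x hx y hy
      · intro x y ⟨x', hx', hxx'⟩ ⟨y', hy', hyy'⟩
        refine ⟨x' + y', B'.add_mem hx' hy', ?_⟩
        have : x + y - (x' + y') = (x - x') + (y - y') := by ring
        rw [this]
        exact Ideal.add_mem _ hxx' hyy'
  -- Claim 3
  have claim3 : ∀ k : ℕ, ∀ b : B, ∃ b' ∈ B', b - b' ∈ I ^ k := by
    intro k
    induction k with
    | zero => intro b; exact ⟨0, B'.zero_mem, by simp⟩
    | succ k ih =>
      intro b
      obtain ⟨b₁, hb₁, hbb₁⟩ := ih b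
      obtain ⟨b₂, hb₂, hbb₂⟩ := claim2 k _ hbb₁
      refine ⟨b₁ + b₂, B'.add_mem hb₁ hb₂, ?_⟩
      have : b - (b₁ + b₂) = b - b₁ - b₂ := by ring
      rw [this]
      exact hbb₂
  obtain ⟨n, hn⟩ := hnil
  have htop : B' = ⊤ := by
    rw [eq_top_iff]
    intro b _
    obtain ⟨b', hb', hbb'⟩ := claim3 n b
    rw [hn] at hbb'
    have : b = b' := by
      have := (Ideal.mem_bot (R := B)).mp (by simpa using hbb')
      exact sub_eq_zero.mp this
    rw [this]
    exact hb'
  show Algebra.FiniteType A B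
  refine ⟨⟨T ∪ c, ?_⟩⟩
  rw [Finset.coe_union]
  exact htop

end Groth.Agent.Lib.Helper18.NilThick
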