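import Mathlib
import Groth.Agent.Lib.Helper18.NilThickRing

universe u
open CategoryTheory CategoryTheory.Limits AlgebraicGeometry

namespace Groth.Agent.Lib.Helper18.NilThick

/-- If `i : Y₀ ⟶ Y` is a closed immersion whose ideal is nilpotent and finitely generated on every
affine open, and `i ≫ F` is locally of finite type, then `F` is locally of finite type. -/
theorem locallyOfFiniteType_of_comp_thickening {X Y Y₀ : Scheme.{u}} (F : Y ⟶ X) (i : Y₀ ⟶ Y)
    [IsClosedImmersion i]
    (hinil : ∀ U : Y.affineOpens, IsNilpotent (i.ker.ideal U))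
    (hfg : ∀ U : Y.affineOpens, (i.ker.ideal U).FG)
    [LocallyOfFiniteType (i ≫ F)] : LocallyOfFiniteType F := by
  rw [HasRingHomProperty.iff_appLE (P := @LocallyOfFiniteType)]
  intro U V e
  have hV₀ : IsAffineOpen (i ⁻¹ᵁ V.1) := V.2.preimage i
  have h1 := (i ≫ F).finiteType_appLE U.2 hV₀
    (show i ⁻¹ᵁ V.1 ≤ (i ≫ F) ⁻¹ᵁ U.1 from fun x hx => e hx)
  rw [← Scheme.Hom.appLE_comp_appLE i F U.1 V.1 (i ⁻¹ᵁ V.1) e le_rfl, Scheme.Hom.appLE_eq_app,
    CommRingCat.hom_comp] at h1
  have hker : RingHom.ker (i.app V.1).hom = i.ker.ideal V := (Scheme.Hom.ker_apply i V).symm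
  refine finiteType_of_comp_surjective_nilpotent_fg _ (i.app V.1).hom
    (i.app_surjective V.1 V.2) ?_ ?_ h1
  · rw [hker]; exact hinil V
  · rw [hker]; exact hfg V

/-- A closed subscheme of a locally Noetherian scheme is locally Noetherian. -/
theorem isLocallyNoetherian_of_isClosedImmersion {X X₀ : Scheme.{u}} (j : X₀ ⟶ X)
    [IsClosedImmersion j] [IsLocallyNoetherian X] : IsLocallyNoetherian X₀ := by
  refine isLocallyNoetherian_of_affine_cover
    (S := fun U : X.affineOpens => (⟨j ⁻¹ᵁ U.1, U.2.preimage j⟩ : X₀.affineOpens)) ?_ ?_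
  · rw [eq_top_iff]
    rintro x -
    obtain ⟨_, ⟨U, hU, rfl⟩, hxU, -⟩ :=
      X.isBasis_affineOpens.exists_subset_of_mem_open (Set.mem_univ (j x)) isOpen_univ
    exact TopologicalSpace.Opens.mem_iSup.mpr ⟨⟨U, hU⟩, hxU⟩
  · intro U
    have := IsLocallyNoetherian.component_noetherian U
    exact isNoetherianRing_of_surjective _ _ (j.app U.1).hom (j.app_surjective U.1 U.2)

/-- Over a locally Noetherian base, locally of finite type implies locally of finite
presentation. -/
theorem locallyOfFinitePresentation_of_isLocallyNoetherian {X Y : Scheme.{u}} (F : Y ⟶ X)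
    [IsLocallyNoetherian X] [LocallyOfFiniteType F] : LocallyOfFinitePresentation F := by
  rw [HasRingHomProperty.iff_appLE (P := @LocallyOfFinitePresentation)]
  intro U V e
  have := IsLocallyNoetherian.component_noetherian U
  exact RingHom.FinitePresentation.of_finiteType.mp (F.finiteType_appLE U.2 V.2 e)

end Groth.Agent.Lib.Helper18.NilThick

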