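import Mathlib
import Groth.Agent.Lib.Helper1.Conf1
import Groth.Agent.Lib.Helper21.GeomFibre
import Groth.Agent.Lib.Helper3.GeomConnPt
import Groth.Agent.Lib.Helper14.ClopenFinFibre

/-!
# Tools for the middle exactness of the homotopy sequence (helper18)

* `isIso_of_section_of_connected`: a separated etale morphism with connected source and a section
  is an isomorphism.
* `bijective_algebraMap_of_isIntegral_of_idem`, `isIso_appTop_of_algClosed`: a connected reduced
  scheme universally closed over an algebraically closed field `Ω` has `Γ = Ω`.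
* `exists_factor_of_isIso_appTop`, `eq_of_comp_eq_of_isIso_appTop`: if `p : Z ⟶ W` induces an
  isomorphism on global sections and `W` is affine, morphisms from `Z` to affine schemes factor
  uniquely through `p`.
* `geometricallyConnected_of_algClosed`: connected geometric fibres over algebraically closed
  fields give `GeometricallyConnected`.
-/

set_option autoImplicit false
universe u
open AlgebraicGeometry CategoryTheory CategoryTheory.Limits

namespace Groth.Agent.Lib.Helper18.Pi1Mid

/-- A separated etale morphism with connected source which has a section is an isomorphism. -/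
theorem isIso_of_section_of_connected {Z W : Scheme.{u}} (p : Z ⟶ W) [Etale p] [IsSeparated p]
    [ConnectedSpace Z] (σ : W ⟶ Z) (h : σ ≫ p = 𝟙 W) : IsIso p := by
  haveI ho : IsOpenImmersion σ := Groth.Agent.H1.ConfSp.isOpenImmersion_of_section p σ h
  haveI hc : IsClosedImmersion σ := by
    haveI : IsClosedImmersion (σ ≫ p) := by rw [h]; infer_instance
    exact IsClosedImmersion.of_comp σ p
  have hopen : IsOpen (Set.range σ) := σ.isOpenEmbedding.isOpen_range
  have hclosed : IsClosed (Set.range σ) := σ.isClosedEmbedding.isClosed_range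
  obtain ⟨z⟩ := (inferInstance : Nonempty Z)
  have hne : (Set.range σ).Nonempty := ⟨σ (p z), ⟨_, rfl⟩⟩
  have huniv : Set.range σ = Set.univ := IsClopen.eq_univ ⟨hclosed, hopen⟩ hne
  haveI hsurj : Surjective σ := ⟨Set.range_eq_univ.mp huniv⟩
  haveI : IsIso σ := (isIso_iff_isOpenImmersion_and_surjective _).mpr ⟨ho, hsurj⟩
  have : p = inv σ := by
    rw [← cancel_epi σ, h, IsIso.hom_inv_id]
  rw [this]
  infer_instance



theorem bijective_algebraMap_of_isIntegral_of_idem (Ω B : Type*) [Field Ω] [IsAlgClosed Ω]
    [CommRing B] [Algebra Ω B] [Algebra.IsIntegral Ω B] [IsReduced B] [Nontrivial B]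
    (h : ∀ e : B, IsIdempotentElem e → e = 0 ∨ e = 1) :
    Function.Bijective (algebraMap Ω B) := by
  refine ⟨(algebraMap Ω B).injective, fun b => ?_⟩
  let A : Subalgebra Ω B := Algebra.adjoin Ω {b}
  haveI : Module.Finite Ω A :=
    Module.Finite.iff_fg.mpr (Algebra.IsIntegral.isIntegral b).fg_adjoin_singleton
  haveI : IsReduced A := isReduced_of_injective A.val Subtype.val_injective
  have hA : ∀ e : A, IsIdempotentElem e → e = 0 ∨ e = 1 := by
    intro e he
    have he' : IsIdempotentElem (e : B) := by
      have := congrArg Subtype.val he.eq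
      simpa [IsIdempotentElem] using this
    rcases h _ he' with h0 | h1
    · left; exact Subtype.ext h0
    · right; exact Subtype.ext h1
  have hrk := Groth.Agent.Lib.helper21.GeomFibre.finrank_eq_one_of_isAlgClosed Ω A hA
  have hbij : Function.Bijective (algebraMap Ω A) :=
    Algebra.finrank_eq_one_iff_bijective_algebraMap.mp hrk
  obtain ⟨c, hc⟩ := hbij.2 ⟨b, Algebra.self_mem_adjoin_singleton Ω b⟩
  refine ⟨c, ?_⟩
  have := congrArg Subtype.val hc
  simpa using this

theorem isIso_appTop_of_algClosed {Z : Scheme.{u}} (Ω : Type u) [Field Ω] [IsAlgClosed Ω]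
    (p : Z ⟶ Spec (CommRingCat.of Ω)) [UniversallyClosed p] [ConnectedSpace Z] [IsReduced Z] :
    IsIso p.appTop := by
  let F := (Scheme.ΓSpecIso (CommRingCat.of Ω)).inv ≫ p.appTop
  have hF : F.hom.IsIntegral := by
    apply RingHom.isIntegral_respectsIso.2
      (e := (Scheme.ΓSpecIso (CommRingCat.of Ω)).symm.commRingCatIsoToRingEquiv)
    exact isIntegral_appTop_of_universallyClosed p
  algebraize [F.hom]
  haveI : Nonempty (⊤ : Z.Opens) := by
    obtain ⟨w⟩ := (inferInstance : Nonempty ↥Z)
    exact ⟨⟨w, trivial⟩⟩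
  haveI : Nontrivial Γ(Z, ⊤) := Scheme.component_nontrivial _ ⊤
  have hbij : Function.Bijective F.hom := by
    have := bijective_algebraMap_of_isIntegral_of_idem Ω Γ(Z, ⊤) (fun e he =>
      Groth.Agent.Lib.helper13.Normal.idempotent_eq_zero_or_one_of_isPreconnected
        (⊤ : Z.Opens) (by simpa using isPreconnected_univ) e he)
    exact this
  haveI : IsIso F := (ConcreteCategory.isIso_iff_bijective F).mpr hbij
  have : p.appTop = (Scheme.ΓSpecIso (CommRingCat.of Ω)).hom ≫ F := by
    simp [F]
  rw [this]
  infer_instance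



theorem eq_of_comp_eq_of_isIso_appTop {Z W V : Scheme.{u}} (p : Z ⟶ W) [IsIso p.appTop]
    [IsAffine V] (a b : W ⟶ V) (h : p ≫ a = p ≫ b) : a = b := by
  apply ext_of_isAffine
  have h1 := congrArg Scheme.Hom.appTop h
  rw [Scheme.Hom.comp_appTop, Scheme.Hom.comp_appTop] at h1
  exact (cancel_mono p.appTop).mp h1

theorem exists_factor_of_isIso_appTop {Z W V : Scheme.{u}} (p : Z ⟶ W) [IsAffine W]
    [IsIso p.appTop] (u : Z ⟶ V) [IsAffine V] : ∃ t : W ⟶ V, p ≫ t = u := by
  refine ⟨W.isoSpec.hom ≫ Spec.map (u.appTop ≫ inv p.appTop) ≫ V.isoSpec.inv, ?_⟩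
  have h1 : p ≫ W.isoSpec.hom = Z.toSpecΓ ≫ Spec.map p.appTop :=
    Scheme.toSpecΓ_naturality p
  have h2 : u ≫ V.isoSpec.hom = Z.toSpecΓ ≫ Spec.map u.appTop :=
    Scheme.toSpecΓ_naturality u
  rw [← Category.assoc, h1, Category.assoc, ← Category.assoc (Spec.map p.appTop),
    ← Spec.map_comp, Category.assoc, IsIso.inv_hom_id, Category.comp_id, ← Category.assoc,
    ← h2, Category.assoc, Iso.hom_inv_id, Category.comp_id]



/-- Connected geometric fibres over algebraically closed fields give geometric connectedness. -/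
theorem geometricallyConnected_of_algClosed {X S : Scheme.{u}} (f : X ⟶ S)
    (h : ∀ (Ω : Type u) [Field Ω] [IsAlgClosed Ω] (s : Spec (CommRingCat.of Ω) ⟶ S),
      ConnectedSpace ↥(pullback f s)) : GeometricallyConnected f := by
  rw [GeometricallyConnected.iff_geometricallyConnected_fiber]
  intro s
  apply Groth.Agent.Lib.helper3.GeomConnPt.geometricallyConnected_of_gbar
    (k := S.residueField s) (f.fiberToSpecResidueField s)
  have h1 := h (AlgebraicClosure (S.residueField s))
    (Groth.Agent.Lib.helper3.GeomConnPt.gbar (S.residueField s) ≫ S.fromSpecResidueField s)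
  exact ((pullbackLeftPullbackSndIso f (S.fromSpecResidueField s)
    (Groth.Agent.Lib.helper3.GeomConnPt.gbar (S.residueField s))).hom.homeomorph.connectedSpace_iff).mpr h1



end Groth.Agent.Lib.Helper18.Pi1Mid
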