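import Mathlib
import Groth.Agent.Lib.Helper18.Pi1Mid
import Groth.Agent.Lib.Helper24.SmoothReduced

/-!
# The key step of the middle exactness of the homotopy sequence (helper18)

* `isReduced_of_smooth`: a scheme smooth over a reduced scheme is reduced.
* `isIso_lift_of_section`: let `f : X ⟶ S` be proper and geometrically connected, `q : Y ⟶ X`
  finite etale with `Y` connected, and `Y ⟶ S' ⟶ S` a factorization of `q ≫ f` with `g'`
  geometrically connected and `ν` finite etale. If `q` has a section over a connected reduced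
  geometric fibre of `f`, then `Y ⟶ S' ×_S X` is an isomorphism.
-/

set_option autoImplicit false
universe u
open AlgebraicGeometry CategoryTheory CategoryTheory.Limits

namespace Groth.Agent.Lib.Helper18.Pi1Mid


/-- a scheme smooth over a reduced affine scheme is reduced -/
theorem isReduced_of_smooth_of_isAffine {Z W : Scheme.{u}} (g : Z ⟶ W) [Smooth g] [IsAffine W]
    [IsReduced W] : IsReduced Z := by
  haveI : ∀ i, IsReduced (Z.affineCover.X i) := by
    intro i
    have h : Smooth (Z.affineCover.f i ≫ g) := inferInstance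
    rw [HasRingHomProperty.iff_of_isAffine (P := @Smooth)] at h
    haveI : _root_.IsReduced Γ(W, ⊤) := inferInstance
    letI := (Z.affineCover.f i ≫ g).appTop.hom.toAlgebra
    haveI : Algebra.Smooth Γ(W, ⊤) Γ(Z.affineCover.X i, ⊤) := h
    haveI := Groth.Agent.Lib.Helper24.SmoothReduced.isReduced_of_smooth
      Γ(W, ⊤) Γ(Z.affineCover.X i, ⊤)
    exact isReduced_of_isAffine_isReduced _
  exact IsReduced.of_openCover _ Z.affineCover

/-- a scheme smooth over a reduced scheme is reduced -/
theorem isReduced_of_smooth {Z W : Scheme.{u}} (g : Z ⟶ W) [Smooth g] [IsReduced W] :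
    IsReduced Z := by
  haveI : ∀ i, IsReduced ((W.affineCover.pullback₁ g).X i) := by
    intro i
    haveI : IsReduced (W.affineCover.X i) := isReduced_of_isOpenImmersion (W.affineCover.f i)
    have hsm : Smooth (pullback.snd g (W.affineCover.f i)) :=
      MorphismProperty.pullback_snd (P := @Smooth) _ _ inferInstance
    exact @isReduced_of_smooth_of_isAffine _ _ (pullback.snd g (W.affineCover.f i)) hsm
      inferInstance inferInstance
  exact IsReduced.of_openCover _ (W.affineCover.pullback₁ g)



/-- The key step of the middle exactness of the homotopy sequence: let `f : X ⟶ S` be proper and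
geometrically connected, `q : Y ⟶ X` finite etale with `Y` connected, and `Y ⟶ S' ⟶ S` a
factorization of `q ≫ f` with `g'` geometrically connected and `ν` finite etale. If `q` has a
section over a connected reduced geometric fibre of `f`, then `Y ⟶ S' ×_S X` is an isomorphism. -/
theorem isIso_lift_of_section {X S S' Y : Scheme.{u}} (f : X ⟶ S) (q : Y ⟶ X) (g' : Y ⟶ S')
    (ν : S' ⟶ S) (hsq : g' ≫ ν = q ≫ f) [IsProper f] [GeometricallyConnected f]
    [IsFinite q] [Etale q] [IsFinite ν] [Etale ν] [GeometricallyConnected g'] [ConnectedSpace Y]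
    (Ω : Type u) [Field Ω] [IsAlgClosed Ω] (s : Spec (CommRingCat.of Ω) ⟶ S)
    [ConnectedSpace ↥(pullback f s)] [IsReduced (pullback f s)]
    (σ : pullback f s ⟶ Y) (hσ : σ ≫ q = pullback.fst f s) :
    IsIso (pullback.lift g' q hsq : Y ⟶ pullback ν f) := by
  -- notation
  obtain ⟨c, hcdef⟩ : ∃ c : Y ⟶ pullback ν f, c = pullback.lift g' q hsq := ⟨_, rfl⟩
  rw [← hcdef]
  have hc1 : c ≫ pullback.fst ν f = g' := by rw [hcdef]; exact pullback.lift_fst _ _ _
  have hc2 : c ≫ pullback.snd ν f = q := by rw [hcdef]; exact pullback.lift_snd _ _ _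
  -- `c` is finite etale
  haveI : IsFinite (c ≫ pullback.snd ν f) := by rw [hc2]; infer_instance
  haveI : Etale (c ≫ pullback.snd ν f) := by rw [hc2]; infer_instance
  haveI hcfin : IsFinite c := IsFinite.of_comp c (pullback.snd ν f)
  haveI hcet : Etale c := Etale.of_comp c (pullback.snd ν f)
  -- `S'` is connected
  haveI hS' : ConnectedSpace S' :=
    Function.Surjective.connectedSpace g'.surjective g'.continuous
  -- `X' = S' ×_S X` is connected
  haveI hX' : ConnectedSpace ↥(pullback ν f) := by
    haveI hpre : PreconnectedSpace ↥(pullback ν f) :=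
      Groth.Agent.Lib.Helper14.ClopenFinFibre.preconnectedSpace_of_isClosedMap_of_connected_fibres
        (pullback.fst ν f) (pullback.fst ν f).continuous (pullback.fst ν f).isClosedMap
        (fun y => (pullback.fst ν f).isConnected_preimage_singleton y)
    obtain ⟨y⟩ := (inferInstance : Nonempty Y)
    exact { toPreconnectedSpace := hpre, toNonempty := ⟨c y⟩ }
  -- the rank of `c` is constant
  have hconst : ∀ a b : ↥(pullback ν f), c.finrank a = c.finrank b :=
    fun a b => (Scheme.Hom.isLocallyConstant_finrank c).apply_eq_of_preconnectedSpace a b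
  -- the geometric point of `S'`
  obtain ⟨p, hpdef⟩ : ∃ p : pullback f s ⟶ Spec (CommRingCat.of Ω), p = pullback.snd f s :=
    ⟨_, rfl⟩
  haveI : IsProper p := by rw [hpdef]; infer_instance
  haveI hpiso : IsIso p.appTop := isIso_appTop_of_algClosed Ω p
  haveI : IsAffine (pullback ν s) := isAffine_of_isAffineHom (pullback.snd ν s)
  have hu : (σ ≫ g') ≫ ν = p ≫ s := by
    rw [Category.assoc, hsq, ← Category.assoc, hσ, hpdef, pullback.condition]
  obtain ⟨t'', ht''⟩ := exists_factor_of_isIso_appTop p (pullback.lift (σ ≫ g') p hu)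
  have ht''snd : t'' ≫ pullback.snd ν s = 𝟙 _ := by
    apply eq_of_comp_eq_of_isIso_appTop p
    rw [← Category.assoc, ht'', pullback.lift_snd, Category.comp_id]
  obtain ⟨t', ht'def⟩ : ∃ t' : Spec (CommRingCat.of Ω) ⟶ S', t' = t'' ≫ pullback.fst ν s :=
    ⟨_, rfl⟩
  have ht's : t' ≫ ν = s := by
    rw [ht'def, Category.assoc, pullback.condition, ← Category.assoc, ht''snd, Category.id_comp]
  have hpt' : p ≫ t' = σ ≫ g' := by
    rw [ht'def, ← Category.assoc, ht'', pullback.lift_fst]
  -- the map `j : X_s̄ ⟶ X'`
  have hj : (p ≫ t') ≫ ν = pullback.fst f s ≫ f := by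
    rw [Category.assoc, ht's, hpdef, pullback.condition]
  obtain ⟨j, hjdef⟩ : ∃ j : pullback f s ⟶ pullback ν f,
      j = pullback.lift (p ≫ t') (pullback.fst f s) hj := ⟨_, rfl⟩
  have hj1 : j ≫ pullback.fst ν f = p ≫ t' := by rw [hjdef]; exact pullback.lift_fst _ _ _
  have hj2 : j ≫ pullback.snd ν f = pullback.fst f s := by rw [hjdef]; exact pullback.lift_snd _ _ _
  have hσc : σ ≫ c = j := by
    apply pullback.hom_ext
    · rw [Category.assoc, hc1, hj1, hpt']
    · rw [Category.assoc, hc2, hj2, hσ]
  -- Square A
  have hA : IsPullback j p (pullback.fst ν f) t' := by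
    refine IsPullback.of_right ?_ hj1 (IsPullback.of_hasPullback ν f).flip
    rw [hj2, ht's, hpdef]
    exact IsPullback.of_hasPullback f s
  -- the pasted square
  have hB : IsPullback (pullback.fst c j) (pullback.snd c j ≫ p) g' t' := by
    have := (IsPullback.of_hasPullback c j).paste_vert hA
    rwa [hc1] at this
  haveI hPconn : ConnectedSpace ↥(pullback c j) :=
    GeometricallyConnected.geometrically_connectedSpace (f := g') t' _ _ hB
  -- the section
  have hsec : pullback.lift σ (𝟙 _) (by rw [hσc, Category.id_comp]) ≫ pullback.snd c j =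
      𝟙 (pullback f s) := pullback.lift_snd _ _ _
  haveI : IsIso (pullback.snd c j) := isIso_of_section_of_connected _ _ hsec
  obtain ⟨x₀⟩ := (inferInstance : Nonempty ↥(pullback f s))
  have h1 : c.finrank (j x₀) = 1 := by
    rw [← Scheme.Hom.finrank_pullback_snd c j x₀, Scheme.Hom.finrank_eq_one_of_isIso]
    rfl
  rw [Scheme.Hom.isIso_iff_finrank_eq]
  ext a
  rw [hconst a (j x₀), h1]
  rfl

end Groth.Agent.Lib.Helper18.Pi1Mid
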