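import Mathlib
import Groth.Agent.Lib.Helper18.Pole3
import Groth.Agent.S1645
import Groth.Agent.S1664
import Groth.Agent.Lib.Helper18.AbsCurveDiv
import Groth.Agent.Lib.Lead.DimOneAffine

/-!
# Separated Noetherian schemes of dimension `≤ 1` have an ample invertible module (helper18; Stacks 09NZ)

Direct proof, without the reduction to the integral case (no ampleness descent along thickenings / finite covers):

* `exists_globallyGenerated_genLocus_eq` (Stacks 09NN without integrality): `U` affine open whose complement is a finite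
  set of closed points ⇒ a globally generated invertible `L` with a section `s`, `X_s = U`
  (`Pole3.exists_pole_sections` + `DimOneGlue2.exists_invertible_two_sections`).
* `exists_affineOpen_generic_of`, `exists_affineOpen_mem_generic`: an affine open containing a given point and all
  generic points (variant of lead's `DimOneAffine.exists_affineOpen_generic`).
* `exists_isAmple_of_dim_le_one` (Stacks 09NZ, via `S1664`).
-/

set_option autoImplicit false
universe u
open CategoryTheory CategoryTheory.Limits AlgebraicGeometry TopologicalSpace Opposite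

namespace Groth.Agent.Lib.Helper18.Pole

open Groth.Agent.Lib.Helper18.DimOneGlue Groth.Agent.Lib.Lead.DimOneAffine
open Groth.Agent.Lib.helper11.IsoLocus

/-- **Stacks 09NN without integrality**: `X` separated Noetherian of dimension `≤ 1`, `U` an affine open whose
complement is a finite set of closed points: there are a globally generated invertible module `L` and a global section `s`
with `X_s = U`. -/
theorem exists_globallyGenerated_genLocus_eq (X : Scheme.{u}) [IsNoetherian X] [X.IsSeparated]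
    (hdim : topologicalKrullDim X ≤ 1) (U : X.Opens) (hU : IsAffineOpen U)
    (hfin : ((U : Set X)ᶜ).Finite) (hcl : ∀ y : X, y ∉ U → IsClosed ({y} : Set X)) :
    ∃ (L : X.Modules) (s : Coh.structureModule X ⟶ L), PicF.IsInvertible L ∧
      Curv2.IsGloballyGenerated L ∧ CohB1.genLocus L s = U := by
  classical
  -- the complement is discrete
  have hdisc : DiscreteTopology ↥((U : Set X)ᶜ) := by
    haveI : Finite ↥((U : Set X)ᶜ) := hfin.to_subtype
    haveI : T1Space ↥((U : Set X)ᶜ) := by
      refine ⟨fun y => ?_⟩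
      have h1 := (hcl y.1 y.2).preimage (continuous_subtype_val (p := fun z => z ∈ (U : Set X)ᶜ))
      have h2 : (Subtype.val ⁻¹' ({y.1} : Set X) : Set ↥((U : Set X)ᶜ)) = {y} := by
        ext z
        simp only [Set.mem_preimage, Set.mem_singleton_iff]
        exact ⟨fun h => Subtype.ext h, fun h => congrArg Subtype.val h⟩
      rwa [h2] at h1
    infer_instance
  obtain ⟨r, x, hx⟩ := hfin.fin_embedding
  have hxU : ∀ i, x i ∉ U := fun i => by
    have : x i ∈ (U : Set X)ᶜ := hx ▸ Set.mem_range_self i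
    exact this
  obtain ⟨a, N, σ, hσ, hNU, heq⟩ := exists_pole_sections hdim U hU hdisc r x hxU
  choose hN hσ using hσ
  -- pairwise intersections lie in `U`
  have hNN : ∀ i j, i ≠ j → N i ⊓ N j ≤ U := by
    rintro i j hij y ⟨hyi, hyj⟩
    by_contra hyU
    have h1 := hNU i y hyi hyU
    have h2 := hNU j y hyj hyU
    exact hij (x.injective (h1.symm.trans h2))
  -- compatibility
  have hcompat : TopCat.Presheaf.IsCompatible X.sheaf.1 N σ := by
    intro i j
    by_cases hij : i = j
    · subst hij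
      rfl
    · have hO : N i ⊓ N j ≤ U := hNN i j hij
      have e1 := congrArg (rs (le_inf inf_le_left hO : N i ⊓ N j ≤ N i ⊓ U)) (heq i)
      have e2 := congrArg (rs (le_inf inf_le_right hO : N i ⊓ N j ≤ N j ⊓ U)) (heq j)
      rw [map_mul, map_one, rs_rs, rs_rs] at e1 e2
      change rs (inf_le_left : N i ⊓ N j ≤ N i) (σ i) = rs (inf_le_right : N i ⊓ N j ≤ N j) (σ j)
      calc rs (inf_le_left : N i ⊓ N j ≤ N i) (σ i)
          = rs (inf_le_left : N i ⊓ N j ≤ N i) (σ i) * (rs inf_le_right (σ j) * rs hO a) := by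
            rw [e2, mul_one]
        _ = (rs (inf_le_left : N i ⊓ N j ≤ N i) (σ i) * rs hO a) * rs inf_le_right (σ j) := by ring
        _ = _ := by rw [e1, one_mul]
  obtain ⟨τ, hτ, -⟩ := X.sheaf.existsUnique_gluing N σ hcompat
  have hτ' : ∀ i, rs (le_iSup N i) τ = σ i := hτ
  have hfa : (X.presheaf.map (homOfLE (inf_le_left : iSup N ⊓ U ≤ iSup N)).op).hom τ *
      (X.presheaf.map (homOfLE (inf_le_right : iSup N ⊓ U ≤ U)).op).hom a = 1 := by
    refine TopCat.Sheaf.eq_of_locally_eq' X.sheaf (fun i => N i ⊓ U) (iSup N ⊓ U)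
      (fun i => homOfLE (inf_le_inf_right U (le_iSup N i))) ?_ _ _ ?_
    · rintro y ⟨hy, hyU⟩
      obtain ⟨i, hi⟩ := TopologicalSpace.Opens.mem_iSup.1 hy
      exact TopologicalSpace.Opens.mem_iSup.2 ⟨i, hi, hyU⟩
    · intro i
      change rs (inf_le_inf_right U (le_iSup N i)) (rs inf_le_left τ * rs inf_le_right a) =
        rs (inf_le_inf_right U (le_iSup N i)) 1
      rw [map_mul, map_one, rs_rs, rs_rs, ← heq i, ← hτ' i, rs_rs]
  have hcov : ∀ y : X, y ∈ iSup N ∨ y ∈ U := by
    intro y
    by_cases hy : y ∈ U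
    · exact Or.inr hy
    · left
      have : y ∈ Set.range x := by rw [hx]; exact hy
      obtain ⟨i, rfl⟩ := this
      exact TopologicalSpace.Opens.mem_iSup.2 ⟨i, hN i⟩
  obtain ⟨L, s, t, hL, hUs, hNt, hs⟩ := exists_invertible_two_sections (iSup N) U τ a hfa hcov
  refine ⟨L, s, hL, ?_, ?_⟩
  · apply Groth.Agent.Lib.helper11.SerreGG.isGloballyGenerated_of_genAt L
    intro y
    rcases hcov y with hy | hy
    · exact Groth.Agent.S1645.genAt_of_mem_isoLocus t (hNt hy)
    · exact Groth.Agent.S1645.genAt_of_mem_isoLocus s (hUs hy)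
  · rw [genLocus_eq_isoLocus]
    apply le_antisymm _ hUs
    intro y hy
    by_contra hyU
    have : y ∈ Set.range x := by rw [hx]; exact hyU
    obtain ⟨i, rfl⟩ := this
    have hyN : x i ∈ iSup N := TopologicalSpace.Opens.mem_iSup.2 ⟨i, hN i⟩
    have h1 := hs (x i) hyN hy
    rw [X.mem_basicOpen τ (x i) hyN] at h1
    have h2 : X.presheaf.germ (iSup N) (x i) hyN τ = X.presheaf.germ (N i) (x i) (hN i) (σ i) := by
      rw [← hτ' i]
      exact (TopCat.Presheaf.germ_res_apply X.presheaf (homOfLE (le_iSup N i)) (x i) (hN i) τ).symm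
    rw [h2] at h1
    exact hσ i h1

/-- an affine open meeting only the irreducible components in a given family `𝒯` and containing their generic points -/
theorem exists_affineOpen_generic_of (X : Scheme.{u}) [NoetherianSpace X] (𝒯 : Set (Set X))
    (h𝒯 : 𝒯 ⊆ irreducibleComponents X) :
    ∃ V : X.Opens, IsAffineOpen V ∧
      (∀ y ∈ V, ∀ T' ∈ irreducibleComponents X, y ∈ T' → T' ∈ 𝒯) ∧
      ∀ y : X, closure ({y} : Set X) ∈ 𝒯 → y ∈ V := by
  classical
  have hfin : (irreducibleComponents X).Finite := NoetherianSpace.finite_irreducibleComponents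
  have hfin𝒯 : 𝒯.Finite := hfin.subset h𝒯
  let W : Set X → X.Opens := fun T =>
    ⟨(⋃₀ ((irreducibleComponents X) \ {T}))ᶜ, by
      rw [isOpen_compl_iff]
      rw [Set.sUnion_eq_biUnion]
      exact Set.Finite.isClosed_biUnion (hfin.subset Set.sdiff_subset)
        (fun s hs => isClosed_of_mem_irreducibleComponents s hs.1)⟩
  have hgen : ∀ T ∈ irreducibleComponents X, ∃ η : X, closure ({η} : Set X) = T := by
    intro T hT
    obtain ⟨η, hη⟩ := QuasiSober.sober (hT.1) (isClosed_of_mem_irreducibleComponents T hT)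
    exact ⟨η, hη.def⟩
  have hmemW : ∀ T ∈ irreducibleComponents X, ∀ η : X, closure ({η} : Set X) = T → η ∈ W T := by
    intro T hT η hη
    change η ∈ (⋃₀ ((irreducibleComponents X) \ {T}))ᶜ
    rintro ⟨T', ⟨hT', hne⟩, hηT'⟩
    apply hne
    have hsub : T ⊆ T' := by
      rw [← hη]
      exact (isClosed_of_mem_irreducibleComponents T' hT').closure_subset_iff.mpr
        (Set.singleton_subset_iff.mpr hηT')
    exact (hT.2 hT'.1 hsub).antisymm hsub |>.symm ▸ rfl
  have hV : ∀ T : Set X, ∃ V : X.Opens, (T ∈ irreducibleComponents X →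
      IsAffineOpen V ∧ V ≤ W T ∧ ∀ η : X, closure ({η} : Set X) = T → η ∈ V) := by
    intro T
    by_cases hT : T ∈ irreducibleComponents X
    · obtain ⟨η, hη⟩ := hgen T hT
      obtain ⟨V, hVaff, hηV, hVW⟩ :=
        (Opens.isBasis_iff_nbhd.mp X.isBasis_affineOpens) (hmemW T hT η hη)
      refine ⟨V, fun _ => ⟨hVaff, hVW, ?_⟩⟩
      intro η' hη'
      have : η' = η := by
        have h1 : closure ({η'} : Set X) = closure {η} := hη'.trans hη.symm
        exact ((specializes_iff_closure_subset.mpr h1.ge).antisymm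
          (specializes_iff_closure_subset.mpr h1.le)).eq
      rw [this]; exact hηV
    · exact ⟨⊥, fun h => (hT h).elim⟩
  choose V hV using hV
  -- points of `V T` lie only on `T`
  have honly : ∀ T ∈ irreducibleComponents X, ∀ y ∈ V T, ∀ T' ∈ irreducibleComponents X, y ∈ T' → T' = T := by
    intro T hT y hy T' hT' hyT'
    by_contra hne
    exact (hV T hT).2.1 hy ⟨T', ⟨hT', hne⟩, hyT'⟩
  refine ⟨⨆ T ∈ 𝒯, V T, ?_, ?_, ?_⟩
  · apply IsAffineOpen.biSup_of_disjoint hfin𝒯 (fun T hT => (hV T (h𝒯 hT)).1)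
    intro T hT T' hT' hne
    change Disjoint (V T) (V T')
    rw [disjoint_iff_inf_le]
    intro y ⟨hy, hy'⟩
    have hy0 : y ∈ ⋃₀ irreducibleComponents X := by rw [sUnion_irreducibleComponents]; trivial
    obtain ⟨T'', hT'', hyT''⟩ := hy0
    have h1 := honly T (h𝒯 hT) y hy T'' hT'' hyT''
    have h2 := honly T' (h𝒯 hT') y hy' T'' hT'' hyT''
    exact (hne (h1.symm.trans h2)).elim
  · intro y hy T' hT' hyT'
    obtain ⟨T, hyT⟩ := Opens.mem_iSup.mp hy
    obtain ⟨hT, hyT⟩ := Opens.mem_iSup.mp hyT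
    rw [honly T (h𝒯 hT) y hyT T' hT' hyT']
    exact hT
  · intro y hy
    have := (hV _ (h𝒯 hy)).2.2 y rfl
    exact Opens.mem_iSup.mpr ⟨_, Opens.mem_iSup.mpr ⟨hy, this⟩⟩

/-- an affine open containing a given point and the generic points of all irreducible components -/
theorem exists_affineOpen_mem_generic (X : Scheme.{u}) [NoetherianSpace X] (x : X) :
    ∃ U : X.Opens, IsAffineOpen U ∧ x ∈ U ∧ ∀ y : X, IsGen X y → y ∈ U := by
  classical
  have hfin : (irreducibleComponents X).Finite := NoetherianSpace.finite_irreducibleComponents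
  let 𝒯 : Set (Set X) := {T | T ∈ irreducibleComponents X ∧ x ∉ T}
  have h𝒯 : 𝒯 ⊆ irreducibleComponents X := fun T hT => hT.1
  obtain ⟨V₁, hV₁, hV₁only, hV₁gen⟩ := exists_affineOpen_generic_of X 𝒯 h𝒯
  -- the complement of the components not through `x`
  let Y : X.Opens := ⟨(⋃₀ 𝒯)ᶜ, by
    rw [isOpen_compl_iff, Set.sUnion_eq_biUnion]
    exact Set.Finite.isClosed_biUnion (hfin.subset h𝒯)
      (fun s hs => isClosed_of_mem_irreducibleComponents s hs.1)⟩
  have hxY : x ∈ Y := by
    rintro ⟨T, hT, hxT⟩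
    exact hT.2 hxT
  obtain ⟨V₀, hV₀, hxV₀, hV₀Y⟩ := (Opens.isBasis_iff_nbhd.mp X.isBasis_affineOpens) hxY
  have hdisj : Disjoint V₀ V₁ := by
    rw [disjoint_iff_inf_le]
    intro y ⟨hy0, hy1⟩
    have hy : y ∈ ⋃₀ irreducibleComponents X := by rw [sUnion_irreducibleComponents]; trivial
    obtain ⟨T, hT, hyT⟩ := hy
    have hT𝒯 := hV₁only y hy1 T hT hyT
    exact (hV₀Y hy0 ⟨T, hT𝒯, hyT⟩).elim
  refine ⟨V₀ ⊔ V₁, hV₀.sup_of_disjoint hV₁ hdisj, Or.inl hxV₀, ?_⟩
  intro y hy
  by_cases hxy : x ∈ closure ({y} : Set X)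
  · left
    have hsp : y ⤳ x := specializes_iff_mem_closure.mpr hxy
    exact hsp.mem_open V₀.isOpen hxV₀
  · right
    exact hV₁gen y ⟨hy, hxy⟩

/-- **Stacks 09NZ**: a separated Noetherian scheme of dimension `≤ 1` has an ample invertible module -/
theorem exists_isAmple_of_dim_le_one (X : Scheme.{u}) [IsNoetherian X] [X.IsSeparated]
    (hdim : topologicalKrullDim X ≤ 1) : ∃ L : X.Modules, CohB1.IsAmple L := by
  haveI : NoetherianSpace X := IsNoetherian.noetherianSpace (X := X)
  apply Groth.Agent.S1664.result X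
  intro x
  obtain ⟨U, hU, hxU, hgen⟩ := exists_affineOpen_mem_generic X x
  have hcl : ∀ y : X, y ∉ U → IsClosed ({y} : Set X) := fun y hy =>
    isClosed_singleton_of_dim_le_one X hdim y (fun h => hy (hgen y h))
  have hfin : ((U : Set X)ᶜ).Finite := by
    have := Groth.Agent.Lib.Helper18.AbsCurveDiv.finite_inter_of_forall_isClosed_singleton
      ((U : Set X)ᶜ) Set.univ U.isOpen.isClosed_compl isOpen_univ (fun y hy => hcl y hy.1)
    rwa [Set.inter_univ] at this
  obtain ⟨L, s, hL, hgg, hs⟩ := exists_globallyGenerated_genLocus_eq X hdim U hU hfin hcl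
  exact ⟨L, s, hL, hgg, hs ▸ hxU, hs ▸ hU⟩

end Groth.Agent.Lib.Helper18.Pole
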