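import Mathlib

/-!
# `dim_k R/(t^n) = n` (helper18)

For a `k`-algebra `R`, a nonzerodivisor `t` with `k → R/(t)` bijective: `R/(t^n)` has `k`-dimension `n`.
-/

set_option autoImplicit false
universe u v

namespace Groth.Agent.Lib.Helper18.QuotPow

open Module

variable (k : Type u) (R : Type v) [Field k] [CommRing R] [Algebra k R]

/-- multiplication by `t` as a map `R/(t^n) → R/(t^(n+1))` -/
noncomputable def mulMap (t : R) (n : ℕ) :
    (R ⧸ Ideal.span {t ^ n}) →ₗ[R] (R ⧸ Ideal.span {t ^ (n + 1)}) :=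
  Submodule.mapQ (Ideal.span {t ^ n}) (Ideal.span {t ^ (n + 1)}) (LinearMap.mulLeft R t) (by
    intro x hx
    rw [Submodule.mem_comap, LinearMap.mulLeft_apply]
    rw [Ideal.mem_span_singleton'] at hx ⊢
    obtain ⟨a, rfl⟩ := hx
    exact ⟨a, by ring⟩)

/-- the projection `R/(t^(n+1)) → R/(t)` -/
noncomputable def projMap (t : R) (n : ℕ) :
    (R ⧸ Ideal.span {t ^ (n + 1)}) →ₗ[R] (R ⧸ Ideal.span {t}) :=
  Submodule.mapQ (Ideal.span {t ^ (n + 1)}) (Ideal.span {t}) LinearMap.id (by
    intro x hx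
    rw [Submodule.mem_comap, LinearMap.id_apply]
    rw [Ideal.mem_span_singleton'] at hx ⊢
    obtain ⟨a, rfl⟩ := hx
    exact ⟨a * t ^ n, by ring⟩)

theorem mulMap_injective (t : R) (ht : IsSMulRegular R t) (n : ℕ) :
    Function.Injective (mulMap R t n) := by
  rw [← LinearMap.ker_eq_bot, LinearMap.ker_eq_bot']
  intro x hx
  obtain ⟨r, rfl⟩ := Submodule.Quotient.mk_surjective _ x
  change Submodule.Quotient.mk (t * r) = 0 at hx
  rw [Submodule.Quotient.mk_eq_zero, Ideal.mem_span_singleton'] at hx ⊢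
  obtain ⟨a, ha⟩ := hx
  refine ⟨a, ?_⟩
  apply ht
  change t * (a * t ^ n) = t * r
  rw [← ha]; ring

theorem projMap_surjective (t : R) (n : ℕ) : Function.Surjective (projMap R t n) := by
  intro x
  obtain ⟨r, rfl⟩ := Submodule.Quotient.mk_surjective _ x
  exact ⟨Submodule.Quotient.mk r, rfl⟩

theorem range_mulMap (t : R) (n : ℕ) :
    LinearMap.range (mulMap R t n) = LinearMap.ker (projMap R t n) := by
  ext x
  obtain ⟨r, rfl⟩ := Submodule.Quotient.mk_surjective _ x
  rw [LinearMap.mem_range, LinearMap.mem_ker]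
  change _ ↔ Submodule.Quotient.mk r = 0
  rw [Submodule.Quotient.mk_eq_zero, Ideal.mem_span_singleton']
  constructor
  · rintro ⟨y, hy⟩
    obtain ⟨s, rfl⟩ := Submodule.Quotient.mk_surjective _ y
    change Submodule.Quotient.mk (t * s) = Submodule.Quotient.mk r at hy
    rw [Submodule.Quotient.eq, Ideal.mem_span_singleton'] at hy
    obtain ⟨a, ha⟩ := hy
    refine ⟨s - a * t ^ n, ?_⟩
    have : r = t * s - a * t ^ (n + 1) := by rw [ha]; ring
    rw [this]; ring
  · rintro ⟨a, rfl⟩
    refine ⟨Submodule.Quotient.mk a, ?_⟩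
    change Submodule.Quotient.mk (t * a) = Submodule.Quotient.mk (a * t)
    rw [mul_comm]

/-- `dim_k R/(t^n) = n` -/
theorem finite_and_finrank_quot_span_pow (t : R) (ht : IsSMulRegular R t)
    (hk : ∀ r : R, ∃ c : k, r - algebraMap k R c ∈ Ideal.span {t})
    (h1 : (1 : R) ∉ Ideal.span {t}) (n : ℕ) :
    Module.Finite k (R ⧸ Ideal.span {t ^ n}) ∧ finrank k (R ⧸ Ideal.span {t ^ n}) = n := by
  -- `R/(t)` is one-dimensional
  have hW : Module.Finite k (R ⧸ Ideal.span {t}) ∧ finrank k (R ⧸ Ideal.span {t}) = 1 := by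
    haveI : Nontrivial (R ⧸ Ideal.span {t}) :=
      Ideal.Quotient.nontrivial_iff.mpr (fun h => h1 (h ▸ Submodule.mem_top))
    have hbij : Function.Bijective (Algebra.linearMap k (R ⧸ Ideal.span {t})) := by
      refine ⟨(algebraMap k (R ⧸ Ideal.span {t})).injective, fun x => ?_⟩
      obtain ⟨r, rfl⟩ := Ideal.Quotient.mk_surjective x
      obtain ⟨c, hc⟩ := hk r
      refine ⟨c, ?_⟩
      change algebraMap k (R ⧸ Ideal.span {t}) c = _
      rw [IsScalarTower.algebraMap_apply k R (R ⧸ Ideal.span {t})]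
      exact (Ideal.Quotient.eq.mpr hc).symm
    let e : k ≃ₗ[k] (R ⧸ Ideal.span {t}) := LinearEquiv.ofBijective _ hbij
    exact ⟨Module.Finite.equiv e, by rw [← e.finrank_eq, finrank_self]⟩
  induction n with
  | zero =>
    have htop : Ideal.span {t ^ 0} = (⊤ : Ideal R) := by
      rw [pow_zero, Ideal.span_singleton_one]
    haveI : Subsingleton (R ⧸ Ideal.span {t ^ 0}) := by
      rw [htop]; exact Submodule.Quotient.subsingleton_iff.mpr rfl
    exact ⟨inferInstance, finrank_zero_of_subsingleton⟩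
  | succ n ih =>
    obtain ⟨ihf, ihr⟩ := ih
    obtain ⟨hWf, hWr⟩ := hW
    let f : (R ⧸ Ideal.span {t ^ n}) →ₗ[k] (R ⧸ Ideal.span {t ^ (n + 1)}) :=
      (mulMap R t n).restrictScalars k
    let g : (R ⧸ Ideal.span {t ^ (n + 1)}) →ₗ[k] (R ⧸ Ideal.span {t}) :=
      (projMap R t n).restrictScalars k
    have hf : Function.Injective f := mulMap_injective R t ht n
    have hg : Function.Surjective g := projMap_surjective R t n
    have hfg : LinearMap.range f = LinearMap.ker g := by
      ext x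
      have := congrArg (fun S => x ∈ S) (range_mulMap R t n)
      exact iff_of_eq this
    let e1 : (R ⧸ Ideal.span {t ^ n}) ≃ₗ[k] LinearMap.range f := LinearEquiv.ofInjective f hf
    let e2 : ((R ⧸ Ideal.span {t ^ (n + 1)}) ⧸ LinearMap.ker g) ≃ₗ[k] (R ⧸ Ideal.span {t}) :=
      g.quotKerEquivOfSurjective hg
    haveI : Module.Finite k (LinearMap.ker g) := by
      rw [← hfg]; exact Module.Finite.equiv e1
    haveI : Module.Finite k ((R ⧸ Ideal.span {t ^ (n + 1)}) ⧸ LinearMap.ker g) :=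
      Module.Finite.equiv e2.symm
    haveI hfin : Module.Finite k (R ⧸ Ideal.span {t ^ (n + 1)}) :=
      Module.Finite.of_submodule_quotient (LinearMap.ker g)
    refine ⟨hfin, ?_⟩
    have h2 := Submodule.finrank_quotient_add_finrank (LinearMap.ker g)
    rw [e2.finrank_eq, hWr] at h2
    have h3 : finrank k (LinearMap.ker g) = n := by
      have h4 : finrank k (LinearMap.range f) = finrank k (LinearMap.ker g) := by rw [hfg]
      rw [← h4, ← e1.finrank_eq, ihr]
    omega

end Groth.Agent.Lib.Helper18.QuotPow
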