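import Mathlib
import Groth.Agent.Lib.Helper18.ResDeg
import Groth.Agent.Lib.Helper18.QuotPow
import Groth.Agent.Lib.Helper17.RegNear

/-!
# `h⁰(O_X / I_p^n) = n` at a regular rational closed point of an integral curve (helper18)
-/

set_option autoImplicit false
set_option linter.style.haveILetI false
universe u
open CategoryTheory CategoryTheory.Limits AlgebraicGeometry Opposite TopologicalSpace Module
open Scheme.Modules

attribute [local instance] Curv2.stalkAlgebra

namespace Groth.Agent.Lib.Helper18.PtPow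

open Groth.Agent.Lib.Helper18

variable (k : Type u) [Field k] (X : Scheme.{u}) [X.Over (Spec (CommRingCat.of k))]
  [IsProper (X ↘ Spec (CommRingCat.of k))]

omit [IsProper (X ↘ Spec (CommRingCat.of k))] in
/-- `H⁰(O_X/I_p^n) ≅ O_{X,p}/m_p^n` for a closed point `p` -/
theorem finrank_H0_quotMod_pow_eq {p : X} (hp : IsClosed ({p} : Set X)) (n : ℕ) (hn : n ≠ 0) :
    finrank k (Coh.HH X (ClSub.quotMod ((Scheme.IdealSheafData.vanishingIdeal ⟨{p}, hp⟩) ^ n)) 0) =
      finrank k (X.presheaf.stalk p ⧸ (IsLocalRing.maximalIdeal (X.presheaf.stalk p)) ^ n) := by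
  set I := Scheme.IdealSheafData.vanishingIdeal ⟨{p}, hp⟩ with hIdef
  set Z := I ^ n with hZdef
  have hsupp : ((Z.support : Closeds X) : Set X) = {p} := by
    rw [hZdef, Scheme.IdealSheafData.support_pow _ n hn]
    exact Scheme.IdealSheafData.coe_support_vanishingIdeal _
  have hpr : p ∈ Set.range Z.subschemeι := by
    rw [Z.range_subschemeι, hsupp]
    rfl
  obtain ⟨z, hz⟩ := hpr
  have hsub : ∀ w : Z.subscheme, w = z := by
    intro w
    apply Z.subschemeι.isEmbedding.injective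
    have hw : Z.subschemeι w ∈ Set.range Z.subschemeι := ⟨w, rfl⟩
    rw [Z.range_subschemeι, hsupp] at hw
    rw [hz]
    exact hw
  let R : Type u := Γ(Z.subscheme, Z.subschemeι ⁻¹ᵁ (⊤ : X.Opens))
  letI : CommRing R := inferInstanceAs (CommRing Γ(Z.subscheme, Z.subschemeι ⁻¹ᵁ (⊤ : X.Opens)))
  letI modR : Module k R := HH.sectionsModuleOver k (ClSub.quotMod Z)
  let e : Coh.HH X (ClSub.quotMod Z) 0 ≃ₗ[k] R := HH.equiv₀Over k (ClSub.quotMod Z)
  -- the germ map `R → O_{Z,z}` is bijective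
  let gZ : R →+* Z.subscheme.presheaf.stalk z :=
    (Z.subscheme.presheaf.germ (Z.subschemeι ⁻¹ᵁ (⊤ : X.Opens)) z trivial).hom
  have hopen : ∀ U : Z.subscheme.Opens, z ∈ U → U = Z.subschemeι ⁻¹ᵁ (⊤ : X.Opens) := by
    intro U hzU
    ext w
    rw [hsub w]
    exact ⟨fun _ => trivial, fun _ => hzU⟩
  have hgsurj : Function.Surjective gZ := by
    intro t
    obtain ⟨U, hzU, s, rfl⟩ := TopCat.Presheaf.exists_germ_eq Z.subscheme.presheaf t
    obtain rfl := hopen U hzU
    exact ⟨s, rfl⟩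
  have hginj : Function.Injective gZ := by
    rw [injective_iff_map_eq_zero]
    intro r hr
    have hr' : Z.subscheme.presheaf.germ (Z.subschemeι ⁻¹ᵁ (⊤ : X.Opens)) z trivial r =
        Z.subscheme.presheaf.germ (Z.subschemeι ⁻¹ᵁ (⊤ : X.Opens)) z trivial (0 : R) := by
      rw [map_zero]; exact hr
    obtain ⟨W, hzW, iU, iV, hW⟩ := TopCat.Presheaf.germ_eq Z.subscheme.presheaf
      (U := Z.subschemeι ⁻¹ᵁ (⊤ : X.Opens)) (V := Z.subschemeι ⁻¹ᵁ (⊤ : X.Opens)) z trivial trivial r 0 hr'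
    obtain rfl := hopen W hzW
    have h1 : iU = 𝟙 _ := Subsingleton.elim _ _
    rw [map_zero, h1] at hW
    simp at hW
    exact hW
  -- the stalk map
  let ψ : X.presheaf.stalk (Z.subschemeι z) →+* Z.subscheme.presheaf.stalk z :=
    (Z.subschemeι.stalkMap z).hom
  have hψsurj : Function.Surjective ψ := Z.subschemeι.stalkMap_surjective z
  have hker : RingHom.ker ψ = (IsLocalRing.maximalIdeal (X.presheaf.stalk (Z.subschemeι z))) ^ n := by
    obtain ⟨W, hW, hpW, -⟩ :=
      exists_isAffineOpen_mem_and_subset (x := Z.subschemeι z) (U := ⊤) trivial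
    have hk := Groth.Agent.Lib.helper17.RegNear.ker_stalkMap_eq_map Z.subschemeι z W hW hpW
    have h1 : RingHom.ker (Z.subschemeι.app W).hom = Z.ideal ⟨W, hW⟩ :=
      (Scheme.Hom.ker_apply Z.subschemeι ⟨W, hW⟩).symm.trans (by rw [Z.ker_subschemeι])
    have key : ∀ (y : X) (_ : y = p) (hyW : y ∈ W),
        I.ideal ⟨W, hW⟩ = (hW.primeIdealOf ⟨y, hyW⟩).asIdeal := by
      rintro y rfl hyW
      exact RegPoint.vanishingIdeal_singleton_ideal_of_mem hp ⟨W, hW⟩ hyW
    have h2 : Z.ideal ⟨W, hW⟩ = (hW.primeIdealOf ⟨Z.subschemeι z, hpW⟩).asIdeal ^ n := by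
      show (I ^ n).ideal ⟨W, hW⟩ = _
      rw [Scheme.IdealSheafData.ideal_pow, Pi.pow_apply, key _ hz hpW]
    letI := X.presheaf.algebra_section_stalk (⟨Z.subschemeι z, hpW⟩ : W)
    haveI : IsLocalization.AtPrime (X.presheaf.stalk (Z.subschemeι z))
        (hW.primeIdealOf ⟨Z.subschemeι z, hpW⟩).asIdeal := hW.isLocalization_stalk ⟨_, hpW⟩
    change (RingHom.ker (Z.subschemeι.app W).hom).map
      (algebraMap Γ(X, W) (X.presheaf.stalk (Z.subschemeι z))) = RingHom.ker ψ at hk
    rw [← hk, h1, h2, Ideal.map_pow,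
      IsLocalization.AtPrime.map_eq_maximalIdeal (hW.primeIdealOf ⟨Z.subschemeι z, hpW⟩).asIdeal
        (X.presheaf.stalk (Z.subschemeι z))]
  let θ : (X.presheaf.stalk (Z.subschemeι z) ⧸
      (IsLocalRing.maximalIdeal (X.presheaf.stalk (Z.subschemeι z))) ^ n) ≃+*
        Z.subscheme.presheaf.stalk z :=
    (Ideal.quotEquivOfEq hker.symm).trans (RingHom.quotientKerEquivOfSurjective hψsurj)
  have hθ : ∀ a : X.presheaf.stalk (Z.subschemeι z),
      θ (Ideal.Quotient.mk _ a) = ψ a := fun a => rfl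
  let τ : R ≃+* (X.presheaf.stalk (Z.subschemeι z) ⧸
      (IsLocalRing.maximalIdeal (X.presheaf.stalk (Z.subschemeι z))) ^ n) :=
    (RingEquiv.ofBijective gZ ⟨hginj, hgsurj⟩).trans θ.symm
  have hτ : ∀ (a : k) (r : R), τ (a • r) = a • τ r := by
    intro a r
    have h1 : a • r = (Z.subschemeι.app ⊤).hom (Coh.toGlobal (X ↘ Spec (CommRingCat.of k)) a) * r := rfl
    have h2 : τ ((Z.subschemeι.app ⊤).hom (Coh.toGlobal (X ↘ Spec (CommRingCat.of k)) a)) =
        algebraMap k _ a := by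
      change θ.symm (gZ _) = _
      rw [RingEquiv.symm_apply_eq]
      change _ = θ (Ideal.Quotient.mk _ ((X.presheaf.germ ⊤ (Z.subschemeι z) trivial).hom
        (Coh.toGlobal (X ↘ Spec (CommRingCat.of k)) a)))
      rw [hθ]
      exact (Scheme.Hom.germ_stalkMap_apply Z.subschemeι ⊤ z trivial _).symm
    rw [h1, map_mul, h2, Algebra.smul_def]
  let τl : R ≃ₗ[k] (X.presheaf.stalk (Z.subschemeι z) ⧸
      (IsLocalRing.maximalIdeal (X.presheaf.stalk (Z.subschemeι z))) ^ n) :=
    { τ with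
      map_smul' := fun a r => hτ a r }
  have htr : ∀ (a b : X), a = b →
      finrank k (X.presheaf.stalk a ⧸ (IsLocalRing.maximalIdeal (X.presheaf.stalk a)) ^ n) =
        finrank k (X.presheaf.stalk b ⧸ (IsLocalRing.maximalIdeal (X.presheaf.stalk b)) ^ n) := by
    rintro a _ rfl
    rfl
  rw [e.finrank_eq, τl.finrank_eq]
  exact htr _ _ hz

omit [IsProper (X ↘ Spec (CommRingCat.of k))] in
/-- `h⁰(O_X/I_p^n) = n` at a regular `k`-rational closed point of an integral curve -/
theorem finrank_H0_quotMod_pow [IsIntegral X] (hdim : topologicalKrullDim X = 1) {p : X}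
    (hp : IsClosed ({p} : Set X)) (hrat : Function.Surjective (Curv2.resMap k X p))
    (hreg : IsRegularLocalRing (X.presheaf.stalk p)) (n : ℕ) (hn : n ≠ 0) :
    finrank k (Coh.HH X (ClSub.quotMod ((Scheme.IdealSheafData.vanishingIdeal ⟨{p}, hp⟩) ^ n)) 0) = n := by
  rw [finrank_H0_quotMod_pow_eq k X hp n hn]
  obtain ⟨t, ht0, ht⟩ := RegPoint.exists_uniformizer_of_isRegularLocalRing hdim.le hp
    (CurvePt.ne_genericPoint_of_isClosed hdim hp) hreg
  rw [ht, Ideal.span_singleton_pow]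
  have hreg' : IsSMulRegular (X.presheaf.stalk p) t := by
    intro a b hab
    exact mul_left_cancel₀ ht0 hab
  have h1 : (1 : X.presheaf.stalk p) ∉ Ideal.span {t} := by
    rw [← ht]
    intro h
    exact (IsLocalRing.maximalIdeal.isMaximal _).ne_top ((Ideal.eq_top_iff_one _).2 h)
  have hk : ∀ r : X.presheaf.stalk p, ∃ c : k, r - algebraMap k _ c ∈ Ideal.span {t} := by
    intro r
    obtain ⟨c, hc⟩ := hrat ((X.residue p).hom r)
    refine ⟨c, ?_⟩
    rw [← ht]
    have h2 : (X.residue p).hom (r - algebraMap k (X.presheaf.stalk p) c) = 0 := by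
      rw [map_sub, sub_eq_zero]
      exact hc.symm
    exact (IsLocalRing.residue_eq_zero_iff _).mp h2
  exact (QuotPow.finite_and_finrank_quot_span_pow k (X.presheaf.stalk p) t hreg' hk h1 n).2

end Groth.Agent.Lib.Helper18.PtPow
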