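import Mathlib
import Groth.Prelude.Def_CAlg

/-!
# helper18: finiteness of sections over the punctured spectrum of a normal local ring (algebra)

* `exists_regular_pair` : depth `≥ 2` gives `f, g ∈ 𝔪`, `f ≠ 0`, `g` regular mod `f`.
* `pow_dvd_of_pow_dvd_pow_mul`, `mem_range_of_mul_pow` : algebraic Hartogs `A_f ∩ A_g = A`.
* `exists_coeff_mul_pow`, `isIntegral_of_smul_pow` : `x` integral over `A` if `f^N x`, `g^N' x` are.
* `finite_of_embedding` : `B ↪ L` finite étale over `K = Frac A`, `B` integral up to powers of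
  `f` and `g` ⟹ `B` finite over the Noetherian normal domain `A`.
* `exists_pow_smul_isIntegral`, `finite_of_localizations` : version with localizations `A_f → B_f`.
-/

set_option autoImplicit false
universe u
open IsLocalRing Polynomial TensorProduct

namespace Groth.Agent.Lib.Helper18.PuncFin


/-- from depth `≥ 2` extract a regular pair. -/
theorem exists_regular_pair (A : Type u) [CommRing A] [IsLocalRing A] [IsDomain A]
    (h : (2 : ℕ∞) ≤ LocCoh.depth A A) :
    ∃ f g : A, f ∈ maximalIdeal A ∧ g ∈ maximalIdeal A ∧ f ≠ 0 ∧ ∀ y, f ∣ g * y → f ∣ y := by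
  classical
  unfold LocCoh.depth LocCoh.idealDepth at h
  have hne : ¬ (maximalIdeal A • (⊤ : Submodule A A) = ⊤) := by
    intro hcon
    have h1 : (1 : A) ∈ maximalIdeal A • (⊤ : Submodule A A) := by rw [hcon]; trivial
    have h2 : maximalIdeal A • (⊤ : Submodule A A) ≤ (maximalIdeal A : Submodule A A) := by
      rw [Submodule.smul_le]
      intro r hr n _
      exact (maximalIdeal A).mul_mem_right n hr
    exact (maximalIdeal.isMaximal A).ne_top ((Ideal.eq_top_iff_one _).mpr (h2 h1))
  rw [if_neg hne] at h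
  obtain ⟨rs, hrs, hlen⟩ : ∃ rs : List A, (RingTheory.Sequence.IsWeaklyRegular A rs ∧
      ∀ r ∈ rs, r ∈ maximalIdeal A) ∧ 2 ≤ rs.length := by
    by_contra hcon
    push Not at hcon
    have : (⨆ (rs : List A) (_ : RingTheory.Sequence.IsWeaklyRegular A rs ∧
        ∀ r ∈ rs, r ∈ maximalIdeal A), (rs.length : ℕ∞)) ≤ 1 := by
      apply iSup₂_le
      intro rs hrs
      have := hcon rs hrs
      have h1 : rs.length ≤ 1 := by omega
      exact_mod_cast h1
    have h2 : (2 : ℕ∞) ≤ 1 := h.trans this
    exact absurd h2 (by norm_num)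
  obtain ⟨hreg, hmem⟩ := hrs
  match rs, hreg, hmem, hlen with
  | f :: g :: tl, hreg, hmem, _ =>
    rw [RingTheory.Sequence.isWeaklyRegular_cons_iff] at hreg
    obtain ⟨hf, hreg2⟩ := hreg
    rw [RingTheory.Sequence.isWeaklyRegular_cons_iff] at hreg2
    obtain ⟨hg, -⟩ := hreg2
    refine ⟨f, g, hmem f (by simp), hmem g (by simp), ?_, ?_⟩
    · intro hf0
      subst hf0
      have := hf (show (0 : A) • (1 : A) = (0 : A) • (0 : A) by simp)
      exact one_ne_zero this
    · intro y hy
      have h1 : g • (Submodule.Quotient.mk y : QuotSMulTop f A) = 0 := by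
        rw [← Submodule.Quotient.mk_smul, Submodule.Quotient.mk_eq_zero]
        obtain ⟨z, hz⟩ := hy
        rw [Submodule.mem_smul_pointwise_iff_exists]
        exact ⟨z, trivial, by rw [smul_eq_mul, smul_eq_mul, hz]⟩
      have h2 : (Submodule.Quotient.mk y : QuotSMulTop f A) = 0 := by
        apply hg
        show g • (Submodule.Quotient.mk y : QuotSMulTop f A) = g • 0
        rw [h1, smul_zero]
      rw [Submodule.Quotient.mk_eq_zero, Submodule.mem_smul_pointwise_iff_exists] at h2
      obtain ⟨z, -, hz⟩ := h2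
      exact ⟨z, by rw [← hz, smul_eq_mul]⟩



theorem pow_dvd_of_pow_dvd_mul {A : Type*} [CommRing A] [IsDomain A] {f g : A} (hf : f ≠ 0)
    (h : ∀ y, f ∣ g * y → f ∣ y) : ∀ (n : ℕ) (y : A), f ^ n ∣ g * y → f ^ n ∣ y := by
  intro n
  induction n with
  | zero => intro y _; simp
  | succ n ih =>
    intro y hy
    have h1 : f ∣ g * y := (dvd_pow_self f (Nat.succ_ne_zero n)).trans hy
    obtain ⟨y', rfl⟩ := h y h1
    have h2 : f * f ^ n ∣ f * (g * y') := by
      rw [← pow_succ']
      convert hy using 1
      ring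
    have h3 : f ^ n ∣ g * y' := (mul_dvd_mul_iff_left hf).mp h2
    rw [pow_succ']
    exact mul_dvd_mul_left f (ih y' h3)

theorem pow_dvd_of_pow_dvd_pow_mul {A : Type*} [CommRing A] [IsDomain A] {f g : A} (hf : f ≠ 0)
    (h : ∀ y, f ∣ g * y → f ∣ y) (n : ℕ) : ∀ (k : ℕ) (y : A), f ^ n ∣ g ^ k * y → f ^ n ∣ y := by
  intro k
  induction k with
  | zero => intro y hy; simpa using hy
  | succ k ih =>
    intro y hy
    apply ih
    apply pow_dvd_of_pow_dvd_mul hf h
    convert hy using 1
    ring

/-- algebraic Hartogs for a regular pair. -/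
theorem mem_range_of_mul_pow {A K : Type*} [CommRing A] [IsDomain A] [Field K] [Algebra A K]
    [IsFractionRing A K] {f g : A} (hf : f ≠ 0) (h : ∀ y, f ∣ g * y → f ∣ y) (x : K) (n k : ℕ)
    (a c : A) (ha : x * algebraMap A K f ^ n = algebraMap A K a)
    (hc : x * algebraMap A K g ^ k = algebraMap A K c) : ∃ z : A, algebraMap A K z = x := by
  have hinj : Function.Injective (algebraMap A K) := IsFractionRing.injective A K
  have h1 : g ^ k * a = c * f ^ n := by
    apply hinj
    simp only [map_mul, map_pow]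
    rw [← ha, ← hc]
    ring
  have h2 : f ^ n ∣ a := pow_dvd_of_pow_dvd_pow_mul hf h n k a ⟨c, by rw [h1]; ring⟩
  obtain ⟨z, rfl⟩ := h2
  refine ⟨z, ?_⟩
  have hfn : algebraMap A K f ^ n ≠ 0 := by
    apply pow_ne_zero
    intro h0
    exact hf (hinj (by rw [h0, map_zero]))
  apply mul_right_cancel₀ hfn
  rw [ha, map_mul, map_pow]
  ring



theorem exists_coeff_mul_pow {A K L : Type*} [CommRing A] [IsDomain A] [IsIntegrallyClosed A]
    [Field K] [Algebra A K] [IsFractionRing A K] [Field L] [Algebra K L] [Algebra A L]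
    [IsScalarTower A K L] (x : L) (t : A) (ht : t ≠ 0) (hx : IsIntegral A (t • x)) (i : ℕ) :
    ∃ a : A, (minpoly K x).coeff i * algebraMap A K t ^ ((minpoly K x).natDegree - i) =
      algebraMap A K a := by
  have hinj : Function.Injective (algebraMap A K) := IsFractionRing.injective A K
  have hr : algebraMap A K t ≠ 0 := fun h0 => ht (hinj (by rw [h0, map_zero]))
  have hsm : algebraMap A K t • x = t • x := algebraMap_smul K t x
  have hxK : IsIntegral K x := by
    have h1 : IsIntegral K (t • x) := hx.tower_top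
    have h2 : x = (algebraMap A K t)⁻¹ • (t • x) := by
      rw [← hsm, smul_smul, inv_mul_cancel₀ hr, one_smul]
    rw [h2]
    exact h1.smul _
  have h1 : minpoly K (algebraMap A K t • x) = (minpoly K x).scaleRoots (algebraMap A K t) :=
    IsIntegrallyClosed.minpoly_smul hr hxK
  have h2 : minpoly K (t • x) = (minpoly A (t • x)).map (algebraMap A K) :=
    minpoly.isIntegrallyClosed_eq_field_fractions' K hx
  rw [hsm, h2] at h1
  refine ⟨(minpoly A (t • x)).coeff i, ?_⟩
  have := congrArg (fun p => p.coeff i) h1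
  simp only [coeff_map, coeff_scaleRoots] at this
  exact this.symm

theorem isIntegral_of_smul_pow {A K L : Type*} [CommRing A] [IsDomain A] [IsIntegrallyClosed A]
    [Field K] [Algebra A K] [IsFractionRing A K] [Field L] [Algebra K L] [Algebra A L]
    [IsScalarTower A K L] {f g : A} (hf : f ≠ 0) (hg : g ≠ 0) (h : ∀ y, f ∣ g * y → f ∣ y)
    (x : L) (N N' : ℕ) (hxf : IsIntegral A (f ^ N • x)) (hxg : IsIntegral A (g ^ N' • x)) :
    IsIntegral A x := by
  have hinj : Function.Injective (algebraMap A K) := IsFractionRing.injective A K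
  have hr : algebraMap A K (f ^ N) ≠ 0 := fun h0 =>
    pow_ne_zero N hf (hinj (by rw [h0, map_zero]))
  have hxK : IsIntegral K x := by
    have h1 : IsIntegral K (f ^ N • x) := hxf.tower_top
    have hsm : algebraMap A K (f ^ N) • x = f ^ N • x := algebraMap_smul K _ x
    have h2 : x = (algebraMap A K (f ^ N))⁻¹ • (f ^ N • x) := by
      rw [← hsm, smul_smul, inv_mul_cancel₀ hr, one_smul]
    rw [h2]
    exact h1.smul _
  set p := minpoly K x with hp
  have hlift : p ∈ Polynomial.lifts (algebraMap A K) := by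
    rw [Polynomial.lifts_iff_coeff_lifts]
    intro i
    obtain ⟨a, ha⟩ := exists_coeff_mul_pow (K := K) x (f ^ N) (pow_ne_zero N hf) hxf i
    obtain ⟨c, hc⟩ := exists_coeff_mul_pow (K := K) x (g ^ N') (pow_ne_zero N' hg) hxg i
    rw [map_pow, ← pow_mul] at ha hc
    obtain ⟨z, hz⟩ := mem_range_of_mul_pow hf h (p.coeff i) _ _ a c ha hc
    exact ⟨z, hz⟩
  obtain ⟨q, hq, -, hqm⟩ := Polynomial.lifts_and_degree_eq_and_monic hlift (minpoly.monic hxK)
  refine ⟨q, hqm, ?_⟩
  have : Polynomial.aeval x p = 0 := minpoly.aeval K x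
  rw [← hq, Polynomial.aeval_map_algebraMap] at this
  exact this



/-- **Core finiteness**: an `A`-algebra `B` embedded in a finite étale `K`-algebra, integral over
`A` up to powers of each member of a regular pair, is finite over the Noetherian normal domain `A`. -/
theorem finite_of_embedding
    (A : Type u) [CommRing A] [IsDomain A] [IsNoetherianRing A] [IsIntegrallyClosed A]
    (B : Type u) [CommRing B] [Algebra A B]
    {f g : A} (hf : f ≠ 0) (hg : g ≠ 0) (h : ∀ y, f ∣ g * y → f ∣ y)
    (hintf : ∀ b : B, ∃ N : ℕ, IsIntegral A (f ^ N • b))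
    (hintg : ∀ b : B, ∃ N : ℕ, IsIntegral A (g ^ N • b))
    (K : Type u) [Field K] [Algebra A K] [IsFractionRing A K]
    (L : Type u) [CommRing L] [Algebra K L] [Algebra A L] [IsScalarTower A K L]
    [Module.Finite K L] [Algebra.FormallyEtale K L]
    (ρ : B →ₐ[A] L) (hρ : Function.Injective ρ) : Module.Finite A B := by
  classical
  obtain ⟨I, hI, Ai, hFi, hAlg, e, hsep⟩ :=
    (Algebra.FormallyEtale.iff_exists_algEquiv_prod K L).mp inferInstance
  haveI := hI
  letI := hFi
  letI := hAlg
  haveI := hsep
  letI algA : ∀ i, Algebra A (Ai i) := fun i =>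
    ((algebraMap K (Ai i)).comp (algebraMap A K)).toAlgebra
  haveI tower : ∀ i, IsScalarTower A K (Ai i) := fun i =>
    IsScalarTower.of_algebraMap_eq (fun _ => rfl)
  -- the projections
  let pr : ∀ i, L →ₐ[K] Ai i := fun i => (Pi.evalAlgHom K Ai i).comp e.toAlgHom
  have hprsurj : ∀ i, Function.Surjective (pr i) := fun i => by
    intro y
    refine ⟨e.symm (Pi.single i y), ?_⟩
    simp [pr]
  haveI : ∀ i, FiniteDimensional K (Ai i) := fun i =>
    Module.Finite.of_surjective (pr i).toLinearMap (hprsurj i)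
  let ψ : ∀ i, B →ₐ[A] Ai i := fun i => ((pr i).restrictScalars A).comp ρ
  have hint : ∀ (i : I) (b : B), IsIntegral A (ψ i b) := by
    intro i b
    obtain ⟨N, hN⟩ := hintf b
    obtain ⟨N', hN'⟩ := hintg b
    have h1 : IsIntegral A (f ^ N • ψ i b) := by
      rw [← map_smul]; exact hN.map (ψ i)
    have h2 : IsIntegral A (g ^ N' • ψ i b) := by
      rw [← map_smul]; exact hN'.map (ψ i)
    exact isIntegral_of_smul_pow (K := K) hf hg h _ N N' h1 h2
  haveI : ∀ i, Module.Finite A (integralClosure A (Ai i)) := fun i =>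
    IsIntegralClosure.finite A K (Ai i) (integralClosure A (Ai i))
  let Φ : B →ₗ[A] (∀ i, integralClosure A (Ai i)) :=
    LinearMap.pi (fun i => (ψ i).toLinearMap.codRestrict
      (Subalgebra.toSubmodule (integralClosure A (Ai i))) (fun b => hint i b))
  have hΦ : Function.Injective Φ := by
    intro b b' hbb
    apply hρ
    apply e.injective
    funext i
    have := congrFun hbb i
    have h3 := congrArg Subtype.val this
    exact h3
  haveI : IsNoetherian A (∀ i, integralClosure A (Ai i)) := inferInstance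
  exact Module.Finite.of_injective Φ hΦ



/-- integrality up to powers of `t` from integrality of a localization. -/
theorem exists_pow_smul_isIntegral {A B : Type u} [CommRing A] [CommRing B] [Algebra A B] (t : A)
    {At Bt : Type u} [CommRing At] [CommRing Bt] (iA : A →+* At) (iB : B →+* Bt) (ψ : At →+* Bt)
    (hc : ψ.comp iA = iB.comp (algebraMap A B))
    (hloc : @IsLocalization.Away A _ t At _ iA.toAlgebra)
    (hint : ψ.IsIntegral) (hinj : Function.Injective iB) (b : B) :
    ∃ N : ℕ, IsIntegral A (t ^ N • b) := by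
  letI : Algebra A At := iA.toAlgebra
  letI : Algebra B Bt := iB.toAlgebra
  letI : Algebra At Bt := ψ.toAlgebra
  letI : Algebra A Bt := (ψ.comp iA).toAlgebra
  haveI : IsScalarTower A At Bt := IsScalarTower.of_algebraMap_eq (fun _ => rfl)
  haveI : IsScalarTower A B Bt := IsScalarTower.of_algebraMap_eq (fun a => by
    show (ψ.comp iA) a = iB (algebraMap A B a)
    rw [hc]; rfl)
  haveI : IsLocalization.Away t At := hloc
  have hx : IsIntegral At (iB b) := hint (iB b)
  obtain ⟨⟨m, N, rfl⟩, hm⟩ :=
    IsIntegral.exists_multiple_integral_of_isLocalization (Submonoid.powers t) (iB b) hx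
  refine ⟨N, ?_⟩
  have h1 : (⟨t ^ N, N, rfl⟩ : Submonoid.powers t) • iB b =
      (IsScalarTower.toAlgHom A B Bt) (t ^ N • b) := by
    show (t ^ N) • iB b = algebraMap B Bt (t ^ N • b)
    rw [Algebra.smul_def, Algebra.smul_def, map_mul, ← IsScalarTower.algebraMap_apply]
    rfl
  rw [h1] at hm
  exact (isIntegral_algHom_iff (IsScalarTower.toAlgHom A B Bt) hinj).mp hm



/-- **Finiteness from two localizations.** -/
theorem finite_of_localizations
    (A : Type u) [CommRing A] [IsDomain A] [IsNoetherianRing A] [IsIntegrallyClosed A]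
    (B : Type u) [CommRing B] [Algebra A B]
    {f g : A} (hf : f ≠ 0) (hg : g ≠ 0) (h : ∀ y, f ∣ g * y → f ∣ y)
    {Af Bf : Type u} [CommRing Af] [CommRing Bf] (iAf : A →+* Af) (iBf : B →+* Bf)
    (ψf : Af →+* Bf) (hcf : ψf.comp iAf = iBf.comp (algebraMap A B))
    (hlocf : @IsLocalization.Away A _ f Af _ iAf.toAlgebra)
    (hfinf : ψf.Finite) (hetf : ψf.Etale) (hinjf : Function.Injective iBf)
    {Ag Bg : Type u} [CommRing Ag] [CommRing Bg] (iAg : A →+* Ag) (iBg : B →+* Bg)
    (ψg : Ag →+* Bg) (hcg : ψg.comp iAg = iBg.comp (algebraMap A B))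
    (hlocg : @IsLocalization.Away A _ g Ag _ iAg.toAlgebra)
    (hfing : ψg.Finite) (hinjg : Function.Injective iBg)
    (K : Type u) [Field K] [Algebra A K] [IsFractionRing A K] : Module.Finite A B := by
  have hintf := exists_pow_smul_isIntegral f iAf iBf ψf hcf hlocf hfinf.to_isIntegral hinjf
  have hintg := exists_pow_smul_isIntegral g iAg iBg ψg hcg hlocg hfing.to_isIntegral hinjg
  letI : Algebra A Af := iAf.toAlgebra
  letI : Algebra B Bf := iBf.toAlgebra
  letI : Algebra Af Bf := ψf.toAlgebra
  letI : Algebra A Bf := (ψf.comp iAf).toAlgebra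
  haveI : IsScalarTower A Af Bf := IsScalarTower.of_algebraMap_eq (fun _ => rfl)
  haveI : IsScalarTower A B Bf := IsScalarTower.of_algebraMap_eq (fun a => by
    show (ψf.comp iAf) a = iBf (algebraMap A B a)
    rw [hcf]; rfl)
  haveI : IsLocalization.Away f Af := hlocf
  haveI : Module.Finite Af Bf := hfinf
  haveI : Algebra.Etale Af Bf := hetf
  -- `K` is an `Af`-algebra
  have hunit : IsUnit (algebraMap A K f) :=
    IsUnit.mk0 _ (fun h0 => hf (IsFractionRing.injective A K (by rw [h0, map_zero])))
  let jK : Af →+* K := IsLocalization.Away.lift f hunit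
  letI : Algebra Af K := jK.toAlgebra
  haveI : IsScalarTower A Af K := IsScalarTower.of_algebraMap_eq (fun a => by
    show algebraMap A K a = jK (algebraMap A Af a)
    exact (IsLocalization.Away.lift_eq f hunit a).symm)
  have hjK : Function.Injective (algebraMap Af K) := by
    have : IsFractionRing Af K :=
      IsFractionRing.isFractionRing_of_isDomain_of_isLocalization (Submonoid.powers f) Af K
    exact IsFractionRing.injective Af K
  let L := K ⊗[Af] Bf
  haveI : SMulCommClass Af A K := inferInstance
  letI : Algebra A L := inferInstance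
  haveI : IsScalarTower A K L := inferInstance
  haveI : Module.Flat Af Bf := inferInstance
  let ρ₀ : B →+* L := (Algebra.TensorProduct.includeRight (R := Af) (A := K) (B := Bf)).toRingHom.comp
    (algebraMap B Bf)
  let ρ : B →ₐ[A] L :=
    { ρ₀ with
      commutes' := fun a => by
        show (1 : K) ⊗ₜ[Af] (algebraMap B Bf (algebraMap A B a)) = algebraMap A L a
        rw [Algebra.TensorProduct.algebraMap_apply, ← IsScalarTower.algebraMap_apply A B Bf,
          IsScalarTower.algebraMap_apply A Af Bf, IsScalarTower.algebraMap_apply A Af K]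
        rw [Algebra.algebraMap_eq_smul_one (algebraMap A Af a), ← TensorProduct.smul_tmul,
          ← Algebra.algebraMap_eq_smul_one] }
  have hρ : Function.Injective ρ := by
    have h1 : Function.Injective (Algebra.TensorProduct.includeRight (R := Af) (A := K) (B := Bf)) :=
      Algebra.TensorProduct.includeRight_injective hjK
    exact h1.comp hinjf
  exact finite_of_embedding A B hf hg h hintf hintg K L ρ hρ


end Groth.Agent.Lib.Helper18.PuncFin
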