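import Mathlib
import Groth.Prelude.Def_FEt
import Groth.Agent.Lib.Helper9.PurityGeom
import Groth.Agent.Lib.Helper24.SerreNormal4
import Groth.Agent.Lib.Helper18.PuncFin1

/-!
# Finite étale covers of the punctured spectrum of a normal local domain (scheme part)

For a Noetherian normal local domain `A` of dimension `≥ 2` and a finite étale cover `V` of the
punctured spectrum, `Γ(V, 𝒪_V)` is a finite `A`-algebra (`finite_phi`), and if it is moreover étale
then `V` extends to a finite étale cover of `Spec A` (`exists_extension`).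
-/

universe u
open CategoryTheory CategoryTheory.Limits AlgebraicGeometry TopologicalSpace IsLocalRing
open Groth.Agent.Lib.helper9

namespace Groth.Agent.Lib.Helper18.PuncFin

section SetupRing

variable (A : Type u) [CommRing A]

/-- the global section of `Spec A` attached to `a : A`. -/
noncomputable abbrev sec (a : A) : Γ(Spec (CommRingCat.of A), ⊤) :=
  (Scheme.ΓSpecIso (CommRingCat.of A)).inv.hom a

/-- `A → Γ(Spec A, D(a))`. -/
noncomputable def iA (a : A) :
    A →+* Γ(Spec (CommRingCat.of A), (Spec (CommRingCat.of A)).basicOpen (sec A a)) :=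
  ((Spec (CommRingCat.of A)).presheaf.map (homOfLE le_top).op).hom.comp
    (Scheme.ΓSpecIso (CommRingCat.of A)).inv.hom

theorem isLocalization_iA (a : A) :
    @IsLocalization.Away A _ a
      Γ(Spec (CommRingCat.of A), (Spec (CommRingCat.of A)).basicOpen (sec A a)) _
      (iA A a).toAlgebra := by
  have h := (isAffineOpen_top (Spec (CommRingCat.of A))).isLocalization_basicOpen (sec A a)
  let e : Γ(Spec (CommRingCat.of A), ⊤) ≃+* A :=
    (Scheme.ΓSpecIso (CommRingCat.of A)).commRingCatIsoToRingEquiv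
  have h2 := IsLocalization.isLocalization_of_base_ringEquiv (Submonoid.powers (sec A a))
    Γ(Spec (CommRingCat.of A), (Spec (CommRingCat.of A)).basicOpen (sec A a)) e
  have h3 : (Submonoid.powers (sec A a)).map e = Submonoid.powers a := by
    rw [Submonoid.map_powers]
    congr 1
    exact Iso.inv_hom_id_apply (C := CommRingCat) (Scheme.ΓSpecIso (CommRingCat.of A)) a
  rw [h3] at h2
  exact h2

end SetupRing

section SetupLocal

variable (A : Type u) [CommRing A] [IsLocalRing A]

theorem basicOpen_sec (a : A) :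
    (Spec (CommRingCat.of A)).basicOpen (sec A a) = PrimeSpectrum.basicOpen a :=
  basicOpen_eq_of_affine (R := CommRingCat.of A) a

theorem basicOpen_sec_le {a : A} (ha : a ∈ maximalIdeal A) :
    (Spec (CommRingCat.of A)).basicOpen (sec A a) ≤ FEt.puncturedSpec A := by
  rw [basicOpen_sec]
  intro x hx
  show x ≠ IsLocalRing.closedPoint A
  rintro rfl
  exact hx ha

/-- the punctured spectrum is covered by the `D(s)`, `s ∈ 𝔪`, `s ≠ 0`. -/
theorem puncturedSpec_le_iSup :
    FEt.puncturedSpec A ≤ ⨆ s : {s : A // s ∈ maximalIdeal A ∧ s ≠ 0},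
      (Spec (CommRingCat.of A)).basicOpen (sec A s.1) := by
  intro x hx
  have hx' : x ≠ IsLocalRing.closedPoint A := hx
  have hne : x.asIdeal ≠ maximalIdeal A := fun h => hx' (PrimeSpectrum.ext h)
  have hle : x.asIdeal ≤ maximalIdeal A := IsLocalRing.le_maximalIdeal x.2.ne_top
  obtain ⟨s, hs, hsx⟩ := SetLike.exists_of_lt (lt_of_le_of_ne hle hne)
  have hs0 : s ≠ 0 := fun h0 => hsx (h0 ▸ x.asIdeal.zero_mem)
  rw [Opens.mem_iSup]
  refine ⟨⟨s, hs, hs0⟩, ?_⟩
  rw [basicOpen_sec]
  exact hsx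

end SetupLocal

section Geom

variable (A : Type u) [CommRing A] [IsLocalRing A]
  (V : FEt.Cat (FEt.puncturedSpec A : Scheme.{u}))

/-- the structure map `A → Γ(V, ⊤)`. -/
noncomputable def phi : A →+* Γ(V.left, ⊤) :=
  ((V.hom ≫ (FEt.puncturedSpec A).ι).appTop).hom.comp
    (Scheme.ΓSpecIso (CommRingCat.of A)).inv.hom

theorem phi_apply (a : A) : phi A V a = (V.hom ≫ (FEt.puncturedSpec A).ι).appTop (sec A a) := rfl

/-- restriction `Γ(V, ⊤) → Γ(V, V_a)`. -/
noncomputable def iB (a : A) : Γ(V.left, ⊤) →+* Γ(V.left, V.left.basicOpen (phi A V a)) :=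
  (V.left.presheaf.map (homOfLE le_top).op).hom

instance : IsFinite V.hom := V.prop.1
instance : Etale V.hom := V.prop.2

/-- `Γ(Spec A, D(a)) → Γ(V, V_a)`. -/
noncomputable def psi (a : A) :
    Γ(Spec (CommRingCat.of A), (Spec (CommRingCat.of A)).basicOpen (sec A a)) →+*
      Γ(V.left, V.left.basicOpen (phi A V a)) :=
  ((V.hom ≫ (FEt.puncturedSpec A).ι).appLE ((Spec (CommRingCat.of A)).basicOpen (sec A a))
    (V.left.basicOpen (phi A V a))
    (PurityGeom.le_preimage (FEt.puncturedSpec A) V.hom (sec A a))).hom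

theorem psi_comp (a : A) : (psi A V a).comp (iA A a) = (iB A V a).comp (phi A V) := by
  have h1 : (Spec (CommRingCat.of A)).presheaf.map (homOfLE le_top).op ≫
      (V.hom ≫ (FEt.puncturedSpec A).ι).appLE ((Spec (CommRingCat.of A)).basicOpen (sec A a))
        (V.left.basicOpen (phi A V a))
        (PurityGeom.le_preimage (FEt.puncturedSpec A) V.hom (sec A a)) =
      (V.hom ≫ (FEt.puncturedSpec A).ι).appTop ≫
        V.left.presheaf.map (homOfLE le_top).op := by
    rw [Scheme.Hom.map_appLE]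
    rfl
  ext x
  have h2 := congrArg (fun φ => φ.hom ((Scheme.ΓSpecIso (CommRingCat.of A)).inv.hom x)) h1
  exact h2

theorem psi_finite {a : A} (ha : a ∈ maximalIdeal A) : (psi A V a).Finite :=
  PurityGeom.finite_appLE (FEt.puncturedSpec A) V.hom (sec A a) (basicOpen_sec_le A ha)

theorem psi_etale {a : A} (ha : a ∈ maximalIdeal A) : (psi A V a).Etale :=
  PurityGeom.etale_appLE (FEt.puncturedSpec A) V.hom (sec A a) (basicOpen_sec_le A ha)

theorem compactSpace_left [IsNoetherianRing A] : CompactSpace V.left := by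
  have : NoetherianSpace (Spec (CommRingCat.of A)) :=
    inferInstanceAs (NoetherianSpace (PrimeSpectrum A))
  have : NoetherianSpace (FEt.puncturedSpec A).toScheme :=
    inferInstanceAs (NoetherianSpace ((FEt.puncturedSpec A : (Spec (CommRingCat.of A)).Opens) :
      Set (Spec (CommRingCat.of A))))
  let p : V.left ⟶ (FEt.puncturedSpec A).toScheme := V.hom
  haveI : IsFinite p := V.prop.1
  exact QuasiCompact.compactSpace_of_compactSpace p

theorem quasiSeparatedSpace_left [IsNoetherianRing A] : QuasiSeparatedSpace V.left := by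
  have : NoetherianSpace (Spec (CommRingCat.of A)) :=
    inferInstanceAs (NoetherianSpace (PrimeSpectrum A))
  have : NoetherianSpace (FEt.puncturedSpec A).toScheme :=
    inferInstanceAs (NoetherianSpace ((FEt.puncturedSpec A : (Spec (CommRingCat.of A)).Opens) :
      Set (Spec (CommRingCat.of A))))
  let p : V.left ⟶ (FEt.puncturedSpec A).toScheme := V.hom
  haveI : IsFinite p := V.prop.1
  exact quasiSeparatedSpace_of_quasiSeparated p

theorem isLocalization_iB [IsNoetherianRing A] (a : A) :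
    @IsLocalization.Away Γ(V.left, ⊤) _ (phi A V a) Γ(V.left, V.left.basicOpen (phi A V a)) _
      (iB A V a).toAlgebra := by
  haveI := compactSpace_left A V
  haveI := quasiSeparatedSpace_left A V
  exact isLocalization_basicOpen_of_qcqs (X := V.left) (U := ⊤) isCompact_univ
    isQuasiSeparated_univ (phi A V a)

theorem top_le_iSup_basicOpen :
    (⊤ : V.left.Opens) ≤ ⨆ s : {s : A // s ∈ maximalIdeal A ∧ s ≠ 0},
      V.left.basicOpen (phi A V s.1) := by
  intro x _
  have hx : (V.hom ≫ (FEt.puncturedSpec A).ι) x ∈ FEt.puncturedSpec A := by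
    rw [Scheme.Hom.comp_apply]
    exact (V.hom x).2
  have h2 := puncturedSpec_le_iSup A hx
  rw [Opens.mem_iSup] at h2 ⊢
  obtain ⟨s, hs⟩ := h2
  refine ⟨s, ?_⟩
  have h3 : x ∈ (V.hom ≫ (FEt.puncturedSpec A).ι) ⁻¹ᵁ
      (Spec (CommRingCat.of A)).basicOpen (sec A s.1) := hs
  rw [Scheme.preimage_basicOpen_top] at h3
  exact h3

theorem eq_zero_of_phi_mul_eq_zero [IsDomain A] {a : A} (ha : a ≠ 0)
    (b : Γ(V.left, ⊤)) (hb : phi A V a * b = 0) : b = 0 := by
  refine TopCat.Sheaf.eq_of_locally_eq' V.left.sheaf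
    (fun s : {s : A // s ∈ maximalIdeal A ∧ s ≠ 0} => V.left.basicOpen (phi A V s.1)) ⊤
    (fun s => homOfLE le_top) (top_le_iSup_basicOpen A V) b 0 (fun s => ?_)
  obtain ⟨s, hsm, hs0⟩ := s
  show iB A V s b = iB A V s 0
  rw [map_zero]
  have hM : Submonoid.powers s ≤ nonZeroDivisors A :=
    powers_le_nonZeroDivisors_of_noZeroDivisors hs0
  letI : Algebra A Γ(Spec (CommRingCat.of A), (Spec (CommRingCat.of A)).basicOpen (sec A s)) :=
    (iA A s).toAlgebra
  haveI : IsLocalization.Away s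
      Γ(Spec (CommRingCat.of A), (Spec (CommRingCat.of A)).basicOpen (sec A s)) :=
    isLocalization_iA A s
  haveI : IsDomain Γ(Spec (CommRingCat.of A), (Spec (CommRingCat.of A)).basicOpen (sec A s)) :=
    IsLocalization.isDomain_of_le_nonZeroDivisors _ hM
  have hne : iA A s a ≠ 0 := by
    intro h0
    apply ha
    apply IsLocalization.injective
      Γ(Spec (CommRingCat.of A), (Spec (CommRingCat.of A)).basicOpen (sec A s)) hM
    rw [map_zero]
    exact h0
  letI : Algebra Γ(Spec (CommRingCat.of A), (Spec (CommRingCat.of A)).basicOpen (sec A s))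
      Γ(V.left, V.left.basicOpen (phi A V s)) := (psi A V s).toAlgebra
  haveI : Algebra.Etale Γ(Spec (CommRingCat.of A), (Spec (CommRingCat.of A)).basicOpen (sec A s))
      Γ(V.left, V.left.basicOpen (phi A V s)) := psi_etale A V hsm
  haveI : Module.Flat Γ(Spec (CommRingCat.of A), (Spec (CommRingCat.of A)).basicOpen (sec A s))
      Γ(V.left, V.left.basicOpen (phi A V s)) := inferInstance
  have hreg : IsSMulRegular Γ(V.left, V.left.basicOpen (phi A V s)) (iA A s a) :=
    Module.Flat.isSMulRegular_of_nonZeroDivisors (mem_nonZeroDivisors_of_ne_zero hne)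
  apply hreg
  show psi A V s (iA A s a) * iB A V s b = psi A V s (iA A s a) * 0
  rw [mul_zero]
  have h1 : psi A V s (iA A s a) = iB A V s (phi A V a) := by
    have := congrArg (fun φ => φ a) (psi_comp A V s)
    exact this
  rw [h1, ← map_mul, hb, map_zero]

theorem iB_injective [IsDomain A] [IsNoetherianRing A] {a : A} (ha : a ≠ 0) :
    Function.Injective (iB A V a) := by
  letI : Algebra Γ(V.left, ⊤) Γ(V.left, V.left.basicOpen (phi A V a)) := (iB A V a).toAlgebra
  haveI : IsLocalization.Away (phi A V a) Γ(V.left, V.left.basicOpen (phi A V a)) :=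
    isLocalization_iB A V a
  apply IsLocalization.injective Γ(V.left, V.left.basicOpen (phi A V a))
    (M := Submonoid.powers (phi A V a))
  rintro _ ⟨n, rfl⟩
  rw [mem_nonZeroDivisors_iff_right]
  intro x hx
  apply eq_zero_of_phi_mul_eq_zero A V (pow_ne_zero n ha) x
  rw [map_pow, mul_comm]
  exact hx

theorem two_le_depth [IsDomain A] [IsNoetherianRing A] [IsIntegrallyClosed A]
    (hdim : (2 : WithBot ℕ∞) ≤ ringKrullDim A) : (2 : ℕ∞) ≤ LocCoh.depth A A := by
  have h := Groth.Agent.Lib.Helper24.SerreNormal.sk_two_of_normal A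
  rw [min_eq_left hdim] at h
  have h' : (((2 : ℕ∞) : WithBot ℕ∞)) ≤ ((LocCoh.depth A A : ℕ∞) : WithBot ℕ∞) := h
  exact WithBot.coe_le_coe.mp h'

theorem finite_phi [IsDomain A] [IsNoetherianRing A] [IsIntegrallyClosed A]
    (hdim : (2 : WithBot ℕ∞) ≤ ringKrullDim A) : (phi A V).Finite := by
  obtain ⟨f, g, hfm, hgm, hf0, hreg⟩ := exists_regular_pair A (two_le_depth A hdim)
  have hg0 : g ≠ 0 := by
    rintro rfl
    have h1 : f ∣ 1 := hreg 1 (by simp)
    exact (IsLocalRing.mem_maximalIdeal f).mp hfm (isUnit_of_dvd_one h1)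
  letI : Algebra A Γ(V.left, ⊤) := (phi A V).toAlgebra
  have := finite_of_localizations A Γ(V.left, ⊤) hf0 hg0 hreg
    (iA A f) (iB A V f) (psi A V f) (psi_comp A V f) (isLocalization_iA A f)
    (psi_finite A V hfm) (psi_etale A V hfm) (iB_injective A V hf0)
    (iA A g) (iB A V g) (psi A V g) (psi_comp A V g) (isLocalization_iA A g)
    (psi_finite A V hgm) (iB_injective A V hg0) (FractionRing A)
  exact this

/-- the structure morphism `Spec Γ(V, ⊤) ⟶ Spec A`. -/
noncomputable def yMap : Spec Γ(V.left, ⊤) ⟶ Spec (CommRingCat.of A) :=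
  Spec.map (CommRingCat.ofHom (phi A V))

theorem hom_ι_eq : V.hom ≫ (FEt.puncturedSpec A).ι = V.left.toSpecΓ ≫ yMap A V := by
  have h1 : CommRingCat.ofHom (phi A V) =
      (Scheme.ΓSpecIso (CommRingCat.of A)).inv ≫ (V.hom ≫ (FEt.puncturedSpec A).ι).appTop := rfl
  have h2 : ∀ {X : Scheme.{u}} (g : X ⟶ Spec (CommRingCat.of A)),
      g = X.toSpecΓ ≫ Spec.map ((Scheme.ΓSpecIso (CommRingCat.of A)).inv ≫ g.appTop) := by
    intro X g
    rw [Spec.map_comp, ← Category.assoc, ← Scheme.toSpecΓ_naturality, Category.assoc,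
      toSpecΓ_SpecMap_ΓSpecIso_inv, Category.comp_id]
  rw [yMap, h1]
  exact h2 _

theorem isIso_toSpecΓ_restrict [IsNoetherianRing A] :
    IsIso (V.left.toSpecΓ ∣_ (yMap A V) ⁻¹ᵁ FEt.puncturedSpec A) := by
  haveI := compactSpace_left A V
  haveI := quasiSeparatedSpace_left A V
  have hU : FEt.puncturedSpec A = ⨆ s : {s : A // s ∈ maximalIdeal A ∧ s ≠ 0},
      (Spec (CommRingCat.of A)).basicOpen (sec A s.1) :=
    le_antisymm (puncturedSpec_le_iSup A) (iSup_le fun s => basicOpen_sec_le A s.2.1)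
  have hcov : (yMap A V) ⁻¹ᵁ FEt.puncturedSpec A =
      ⨆ s : {s : A // s ∈ maximalIdeal A ∧ s ≠ 0},
        (Spec Γ(V.left, ⊤)).basicOpen ((yMap A V).appTop (sec A s.1)) := by
    calc (yMap A V) ⁻¹ᵁ FEt.puncturedSpec A
        = (yMap A V) ⁻¹ᵁ (⨆ s : {s : A // s ∈ maximalIdeal A ∧ s ≠ 0},
            (Spec (CommRingCat.of A)).basicOpen (sec A s.1)) :=
          congrArg (fun O : (Spec (CommRingCat.of A)).Opens => (yMap A V) ⁻¹ᵁ O) hU
      _ = ⨆ s : {s : A // s ∈ maximalIdeal A ∧ s ≠ 0},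
            (yMap A V) ⁻¹ᵁ (Spec (CommRingCat.of A)).basicOpen (sec A s.1) :=
          Scheme.Hom.preimage_iSup _ _
      _ = _ := by
          congr 1
          ext s : 1
          exact Scheme.preimage_basicOpen_top (yMap A V) _
  refine PurityLIC.isIso_morphismRestrict_of_cover V.left.toSpecΓ _ _ hcov (fun s => ?_)
  have hθy : V.left.toSpecΓ.appTop ((yMap A V).appTop (sec A s.1)) =
      (V.hom ≫ (FEt.puncturedSpec A).ι).appTop (sec A s.1) := by
    rw [hom_ι_eq, Scheme.Hom.comp_appTop]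
    rfl
  have hbij : Function.Bijective V.left.toSpecΓ.appTop := by
    rw [Scheme.toSpecΓ_appTop]
    exact ConcreteCategory.bijective_of_isIso (Scheme.ΓSpecIso Γ(V.left, ⊤)).hom
  refine PurityLIC.isIso_morphismRestrict_basicOpen V.left.toSpecΓ _ ?_ ?_ ?_
  · rw [hθy]
    exact PurityGeom.isAffineOpen_basicOpen (FEt.puncturedSpec A) V.hom _
      (basicOpen_sec_le A s.2.1)
  · intro r
    obtain ⟨b, hb⟩ := hbij.2 r
    exact ⟨0, b, by rw [pow_zero, one_mul, hb]⟩
  · intro b hb
    refine ⟨0, ?_⟩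
    rw [pow_zero, one_mul]
    apply hbij.1
    rw [hb, map_zero]

/-- `(⇐)`: if `Γ(V, ⊤)` is finite étale over `A` then `V` extends. -/
theorem exists_extension [IsNoetherianRing A] (hfin : (phi A V).Finite) (het : (phi A V).Etale) :
    ∃ Y : FEt.Cat (Spec (CommRingCat.of A)),
      Nonempty ((FEt.restrict (FEt.puncturedSpec A).ι).obj Y ≅ V) := by
  have hyf : IsFinite (yMap A V) := by
    rw [yMap, IsFinite.SpecMap_iff]
    exact hfin
  have hye : Etale (yMap A V) := by
    rw [yMap, HasRingHomProperty.Spec_iff (P := @Etale)]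
    exact het
  have h₁ := isIso_toSpecΓ_restrict A V
  have h₂ : IsIso ((𝟙 (Spec Γ(V.left, ⊤))) ∣_ (yMap A V) ⁻¹ᵁ FEt.puncturedSpec A) :=
    inferInstance
  obtain ⟨e, he⟩ := PurityLIC.exists_iso_of_zigzag (FEt.puncturedSpec A) (yMap A V)
    V.left.toSpecΓ (𝟙 _) h₁ h₂ V.hom (hom_ι_eq A V)
  have key : ∀ (y' : Spec Γ(V.left, ⊤) ⟶ Spec (CommRingCat.of A)) (_ : y' = yMap A V)
      (e : pullback y' (FEt.puncturedSpec A).ι ≅ V.left)
      (_ : e.hom ≫ V.hom = pullback.snd y' (FEt.puncturedSpec A).ι),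
      Nonempty ((FEt.restrict (FEt.puncturedSpec A).ι).obj
        (MorphismProperty.Over.mk ⊤ (yMap A V) ⟨hyf, hye⟩) ≅ V) := by
    rintro _ rfl e he
    exact ⟨MorphismProperty.Over.isoMk e he⟩
  exact ⟨MorphismProperty.Over.mk ⊤ (yMap A V) ⟨hyf, hye⟩, key _ (Category.id_comp _) e he⟩

end Geom

end Groth.Agent.Lib.Helper18.PuncFin
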