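import Groth.Prelude.Def_W4stkadequatePure
import Groth.Prelude.Def_CAlgX
import Mathlib.Algebra.Module.CharacterModule
import Mathlib.LinearAlgebra.TensorProduct.RightExactness

/-! Helper lemmas on universally injective maps, character modules, pure injectivity. -/

set_option autoImplicit false

namespace Groth.Agent.Lib.helper18

universe u v w

open TensorProduct

variable {R : Type u} [CommRing R]

/-- Flip a linear map `M → Q^∨` to `Q → M^∨`. -/
def charFlip {M : Type v} {Q : Type w} [AddCommGroup M] [Module R M] [AddCommGroup Q] [Module R Q]
    (φ : M →ₗ[R] CharacterModule Q) : Q →ₗ[R] CharacterModule M where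
  toFun q :=
    { toFun := fun m => φ m q
      map_zero' := by rw [map_zero]; rfl
      map_add' := by intro a b; rw [map_add]; rfl }
  map_add' := by intro a b; ext m; exact map_add (φ m) a b
  map_smul' := by
    intro r q
    ext m
    change φ m (r • q) = φ (r • m) q
    rw [φ.map_smul r m, CharacterModule.smul_apply]

@[simp] theorem charFlip_apply {M : Type v} {Q : Type w} [AddCommGroup M] [Module R M]
    [AddCommGroup Q] [Module R Q]
    (φ : M →ₗ[R] CharacterModule Q) (q : Q) (m : M) : charFlip φ q m = φ m q := rfl

/-- The evaluation map into the double character module is universally injective. -/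
theorem univInj_charEval (M : Type u) [AddCommGroup M] [Module R M] :
    CAlgX.UniversallyInjective R (PureExt.charEval R M) := by
  intro Q _ _
  rw [rTensor_injective_iff_lcomp_surjective]
  intro φ
  refine ⟨CharacterModule.dual (charFlip φ), ?_⟩
  ext m q
  rfl

/-- Character modules are pure injective: maps into `Q^∨` extend along universally injective maps. -/
theorem charModule_extend {K L Q : Type u} [AddCommGroup K] [Module R K] [AddCommGroup L]
    [Module R L] [AddCommGroup Q] [Module R Q] (f : K →ₗ[R] L)
    (hf : CAlgX.UniversallyInjective R f) (φ : K →ₗ[R] CharacterModule Q) :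
    ∃ ψ : L →ₗ[R] CharacterModule Q, ψ ∘ₗ f = φ :=
  (rTensor_injective_iff_lcomp_surjective.mp (hf Q)) φ

end Groth.Agent.Lib.helper18
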