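import Mathlib
import Groth.Agent.Lib.Helper18.TFQuot
import Groth.Agent.Lib.Helper18.StalkPushClosed
import Groth.Agent.Lib.Helper7.QCohPushQC
import Groth.Prelude.Def_VecSt
import Groth.Agent.Lib.Helper8.SupportProper
import Groth.Agent.Lib.Helper18.AffImageRed

/-!
# Direct images of torsion-free modules from unions of components (helper18)

`X` reduced with finitely many irreducible components.

* `germ_ne_zero_of_regular`: a section whose germ at `x` is a nonzerodivisor of `O_{X,x}` does not
  vanish at the generic points specializing to `x`.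
* `isPreirreducible_of_image`: for an inducing map, `T` is preirreducible if its image is.
* `isGen_subschι`: generic points of the reduced subscheme on a union `Z` of irreducible components
  of `X` map to generic points of `X`.
* `isTorsionFree_push`, `isTorsionFree_push_subsch`: the direct image of a quasi-coherent
  torsion-free module along such a closed immersion is torsion-free (`TorSh.IsTorsionFree`) on `X`.
-/

set_option autoImplicit false
set_option linter.unusedSectionVars false
set_option linter.unusedVariables false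
set_option linter.style.haveILetI false
universe u
open CategoryTheory CategoryTheory.Limits AlgebraicGeometry TopologicalSpace

namespace Groth.Agent.Lib.Helper18.PushTF

open Groth.Agent.S10961 Groth.Agent.Lib.helper16.QCohAss Groth.Agent.Lib.Helper25.StalkExact
  Groth.Agent.Lib.Helper18.TFQuot

variable {X : Scheme.{u}}

/-- a section whose germ at `x` is a nonzerodivisor does not vanish at the generic points
specializing to `x` -/
theorem germ_ne_zero_of_regular [IsReduced X]
    (hfin : (irreducibleComponents (X : Type u)).Finite) {U : X.Opens} (f : Γ(X, U)) (x : X)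
    (hx : x ∈ U)
    (hreg : ∀ s : X.presheaf.stalk x, (X.presheaf.germ U x hx).hom f * s = 0 → s = 0)
    (η : X) (hη : η ∈ U) (hgen : IsGen η) (hsp : η ⤳ x) :
    (X.presheaf.germ U η hη).hom f ≠ 0 := by
  intro h0
  obtain ⟨W, hW, hxW, hWU⟩ := exists_isAffineOpen_mem_and_subset (x := x) (U := U) hx
  have hηW : η ∈ W := hsp.mem_open W.2 hxW
  let f' : Γ(X, W) := X.presheaf.map (homOfLE hWU).op f
  have hf'η : (X.presheaf.germ W η hηW).hom f' = 0 := by
    rw [← h0]
    exact TopCat.Presheaf.germ_res_apply X.presheaf (homOfLE hWU) η hηW f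
  have hf'x : (X.presheaf.germ W x hxW).hom f' = (X.presheaf.germ U x hx).hom f :=
    TopCat.Presheaf.germ_res_apply X.presheaf (homOfLE hWU) x hxW f
  obtain ⟨g, hgle, hηg⟩ := hW.exists_basicOpen_le (V := W ⊓ Wgen hfin η)
    ⟨η, hηW, hgen.mem_Wgen hfin⟩ hηW
  have hfg : f' * g = 0 := by
    apply Groth.Agent.S10961.eq_zero_of_germ_gen
    intro η' hη' hgen'
    rw [map_mul]
    by_cases hne : η' = η
    · subst hne
      rw [hf'η, zero_mul]
    · have h1 : η' ∉ X.basicOpen g := fun h => hgen.not_mem_Wgen hfin hgen' hne (hgle h).2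
      have h2 : ¬ IsUnit ((X.presheaf.germ W η' hη').hom g) := fun hu =>
        h1 ((X.mem_basicOpen g η' hη').mpr hu)
      rw [hgen'.eq_zero_of_not_isUnit hfin _ h2, mul_zero]
  have hgx : (X.presheaf.germ W x hxW).hom g = 0 := by
    apply hreg
    rw [← hf'x, ← map_mul, hfg, map_zero]
  obtain ⟨V, hxV, hVW, hgV⟩ : ∃ (V : X.Opens) (_ : x ∈ V) (hVW : V ≤ W),
      X.presheaf.map (homOfLE hVW).op g = 0 := by
    have h2 : (X.presheaf.germ W x hxW).hom g = (X.presheaf.germ W x hxW).hom 0 := by
      rw [hgx, map_zero]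
    obtain ⟨V, hxV, i₁, i₂, heq⟩ := TopCat.Presheaf.germ_eq X.presheaf x hxW hxW g 0 h2
    refine ⟨V, hxV, i₁.le, ?_⟩
    have : X.presheaf.map i₁.op g = X.presheaf.map i₂.op 0 := heq
    rw [map_zero] at this
    exact this
  have hηV : η ∈ V := hsp.mem_open V.2 hxV
  have hgη : (X.presheaf.germ W η hηW).hom g = 0 := by
    rw [← TopCat.Presheaf.germ_res_apply X.presheaf (homOfLE hVW) η hηV g, hgV, map_zero]
  have hu : IsUnit ((X.presheaf.germ W η hηW).hom g) := (X.mem_basicOpen g η hηW).mp hηg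
  rw [hgη] at hu
  exact not_isUnit_zero hu

theorem isPreirreducible_of_image {A B : Type*} [TopologicalSpace A] [TopologicalSpace B]
    {j : A → B} (hj : Topology.IsInducing j) {T : Set A} (h : IsPreirreducible (j '' T)) :
    IsPreirreducible T := by
  intro u v hu hv ⟨a, haT, hau⟩ ⟨b, hbT, hbv⟩
  obtain ⟨u', hu', rfl⟩ := hj.isOpen_iff.mp hu
  obtain ⟨v', hv', rfl⟩ := hj.isOpen_iff.mp hv
  obtain ⟨y, ⟨t, htT, rfl⟩, hyu, hyv⟩ := h u' v' hu' hv' ⟨j a, ⟨a, haT, rfl⟩, hau⟩
    ⟨j b, ⟨b, hbT, rfl⟩, hbv⟩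
  exact ⟨t, htT, hyu, hyv⟩

/-- the generic points of the reduced subscheme on a union of irreducible components are generic
points of the ambient scheme -/
theorem isGen_subschι (hfin : (irreducibleComponents (X : Type u)).Finite) {Z : Set X}
    (hZ : IsClosed Z) (𝒮 : Set (Set X)) (h𝒮 : 𝒮 ⊆ irreducibleComponents (X : Type u))
    (hZ𝒮 : Z = ⋃₀ 𝒮) (w : VecSt.subsch X Z hZ) (hw : IsGen w) :
    IsGen ((VecSt.subschι X Z hZ) w) := by
  have hemb : Topology.IsClosedEmbedding (VecSt.subschι X Z hZ).base :=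
    (VecSt.subschι X Z hZ).isClosedEmbedding
  have hrange : Set.range (VecSt.subschι X Z hZ).base = Z := by
    rw [Scheme.IdealSheafData.range_subschemeι]
    exact Scheme.IdealSheafData.coe_support_vanishingIdeal _
  set j := (VecSt.subschι X Z hZ).base with hj
  have hjwZ : j w ∈ Z := by
    have : j w ∈ Set.range j := Set.mem_range_self w
    exact hrange.subset this
  have hfin𝒮 : 𝒮.Finite := hfin.subset h𝒮
  have hirr : IsIrreducible (closure ({j w} : Set X)) := isIrreducible_singleton.closure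
  have hsub : closure ({j w} : Set X) ⊆ ⋃₀ (hfin𝒮.toFinset : Set (Set X)) := by
    rw [Set.Finite.coe_toFinset, ← hZ𝒮]
    exact hZ.closure_subset_iff.mpr (Set.singleton_subset_iff.mpr hjwZ)
  obtain ⟨C, hC𝒮, hC⟩ := (isIrreducible_iff_sUnion_isClosed.mp hirr) hfin𝒮.toFinset
    (fun C hC => isClosed_of_mem_irreducibleComponents C (h𝒮 ((Set.Finite.mem_toFinset _).mp hC)))
    hsub
  have hC𝒮' : C ∈ 𝒮 := (Set.Finite.mem_toFinset _).mp hC𝒮
  have hCcomp : C ∈ irreducibleComponents (X : Type u) := h𝒮 hC𝒮'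
  have hCZ : C ⊆ Z := by rw [hZ𝒮]; exact Set.subset_sUnion_of_mem hC𝒮'
  have hCcl : IsClosed C := isClosed_of_mem_irreducibleComponents C hCcomp
  set T : Set (VecSt.subsch X Z hZ) := j ⁻¹' C with hT
  have hjT : j '' T = C := by
    rw [hT, Set.image_preimage_eq_inter_range, hrange, Set.inter_eq_left.mpr hCZ]
  have hwT : w ∈ T := hC (subset_closure rfl)
  have hTirr : IsIrreducible T :=
    ⟨⟨w, hwT⟩, isPreirreducible_of_image hemb.isInducing (hjT ▸ hCcomp.1.isPreirreducible)⟩
  have hTcl : IsClosed T := hCcl.preimage hemb.continuous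
  have h1 : closure ({w} : Set (VecSt.subsch X Z hZ)) ⊆ T :=
    hTcl.closure_subset_iff.mpr (Set.singleton_subset_iff.mpr hwT)
  have h2 : T ⊆ closure ({w} : Set (VecSt.subsch X Z hZ)) := hw.2 hTirr h1
  have h3 : T = closure ({w} : Set (VecSt.subsch X Z hZ)) := le_antisymm h2 h1
  have h4 : closure ({j w} : Set X) = C := by
    rw [← Set.image_singleton, hemb.closure_image_eq, ← h3, hjT]
  change closure ({j w} : Set X) ∈ irreducibleComponents (X : Type u)
  rw [h4]
  exact hCcomp

/-- the direct image of a quasi-coherent torsion-free module along a closed immersion of reduced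
schemes mapping generic points to generic points is torsion-free -/
theorem isTorsionFree_push [IsReduced X]
    (hfin : (irreducibleComponents (X : Type u)).Finite) {W : Scheme.{u}} [IsReduced W]
    (hfinW : (irreducibleComponents (W : Type u)).Finite) (j : W ⟶ X) [IsClosedImmersion j]
    (hG : ∀ w : W, IsGen w → IsGen (j w))
    (J : W.Modules) [J.IsQuasicoherent] (hJ : TorSh.IsTorsionFree J) :
    TorSh.IsTorsionFree ((Coh.push j).obj J) := by
  intro x
  set B := (Coh.push j).obj J with hB
  suffices h0 : ∀ (r : X.presheaf.stalk x), IsRegular r → ∀ β : B.presheaf.stalk x,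
      r • β = 0 → β = 0 by
    refine ⟨fun r hr β₁ β₂ h => ?_⟩
    have h1 : r • (β₁ - β₂) = 0 := by
      rw [smul_sub]
      exact sub_eq_zero.mpr h
    exact sub_eq_zero.mp (h0 r hr _ h1)
  intro r hr β hβ
  by_cases hxZ : x ∈ Set.range j.base
  swap
  · have hsup := Groth.Agent.Lib.helper8.SchemeSupport.support_subset_range_of_iso
      (F := B) j J (Iso.refl _)
    have : Subsingleton (B.presheaf.stalk x) := by
      by_contra hne
      exact hxZ (hsup hne)
    exact Subsingleton.elim _ _
  obtain ⟨z, rfl⟩ := hxZ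
  obtain ⟨U₁, hx₁, f₁, hf₁⟩ := X.presheaf.exists_germ_eq r
  obtain ⟨U₂, hx₂, s₂, hs₂⟩ := B.presheaf.exists_germ_eq β
  -- a common neighbourhood on which `f • s = 0`
  have hx12 : j z ∈ U₁ ⊓ U₂ := ⟨hx₁, hx₂⟩
  let f₃ : Γ(X, U₁ ⊓ U₂) := X.presheaf.map (homOfLE inf_le_left).op f₁
  let s₃ : Γ(B, U₁ ⊓ U₂) := B.presheaf.map (homOfLE inf_le_right).op s₂
  have ef : (X.presheaf.germ (U₁ ⊓ U₂) (j z) hx12).hom f₃ = r := by
    rw [← hf₁]
    exact TopCat.Presheaf.germ_res_apply X.presheaf (homOfLE inf_le_left) (j z) hx12 f₁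
  have es : (B.presheaf.germ (U₁ ⊓ U₂) (j z) hx12).hom s₃ = β := by
    rw [← hs₂]
    exact TopCat.Presheaf.germ_res_apply B.presheaf (homOfLE inf_le_right) (j z) hx12 s₂
  have h3 : (B.presheaf.germ (U₁ ⊓ U₂) (j z) hx12).hom (f₃ • s₃) =
      (B.presheaf.germ (U₁ ⊓ U₂) (j z) hx12).hom 0 := by
    rw [germ_smul', ef, es, hβ, map_zero]
  obtain ⟨V, hxV, i₁, i₂, heq⟩ := TopCat.Presheaf.germ_eq B.presheaf (j z) hx12 hx12 _ _ h3
  -- remove the components not through `x`
  set 𝒯 : Set (Set X) := {C | C ∈ irreducibleComponents (X : Type u) ∧ j z ∉ C} with h𝒯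
  have hclosed : IsClosed (⋃₀ 𝒯) := by
    rw [Set.sUnion_eq_biUnion]
    exact Set.Finite.isClosed_biUnion (hfin.subset fun C hC => hC.1)
      (fun C hC => isClosed_of_mem_irreducibleComponents C hC.1)
  have hx𝒯 : j z ∉ ⋃₀ 𝒯 := by
    rintro ⟨C, hC, hxC⟩
    exact hC.2 hxC
  let U : X.Opens := V ⊓ ⟨(⋃₀ 𝒯)ᶜ, hclosed.isOpen_compl⟩
  have hxU : j z ∈ U := ⟨hxV, hx𝒯⟩
  have hUV : U ≤ V := inf_le_left
  have hU12 : U ≤ U₁ ⊓ U₂ := hUV.trans i₁.le
  let f : Γ(X, U) := X.presheaf.map (homOfLE hU12).op f₃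
  let s : Γ(B, U) := B.presheaf.map (homOfLE hU12).op s₃
  have hfs : f • s = 0 := by
    have h4 : B.presheaf.map (homOfLE hU12).op (f₃ • s₃) = 0 := by
      have : B.presheaf.map i₁.op (f₃ • s₃) = B.presheaf.map i₂.op 0 := heq
      rw [map_zero] at this
      have h5 : B.presheaf.map (homOfLE hU12).op (f₃ • s₃) =
          B.presheaf.map (homOfLE hUV).op (B.presheaf.map i₁.op (f₃ • s₃)) := by
        rw [← ConcreteCategory.comp_apply, ← Functor.map_comp]
        rfl
      rw [h5, this, map_zero]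
    rw [← h4]
    exact (Scheme.Modules.map_smul B (homOfLE hU12) f₃ s₃).symm
  have efx : (X.presheaf.germ U (j z) hxU).hom f = r := by
    rw [← ef]
    exact TopCat.Presheaf.germ_res_apply X.presheaf (homOfLE hU12) (j z) hxU f₃
  have esx : (B.presheaf.germ U (j z) hxU).hom s = β := by
    rw [← es]
    exact TopCat.Presheaf.germ_res_apply B.presheaf (homOfLE hU12) (j z) hxU s₃
  -- `s` vanishes
  let s' : Γ(J, j ⁻¹ᵁ U) := s
  have hs' : s' = 0 := by
    apply eq_zero_of_germ_gen hfinW J hJ (j ⁻¹ᵁ U)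
    intro η' hη' hgen'
    have hgen : IsGen (j η') := hG η' hgen'
    have hηU : j η' ∈ U := hη'
    have hsp : j η' ⤳ j z := by
      rw [specializes_iff_mem_closure]
      by_contra hcon
      exact hηU.2 ⟨closure {j η'}, ⟨hgen, hcon⟩, subset_closure rfl⟩
    have hne := germ_ne_zero_of_regular hfin f (j z) hxU
      (fun t ht => by
        rw [efx] at ht
        have := hr.left (a₁ := t) (a₂ := 0)
        exact this (by simpa using ht))
      (j η') hηU hgen hsp
    have hfieldX := hgen.isField hfin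
    letI := hfieldX.toField
    have hinj : Function.Injective (j.stalkMap η').hom := RingHom.injective _
    have hne' : (W.presheaf.germ (j ⁻¹ᵁ U) η' hη').hom ((j.app U).hom f) ≠ 0 := by
      rw [← Scheme.Hom.germ_stalkMap_apply j U η' hηU f]
      intro h0
      exact hne (hinj (h0.trans (map_zero _).symm))
    have hsm : ((j.app U).hom f) • s' = 0 := hfs
    have h6 := congrArg (J.presheaf.germ (j ⁻¹ᵁ U) η' hη').hom hsm
    rw [germ_smul', map_zero] at h6
    have hu : IsUnit ((W.presheaf.germ (j ⁻¹ᵁ U) η' hη').hom ((j.app U).hom f)) := by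
      by_contra hnu
      exact hne' (hgen'.eq_zero_of_not_isUnit hfinW _ hnu)
    obtain ⟨c, hc⟩ := hu.exists_left_inv
    have := congrArg (fun m => c • m) h6
    simp only [smul_zero, ← mul_smul, hc, one_smul] at this
    exact this
  have hs0 : s = 0 := hs'
  rw [← esx, hs0, map_zero]

/-- the direct image of a quasi-coherent torsion-free module on the reduced subscheme on a union
of irreducible components is torsion-free on the ambient (reduced) scheme -/
theorem isTorsionFree_push_subsch [IsReduced X]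
    (hfin : (irreducibleComponents (X : Type u)).Finite) {Z : Set X}
    (hZ : IsClosed Z) (𝒮 : Set (Set X)) (h𝒮 : 𝒮 ⊆ irreducibleComponents (X : Type u))
    (hZ𝒮 : Z = ⋃₀ 𝒮)
    (hfinW : (irreducibleComponents (VecSt.subsch X Z hZ : Type u)).Finite)
    (J : (VecSt.subsch X Z hZ).Modules) [J.IsQuasicoherent] (hJ : TorSh.IsTorsionFree J) :
    TorSh.IsTorsionFree ((Coh.push (VecSt.subschι X Z hZ)).obj J) := by
  haveI : IsReduced (VecSt.subsch X Z hZ) :=
    Groth.Agent.Lib.Helper18.AffImageRed.isReduced_subscheme_vanishingIdeal _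
  exact isTorsionFree_push hfin hfinW _ (isGen_subschι hfin hZ 𝒮 h𝒮 hZ𝒮) J hJ

end Groth.Agent.Lib.Helper18.PushTF
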