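import Mathlib
import Groth.Agent.S6541
import Groth.Agent.Lib.Helper18.RatPt
import Groth.Agent.Lib.Helper18.CurvePt4
import Groth.Agent.Lib.Helper18.H0One
import Groth.Agent.Lib.Lead.VBCurve15
import Groth.Agent.Lib.Helper12.InvDual2

set_option autoImplicit false
set_option linter.style.haveILetI false
universe u
open CategoryTheory CategoryTheory.Limits AlgebraicGeometry Opposite TopologicalSpace Module
open Scheme.Modules

namespace Groth.Agent.Lib.Helper18.RatP1

open Groth.Agent.Lib.Helper18

variable (k : Type u) [Field k] (X : Scheme.{u}) [X.Over (Spec (CommRingCat.of k))]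
  [IsProper (X ↘ Spec (CommRingCat.of k))] [IsIntegral X]

/-- an integral proper curve with `χ(O) ≥ 1` and a regular `k`-rational point is `P¹_k` -/
theorem exists_iso_of_ratPoint (hdim : topologicalKrullDim X = 1)
    (hpa : 1 ≤ Curv2.euler k X (Coh.structureModule X))
    (s : Spec (CommRingCat.of k) ⟶ X) (hs : s ≫ (X ↘ Spec (CommRingCat.of k)) = 𝟙 _)
    (hreg : ∀ p, IsRegularLocalRing (X.presheaf.stalk (s p))) :
    ∃ e : X ≅ CohB1.ProjSpace 1 k,
      e.hom ≫ CohB1.ProjSpace.toSpec 1 k = X ↘ Spec (CommRingCat.of k) := by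
  haveI := Groth.Agent.Lib.Lead.CurveEuler.isNoetherian k X
  haveI : Nonempty (Spec (CommRingCat.of k)) := inferInstance
  let p₀ : Spec (CommRingCat.of k) := Classical.arbitrary _
  haveI : Subsingleton (Spec (CommRingCat.of k)) :=
    inferInstanceAs (Subsingleton (PrimeSpectrum k))
  set y : X := s p₀ with hydef
  have hsy : ∀ p, s p = y := fun p => by rw [hydef, Subsingleton.elim p p₀]
  haveI : IsProper s := by
    haveI : IsProper (s ≫ (X ↘ Spec (CommRingCat.of k))) := by rw [hs]; infer_instance
    exact IsProper.of_comp s (X ↘ Spec (CommRingCat.of k))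
  have hy : IsClosed ({y} : Set X) := by
    have h1 : IsClosed (Set.range s) := s.isClosedMap.isClosed_range
    have h2 : Set.range s = {y} := by
      ext x
      simp only [Set.mem_range, Set.mem_singleton_iff]
      constructor
      · rintro ⟨p, rfl⟩; exact hsy p
      · rintro rfl; exact ⟨p₀, rfl⟩
    rwa [h2] at h1
  have hne := Groth.Agent.Lib.Helper18.CurvePt.ne_genericPoint_of_isClosed hdim hy
  obtain ⟨t, ht0, ht⟩ := Groth.Agent.Lib.Helper18.RegPoint.exists_uniformizer_of_isRegularLocalRing
    hdim.le hy hne (hreg p₀)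
  obtain ⟨_, hinv⟩ := Groth.Agent.Lib.Helper18.CurvePt.goodPt_of_uniformizer hy t ht0 ht
  have hq := Groth.Agent.Lib.Helper18.RatPt.finrank_H0_quotMod_ratPoint k X s hs hy hsy
  have hdegI := Groth.Agent.Lib.Helper18.CurvePt.deg_idealMod_point k X hdim.le hy hinv hq
  obtain ⟨N, hN, hNI, hIN⟩ := Groth.Agent.Lib.helper12.InvDual.exists_inverse hinv
  have hdegN : Curv2.deg k X N 1 = 1 := by
    have := Groth.Agent.Lib.Lead.VBCurve.deg_add_deg_of_isInverseOf k X hdim.le hinv hN hIN
    linarith
  -- `h⁰(O) = 1`, hence `H¹(O) = 0`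
  have h0 := Groth.Agent.Lib.Helper18.H0One.finrank_H0_eq_one_of_finrank_HH_eq_one k X _ 0 hq
  have hOc : Coh.IsCoh (Coh.structureModule X) :=
    Groth.Agent.Lib.Lead.CurveInv.isCoh_of_isInvertible X
      (Groth.Agent.Lib.helper11.InvMod.isInvertible_structureModule X)
  haveI : Module.Finite k (Coh.HH X (Coh.structureModule X) 1) :=
    Groth.Agent.Lib.Lead.ProperEuler.finite_HH k X _ hOc 1
  have he := Groth.Agent.Lib.Lead.CurveEuler.euler_eq k X hdim.le (Coh.structureModule X) hOc.1
  have h1 : Subsingleton (Coh.HH X (Coh.structureModule X) 1) := by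
    have h1' : finrank k (Coh.HH X (Coh.structureModule X) 1) = 0 := by
      have h2 : (0 : ℤ) ≤ (finrank k (Coh.HH X (Coh.structureModule X) 1) : ℤ) :=
        Int.natCast_nonneg _
      rw [h0] at he
      have : (finrank k (Coh.HH X (Coh.structureModule X) 1) : ℤ) = 0 := by
        push_cast at he; linarith
      exact_mod_cast this
    exact Module.finrank_zero_iff.mp h1'
  exact Groth.Agent.S6541.result k X hdim h1 N hN hdegN

end Groth.Agent.Lib.Helper18.RatP1
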