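import Mathlib
import Groth.Agent.Lib.Helper18.SplitAlg4
import Groth.Agent.Lib.Helper11.RedSplit
import Groth.Agent.Lib.Lead.EulerLC1

/-!
# Over a reduced ring, locally constant fibre rank of `H^p` splits the differentials around `L^p` (helper18)

Uses helper11's `RedSplit.exists_splits_of_locConst` and lead's cochain rank formula `EulerLC.rank_formula_up`.
-/

set_option autoImplicit false
universe u

open CategoryTheory CategoryTheory.Limits TensorProduct

namespace Groth.Agent.Lib.Helper18.RedChart

open Groth.Agent.Lib.Helper18.SplitAlg Groth.Agent.Lib.helper11.RedSplit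
  Groth.Agent.Lib.Lead.EulerLC

variable {A : Type u} [CommRing A]

/-- `dim H^p(L ⊗ κ(y)) + rank (d^{p-1} ⊗ κ(y)) + rank (d^p ⊗ κ(y)) = rank L^p` -/
theorem dRank_add_ranks (L : CochainComplex (ModuleCat.{u} A) ℤ)
    (hLff : ∀ i, Module.Finite A (L.X i) ∧ Module.Free A (L.X i)) (p : ℤ) (y : PrimeSpectrum A) :
    CohIII.dRank L p y +
      (Module.finrank y.asIdeal.ResidueField
          (LinearMap.range ((L.d p (p + 1)).hom.baseChange y.asIdeal.ResidueField)) +
        Module.finrank y.asIdeal.ResidueField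
          (LinearMap.range ((L.d (p - 1) p).hom.baseChange y.asIdeal.ResidueField))) =
      Module.finrank A (L.X p) := by
  haveI : ∀ i, Module.Finite A (L.X i) := fun i => (hLff i).1
  haveI : ∀ i, Module.Free A (L.X i) := fun i => (hLff i).2
  have h1 := rank_formula_up L (fun i => (hLff i).1) p y
  have h2 := finrank_coker_add_finrank_range (A := A) y.asIdeal.ResidueField (L.d (p - 1) p).hom
  have h3 := finrank_coker_add_finrank_range (A := A) y.asIdeal.ResidueField (L.d p (p + 1)).hom
  haveI : Nontrivial A := (algebraMap A y.asIdeal.ResidueField).domain_nontrivial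
  have h4 : fr y (L.X (p + 1)) = Module.finrank A (L.X (p + 1)) := Module.finrank_baseChange
  unfold fr at h1 h4
  omega

/-- over a reduced ring, if `y ↦ dim H^p(L ⊗ κ(y))` is constant near `x₀` then both differentials around `L^p` split up
to a function invertible at `x₀` -/
theorem exists_splits_of_locConst_dRank [IsReduced A] (L : CochainComplex (ModuleCat.{u} A) ℤ)
    (hLff : ∀ i, Module.Finite A (L.X i) ∧ Module.Free A (L.X i)) (p : ℤ) (x₀ : PrimeSpectrum A)
    (U : Set (PrimeSpectrum A)) (hU : IsOpen U) (hx₀ : x₀ ∈ U)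
    (h : ∀ x ∈ U, CohIII.dRank L p x = CohIII.dRank L p x₀) :
    ∃ a : A, a ∉ x₀.asIdeal ∧ GSplit (L.sc p) a ∧ FSplit (L.sc p) a := by
  haveI : ∀ i, Module.Finite A (L.X i) := fun i => (hLff i).1
  haveI : ∀ i, Module.Free A (L.X i) := fun i => (hLff i).2
  obtain ⟨a, t, t', ha, h1, h2⟩ := exists_splits_of_locConst (L.d (p - 1) p).hom (L.d p (p + 1)).hom
    x₀ U hU hx₀ (fun x hx => by
      have e1 := dRank_add_ranks L hLff p x
      have e2 := dRank_add_ranks L hLff p x₀
      have e3 := h x hx
      omega)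
  have hrel1 : (ComplexShape.up ℤ).Rel p (p + 1) := rfl
  have hrel0 : (ComplexShape.up ℤ).Rel (p - 1) p := by
    show p - 1 + 1 = p
    ring
  refine ⟨a, ha, (gsplit_iff_dsplit L hrel1 a).mpr ⟨ModuleCat.ofHom t, ?_⟩,
    (fsplit_iff_dsplit L hrel0 a).mpr ⟨ModuleCat.ofHom t', ?_⟩⟩
  · ext m
    exact congrArg (fun ψ => ψ m) h1
  · ext m
    exact congrArg (fun ψ => ψ m) h2

end Groth.Agent.Lib.Helper18.RedChart
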