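import Mathlib

set_option autoImplicit false
universe u

namespace Groth.Agent.Lib.Helper18.RegAvoid2

/-- annihilator of an element -/
abbrev ann {A : Type u} [CommRing A] (c : A) : Ideal A :=
  LinearMap.ker (LinearMap.toSpanSingleton A A c)

theorem mem_ann {A : Type u} [CommRing A] (c b : A) : b ∈ ann c ↔ b * c = 0 := by
  simp [ann, LinearMap.mem_ker, LinearMap.toSpanSingleton_apply]

/-- finitely many minimal primes containing all weakly associated primes: data for prime avoidance -/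
theorem minimal_data (A : Type u) [CommRing A] (hfin : (minimalPrimes A).Finite)
    (hC : ∀ c : A, ∀ q ∈ (ann c).minimalPrimes, q ∈ minimalPrimes A) :
    ∃ Ps : Set (Ideal A), Ps.Finite ∧ (∀ P ∈ Ps, P.IsPrime) ∧
      (∀ a : A, a ∉ nonZeroDivisors A → ∃ P ∈ Ps, a ∈ P) ∧
      (∀ P ∈ Ps, ∃ t : A, t ∉ P ∧ ∀ h ∈ P, IsNilpotent (t * h)) := by
  have hnil : sInf (minimalPrimes A) = nilradical A := by
    rw [minimalPrimes, Ideal.sInf_minimalPrimes]
    rfl
  refine ⟨minimalPrimes A, hfin, fun P hP => hP.1.1, ?_, ?_⟩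
  · intro a ha
    rw [mem_nonZeroDivisors_iff_right] at ha
    push Not at ha
    obtain ⟨b, hb, hb0⟩ := ha
    have hab : a ∈ ann b := by rw [mem_ann, mul_comm]; exact hb
    have hne : ann b ≠ ⊤ := by
      intro h
      have : (1 : A) ∈ ann b := h ▸ Submodule.mem_top
      rw [mem_ann, one_mul] at this
      exact hb0 this
    obtain ⟨m, hm, hle⟩ := Ideal.exists_le_maximal (ann b) hne
    haveI := hm.isPrime
    obtain ⟨q, hq, -⟩ := Ideal.exists_minimalPrimes_le hle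
    exact ⟨q, hC b q hq, hq.1.2 hab⟩
  · intro P hP
    have hprime : P.IsPrime := hP.1.1
    have hex : ∃ t : A, t ∉ P ∧ ∀ Q ∈ minimalPrimes A, Q ≠ P → t ∈ Q := by
      by_contra hcon
      push Not at hcon
      have hle : (hfin.toFinset.erase P).inf id ≤ P := by
        intro t ht
        by_contra htP
        obtain ⟨Q, hQ, hQP, htQ⟩ := hcon t htP
        apply htQ
        have hQm : Q ∈ hfin.toFinset.erase P := by
          simp [hQ, hQP]
        exact (Finset.inf_le hQm : (hfin.toFinset.erase P).inf id ≤ id Q) ht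
      obtain ⟨Q, hQ, hQP⟩ := (Ideal.IsPrime.inf_le' hprime).mp hle
      simp only [Finset.mem_erase, Set.Finite.mem_toFinset] at hQ
      apply hQ.1
      have hQle : Q ≤ P := hQP
      exact le_antisymm hQle (hP.2 ⟨hQ.2.1.1, bot_le⟩ hQle)
    obtain ⟨t, htP, htQ⟩ := hex
    refine ⟨t, htP, ?_⟩
    intro h hh
    rw [← mem_nilradical, ← hnil, Ideal.mem_sInf]
    intro Q hQ
    by_cases hQP : Q = P
    · subst hQP
      exact Q.mul_mem_left _ hh
    · exact Q.mul_mem_right _ (htQ Q hQ hQP)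

/-- spreading out a nonzerodivisor of the local ring at `p` to a basic open neighbourhood -/
theorem exists_away_nzd (A : Type u) [CommRing A] (hfin : (minimalPrimes A).Finite)
    (hC : ∀ c : A, ∀ q ∈ (ann c).minimalPrimes, q ∈ minimalPrimes A)
    (p : Ideal A) [p.IsPrime] (s : A)
    (hs : ∀ c : A, (∃ u ∉ p, u * c * s = 0) → ∃ v ∉ p, v * c = 0) :
    ∃ h ∉ p, ∀ c : A, (∃ k : ℕ, h ^ k * c * s = 0) → ∃ m : ℕ, h ^ m * c = 0 := by
  classical
  -- choose elements of the minimal primes not contained in `p`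
  have hch : ∀ Q : Ideal A, ∃ g : A, g ∉ p ∧ (¬ Q ≤ p → g ∈ Q) := by
    intro Q
    by_cases hQ : Q ≤ p
    · exact ⟨1, fun h1 => ‹p.IsPrime›.ne_top ((Ideal.eq_top_iff_one _).mpr h1), fun h => absurd hQ h⟩
    · obtain ⟨g, hgQ, hgp⟩ := SetLike.not_le_iff_exists.mp hQ
      exact ⟨g, hgp, fun _ => hgQ⟩
  choose hfun hfun_p hfun_Q using hch
  let h : A := ∏ Q ∈ hfin.toFinset, hfun Q
  have hhp : h ∉ p := by
    intro hmem
    obtain ⟨Q, -, hQ⟩ := (Ideal.IsPrime.prod_mem_iff (p := p)).mp hmem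
    exact hfun_p Q hQ
  have hhQ : ∀ Q ∈ minimalPrimes A, ¬ Q ≤ p → h ∈ Q := by
    intro Q hQ hQp
    haveI : Q.IsPrime := hQ.1.1
    exact (Ideal.IsPrime.prod_mem_iff (p := Q)).mpr
      ⟨Q, by simpa using hQ, hfun_Q Q hQp⟩
  refine ⟨h, hhp, ?_⟩
  rintro c ⟨k, hk⟩
  by_contra hcon
  push Not at hcon
  set c₁ : A := h ^ k * c with hc₁
  have hs1 : s ∈ ann c₁ := by rw [mem_ann, mul_comm]; exact hk
  -- `h ∉ radical (ann c₁)`
  have hrad : h ∉ (ann c₁).radical := by
    rintro ⟨m, hm⟩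
    rw [mem_ann, hc₁, ← mul_assoc, ← pow_add] at hm
    exact hcon _ hm
  rw [Ideal.radical_eq_sInf, Ideal.mem_sInf] at hrad
  push Not at hrad
  obtain ⟨q, ⟨hqle, hqprime⟩, hhq⟩ := hrad
  haveI := hqprime
  obtain ⟨q', hq', hq'q⟩ := Ideal.exists_minimalPrimes_le hqle
  have hq'min : q' ∈ minimalPrimes A := hC c₁ q' hq'
  haveI : q'.IsPrime := hq'min.1.1
  have hhq' : h ∉ q' := fun hmem => hhq (hq'q hmem)
  have hq'p : q' ≤ p := by
    by_contra hnle
    exact hhq' (hhQ q' hq'min hnle)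
  have hsq' : s ∈ q' := hq'.1.2 hs1
  -- the kernel of localization at `p`
  let I : Ideal A := RingHom.ker (algebraMap A (Localization.AtPrime p))
  have hI : ∀ c : A, c ∈ I ↔ ∃ v ∉ p, v * c = 0 := by
    intro c
    rw [RingHom.mem_ker, IsLocalization.map_eq_zero_iff p.primeCompl]
    constructor
    · rintro ⟨m, hm⟩; exact ⟨m.1, m.2, hm⟩
    · rintro ⟨v, hv, hvc⟩; exact ⟨⟨v, hv⟩, hvc⟩
  have hIq' : I ≤ q' := by
    intro c hc
    obtain ⟨v, hv, hvc⟩ := (hI c).mp hc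
    have : v * c ∈ q' := by rw [hvc]; exact q'.zero_mem
    rcases Ideal.IsPrime.mem_or_mem ‹q'.IsPrime› this with h1 | h1
    · exact absurd (hq'p h1) hv
    · exact h1
  have hq'I : q' ∈ I.minimalPrimes :=
    ⟨⟨inferInstance, hIq'⟩, fun r hr hrq' => hq'min.2 ⟨hr.1, bot_le⟩ hrq'⟩
  obtain ⟨y, hyI, hsy⟩ := Ideal.exists_mul_mem_of_mem_minimalPrimes hq'I hsq'
  obtain ⟨u, hu, husy⟩ := (hI _).mp hsy
  apply hyI
  rw [hI]
  apply hs y
  refine ⟨u, hu, ?_⟩
  rw [← husy]; ring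

end Groth.Agent.Lib.Helper18.RegAvoid2
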