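import Mathlib

/-!
# A finite family of closed immersions into a reduced scheme is an isomorphism off the overlaps (helper18)

`isIso_morphismRestrict_sigmaDesc`: `g k : Z k ⟶ X` closed immersions (`k` in a finite type), `X` reduced, `V ⊆ X`
open, covered by the ranges of the `g k`, which are pairwise disjoint on `V`.  Then `Sigma.desc g ∣_ V` is an
isomorphism.
-/

set_option autoImplicit false
universe u
open CategoryTheory CategoryTheory.Limits AlgebraicGeometry TopologicalSpace Opposite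

namespace Groth.Agent.Lib.Helper18.SigmaIso

theorem isIso_morphismRestrict_of_eq {A B : Scheme.{u}} {a b : A ⟶ B} (h : a = b) (U : B.Opens)
    (hb : IsIso (b ∣_ U)) : IsIso (a ∣_ U) := by
  subst h
  exact hb

theorem isIso_morphismRestrict_of_opens_eq {A B : Scheme.{u}} (a : A ⟶ B) {U U' : B.Opens} (h : U = U')
    (hb : IsIso (a ∣_ U')) : IsIso (a ∣_ U) := by
  subst h
  exact hb

/-- a surjective closed immersion restricted to an open of a reduced scheme on which it is surjective -/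
theorem isIso_morphismRestrict_of_isClosedImmersion {Z X : Scheme.{u}} [IsReduced X] (g : Z ⟶ X)
    [IsClosedImmersion g] (W : X.Opens) (hW : (W : Set X) ⊆ Set.range g) : IsIso (g ∣_ W) := by
  haveI : Surjective (g ∣_ W) := by
    refine ⟨fun y => ?_⟩
    obtain ⟨z, hz⟩ := hW y.2
    have hzW : z ∈ g ⁻¹ᵁ W := by
      show g z ∈ W
      rw [hz]
      exact y.2
    refine ⟨⟨z, hzW⟩, Subtype.ext ?_⟩
    rw [morphismRestrict_base_coe]
    exact hz
  exact isIso_of_isClosedImmersion_of_surjective (g ∣_ W)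

/-- an open immersion restricted to an open contained in its range -/
theorem isIso_morphismRestrict_of_isOpenImmersion {Z X : Scheme.{u}} (σ : Z ⟶ X)
    [IsOpenImmersion σ] (W : X.Opens) (hW : (W : Set X) ⊆ Set.range σ) : IsIso (σ ∣_ W) := by
  apply isIso_of_isOpenImmersion_of_opensRange_eq_top
  rw [eq_top_iff]
  intro y _
  obtain ⟨z, hz⟩ := hW y.2
  have hzW : z ∈ σ ⁻¹ᵁ W := by
    show σ z ∈ W
    rw [hz]
    exact y.2
  refine ⟨⟨z, hzW⟩, Subtype.ext ?_⟩
  rw [morphismRestrict_base_coe]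
  exact hz

variable {κ : Type u} [Finite κ] {X : Scheme.{u}} (Z : κ → Scheme.{u}) (g : ∀ k, Z k ⟶ X)

omit [Finite κ] in
theorem exists_sigmaι_eq (x : (∐ Z : Scheme.{u})) : ∃ k, ∃ z : Z k, Sigma.ι Z k z = x := by
  obtain ⟨z, hz⟩ := (sigmaOpenCover Z).covers x
  exact ⟨_, z, hz⟩

omit [Finite κ] in
theorem sigmaDesc_sigmaι (k : κ) (z : Z k) : (Sigma.desc g) (Sigma.ι Z k z) = g k z := by
  rw [← Scheme.Hom.comp_apply, Sigma.ι_desc]

/-- over an open `W` contained in the range of `g k` and missing the other ranges, `Sigma.desc g` is an iso -/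
theorem isIso_morphismRestrict_sigmaDesc_of_single [IsReduced X] [∀ k, IsClosedImmersion (g k)] (k : κ)
    (W : X.Opens) (hW : (W : Set X) ⊆ Set.range (g k))
    (hW' : ∀ l, l ≠ k → ∀ x ∈ W, x ∉ Set.range (g l)) : IsIso (Sigma.desc g ∣_ W) := by
  have h1 : IsIso ((Sigma.ι Z k ≫ Sigma.desc g) ∣_ W) :=
    isIso_morphismRestrict_of_eq (Sigma.ι_desc g k) W
      (isIso_morphismRestrict_of_isClosedImmersion (g k) W hW)
  rw [morphismRestrict_comp] at h1
  haveI h2 : IsIso (Sigma.ι Z k ∣_ (Sigma.desc g ⁻¹ᵁ W)) := by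
    apply isIso_morphismRestrict_of_isOpenImmersion
    intro x hx
    obtain ⟨l, z, rfl⟩ := exists_sigmaι_eq Z x
    have hx' : (Sigma.desc g) (Sigma.ι Z l z) ∈ W := hx
    rw [sigmaDesc_sigmaι] at hx'
    by_cases hl : l = k
    · subst hl
      exact ⟨z, rfl⟩
    · exact absurd ⟨z, rfl⟩ (hW' l hl _ hx')
  exact @IsIso.of_isIso_comp_left _ _ _ _ _ (Sigma.ι Z k ∣_ (Sigma.desc g ⁻¹ᵁ W)) (Sigma.desc g ∣_ W) h2 h1

/-- **the coproduct of finitely many closed subschemes of a reduced scheme is isomorphic to it off the overlaps** -/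
theorem isIso_morphismRestrict_sigmaDesc [IsReduced X] [∀ k, IsClosedImmersion (g k)] (V : X.Opens)
    (hcov : ∀ x ∈ V, ∃ k, x ∈ Set.range (g k))
    (hdisj : ∀ k l, k ≠ l → ∀ x ∈ V, x ∈ Set.range (g k) → x ∉ Set.range (g l)) :
    IsIso (Sigma.desc g ∣_ V) := by
  -- the opens `V_k`
  have hclosed : ∀ k, IsClosed (⋃ l : {l : κ // l ≠ k}, Set.range (g l.1)) := fun k =>
    isClosed_iUnion_of_finite (fun l => (g l.1).isClosedEmbedding.isClosed_range)
  let Vk : κ → X.Opens := fun k => V ⊓ ⟨(⋃ l : {l : κ // l ≠ k}, Set.range (g l.1))ᶜ, (hclosed k).isOpen_compl⟩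
  have hVk_le : ∀ k, Vk k ≤ V := fun k => inf_le_left
  have hVk_mem : ∀ k x, x ∈ Vk k ↔ x ∈ V ∧ ∀ l, l ≠ k → x ∉ Set.range (g l) := by
    intro k x
    constructor
    · rintro ⟨h1, h2⟩
      refine ⟨h1, fun l hl hx => h2 ?_⟩
      exact Set.mem_iUnion.2 ⟨⟨l, hl⟩, hx⟩
    · rintro ⟨h1, h2⟩
      refine ⟨h1, fun hx => ?_⟩
      obtain ⟨l, hl⟩ := Set.mem_iUnion.1 hx
      exact h2 l.1 l.2 hl
  have hiso : ∀ k, IsIso (Sigma.desc g ∣_ Vk k) := by
    intro k
    apply isIso_morphismRestrict_sigmaDesc_of_single Z g k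
    · intro x hx
      obtain ⟨hxV, hx2⟩ := (hVk_mem k x).1 hx
      obtain ⟨l, hl⟩ := hcov x hxV
      by_cases hlk : l = k
      · subst hlk
        exact hl
      · exact absurd hl (hx2 l hlk)
    · intro l hl x hx
      exact ((hVk_mem k x).1 hx).2 l hl
  have hsup : iSup (fun k => V.ι ⁻¹ᵁ Vk k) = ⊤ := by
    rw [eq_top_iff]
    intro y _
    obtain ⟨k, hk⟩ := hcov y.1 y.2
    refine TopologicalSpace.Opens.mem_iSup.2 ⟨k, ?_⟩
    show y.1 ∈ Vk k
    rw [hVk_mem]
    exact ⟨y.2, fun l hl hx => hdisj k l (Ne.symm hl) y.1 y.2 hk hx⟩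
  have key : (MorphismProperty.isomorphisms Scheme.{u}) (Sigma.desc g ∣_ V) := by
    apply IsZariskiLocalAtTarget.of_iSup_eq_top (P := MorphismProperty.isomorphisms Scheme.{u})
      (fun k => V.ι ⁻¹ᵁ Vk k) hsup
    intro k
    rw [(MorphismProperty.isomorphisms Scheme.{u}).arrow_mk_iso_iff
      (morphismRestrictRestrict (Sigma.desc g) V (V.ι ⁻¹ᵁ Vk k))]
    have heq : V.ι ''ᵁ (V.ι ⁻¹ᵁ Vk k) = Vk k := by
      rw [Scheme.Hom.image_preimage_eq_opensRange_inf, Scheme.Opens.opensRange_ι]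
      exact inf_eq_right.2 (hVk_le k)
    exact isIso_morphismRestrict_of_opens_eq _ heq (hiso k)
  exact key

end Groth.Agent.Lib.Helper18.SigmaIso
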