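import Mathlib
import Groth.Agent.Lib.Helper12.AmpleCoprod

/-!
# Modules on a finite coproduct of schemes with prescribed restrictions (helper18)

* `sigmaMod Z L`: the module `⨁ (σ_k)_* L_k` on `∐ Z`, for a finite family.
* `pullbackSigmaModIso Z L j : σ_j^* (sigmaMod Z L) ≅ L j`.
* `isInvertible_sigmaMod`: if all `L k` are invertible so is `sigmaMod Z L`.
-/

set_option autoImplicit false
universe u
open CategoryTheory CategoryTheory.Limits AlgebraicGeometry TopologicalSpace Opposite

namespace Groth.Agent.Lib.Helper18.SigmaMod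

open Scheme.Modules Groth.Agent.Lib.helper11.InvMod Groth.Agent.Lib.helper12.AmpleLocal
open Groth.Agent.Lib.helper12.AmpleCoprod

attribute [local instance] Abelian.hasFiniteBiproducts

variable {κ : Type u} [Finite κ] (Z : κ → Scheme.{u})

/-- the module on `∐ Z` restricting to `L k` on `Z k` -/
noncomputable def sigmaMod (L : ∀ k, (Z k).Modules) : (∐ Z).Modules :=
  ⨁ (fun k => (pushforward (Sigma.ι Z k)).obj (L k))

/-- for an additive functor killing all summands but one, the value on the biproduct is the value on that summand -/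
noncomputable def mapBiproductIsoOfIsZero {C D : Type*} [Category C] [Category D] [Preadditive C] [Preadditive D]
    (G : C ⥤ D) [G.Additive] (F : κ → C) [HasBiproduct F] (j : κ)
    (hz : ∀ k, k ≠ j → IsZero (G.obj (F k))) : G.obj (⨁ F) ≅ G.obj (F j) where
  hom := G.map (biproduct.π F j)
  inv := G.map (biproduct.ι F j)
  hom_inv_id := by
    classical
    haveI : Fintype κ := Fintype.ofFinite κ
    rw [← G.map_comp]
    have h1 : 𝟙 (G.obj (⨁ F)) = ∑ k : κ, G.map (biproduct.π F k ≫ biproduct.ι F k) := by
      have h0 : ∑ k : κ, biproduct.π F k ≫ biproduct.ι F k = 𝟙 (⨁ F) :=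
        Limits.IsBilimit.total (biproduct.isBilimit F)
      rw [← G.map_sum, h0, G.map_id]
    rw [h1]
    symm
    apply Finset.sum_eq_single j
    · intro k _ hk
      rw [G.map_comp]
      have : G.map (biproduct.π F k) = 0 := (hz k hk).eq_of_tgt _ _
      rw [this, zero_comp]
    · intro h
      exact absurd (Finset.mem_univ j) h
  inv_hom_id := by
    rw [← G.map_comp, biproduct.ι_π_self, G.map_id]

theorem isZero_pullback_pushforward {T : Scheme.{u}} {A B : Scheme.{u}} (i : A ⟶ T) (i' : B ⟶ T)
    [IsOpenImmersion i] (hd : Disjoint (Set.range i) (Set.range i')) (M : B.Modules) :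
    IsZero ((Scheme.Modules.pullback i).obj ((pushforward i').obj M)) :=
  (isZero_restrict_pushforward i i' hd M).of_iso ((restrictFunctorIsoPullback i).symm.app _)

/-- `σ_j^* (sigmaMod Z L) ≅ L j` -/
noncomputable def pullbackSigmaModIso (L : ∀ k, (Z k).Modules) (j : κ) :
    (Scheme.Modules.pullback (Sigma.ι Z j)).obj (sigmaMod Z L) ≅ L j :=
  mapBiproductIsoOfIsZero (Scheme.Modules.pullback (Sigma.ι Z j))
      (fun k => (pushforward (Sigma.ι Z k)).obj (L k)) j (fun k hk =>
        isZero_pullback_pushforward (Sigma.ι Z j) (Sigma.ι Z k) (by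
          have := disjoint_opensRange_sigmaι Z j k (Ne.symm hk)
          rw [Set.disjoint_iff]
          rintro x ⟨hx1, hx2⟩
          have h2 : x ∈ (Sigma.ι Z j).opensRange ⊓ (Sigma.ι Z k).opensRange := ⟨hx1, hx2⟩
          rw [disjoint_iff.1 this] at h2
          exact h2) (L k)) ≪≫
    (restrictFunctorIsoPullback (Sigma.ι Z j)).symm.app _ ≪≫
    (restrictFunctorAdjCounitIso (Sigma.ι Z j)).app (L j)

theorem isInvertible_of_isInvertible_restrict {T A : Scheme.{u}} (σ : A ⟶ T) [IsOpenImmersion σ]
    {M : T.Modules} (h : PicF.IsInvertible (M.restrict σ)) :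
    PicF.IsInvertible (M.restrict σ.opensRange.ι) := by
  have hr : Set.range σ.opensRange.ι = Set.range σ := by
    rw [Scheme.Opens.range_ι]
    rfl
  exact isInvertible_of_iso (restrictRangeIso σ.opensRange.ι σ hr M).symm
    (isInvertible_restrict _ h)

theorem isInvertible_sigmaMod (L : ∀ k, (Z k).Modules) (hL : ∀ k, PicF.IsInvertible (L k)) :
    PicF.IsInvertible (sigmaMod Z L) := by
  refine isInvertible_of_cover (fun j => (Sigma.ι Z j).opensRange) ?_ (fun j => ?_)
  · exact (sigmaOpenCover Z).iSup_opensRange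
  · apply isInvertible_of_isInvertible_restrict
    exact isInvertible_of_iso
      ((pullbackSigmaModIso Z L j).symm ≪≫ (restrictFunctorIsoPullback (Sigma.ι Z j)).symm.app _)
      (hL j)

end Groth.Agent.Lib.Helper18.SigmaMod
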