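import Mathlib
import Groth.Agent.Lib.Helper18.StalkEtale

/-!
# Standard étale neighbourhoods (helper18)
-/

set_option autoImplicit false
universe u

open AlgebraicGeometry CategoryTheory IsLocalRing TensorProduct Algebra

namespace H18Stalk

variable {X S : Scheme.{u}}

set_option backward.defeqAttrib.useBackward true in
set_option backward.isDefEq.respectTransparency false in
theorem exists_standardEtale_of_etale (f : X ⟶ S) [Etale f] (x : X)
    (V : S.Opens) (hV : IsAffineOpen V) (hxV : f x ∈ V) :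
    ∃ (U : X.Opens) (_ : IsAffineOpen U) (_ : x ∈ U) (e : U ≤ f ⁻¹ᵁ V),
      letI := (f.appLE V U e).hom.toAlgebra
      Algebra.IsStandardEtale Γ(S, V) Γ(X, U) := by
  obtain ⟨_, ⟨U₁, hU₁, rfl⟩, hxU₁, hU₁V⟩ :=
    X.isBasis_affineOpens.exists_subset_of_mem_open (show x ∈ f ⁻¹ᵁ V from hxV) (f ⁻¹ᵁ V).2
  have hQ : (f.appLE V U₁ hU₁V).hom.Etale := f.etale_appLE hV hU₁ hU₁V
  algebraize [(f.appLE V U₁ hU₁V).hom]
  let q := (hU₁.primeIdealOf ⟨x, hxU₁⟩).asIdeal
  have : Algebra.FormallyEtale Γ(X, U₁) (Localization.AtPrime q) :=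
    .of_isLocalization q.primeCompl
  have : Algebra.IsEtaleAt Γ(S, V) q := Algebra.FormallyEtale.comp Γ(S, V) Γ(X, U₁) _
  obtain ⟨r, hrx, hstd⟩ := Algebra.IsEtaleAt.exists_isStandardEtale (R := Γ(S, V)) q
  have hloc := hU₁.isLocalization_basicOpen r
  refine ⟨X.basicOpen r, hU₁.basicOpen r, ?_, (X.basicOpen_le r).trans hU₁V, ?_⟩
  · rwa [← PrimeSpectrum.mem_basicOpen, IsAffineOpen.primeIdealOf,
      ← hU₁.fromSpec_preimage_basicOpen, Scheme.Hom.mem_preimage, ← Scheme.Hom.comp_apply,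
      IsAffineOpen.isoSpec_hom, IsAffineOpen.toSpecΓ_fromSpec] at hrx
  · let := (f.appLE V (X.basicOpen r) ((X.basicOpen_le r).trans hU₁V)).hom.toAlgebra
    have : IsScalarTower Γ(S, V) Γ(X, U₁) Γ(X, X.basicOpen r) := .of_algebraMap_eq' (by
      simp only [RingHom.algebraMap_toAlgebra, ← CommRingCat.hom_comp, Scheme.Hom.appLE_map])
    exact Algebra.IsStandardEtale.of_equiv ((IsLocalization.algEquiv (.powers r)
      (Localization.Away r) Γ(X, X.basicOpen r)).restrictScalars Γ(S, V))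

end H18Stalk
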