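import Mathlib
import Groth.Prelude.Def_Flat
import Groth.Agent.Lib.Helper9.SteinGen3
import Groth.Agent.Lib.Helper2.SpecResidue

/-!
# The Stein factorization commutes with base change up to universal homeomorphism (helper18)

* `algHom_eq_of_preconnected`: a connected algebraic algebra over a field has at most one rational point.
* `isPullback_map_of_comp`: base change of the first factor of a composite.
* `universallyInjective_of_geometricallyConnected`: an integral morphism `c` such that some geometrically connected
  `h` factors as `q' ≫ c` with `q'` surjective is universally injective.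
* `isUnivHomeo_normalizationPullback`: for `f` proper and any `g`, `f.normalizationPullback g` is a universal
  homeomorphism.
-/

set_option autoImplicit false
universe u

open CategoryTheory CategoryTheory.Limits AlgebraicGeometry Opposite TopologicalSpace

namespace Groth.Agent.Lib.Helper18.SteinUH

section ring

open Polynomial

/-- two points with values in the base field of a connected algebraic algebra coincide -/
theorem algHom_eq_of_preconnected {K R : Type*} [Field K] [CommRing R] [Algebra K R]
    [Algebra.IsAlgebraic K R] [PreconnectedSpace (PrimeSpectrum R)] (σ τ : R →ₐ[K] K) : σ = τ := by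
  ext x
  by_contra hne
  set α := σ x with hα
  set β := τ x with hβ
  obtain ⟨p, hp0, hpx⟩ := Algebra.IsAlgebraic.isAlgebraic (R := K) x
  have hev : ∀ (ρ : R →ₐ[K] K) (r : K[X]), ρ (aeval x r) = eval (ρ x) r := fun ρ r => by
    rw [← aeval_algHom_apply, coe_aeval_eq_eval]
  have hpα : p.IsRoot α := by
    rw [IsRoot, hα, ← hev, hpx, map_zero]
  have hpβ : p.IsRoot β := by
    rw [IsRoot, hβ, ← hev, hpx, map_zero]
  obtain ⟨q, hpq, hq⟩ := exists_eq_pow_rootMultiplicity_mul_and_not_dvd p hp0 α
  set n := p.rootMultiplicity α with hn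
  have hn0 : 0 < n := (rootMultiplicity_pos hp0).mpr hpα
  have hcop : IsCoprime ((X - C α) ^ n) q :=
    ((irreducible_X_sub_C α).coprime_iff_not_dvd.mpr hq).pow_left
  obtain ⟨u, v, huv⟩ := hcop
  have hqβ : eval β q = 0 := by
    have h1 : eval β p = 0 := hpβ
    rw [hpq, eval_mul, eval_pow, eval_sub, eval_X, eval_C] at h1
    rcases mul_eq_zero.mp h1 with h2 | h2
    · exact absurd (sub_eq_zero.mp (pow_eq_zero_iff (Nat.pos_iff_ne_zero.mp hn0) |>.mp h2)).symm hne
    · exact h2
  set e := aeval x (v * q) with he
  have hidem : IsIdempotentElem e := by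
    have h1 : e * (1 - e) = 0 := by
      have h2 : (1 : R) - e = aeval x (u * (X - C α) ^ n) := by
        have h4 := congrArg (aeval x) huv
        rw [map_add, map_one] at h4
        rw [he, ← h4, add_sub_cancel_right]
      rw [h2, he, ← map_mul]
      have h3 : v * q * (u * (X - C α) ^ n) = u * v * p := by rw [hpq]; ring
      rw [h3, map_mul, hpx, mul_zero]
    rw [IsIdempotentElem]
    rw [mul_sub, mul_one, sub_eq_zero] at h1
    exact h1.symm
  have hσe : σ e = 1 := by
    rw [he, hev, ← hα]
    have h1 := congrArg (eval α) huv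
    rw [eval_add, eval_mul, eval_pow, eval_sub, eval_X, eval_C, sub_self,
      zero_pow (Nat.pos_iff_ne_zero.mp hn0), mul_zero, zero_add, eval_one] at h1
    exact h1
  have hτe : τ e = 0 := by
    rw [he, hev, ← hβ, eval_mul, hqβ, mul_zero]
  have hcl : IsClopen ((PrimeSpectrum.basicOpen e : TopologicalSpace.Opens (PrimeSpectrum R)) :
      Set (PrimeSpectrum R)) := PrimeSpectrum.isClopen_iff.mpr ⟨e, hidem, rfl⟩
  let Pσ : PrimeSpectrum R := ⟨RingHom.ker (σ : R →+* K), RingHom.ker_isPrime _⟩
  let Pτ : PrimeSpectrum R := ⟨RingHom.ker (τ : R →+* K), RingHom.ker_isPrime _⟩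
  have h1 : Pσ ∈ PrimeSpectrum.basicOpen e := by
    show e ∉ RingHom.ker (σ : R →+* K)
    rw [RingHom.mem_ker]
    show ¬ σ e = 0
    rw [hσe]
    exact one_ne_zero
  have h2 : Pτ ∉ PrimeSpectrum.basicOpen e := by
    show ¬ e ∉ RingHom.ker (τ : R →+* K)
    rw [not_not, RingHom.mem_ker]
    exact hτe
  rcases isClopen_iff.mp hcl with h | h
  · rw [Set.eq_empty_iff_forall_notMem] at h
    exact h Pσ h1
  · have h3 : Pτ ∈ ((PrimeSpectrum.basicOpen e : TopologicalSpace.Opens (PrimeSpectrum R)) :
        Set (PrimeSpectrum R)) := by
      rw [h]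
      exact Set.mem_univ Pτ
    exact h2 h3

end ring

/-- base change of the first factor of a composite -/
theorem isPullback_map_of_comp {Y W Z T : Scheme.{u}} (q' : Y ⟶ W) (c : W ⟶ Z) (h : Y ⟶ Z)
    (hq : q' ≫ c = h) (z : T ⟶ Z) :
    IsPullback (pullback.fst h z)
      (pullback.map h z c z q' (𝟙 T) (𝟙 Z) (by rw [Category.comp_id, hq]) (by simp))
      q' (pullback.fst c z) := by
  refine IsPullback.of_bot ?_ ?_ (IsPullback.of_hasPullback c z)
  · have h1 : pullback.map h z c z q' (𝟙 T) (𝟙 Z) (by rw [Category.comp_id, hq]) (by simp) ≫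
        pullback.snd c z = pullback.snd h z := by
      exact (pullback.lift_snd _ _ _).trans (Category.comp_id _)
    rw [h1, hq]
    exact IsPullback.of_hasPullback h z
  · exact (pullback.lift_fst _ _ _).symm

/-- an integral morphism through which a surjection from a scheme with geometrically connected fibres factors is
universally injective -/
theorem universallyInjective_of_geometricallyConnected {Y W Z : Scheme.{u}} (q' : Y ⟶ W) (c : W ⟶ Z)
    (h : Y ⟶ Z) (hq : q' ≫ c = h) [IsIntegralHom c] [Surjective q'] [GeometricallyConnected h] :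
    UniversallyInjective c := by
  refine ((tfae_universallyInjective c).out 0 1).mpr ?_
  intro K _ a b hab
  dsimp only at hab
  set z := a ≫ c with hz
  -- the fibre of `c` over the point
  set π₁ := pullback.fst c z with hπ₁
  set π₂ := pullback.snd c z with hπ₂
  haveI : IsAffine (pullback c z) := isAffine_of_isAffineHom π₂
  let σa : Spec (CommRingCat.of K) ⟶ pullback c z := pullback.lift a (𝟙 _) (by simp [hz])
  let σb : Spec (CommRingCat.of K) ⟶ pullback c z := pullback.lift b (𝟙 _) (by rw [Category.id_comp]; exact hab.symm)
  suffices hσ : σa = σb by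
    have h1 : σa ≫ π₁ = a := pullback.lift_fst _ _ _
    have h2 : σb ≫ π₁ = b := pullback.lift_fst _ _ _
    rw [← h1, ← h2, hσ]
  -- the ring of functions of the fibre
  letI algR : Algebra K Γ(pullback c z, ⊤) :=
    ((Scheme.ΓSpecIso (CommRingCat.of K)).inv ≫ π₂.appTop).hom.toAlgebra
  have hint : Algebra.IsIntegral K Γ(pullback c z, ⊤) := by
    have h1 : (π₂.app ⊤).hom.IsIntegral := π₂.isIntegral_app ⊤ (isAffineOpen_top _)
    have h2 : (Scheme.ΓSpecIso (CommRingCat.of K)).inv.hom.IsIntegral :=
      RingHom.isIntegral_of_surjective _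
        (Scheme.ΓSpecIso (CommRingCat.of K)).symm.commRingCatIsoToRingEquiv.surjective
    rw [← algebraMap_isIntegral_iff]
    exact RingHom.IsIntegral.trans _ _ h2 h1
  haveI : Algebra.IsAlgebraic K Γ(pullback c z, ⊤) := inferInstance
  -- connectedness
  haveI : PreconnectedSpace (PrimeSpectrum Γ(pullback c z, ⊤)) := by
    haveI : ConnectedSpace ↥(pullback h z : Scheme.{u}) :=
      pullback_of_geometrically
        (GeometricallyConnected.geometrically_connectedSpace (f := h)) K z
    have hsq := isPullback_map_of_comp q' c h hq z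
    have hm : Surjective (pullback.map h z c z q' (𝟙 _) (𝟙 Z)
        (by rw [Category.comp_id, hq]) (by simp)) :=
      MorphismProperty.of_isPullback (P := @Surjective) hsq inferInstance
    haveI : ConnectedSpace ↥(pullback c z : Scheme.{u}) :=
      hm.surj.connectedSpace (Scheme.Hom.continuous _)
    have e := Scheme.homeoOfIso (pullback c z).isoSpec
    haveI : ConnectedSpace (PrimeSpectrum Γ(pullback c z, ⊤)) :=
      e.surjective.connectedSpace e.continuous
    infer_instance
  have hcomp : ∀ σ : Spec (CommRingCat.of K) ⟶ pullback c z, σ ≫ π₂ = 𝟙 _ →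
      ((Scheme.ΓSpecIso (CommRingCat.of K)).inv ≫ π₂.appTop) ≫
        (σ.appTop ≫ (Scheme.ΓSpecIso (CommRingCat.of K)).hom) = 𝟙 _ := by
    intro σ hσ
    rw [Category.assoc, ← Category.assoc π₂.appTop, ← Scheme.Hom.comp_appTop, hσ]
    simp
  let mk : ∀ σ : Spec (CommRingCat.of K) ⟶ pullback c z, σ ≫ π₂ = 𝟙 _ →
      (Γ(pullback c z, ⊤) →ₐ[K] K) := fun σ hσ =>
    { toRingHom := (σ.appTop ≫ (Scheme.ΓSpecIso (CommRingCat.of K)).hom).hom
      commutes' := fun k => congr($(hcomp σ hσ).hom k) }
  have ha : σa ≫ π₂ = 𝟙 _ := pullback.lift_snd _ _ _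
  have hb : σb ≫ π₂ = 𝟙 _ := pullback.lift_snd _ _ _
  have hsab := algHom_eq_of_preconnected (mk σa ha) (mk σb hb)
  apply ext_of_isAffine
  rw [← cancel_mono (Scheme.ΓSpecIso (CommRingCat.of K)).hom]
  ext r
  exact congr($hsab r)

/-- the Stein factorization commutes with base change up to a universal homeomorphism -/
theorem isUnivHomeo_normalizationPullback {X S T : Scheme.{u}} (f : X ⟶ S) [IsProper f]
    (g : T ⟶ S) : FlatMor.IsUnivHomeo (f.normalizationPullback g) := by
  haveI : GeometricallyConnected f.toNormalization :=
    Groth.Agent.Lib.helper9.SteinGen.geometricallyConnected_toNormalization f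
  haveI : GeometricallyConnected (pullback.snd f g).toNormalization :=
    Groth.Agent.Lib.helper9.SteinGen.geometricallyConnected_toNormalization (pullback.snd f g)
  set h : pullback f g ⟶ pullback f.fromNormalization g :=
    pullback.map _ _ _ _ f.toNormalization (𝟙 _) (𝟙 _) (by simp) (by simp) with hh
  have hth : (pullback.snd f g).toNormalization ≫ f.normalizationPullback g = h :=
    Scheme.Hom.toNormalization_normalizationDesc ..
  have hsq : IsPullback (pullback.fst f g) h f.toNormalization
      (pullback.fst f.fromNormalization g) :=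
    isPullback_map_of_comp f.toNormalization f.fromNormalization f
      f.toNormalization_fromNormalization g
  haveI : GeometricallyConnected h :=
    MorphismProperty.of_isPullback (P := @GeometricallyConnected) hsq inferInstance
  haveI : UniversallyInjective (f.normalizationPullback g) :=
    universallyInjective_of_geometricallyConnected (pullback.snd f g).toNormalization
      (f.normalizationPullback g) h hth
  haveI : Surjective (f.normalizationPullback g) := by
    haveI : Surjective ((pullback.snd f g).toNormalization ≫ f.normalizationPullback g) := by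
      rw [hth]; infer_instance
    exact Surjective.of_comp (pullback.snd f g).toNormalization (f.normalizationPullback g)
  exact Groth.Agent.Lib.helper2.SpecResidue.isUnivHomeo_of_integral (f.normalizationPullback g)

end Groth.Agent.Lib.Helper18.SteinUH
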