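import Groth.Prelude.Def_W4stkadequateTF

/-! Helper lemmas on the tangent functor `AdeqTF.tangentMap`. -/

set_option autoImplicit false

namespace Groth.Agent.Lib.helper18

universe u

open CategoryTheory AdeqTF

variable {A : Type u} [CommRing A] (B : Adeq.Alg A)

theorem tmap_comp {N N' N'' : ModuleCat.{u} B} (f : N ⟶ N') (g : N' ⟶ N'') :
    AdeqTF.map B (f ≫ g) = AdeqTF.map B f ≫ AdeqTF.map B g := by
  apply CommAlgCat.hom_ext
  refine AlgHom.ext fun x => ?_
  change TrivSqZeroExt.map (g.hom ∘ₗ f.hom) x = TrivSqZeroExt.map g.hom (TrivSqZeroExt.map f.hom x)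
  exact AlgHom.congr_fun (TrivSqZeroExt.map_comp_map f.hom g.hom) x

theorem tmap_id (N : ModuleCat.{u} B) : AdeqTF.map B (𝟙 N) = 𝟙 _ := by
  apply CommAlgCat.hom_ext
  refine AlgHom.ext fun x => ?_
  change TrivSqZeroExt.map (LinearMap.id) x = x
  rw [TrivSqZeroExt.map_id]
  rfl

theorem tmap_zero (N N' : ModuleCat.{u} B) :
    AdeqTF.map B (0 : N ⟶ N') = AdeqTF.fst B N ≫ AdeqTF.inl B N' := by
  apply CommAlgCat.hom_ext
  refine AlgHom.ext fun x => ?_
  change TrivSqZeroExt.map (0 : N →ₗ[B] N') x = algebraMap B (TrivSqZeroExt B N') (TrivSqZeroExt.fst x)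
  rw [TrivSqZeroExt.algebraMap_eq_inl]
  ext
  · rw [TrivSqZeroExt.fst_map, TrivSqZeroExt.fst_inl]
  · rw [TrivSqZeroExt.snd_map, TrivSqZeroExt.snd_inl]; rfl

theorem inl_fst (N : ModuleCat.{u} B) : AdeqTF.inl B N ≫ AdeqTF.fst B N = 𝟙 B := by
  apply CommAlgCat.hom_ext
  refine AlgHom.ext fun x => ?_
  change TrivSqZeroExt.fst (algebraMap B (TrivSqZeroExt B N) x) = x
  rw [TrivSqZeroExt.algebraMap_eq_inl, TrivSqZeroExt.fst_inl]

variable (F : Adeq.MVF A)

theorem tangentMap_coe {N N' : ModuleCat.{u} B} (g : N ⟶ N') (x : tangent B N F) :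
    ((tangentMap B F g x : tangent B N' F) : F.obj (Adeq.pt (ext B N'))) =
      F.map (Adeq.ptHom (AdeqTF.map B g)) x.1 := rfl

theorem tangentMap_comp_apply {N N' N'' : ModuleCat.{u} B} (f : N ⟶ N') (g : N' ⟶ N'')
    (x : tangent B N F) :
    tangentMap B F (f ≫ g) x = tangentMap B F g (tangentMap B F f x) := by
  apply Subtype.ext
  rw [tangentMap_coe, tangentMap_coe, tangentMap_coe]
  have e : Adeq.ptHom (AdeqTF.map B (f ≫ g)) =
      Adeq.ptHom (AdeqTF.map B f) ≫ Adeq.ptHom (AdeqTF.map B g) := by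
    rw [tmap_comp]; rfl
  rw [F.congr_map_apply e, F.map_comp_apply]

theorem tangentMap_id_apply (N : ModuleCat.{u} B) (x : tangent B N F) :
    tangentMap B F (𝟙 N) x = x := by
  apply Subtype.ext
  rw [tangentMap_coe]
  have e : Adeq.ptHom (AdeqTF.map B (𝟙 N)) = 𝟙 _ := by
    rw [tmap_id]; rfl
  rw [F.congr_map_apply e, F.map_id]
  rfl

theorem tangentMap_zero_apply (N N' : ModuleCat.{u} B) (x : tangent B N F) :
    tangentMap B F (0 : N ⟶ N') x = 0 := by
  apply Subtype.ext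
  rw [tangentMap_coe]
  have e : Adeq.ptHom (AdeqTF.map B (0 : N ⟶ N')) =
      Adeq.ptHom (AdeqTF.fst B N) ≫ Adeq.ptHom (AdeqTF.inl B N') := by
    rw [tmap_zero]; rfl
  rw [F.congr_map_apply e, F.map_comp_apply]
  have hx : F.map (Adeq.ptHom (fst B N)) x.1 = 0 := x.2
  rw [hx]
  exact (F.map (Adeq.ptHom (inl B N'))).hom.map_zero

end Groth.Agent.Lib.helper18
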