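import Groth.Agent.Lib.Helper18.Tangent
import Groth.Agent.Lib.Helper18.MVFExact

/-! Exactness of the tangent functor in the module-valued functor. -/

set_option autoImplicit false

namespace Groth.Agent.Lib.helper18

universe u

open CategoryTheory AdeqTF

variable {A : Type u} [CommRing A] (B : Adeq.Alg A)

/-- The map on tangent modules induced by a morphism of module-valued functors. -/
noncomputable def tanNat {F G : Adeq.MVF A} (φ : F ⟶ G) (N : ModuleCat.{u} B) :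
    tangent B N F →+ tangent B N G :=
  ((φ.app (Adeq.pt (ext B N))).hom.toAddMonoidHom.comp (tangent B N F).subtype).codRestrict
    (tangent B N G)
    (fun x => by
      have hx0 : F.map (Adeq.ptHom (fst B N)) x.1 = 0 := x.2
      change G.map (Adeq.ptHom (fst B N)) (φ.app _ x.1) = 0
      rw [← PresheafOfModules.naturality_apply, hx0]
      exact (φ.app _).hom.map_zero)

theorem tanNat_coe {F G : Adeq.MVF A} (φ : F ⟶ G) (N : ModuleCat.{u} B) (x : tangent B N F) :
    ((tanNat B φ N x : tangent B N G) : G.obj (Adeq.pt (ext B N))) =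
      φ.app (Adeq.pt (ext B N)) x.1 := rfl

theorem tanNat_tangentMap {F G : Adeq.MVF A} (φ : F ⟶ G) {N N' : ModuleCat.{u} B} (g : N ⟶ N')
    (x : tangent B N F) :
    tanNat B φ N' (tangentMap B F g x) = tangentMap B G g (tanNat B φ N x) := by
  apply Subtype.ext
  rw [tanNat_coe, tangentMap_coe, tangentMap_coe, tanNat_coe]
  exact PresheafOfModules.naturality_apply φ _ _

theorem tanNat_comp_zero (C : ShortComplex (Adeq.MVF A)) (N : ModuleCat.{u} B)
    (x : tangent B N C.X₁) : tanNat B C.g N (tanNat B C.f N x) = 0 := by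
  apply Subtype.ext
  rw [tanNat_coe, tanNat_coe]
  have : C.f ≫ C.g = 0 := C.zero
  have h2 := congrArg (fun φ => PresheafOfModules.Hom.app φ (Adeq.pt (ext B N))) this
  have h3 := ConcreteCategory.congr_hom h2 x.1
  exact h3

theorem tanNat_injective (C : ShortComplex (Adeq.MVF A)) (hC : C.ShortExact)
    (N : ModuleCat.{u} B) : Function.Injective (tanNat B C.f N) := by
  intro x y h
  apply Subtype.ext
  have h1 := congrArg Subtype.val h
  rw [tanNat_coe, tanNat_coe] at h1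
  exact (pom_shortExact_app C hC _).1 h1

theorem tanNat_exact (C : ShortComplex (Adeq.MVF A)) (hC : C.ShortExact)
    (N : ModuleCat.{u} B) (y : tangent B N C.X₂) (hy : tanNat B C.g N y = 0) :
    ∃ x, tanNat B C.f N x = y := by
  have h1 := congrArg Subtype.val hy
  rw [tanNat_coe] at h1
  obtain ⟨x, hx⟩ := (pom_shortExact_app C hC _).2.2 y.1 h1
  have hy0 : C.X₂.map (Adeq.ptHom (fst B N)) y.1 = 0 := y.2
  have hx0 : C.X₁.map (Adeq.ptHom (fst B N)) x = 0 := by
    have key : C.f.app (Adeq.pt B) (C.X₁.map (Adeq.ptHom (fst B N)) x : C.X₁.obj (Adeq.pt B)) =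
        C.f.app (Adeq.pt B) (0 : C.X₁.obj (Adeq.pt B)) := by
      rw [PresheafOfModules.naturality_apply, hx, hy0]
      exact ((C.f.app _).hom.map_zero).symm
    exact (pom_shortExact_app C hC _).1 key
  exact ⟨⟨x, hx0⟩, Subtype.ext hx⟩

/-- The additive transition map of a module-valued functor, with honest source and target. -/
noncomputable def mapAdd (F : Adeq.MVF A) {X Y : (Adeq.Alg A)ᵒᵖᵒᵖ} (f : X ⟶ Y) : F.obj X →+ F.obj Y :=
  (F.presheaf.map f).hom

theorem mapAdd_apply (F : Adeq.MVF A) {X Y : (Adeq.Alg A)ᵒᵖᵒᵖ} (f : X ⟶ Y) (x : F.obj X) :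
    mapAdd F f x = F.map f x := rfl

theorem mapAdd_comp_apply (F : Adeq.MVF A) {X Y Z : (Adeq.Alg A)ᵒᵖᵒᵖ} (f : X ⟶ Y) (g : Y ⟶ Z)
    (x : F.obj X) : mapAdd F (f ≫ g) x = mapAdd F g (mapAdd F f x) := by
  unfold mapAdd
  rw [F.presheaf.map_comp]
  rfl

theorem mapAdd_id_apply (F : Adeq.MVF A) (X : (Adeq.Alg A)ᵒᵖᵒᵖ) (x : F.obj X) :
    mapAdd F (𝟙 X) x = x := by
  unfold mapAdd
  rw [F.presheaf.map_id]
  rfl

theorem mapAdd_naturality {F G : Adeq.MVF A} (φ : F ⟶ G) {X Y : (Adeq.Alg A)ᵒᵖᵒᵖ} (f : X ⟶ Y)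
    (x : F.obj X) : φ.app Y (mapAdd F f x) = mapAdd G f (φ.app X x) :=
  PresheafOfModules.naturality_apply φ f x

theorem tanNat_surjective (C : ShortComplex (Adeq.MVF A)) (hC : C.ShortExact)
    (N : ModuleCat.{u} B) : Function.Surjective (tanNat B C.g N) := by
  intro z
  obtain ⟨y, hy⟩ := (pom_shortExact_app C hC _).2.1 z.1
  have hz0 : mapAdd C.X₃ (Adeq.ptHom (fst B N)) z.1 = 0 := z.2
  have e : Adeq.ptHom (inl B N) ≫ Adeq.ptHom (fst B N) = 𝟙 _ := by
    change Adeq.ptHom (inl B N ≫ fst B N) = 𝟙 _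
    rw [inl_fst B N]; rfl
  let w : C.X₂.obj (Adeq.pt (ext B N)) :=
    mapAdd C.X₂ (Adeq.ptHom (inl B N)) (mapAdd C.X₂ (Adeq.ptHom (fst B N)) y)
  let y' : C.X₂.obj (Adeq.pt (ext B N)) := y - w
  have hy'0 : mapAdd C.X₂ (Adeq.ptHom (fst B N)) y' = 0 := by
    change mapAdd C.X₂ (Adeq.ptHom (fst B N)) (y - w) = 0
    rw [map_sub, sub_eq_zero]
    change _ = mapAdd C.X₂ (Adeq.ptHom (fst B N))
      (mapAdd C.X₂ (Adeq.ptHom (inl B N)) (mapAdd C.X₂ (Adeq.ptHom (fst B N)) y))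
    rw [← mapAdd_comp_apply C.X₂ (Adeq.ptHom (inl B N)), e, mapAdd_id_apply]
  refine ⟨⟨y', hy'0⟩, ?_⟩
  apply Subtype.ext
  rw [tanNat_coe]
  have h2 : C.g.app _ y' = C.g.app _ y - C.g.app _ w := (C.g.app _).hom.map_sub y w
  have h3 : C.g.app (Adeq.pt (ext B N)) w = 0 := by
    change C.g.app _ (mapAdd C.X₂ (Adeq.ptHom (inl B N)) (mapAdd C.X₂ (Adeq.ptHom (fst B N)) y)) = 0
    rw [mapAdd_naturality, mapAdd_naturality, hy, hz0, map_zero]
  change C.g.app _ y' = z.1
  rw [h2, h3, sub_zero, hy]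

end Groth.Agent.Lib.helper18
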