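import Mathlib
import Groth.Agent.Lib.Helper25.PullTensorIso
import Groth.Agent.Lib.Helper18.InvGen

set_option autoImplicit false
universe u
open CategoryTheory CategoryTheory.Limits AlgebraicGeometry TopologicalSpace Opposite TensorProduct

namespace Groth.Agent.Lib.Helper18.TensorGen

open Groth.Agent.Lib.Helper18.InvGen Groth.Agent.Lib.Helper25.PullTensorIso
  Groth.Agent.Lib.Helper25.StalkPre

variable {X : Scheme.{u}}

/-- the tensor product of two stalkwise generators is a stalkwise generator -/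
theorem isGen_tmul {L₁ L₂ : X.Modules} {W : X.Opens} {ℓ₁ : Γ(L₁, W)} {ℓ₂ : Γ(L₂, W)}
    (h₁ : IsGen L₁ W ℓ₁) (h₂ : IsGen L₂ W ℓ₂) :
    IsGen (CohB1.tensorMod L₁ L₂) W (SecTwist.tmul L₁ L₂ W ℓ₁ ℓ₂) := by
  intro x hx
  let e₁ : L₁.presheaf.stalk x := L₁.presheaf.germ W x hx ℓ₁
  let e₂ : L₂.presheaf.stalk x := L₂.presheaf.germ W x hx ℓ₂
  let ψ₁ : X.presheaf.stalk x ≃ₗ[X.presheaf.stalk x] L₁.presheaf.stalk x :=
    LinearEquiv.ofBijective (LinearMap.toSpanSingleton (X.presheaf.stalk x) _ e₁) (h₁ x hx)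
  let ψ₂ : X.presheaf.stalk x ≃ₗ[X.presheaf.stalk x] L₂.presheaf.stalk x :=
    LinearEquiv.ofBijective (LinearMap.toSpanSingleton (X.presheaf.stalk x) _ e₂) (h₂ x hx)
  let Φ := (tensorBiStalkIso x L₁ L₂).toLinearEquiv
  let Ψ : X.presheaf.stalk x ≃ₗ[X.presheaf.stalk x]
      (L₁.presheaf.stalk x ⊗[X.presheaf.stalk x] L₂.presheaf.stalk x) :=
    (TensorProduct.lid (X.presheaf.stalk x) (X.presheaf.stalk x)).symm ≪≫ₗ TensorProduct.congr ψ₁ ψ₂
  have hΦ : Φ ((CohB1.tensorMod L₁ L₂).presheaf.germ W x hx (SecTwist.tmul L₁ L₂ W ℓ₁ ℓ₂)) =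
      e₁ ⊗ₜ[X.presheaf.stalk x] e₂ := tensorBiStalkIso_hom_germ_tmul x L₁ L₂ W hx ℓ₁ ℓ₂
  have key : ∀ a : X.presheaf.stalk x,
      Φ (a • ((CohB1.tensorMod L₁ L₂).presheaf.germ W x hx (SecTwist.tmul L₁ L₂ W ℓ₁ ℓ₂) :
        (CohB1.tensorMod L₁ L₂).presheaf.stalk x)) = Ψ a := by
    intro a
    refine (Φ.map_smul a _).trans ?_
    have h2 : Ψ a = a • (e₁ ⊗ₜ[X.presheaf.stalk x] e₂) := by
      show TensorProduct.congr ψ₁ ψ₂
        ((TensorProduct.lid (X.presheaf.stalk x) (X.presheaf.stalk x)).symm a) = _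
      rw [TensorProduct.lid_symm_apply, TensorProduct.congr_tmul]
      show ((1 : X.presheaf.stalk x) • e₁) ⊗ₜ[X.presheaf.stalk x] (a • e₂) = _
      rw [one_smul, TensorProduct.tmul_smul]
    rw [h2]
    exact congrArg (fun t => a • t) hΦ
  have hfun : (fun a : X.presheaf.stalk x =>
      a • ((CohB1.tensorMod L₁ L₂).presheaf.germ W x hx (SecTwist.tmul L₁ L₂ W ℓ₁ ℓ₂) :
        (CohB1.tensorMod L₁ L₂).presheaf.stalk x)) = Φ.symm ∘ Ψ := by
    funext a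
    rw [Function.comp_apply, ← key a, LinearEquiv.symm_apply_apply]
  rw [hfun]
  exact Φ.symm.bijective.comp Ψ.bijective

end Groth.Agent.Lib.Helper18.TensorGen
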