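import Mathlib
import Groth.Agent.Lib.Helper18.TwoSec
import Groth.Agent.Lib.Helper18.P1Iso
import Groth.Agent.Lib.Helper18.H0One
import Groth.Agent.Lib.Helper12.AmpleCoprod

set_option autoImplicit false
set_option linter.style.haveILetI false
universe u
open CategoryTheory CategoryTheory.Limits AlgebraicGeometry Opposite TopologicalSpace Module
open Scheme.Modules

namespace Groth.Agent.Lib.Helper18.TwoSec

open Groth.Agent.Lib.Helper18 Groth.Agent.Lib.helper11.IsoLocus Groth.Agent.Lib.helper11.InvMod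
open Groth.Agent.Lib.Lead.CurveInv Groth.Agent.Lib.Lead.CurveEuler
open Groth.Agent.Lib.helper11.GenLocus

variable (k : Type u) [Field k] (X : Scheme.{u}) [X.Over (Spec (CommRingCat.of k))]
  [IsProper (X ↘ Spec (CommRingCat.of k))] [IsIntegral X]

/-- an integral proper curve with an invertible module of degree one with two independent sections
is the projective line -/
theorem exists_iso_of_two_sections (hdim : topologicalKrullDim X = 1) {L : X.Modules}
    (hL : PicF.IsInvertible L) (hdeg : Curv2.deg k X L 1 = 1)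
    (h2 : 2 ≤ finrank k (Coh.HH X L 0)) :
    ∃ e : X ≅ CohB1.ProjSpace 1 k,
      e.hom ≫ CohB1.ProjSpace.toSpec 1 k = X ↘ Spec (CommRingCat.of k) := by
  haveI := Groth.Agent.Lib.Lead.CurveEuler.isNoetherian k X
  have hOinv := isInvertible_structureModule X
  have hOc := isCoh_of_isInvertible X hOinv
  have hLc := isCoh_of_isInvertible X hL
  haveI : Module.Finite k (Coh.HH X L 0) := Groth.Agent.Lib.Lead.ProperEuler.finite_HH k X _ hLc 0
  -- `h⁰(O) = 1`
  obtain ⟨s, hs⟩ := Groth.Agent.Lib.Lead.CurveSec.exists_hom_ne_zero_of_finrank_pos k X L (by omega)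
  have hQ := deg_sub_deg k X hdim.le hOinv hL s hs
  rw [deg_structureModule, hdeg, sub_zero] at hQ
  have h0 : finrank k (Coh.HH X (Coh.structureModule X) 0) = 1 :=
    Groth.Agent.Lib.Helper18.H0One.finrank_H0_eq_one_of_finrank_HH_eq_one k X (cokernel s) 0
      (by exact_mod_cast hQ.symm)
  -- two independent sections
  letI := HH.sectionsModuleOver k L
  have hfr : 1 < finrank k (L.val.obj (op ⊤)) := by
    rw [← (HH.equiv₀Over k L).finrank_eq]; omega
  haveI : Module.Finite k (L.val.obj (op ⊤)) := Module.Finite.equiv (HH.equiv₀Over k L)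
  haveI : Nontrivial (L.val.obj (op ⊤)) := Module.nontrivial_of_finrank_pos (R := k) (by omega)
  obtain ⟨a, ha⟩ := exists_ne (0 : L.val.obj (op ⊤))
  obtain ⟨b, hab⟩ := exists_linearIndependent_pair_of_one_lt_finrank hfr ha
  let σ : Fin (1 + 1) → (Coh.structureModule X ⟶ L) := fun i =>
    Groth.Agent.Lib.helper12.AmpleBasis.homOfSec L (![a, b] i)
  have hsec : ∀ i, sec (σ i) ⊤ = ![a, b] i := fun i =>
    (Groth.Agent.Lib.helper12.AmpleBasis.val_homOfSec L (![a, b] i) ⊤).trans
      (Groth.Agent.Lib.helper12.AmpleCoprod.res_self L le_top (![a, b] i))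
  have hσ0 : σ 0 ≠ 0 := by
    intro h
    apply ha
    have h1 := hsec 0
    rw [h] at h1
    exact h1.symm
  -- `Γ(X, O)` is spanned by `1` over `k`
  have hΓ : ∀ r : Γ(X, ⊤), ∃ c : k, Coh.toGlobal (X ↘ Spec (CommRingCat.of k)) c = r := by
    letI := HH.sectionsModuleOver k (Coh.structureModule X)
    have hfr1 : finrank k ((Coh.structureModule X).val.obj (op ⊤)) = 1 :=
      (HH.equiv₀Over k (Coh.structureModule X)).finrank_eq.symm.trans h0
    haveI : Nonempty (⊤ : X.Opens) := ⟨⟨Classical.arbitrary X, trivial⟩⟩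
    haveI : IsDomain Γ(X, ⊤) := inferInstance
    let one : (Coh.structureModule X).val.obj (op ⊤) := (1 : Γ(X, ⊤))
    have h1ne : one ≠ 0 := fun h => one_ne_zero (α := Γ(X, ⊤)) h
    intro r
    let r' : (Coh.structureModule X).val.obj (op ⊤) := r
    obtain ⟨c, hc⟩ := (finrank_eq_one_iff_of_nonzero' one h1ne).mp hfr1 r'
    refine ⟨c, ?_⟩
    have h3 : c • one =
        (show Γ(X, ⊤) from Coh.toGlobal (X ↘ Spec (CommRingCat.of k)) c) * (1 : Γ(X, ⊤)) := rfl
    rw [h3, mul_one] at hc
    exact hc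
  have hcov : ⨆ i, Groth.Agent.Lib.helper12.ProjUP3.gU σ i = ⊤ := by
    rw [eq_top_iff]
    intro x _
    by_contra hx
    have hx0 : x ∉ isoLocus (σ 0) := fun h => hx (Opens.mem_iSup.mpr ⟨0, h⟩)
    have hx1 : x ∉ isoLocus (σ 1) := fun h => hx (Opens.mem_iSup.mpr ⟨1, h⟩)
    have hxcl : IsClosed ({x} : Set X) :=
      isClosed_singleton_of_not_mem hdim.le (isoLocus (σ 0))
        (isoLocus_nonempty X hOinv hL (σ 0) hσ0) x hx0
    obtain ⟨u, hu⟩ := exists_endo_of_not_mem_isoLocus k X hdim.le hL hdeg.le (σ 0) (σ 1) hσ0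
      hxcl hx0 hx1
    obtain ⟨c, hc⟩ := hΓ (fn u ⊤)
    have hb : b = c • a := by
      have h1 := hsec 1
      rw [hu, Groth.Agent.Lib.helper11.InvHom.sec_comp] at h1
      have h2 := app_apply (σ 0) ⊤ (fn u ⊤)
      rw [hsec 0] at h2
      have h3 : (![a, b] (1 : Fin (1 + 1))) = b := rfl
      have h4 : (![a, b] (0 : Fin (1 + 1))) = a := rfl
      rw [h3] at h1
      rw [h4] at h2
      rw [← h1]
      refine h2.trans ?_
      rw [← hc]
      rfl
    have hli := (LinearIndependent.pair_iff.mp hab) c (-1) (by rw [hb]; simp)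
    exact absurd hli.2 (by norm_num)
  exact Groth.Agent.Lib.Helper18.P1Iso.exists_iso_projSpace_one k X hdim L hdeg σ hcov

end Groth.Agent.Lib.Helper18.TwoSec
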