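import Mathlib
import Groth.Agent.Lib.Lead.DimOneAffine
import Groth.Agent.Lib.Helper18.AbsCurveDiv
import Groth.Agent.Lib.Helper18.SemiLocalGen

/-!
# Lifting units along a closed immersion into a one-dimensional Noetherian space, off finitely many closed points
(helper18; for Stacks 09NY)
-/

set_option autoImplicit false
universe u
open CategoryTheory CategoryTheory.Limits AlgebraicGeometry TopologicalSpace Opposite

namespace Groth.Agent.Lib.Helper18.UnitLift

open Groth.Agent.Lib.Lead.DimOneAffine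

/-- moving an element inside its coset mod `I` off finitely many pairwise incomparable primes -/
theorem exists_sub_mem_notMem {R : Type*} [CommRing R] (I : Ideal R) (T : Finset (Ideal R))
    (hprime : ∀ p ∈ T, p.IsPrime) (hinc : ∀ p ∈ T, ∀ q ∈ T, q ≤ p → q = p) (h₀ : R)
    (h0 : ∀ p ∈ T, I ≤ p → h₀ ∉ p) : ∃ h : R, h - h₀ ∈ I ∧ ∀ p ∈ T, h ∉ p := by
  classical
  have hd : ∀ p : Ideal R, ∃ d : R, p ∈ T → (d ∉ p ∧ ∀ q ∈ T, q ≠ p → d ∈ q) := by
    intro p
    by_cases hp : p ∈ T
    · obtain ⟨d, h1, h2⟩ := Groth.Agent.Lib.Helper18.SemiLocalGen.exists_notMem_mem T hprime hinc p hp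
      exact ⟨d, fun _ => ⟨h1, h2⟩⟩
    · exact ⟨0, fun h => absurd h hp⟩
  choose d hd using hd
  have hc : ∀ p : Ideal R, ∃ c : R, c ∈ I ∧ (¬ I ≤ p → c ∉ p) := by
    intro p
    by_cases hp : I ≤ p
    · exact ⟨0, I.zero_mem, fun h => absurd hp h⟩
    · obtain ⟨c, hcI, hcp⟩ := SetLike.not_le_iff_exists.mp hp
      exact ⟨c, hcI, fun _ => hcp⟩
  choose c hcI hcp using hc
  let ε : Ideal R → R := fun p => if h₀ ∈ p then c p * d p else 0
  have hεI : ∀ p, ε p ∈ I := by
    intro p
    simp only [ε]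
    split_ifs
    · exact I.mul_mem_right _ (hcI p)
    · exact I.zero_mem
  have hεq : ∀ p ∈ T, ∀ q ∈ T, q ≠ p → ε q ∈ p := by
    intro p hp q hq hqp
    simp only [ε]
    split_ifs
    · exact p.mul_mem_left _ ((hd q hq).2 p hp (Ne.symm hqp))
    · exact p.zero_mem
  refine ⟨h₀ + ∑ p ∈ T, ε p, ?_, ?_⟩
  · rw [add_sub_cancel_left]
    exact I.sum_mem (fun p _ => hεI p)
  · intro p hp hmem
    haveI := hprime p hp
    rw [← Finset.add_sum_erase T ε hp] at hmem
    have hrest : ∑ q ∈ T.erase p, ε q ∈ p :=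
      p.sum_mem (fun q hq => hεq p hp q (Finset.mem_of_mem_erase hq) (Finset.ne_of_mem_erase hq))
    by_cases h₀p : h₀ ∈ p
    · have hnI : ¬ I ≤ p := fun hle => h0 p hp hle h₀p
      have hεp : ε p ∉ p := by
        simp only [ε, if_pos h₀p]
        intro hmul
        rcases (hprime p hp).mem_or_mem hmul with h1 | h1
        · exact hcp p hnI h1
        · exact (hd p hp).1 h1
      apply hεp
      have : ε p = (h₀ + (ε p + ∑ q ∈ T.erase p, ε q)) - h₀ - ∑ q ∈ T.erase p, ε q := by ring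
      rw [this]
      exact p.sub_mem (p.sub_mem hmem h₀p) hrest
    · have hεp : ε p = 0 := by simp only [ε, if_neg h₀p]
      apply h₀p
      have : h₀ = (h₀ + (ε p + ∑ q ∈ T.erase p, ε q)) - ∑ q ∈ T.erase p, ε q := by
        rw [hεp]; ring
      rw [this]
      exact p.sub_mem hmem hrest

/-- in a space of dimension `≤ 1`, a point with a proper generization is closed -/
theorem isClosed_singleton_of_specializes_ne {X : Scheme.{u}} (hdim : topologicalKrullDim X ≤ 1) {η c : X}
    (h : η ⤳ c) (hne : η ≠ c) : IsClosed ({c} : Set X) := by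
  by_contra hcl
  have : ∃ y ∈ closure ({c} : Set X), y ≠ c := by
    by_contra h'
    push Not at h'
    apply hcl
    have : closure ({c} : Set X) = {c} := by
      apply Set.Subset.antisymm
      · intro y hy; exact h' y hy
      · exact subset_closure
    rw [← this]; exact isClosed_closure
  obtain ⟨y, hy, hyc⟩ := this
  let a : IrreducibleCloseds X := ⟨closure {y}, isIrreducible_singleton.closure, isClosed_closure⟩
  let b : IrreducibleCloseds X := ⟨closure {c}, isIrreducible_singleton.closure, isClosed_closure⟩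
  let c' : IrreducibleCloseds X := ⟨closure {η}, isIrreducible_singleton.closure, isClosed_closure⟩
  have hab : a < b := by
    refine lt_of_le_of_ne ?_ ?_
    · change closure ({y} : Set X) ⊆ closure {c}
      exact isClosed_closure.closure_subset_iff.mpr (Set.singleton_subset_iff.mpr hy)
    · intro h'
      have h1 : closure ({y} : Set X) = closure {c} := congrArg (fun s : IrreducibleCloseds X => (s : Set X)) h'
      exact hyc ((specializes_iff_closure_subset.mpr h1.ge).antisymm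
        (specializes_iff_closure_subset.mpr h1.le)).eq
  have hbc : b < c' := by
    refine lt_of_le_of_ne ?_ ?_
    · change closure ({c} : Set X) ⊆ closure {η}
      exact specializes_iff_closure_subset.mp h
    · intro h'
      have h1 : closure ({c} : Set X) = closure {η} := congrArg (fun s : IrreducibleCloseds X => (s : Set X)) h'
      exact hne ((specializes_iff_closure_subset.mpr h1.le).antisymm
        (specializes_iff_closure_subset.mpr h1.ge)).eq
  let s : LTSeries (IrreducibleCloseds X) :=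
    { length := 2
      toFun := ![a, b, c']
      step := by
        intro i
        fin_cases i
        · exact hab
        · exact hbc }
  have h2 : (2 : WithBot ℕ∞) ≤ topologicalKrullDim X := by
    have := Order.LTSeries.length_le_krullDim s
    exact this
  have : (2 : WithBot ℕ∞) ≤ 1 := h2.trans hdim
  exact absurd this (by decide)

/-- **the generic points of an open of a one-dimensional Noetherian scheme**: an affine open `A ≤ Y` and a finite
set `S ⊆ A` of pairwise incomparable points such that every open `Y' ≤ Y` containing `S` has finite complement in `Y`,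
consisting of closed points of `X`. -/
theorem exists_affine_generic_finite (X : Scheme.{u}) [NoetherianSpace X] (hdim : topologicalKrullDim X ≤ 1)
    (Y : X.Opens) :
    ∃ (A : X.Opens) (S : Finset X), IsAffineOpen A ∧ A ≤ Y ∧ (∀ η ∈ S, η ∈ A) ∧
      (∀ η ∈ S, ∀ η' ∈ S, η ⤳ η' → η = η') ∧
      ∀ Y' : X.Opens, Y' ≤ Y → (∀ η ∈ S, η ∈ Y') →
        ((Y : Set X) \ Y').Finite ∧ ∀ c ∈ (Y : Set X) \ Y', IsClosed ({c} : Set X) := by
  classical
  haveI : NoetherianSpace ↥(Y : Scheme.{u}) := inferInstanceAs (NoetherianSpace ↥(Y : Set X))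
  obtain ⟨A', hA', hgen⟩ := exists_affineOpen_generic (Y : Scheme.{u})
  have hfin : {y : (Y : Scheme.{u}) | IsGen (Y : Scheme.{u}) y}.Finite := by
    refine Set.Finite.of_finite_image (f := fun y => closure ({y} : Set ↥(Y : Scheme.{u})))
      (NoetherianSpace.finite_irreducibleComponents.subset ?_) ?_
    · rintro _ ⟨y, hy, rfl⟩
      exact hy
    · intro y _ y' _ h
      exact ((specializes_iff_closure_subset.mpr (le_of_eq h.symm)).antisymm
        (specializes_iff_closure_subset.mpr (le_of_eq h))).eq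
  let S : Finset X := hfin.toFinset.image (fun y => Y.ι y)
  have hS : ∀ η ∈ S, ∃ y : (Y : Scheme.{u}), IsGen (Y : Scheme.{u}) y ∧ Y.ι y = η := by
    intro η hη
    obtain ⟨y, hy, rfl⟩ := Finset.mem_image.1 hη
    exact ⟨y, hfin.mem_toFinset.1 hy, rfl⟩
  have hS' : ∀ y : (Y : Scheme.{u}), IsGen (Y : Scheme.{u}) y → Y.ι y ∈ S := fun y hy =>
    Finset.mem_image.2 ⟨y, hfin.mem_toFinset.2 hy, rfl⟩
  refine ⟨Y.ι ''ᵁ A', S, hA'.image_of_isOpenImmersion Y.ι, Y.ι_image_le A', ?_, ?_, ?_⟩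
  · intro η hη
    obtain ⟨y, hy, rfl⟩ := hS η hη
    exact ⟨y, hgen y hy, rfl⟩
  · intro η hη η' hη' hsp
    obtain ⟨y, hy, rfl⟩ := hS η hη
    obtain ⟨y', hy', rfl⟩ := hS η' hη'
    have hsp' : y ⤳ y' := (Y.ι.isOpenEmbedding.isInducing.specializes_iff).1 hsp
    have hsub : closure ({y'} : Set ↥(Y : Scheme.{u})) ⊆ closure {y} := specializes_iff_closure_subset.mp hsp'
    have heq : closure ({y'} : Set ↥(Y : Scheme.{u})) = closure {y} :=
      (hy'.2 hy.1 hsub).antisymm hsub |>.symm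
    have : y = y' := ((specializes_iff_closure_subset.mpr (le_of_eq heq)).antisymm
        (specializes_iff_closure_subset.mpr (le_of_eq heq.symm))).eq
    rw [this]
  · intro Y' hY' hSY'
    have hC'closed : IsClosed {y : (Y : Scheme.{u}) | Y.ι y ∉ Y'} :=
      (Y'.isOpen.preimage Y.ι.continuous).isClosed_compl
    have hpt : ∀ y : (Y : Scheme.{u}), Y.ι y ∉ Y' → IsClosed ({Y.ι y} : Set X) := by
      intro y hy
      have hng : ¬ IsGen (Y : Scheme.{u}) y := fun hg => hy (hSY' _ (hS' y hg))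
      obtain ⟨T, hT, hyT⟩ := exists_mem_irreducibleComponents_subset_of_isIrreducible
        (closure ({y} : Set ↥(Y : Scheme.{u}))) isIrreducible_singleton.closure
      obtain ⟨η, hη⟩ := QuasiSober.sober hT.1 (isClosed_of_mem_irreducibleComponents T hT)
      have hηy : η ⤳ y := specializes_iff_closure_subset.2 (by rw [hη.def]; exact hyT)
      have hne : η ≠ y := by
        rintro rfl
        exact hng (by unfold IsGen; rw [hη.def]; exact hT)
      exact isClosed_singleton_of_specializes_ne hdim (hηy.map Y.ι.continuous)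
        (fun h => hne (Y.ι.isOpenEmbedding.injective h))
    constructor
    · have hfinC : ({y : (Y : Scheme.{u}) | Y.ι y ∉ Y'} ∩ Set.univ).Finite :=
        Groth.Agent.Lib.Helper18.AbsCurveDiv.finite_inter_of_forall_isClosed_singleton _ _ hC'closed isOpen_univ
          (fun y hy => by
            have h1 := (hpt y hy.1).preimage Y.ι.continuous
            have h2 : Y.ι ⁻¹' {Y.ι y} = {y} := by
              ext z
              constructor
              · intro hz
                exact Y.ι.isOpenEmbedding.injective hz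
              · intro hz
                rw [hz]
                rfl
            rw [h2] at h1
            exact h1)
      refine (hfinC.image (fun y => Y.ι y)).subset ?_
      rintro c ⟨hcY, hcY'⟩
      exact ⟨⟨c, hcY⟩, ⟨hcY', trivial⟩, rfl⟩
    · rintro c ⟨hcY, hcY'⟩
      exact hpt ⟨c, hcY⟩ hcY'

theorem mem_basicOpen_iff_notMem {X : Scheme.{u}} {U : X.Opens} (hU : IsAffineOpen U) (a : Γ(X, U)) (x : X)
    (hx : x ∈ U) : x ∈ X.basicOpen a ↔ a ∉ (hU.primeIdealOf ⟨x, hx⟩).asIdeal := by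
  have h1 : hU.fromSpec (hU.primeIdealOf ⟨x, hx⟩) ∈ X.basicOpen a ↔
      hU.primeIdealOf ⟨x, hx⟩ ∈ hU.fromSpec ⁻¹ᵁ X.basicOpen a := Iff.rfl
  rw [hU.fromSpec_preimage_basicOpen, hU.fromSpec_primeIdealOf ⟨x, hx⟩] at h1
  exact h1

/-- **unit lifting**: `i : Z ⟶ X` a closed immersion, `X` a Noetherian space of dimension `≤ 1`.  A unit of `O_Z` over
`i⁻¹ Y` lifts to a unit of `O_X` over an open `Y' ≤ Y` whose complement in `Y` is a finite set of closed points. -/
theorem exists_unit_lift {Z X : Scheme.{u}} (i : Z ⟶ X) [IsClosedImmersion i] [NoetherianSpace X]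
    (hdim : topologicalKrullDim X ≤ 1) (Y : X.Opens) (g : (Γ(Z, i ⁻¹ᵁ Y))ˣ) :
    ∃ (Y' : X.Opens) (hY' : Y' ≤ Y) (h : (Γ(X, Y'))ˣ),
      (i.app Y').hom (h : Γ(X, Y')) =
          Z.presheaf.map (homOfLE (i.preimage_mono hY')).op (g : Γ(Z, i ⁻¹ᵁ Y)) ∧
        ((Y : Set X) \ Y').Finite ∧ ∀ c ∈ (Y : Set X) \ Y', IsClosed ({c} : Set X) := by
  classical
  obtain ⟨A, S, hA, hAY, hSA, hinc, hfin⟩ := exists_affine_generic_finite X hdim Y
  let φ : Γ(X, A) →+* Γ(Z, i ⁻¹ᵁ A) := (i.app A).hom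
  have hφ : Function.Surjective φ := i.app_surjective A hA
  let ρ : Γ(Z, i ⁻¹ᵁ Y) →+* Γ(Z, i ⁻¹ᵁ A) := (Z.presheaf.map (homOfLE (i.preimage_mono hAY)).op).hom
  obtain ⟨h₀, hh₀⟩ := hφ (ρ (g : Γ(Z, i ⁻¹ᵁ Y)))
  obtain ⟨h₀', hh₀'⟩ := hφ (ρ ((g⁻¹ : (Γ(Z, i ⁻¹ᵁ Y))ˣ) : Γ(Z, i ⁻¹ᵁ Y)))
  let I : Ideal Γ(X, A) := RingHom.ker φ
  have hI1 : h₀ * h₀' - 1 ∈ I := by
    rw [RingHom.mem_ker, map_sub, map_mul, hh₀, hh₀', ← map_mul, Units.mul_inv, map_one, map_one, sub_self]
  let pr : {η // η ∈ S} → PrimeSpectrum Γ(X, A) := fun η => hA.primeIdealOf ⟨η.1, hSA η.1 η.2⟩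
  let T : Finset (Ideal Γ(X, A)) := S.attach.image (fun η => (pr η).asIdeal)
  have hT : ∀ p ∈ T, ∃ η : {η // η ∈ S}, (pr η).asIdeal = p := by
    intro p hp
    obtain ⟨η, -, rfl⟩ := Finset.mem_image.1 hp
    exact ⟨η, rfl⟩
  have hprime : ∀ p ∈ T, p.IsPrime := by
    intro p hp
    obtain ⟨η, rfl⟩ := hT p hp
    exact (pr η).2
  have hincT : ∀ p ∈ T, ∀ q ∈ T, q ≤ p → q = p := by
    intro p hp q hq hle
    obtain ⟨η, rfl⟩ := hT p hp
    obtain ⟨η', rfl⟩ := hT q hq
    have h1 : pr η' ⤳ pr η := (PrimeSpectrum.le_iff_specializes _ _).mp hle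
    have h2 : hA.fromSpec (pr η') ⤳ hA.fromSpec (pr η) := h1.map hA.fromSpec.continuous
    rw [hA.fromSpec_primeIdealOf ⟨η'.1, _⟩, hA.fromSpec_primeIdealOf ⟨η.1, _⟩] at h2
    have h3 : η'.1 = η.1 := hinc η'.1 η'.2 η.1 η.2 h2
    have h4 : η' = η := Subtype.ext h3
    rw [h4]
  have h0 : ∀ p ∈ T, I ≤ p → h₀ ∉ p := by
    intro p hp hIp hmem
    haveI := hprime p hp
    have h1 : h₀ * h₀' ∈ p := p.mul_mem_right _ hmem
    have h2 : (1 : Γ(X, A)) ∈ p := by
      have : (1 : Γ(X, A)) = h₀ * h₀' - (h₀ * h₀' - 1) := by ring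
      rw [this]
      exact p.sub_mem h1 (hIp hI1)
    exact (hprime p hp).ne_top ((Ideal.eq_top_iff_one _).mpr h2)
  obtain ⟨h, hhI, hhp⟩ := exists_sub_mem_notMem I T hprime hincT h₀ h0
  have hφh : φ h = ρ (g : Γ(Z, i ⁻¹ᵁ Y)) := by
    have : φ (h - h₀) = 0 := hhI
    rw [map_sub, sub_eq_zero] at this
    rw [this, hh₀]
  have hY'A : X.basicOpen h ≤ A := X.basicOpen_le h
  have hu : IsUnit (X.presheaf.map (homOfLE hY'A).op h) := X.toRingedSpace.isUnit_res_basicOpen h
  have hSY' : ∀ η ∈ S, η ∈ X.basicOpen h := by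
    intro η hη
    rw [mem_basicOpen_iff_notMem hA h η (hSA η hη)]
    exact hhp _ (Finset.mem_image.2 ⟨⟨η, hη⟩, Finset.mem_attach _ _, rfl⟩)
  obtain ⟨hfin1, hfin2⟩ := hfin (X.basicOpen h) (hY'A.trans hAY) hSY'
  refine ⟨X.basicOpen h, hY'A.trans hAY, hu.unit, ?_, hfin1, hfin2⟩
  rw [IsUnit.unit_spec]
  have nat := i.naturality (homOfLE hY'A).op
  have h1 := congrArg (fun ψ => ψ.hom h) nat
  change (i.app (X.basicOpen h)).hom (X.presheaf.map (homOfLE hY'A).op h) =
    (Z.presheaf.map (homOfLE (i.preimage_mono hY'A)).op).hom (φ h) at h1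
  rw [h1, hφh]
  change (Z.presheaf.map (homOfLE (i.preimage_mono hY'A)).op).hom
    ((Z.presheaf.map (homOfLE (i.preimage_mono hAY)).op).hom (g : Γ(Z, i ⁻¹ᵁ Y))) = _
  rw [← CommRingCat.comp_apply, ← Functor.map_comp]
  rfl

end Groth.Agent.Lib.Helper18.UnitLift
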