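import Mathlib
import Groth.Agent.Lib.Helper18.BCHomConc
import Groth.Agent.Lib.Helper18.SplitAlg

/-!
# Sections over a valuation ring (helper18)

For a short complex `S` of modules over a valuation ring `A` with `X₂` finite free, `X₃` torsion free and
`f` split (`FSplit S 1`): the homology is finite free, and if it is nonzero there is a class whose image
in `H(S ⊗_A B)` is nonzero for every nontrivial `A`-algebra `B`.
-/

set_option autoImplicit false
universe u

open CategoryTheory CategoryTheory.Limits

namespace Groth.Agent.Lib.Helper18.VRSec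

open Groth.Agent.Lib.Helper18.BCHom Groth.Agent.Lib.Helper18.SplitAlg

section tf

variable {A : Type u} [CommRing A] [IsDomain A] [ValuationRing A]

/-- over a valuation ring, a finitely generated torsion-free module is free -/
lemma free_of_torsionFree (M : Type u) [AddCommGroup M] [Module A M] [Module.Finite A M]
    [Module.IsTorsionFree A M] : Module.Free A M := by
  haveI : Module.Flat A M := by
    rw [Module.Flat.flat_iff_torsion_eq_bot_of_isBezout,
      ← Submodule.isTorsionFree_iff_torsion_eq_bot]
    infer_instance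
  exact Module.free_of_flat_of_isLocalRing

end tf

section one

open TensorProduct

variable {A B : Type u} [CommRing A] [CommRing B] [Nontrivial B] (φ : A →+* B)

lemma unitAdd_one_ne_zero : unitAdd φ (ModuleCat.of A A) (1 : A) ≠ 0 := by
  letI := φ.toAlgebra
  intro h
  have h1 : ((1 : B) ⊗ₜ[A] (1 : A) : B ⊗[A] A) = 0 := h
  have h2 := congrArg (TensorProduct.rid A B) h1
  rw [TensorProduct.rid_tmul, map_zero, one_smul] at h2
  exact one_ne_zero h2

end one

section main

variable {A : Type u} [CommRing A] [IsDomain A] [ValuationRing A]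
  (S : ShortComplex (ModuleCat.{u} A)) [Module.Finite A S.X₂] [Module.IsTorsionFree A S.X₂]
  [Module.IsTorsionFree A S.X₃]

omit [Module.IsTorsionFree A S.X₂] in
/-- a retraction of `X₂` onto the cycles -/
lemma exists_retraction_ker :
    ∃ p : S.X₂ →ₗ[A] LinearMap.ker S.g.hom, ∀ z : LinearMap.ker S.g.hom, p z.1 = z := by
  haveI : Module.Finite A (LinearMap.range S.g.hom) := Module.Finite.range S.g.hom
  haveI : Module.Free A (LinearMap.range S.g.hom) := free_of_torsionFree _
  obtain ⟨s, hs⟩ := Module.projective_lifting_property S.g.hom.rangeRestrict LinearMap.id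
    S.g.hom.surjective_rangeRestrict
  have hs' : ∀ y, S.g.hom.rangeRestrict (s y) = y := fun y => LinearMap.congr_fun hs y
  have h1 : ∀ y : LinearMap.range S.g.hom, S.g.hom (s y) = y.1 := fun y =>
    congrArg Subtype.val (hs' y)
  refine ⟨LinearMap.codRestrict _ (LinearMap.id - s.comp S.g.hom.rangeRestrict) (fun x => ?_),
    fun z => ?_⟩
  · rw [LinearMap.mem_ker, LinearMap.sub_apply, map_sub, LinearMap.id_apply, LinearMap.comp_apply,
      h1]
    exact sub_self _
  · apply Subtype.ext
    rw [LinearMap.codRestrict_apply, LinearMap.sub_apply, LinearMap.id_apply, LinearMap.comp_apply]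
    have h0 : S.g.hom.rangeRestrict z.1 = 0 := by
      apply Subtype.ext
      exact z.2
    rw [h0, map_zero, sub_zero]

instance finite_homology : Module.Finite A S.homology := by
  obtain ⟨p, hp⟩ := exists_retraction_ker S
  haveI : Module.Finite A (LinearMap.ker S.g.hom) :=
    Module.Finite.of_surjective p (fun z => ⟨z.1, hp z⟩)
  exact Module.Finite.of_surjective (cls S) (cls_surjective S)

variable (hf : FSplit S 1)

omit [ValuationRing A] [Module.Finite A S.X₂] [Module.IsTorsionFree A S.X₃] in
include hf in
lemma isTorsionFree_homology : Module.IsTorsionFree A S.homology := by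
  obtain ⟨t, ht⟩ := hf
  rw [one_smul] at ht
  rw [Module.isTorsionFree_iff_smul_eq_zero]
  intro a h hah
  by_cases ha : a = 0
  · exact Or.inl ha
  right
  obtain ⟨z, rfl⟩ := cls_surjective S h
  rw [← map_smul, cls_eq_zero_iff] at hah
  obtain ⟨y, hy⟩ := hah
  rw [cls_eq_zero_iff]
  refine ⟨t.hom z.1, ?_⟩
  have h1 : S.f.hom (t.hom (S.f.hom y)) = S.f.hom y := by
    have := congrArg (fun φ => φ.hom y) ht
    exact this
  have h2 : a • (S.f.hom (t.hom z.1) - z.1) = 0 := by
    rw [smul_sub, ← map_smul, ← map_smul]
    have : a • z.1 = S.f.hom y := hy.symm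
    rw [this, h1, sub_self]
  rcases (Module.isTorsionFree_iff_smul_eq_zero.mp inferInstance) a _ h2 with h3 | h3
  · exact absurd h3 ha
  · exact sub_eq_zero.mp h3

include hf in
/-- **a class surviving every base change** -/
theorem exists_cls_ne_zero [Nontrivial S.homology] {B : Type u} [CommRing B] [Nontrivial B]
    (φ : A →+* B) : ∃ x : S.homology, ιS φ S x ≠ 0 := by
  haveI := isTorsionFree_homology S hf
  haveI : Module.Free A S.homology := free_of_torsionFree _
  obtain ⟨p, hp⟩ := exists_retraction_ker S
  -- a surjective functional on the homology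
  let b := Module.Free.chooseBasis A S.homology
  haveI : Nonempty (Module.Free.ChooseBasisIndex A S.homology) := by
    by_contra hne
    rw [not_nonempty_iff] at hne
    haveI : Subsingleton S.homology := b.repr.toEquiv.subsingleton
    exact not_subsingleton S.homology ‹_›
  obtain ⟨i⟩ := ‹Nonempty (Module.Free.ChooseBasisIndex A S.homology)›
  let lam : S.homology →ₗ[A] A := b.coord i
  obtain ⟨z, hz⟩ := cls_surjective S (b i)
  let ψ : S.X₂ →ₗ[A] A := lam.comp ((cls S).comp p)
  have hψz : ψ z.1 = 1 := by
    show lam (cls S (p z.1)) = 1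
    rw [hp z, hz]
    simp [lam]
  have hψf : ∀ y, ψ (S.f.hom y) = 0 := by
    intro y
    have hmem : S.f.hom y ∈ LinearMap.ker S.g.hom := by
      rw [LinearMap.mem_ker]
      exact ConcreteCategory.congr_hom S.zero y
    have h1 : p (S.f.hom y) = ⟨S.f.hom y, hmem⟩ := hp ⟨S.f.hom y, hmem⟩
    show lam (cls S (p (S.f.hom y))) = 0
    rw [h1, (cls_eq_zero_iff S _).mpr ⟨y, rfl⟩, map_zero]
  refine ⟨cls S z, ?_⟩
  rw [ιS_cls, Ne, cls_eq_zero_iff]
  rintro ⟨w, hw⟩
  -- apply `ψ ⊗ B`
  let ψm : S.X₂ ⟶ ModuleCat.of A A := ModuleCat.ofHom ψ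
  have h1 : S.f ≫ ψm = 0 := by
    ext y
    exact hψf y
  have h2 : ((ModuleCat.extendScalars φ).map ψm).hom
      ((S.map (ModuleCat.extendScalars φ)).f.hom w) =
      ((ModuleCat.extendScalars φ).map ψm).hom (unitCyc φ S z).1 := congrArg _ hw
  have h3 : ((ModuleCat.extendScalars φ).map ψm).hom
      ((S.map (ModuleCat.extendScalars φ)).f.hom w) = 0 := by
    have : (S.map (ModuleCat.extendScalars φ)).f ≫ (ModuleCat.extendScalars φ).map ψm = 0 := by
      show (ModuleCat.extendScalars φ).map S.f ≫ (ModuleCat.extendScalars φ).map ψm = 0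
      rw [← Functor.map_comp, h1, Functor.map_zero]
    exact ConcreteCategory.congr_hom this w
  rw [h3] at h2
  have h4 : ((ModuleCat.extendScalars φ).map ψm).hom (unitCyc φ S z).1 =
      unitAdd φ (ModuleCat.of A A) (1 : A) := by
    show ((ModuleCat.extendScalars φ).map ψm).hom (unitAdd φ S.X₂ z.1) = _
    rw [unitAdd_naturality]
    congr 1
  rw [h4] at h2
  exact unitAdd_one_ne_zero φ h2.symm

end main

section flat

variable {A B : Type u} [CommRing A] [CommRing B] (φ : A →+* B)
  (S : ShortComplex (ModuleCat.{u} A))

lemma exact_map_extendScalars_of_flat (hfl : letI := φ.toAlgebra; Module.Flat A B) (h : S.Exact) :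
    (S.map (ModuleCat.extendScalars φ)).Exact := by
  letI := φ.toAlgebra
  haveI : Module.Flat A B := hfl
  rw [ShortComplex.ShortExact.moduleCat_exact_iff_function_exact] at h ⊢
  have h2 := Module.Flat.lTensor_exact B h
  exact h2

/-- if the homology of a flat base change is nonzero, so is the homology -/
lemma nontrivial_homology_of_flat (hfl : letI := φ.toAlgebra; Module.Flat A B)
    (h : Nontrivial (S.map (ModuleCat.extendScalars φ)).homology) : Nontrivial S.homology := by
  by_contra hne
  rw [not_nontrivial_iff_subsingleton] at hne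
  have hex : S.Exact := by
    rw [ShortComplex.exact_iff_isZero_homology]
    exact ModuleCat.isZero_of_subsingleton _
  have hex' := exact_map_extendScalars_of_flat φ S hfl hex
  rw [ShortComplex.exact_iff_isZero_homology] at hex'
  haveI := ModuleCat.subsingleton_of_isZero hex'
  exact not_subsingleton _ ‹_›

end flat

end Groth.Agent.Lib.Helper18.VRSec
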