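import Mathlib
import Groth.Agent.Lib.Helper18.VRSec
import Groth.Agent.Lib.Helper18.Strat5
import Groth.Agent.Lib.Helper18.NNPushB
import Groth.Agent.Lib.Helper7.NNPicClosed

set_option autoImplicit false
universe u

open CategoryTheory CategoryTheory.Limits Opposite TopologicalSpace AlgebraicGeometry

namespace Groth.Agent.Lib.Helper18.VRPic

open Groth.Agent.Lib.Helper18.BCHom Groth.Agent.Lib.Helper18.NNComplex
  Groth.Agent.Lib.Helper18.NNChart Groth.Agent.Lib.Helper18.NNMaster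
  Groth.Agent.Lib.Helper18.NNStrong Groth.Agent.Lib.Helper18.NNFibre
  Groth.Agent.Lib.Helper18.SplitAlg Groth.Agent.Lib.Helper18.Strat
  Groth.Agent.Lib.Helper18.NNPush Groth.Agent.Lib.Helper18.NNGen
  Groth.Agent.Lib.Helper18.VRSec
  Groth.Agent.Lib.helper21.GCBase Groth.Agent.Lib.helper8.GenBCChart
  Groth.Agent.Lib.helper8.PullbackUnit
open Scheme.Modules

section alg

variable {R : Type u} [CommRing R] [IsDomain R] [ValuationRing R]

/-- a domain into which a valuation ring injects is flat over it -/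
lemma flat_of_injective {K : Type u} [CommRing K] [IsDomain K] (φ : R →+* K)
    (hinj : Function.Injective φ) : letI := φ.toAlgebra; Module.Flat R K := by
  letI := φ.toAlgebra
  rw [Module.Flat.flat_iff_torsion_eq_bot_of_isBezout,
    ← Submodule.isTorsionFree_iff_torsion_eq_bot, Module.isTorsionFree_iff_smul_eq_zero]
  intro a k hak
  rw [Algebra.smul_def, mul_eq_zero] at hak
  rcases hak with h | h
  · left
    exact hinj (by rw [map_zero]; exact h)
  · exact Or.inr h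

omit [IsDomain R] [ValuationRing R] in
lemma injective_algebraMap_residueField (p : Ideal R) [p.IsPrime] (hp : p = ⊥) :
    Function.Injective (algebraMap R p.ResidueField) := by
  rw [injective_iff_map_eq_zero]
  intro a ha
  have : a ∈ RingHom.ker (algebraMap R p.ResidueField) := ha
  rw [Ideal.ker_algebraMap_residueField, hp] at this
  exact this

end alg

section sec

variable {X S : Scheme.{u}} (f : X ⟶ S) [IsProper f] [LocallyOfFinitePresentation f]
  (F : X.Modules) [F.IsQuasicoherent] (hfp : CohB1.IsFP F) (hfl : FlatMod.IsFlatOver f F)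
  (hW : IsAffineOpen (⊤ : S.Opens)) [IsDomain Γ(S, ⊤)] [ValuationRing Γ(S, ⊤)]

include hfp hfl in
/-- over a valuation ring, if `H⁰` of the generic fibre is nonzero, there is a global section of `F`
whose restriction to any (nonempty) base change is nonzero -/
theorem exists_section_survives
    (y₀ : ↑(Spec (CommRingCat.of Γ(S, ⊤)))) (hy₀ : y₀.asIdeal = ⊥)
    (hpos : 0 < CohIII.fiberRank f F 0 (hW.fromSpec y₀))
    {X' S' : Scheme.{u}} (g : S' ⟶ S) (gX : X' ⟶ X) (f' : X' ⟶ S') (hX : IsPullback gX f' f g)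
    {W' : S'.Opens} (hW' : IsAffineOpen W') [Nontrivial Γ(S', W')]
    (hW'W : W' ≤ g ⁻¹ᵁ (⊤ : S.Opens)) :
    ∃ σ₀ : Γ(F, f ⁻¹ᵁ ⊤), ρ gX (chart_le₀ f g gX f' hX.w hW'W) F σ₀ ≠ 0 := by
  obtain ⟨C⟩ := nonempty_chartData f F hfp hfl hW
  obtain ⟨Θ₀, hΘ⟩ := chart_push f F hW C.L C.comp
  obtain ⟨ΘB, hΘB⟩ := hΘ g gX f' hX hW' hW'W
  haveI : Module.Finite Γ(S, ⊤) (C.L.sc ((0 : ℕ) : ℤ)).X₂ := (C.ff _).1
  haveI : Module.Free Γ(S, ⊤) (C.L.sc ((0 : ℕ) : ℤ)).X₂ := (C.ff _).2
  haveI : Module.Free Γ(S, ⊤) (C.L.sc ((0 : ℕ) : ℤ)).X₃ := (C.ff _).2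
  have hf : FSplit (C.L.sc ((0 : ℕ) : ℤ)) 1 :=
    (fsplit_iff_dsplit C.L (show (ComplexShape.up ℤ).Rel (-1) ((0 : ℕ) : ℤ) by simp) 1).mpr
      (msplit_one_of_locally _ (msplit_neg_locally C.L C.ff C.neg))
  haveI : y₀.asIdeal.IsPrime := y₀.isPrime
  haveI : Nontrivial (C.L.sc ((0 : ℕ) : ℤ)).homology := by
    apply nontrivial_homology_of_flat (algebraMap Γ(S, ⊤) y₀.asIdeal.ResidueField)
    · exact flat_of_injective _ (injective_algebraMap_residueField _ hy₀)
    · haveI := (C.ff ((0 : ℕ) : ℤ)).1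
      haveI := Groth.Agent.Lib.helper21.FibreH0.finite_homology_bcCx C.L ((0 : ℕ) : ℤ)
        y₀.asIdeal.ResidueField
      have h1 := dRank_eq_fiberRank f hW F C.L C.comp y₀ 0
      rw [← h1] at hpos
      unfold CohIII.dRank at hpos
      rw [Module.finrank_pos_iff] at hpos
      exact hpos
  letI : Algebra Γ(S, ⊤) Γ(S', W') := (g.appLE ⊤ W' hW'W).hom.toAlgebra
  obtain ⟨x, hx⟩ := exists_cls_ne_zero (C.L.sc ((0 : ℕ) : ℤ)) hf (algebraMap Γ(S, ⊤) Γ(S', W'))
  refine ⟨Θ₀ x, ?_⟩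
  rw [← ρv_bc0Adj f g gX f' hX.w F hW'W, hΘB x]
  intro h
  exact hx (ΘB.map_eq_zero_iff.mp h)

end sec

end Groth.Agent.Lib.Helper18.VRPic
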