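import Mathlib
import Groth.Agent.Lib.Helper18.VRPic
import Groth.Agent.Lib.Helper12.InvDual2
import Groth.Agent.Lib.Helper11.InvPullback

/-!
# Invertible modules over a valuation ring: auxiliary lemmas (helper18)
-/

set_option autoImplicit false
universe u

open CategoryTheory CategoryTheory.Limits Opposite TopologicalSpace AlgebraicGeometry

namespace Groth.Agent.Lib.Helper18.VRPic

open Scheme.Modules
open Groth.Agent.Lib.helper11.InvMod Groth.Agent.Lib.helper11.IsoLocus
open Groth.Agent.Lib.helper11.GenLocus Groth.Agent.Lib.helper11.InvHom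
open Groth.Agent.Lib.helper21.InvFibre Groth.Agent.Lib.Lead.ModTensor
open Groth.Agent.Lib.Helper20.TensorEquiv
open Groth.Agent.Lib.helper21.FibreH0 Groth.Agent.Lib.helper12.PullTensor
open Groth.Agent.Lib.helper16.FLF Groth.Agent.Lib.helper21.PicClosed
open Groth.Agent.Lib.helper7 Groth.Agent.Lib.helper7.NNPicClosed
open Groth.Agent.Lib.helper8.PullbackUnit Groth.Agent.Lib.Helper18.NNPush

section gen

variable {S : Scheme.{u}} [IsIntegral S]

lemma fromSpec_bot_eq_genericPoint (hW : IsAffineOpen (⊤ : S.Opens))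
    (y₀ : ↑(Spec (CommRingCat.of Γ(S, ⊤)))) (hy₀ : y₀.asIdeal = ⊥) :
    hW.fromSpec y₀ = genericPoint S := by
  have h1 : IsGenericPoint y₀ (Set.univ : Set ↑(Spec (CommRingCat.of Γ(S, ⊤)))) := by
    rw [isGenericPoint_def]
    have := PrimeSpectrum.closure_singleton (R := Γ(S, ⊤)) y₀
    refine this.trans ?_
    rw [hy₀]
    exact PrimeSpectrum.zeroLocus_bot
  have h2 := h1.image hW.fromSpec.continuous
  rw [Set.image_univ, hW.range_fromSpec] at h2
  have h3 : closure ((⊤ : S.Opens) : Set S) = Set.univ := by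
    simp
  rw [h3] at h2
  exact h2.eq (genericPoint_spec S)

end gen

section rho

variable {X X' : Scheme.{u}} (gX : X' ⟶ X) (F : X.Modules) {V : X.Opens} {V' : X'.Opens}
  (h : V' ≤ gX ⁻¹ᵁ V)

lemma unit_ne_zero_of_ρ_ne_zero (a : Γ(F, V)) (ha : ρ gX h F a ≠ 0) :
    (((pullbackPushforwardAdjunction gX).unit.app F).app V).hom a ≠ 0 := by
  intro h0
  apply ha
  rw [ρ_apply, h0]
  exact map_zero _

end rho

section pos

variable {X Y : Scheme.{u}} (f : X ⟶ Y) [IsProper f] [Flat f] [LocallyOfFinitePresentation f]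
variable (L M : X.Modules) (hL : PicF.IsInvertible L) (hM : PicF.IsInvertible M)
  (eML : CohB1.tensorMod M L ≅ Coh.structureModule X)

include hL hM eML in
/-- if `L` is trivial on a nonempty fibre then `h⁰` of `L` and of its inverse are positive there -/
theorem fiberRank_pos_of_trivial (y : Y) [Nontrivial Γ(f.fiber y, ⊤)]
    (eL : CohIII.fiberMod f L y ≅ Coh.structureModule (f.fiber y)) :
    0 < CohIII.fiberRank f L 0 y ∧ 0 < CohIII.fiberRank f M 0 y := by
  have hLflf := isFinLocFree_of_isInvertible hL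
  have hMflf := isFinLocFree_of_isInvertible hM
  haveI := isQuasicoherent_of_isFinLocFree _ hLflf
  haveI := isQuasicoherent_of_isFinLocFree _ hMflf
  have hLc := isFinitePresentation_of_isFinLocFree _ hLflf
  have hMc := isFinitePresentation_of_isFinLocFree _ hMflf
  have hLfl := isFlatOver_of_isFinLocFree f L hLflf
  have hMfl := isFlatOver_of_isFinLocFree f M hMflf
  let ey : CohB1.tensorMod (CohIII.fiberMod f M y) (CohIII.fiberMod f L y) ≅
      Coh.structureModule (f.fiber y) :=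
    (pullTensorIso (f.fiberι y) M L hL).symm ≪≫ (Scheme.Modules.pullback (f.fiberι y)).mapIso eML ≪≫
      pullbackUnitIso (f.fiberι y)
  let eM : CohIII.fiberMod f M y ≅ Coh.structureModule (f.fiber y) :=
    (rightUnitor _).symm ≪≫ tensorIso (Iso.refl _) eL.symm ≪≫ ey
  refine ⟨?_, ?_⟩
  · rw [NNFibreH0.fiberRank_pos_iff f L hLc hLfl y 0]
    exact (fiberH0Equiv f L y eL).toEquiv.nontrivial
  · rw [NNFibreH0.fiberRank_pos_iff f M hMc hMfl y 0]
    exact (fiberH0Equiv f M y eM).toEquiv.nontrivial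

end pos

section lemB

variable {X : Scheme.{u}}

/-- on a scheme whose nonzero global functions are units, a nonzero section of a trivial module is a
generator -/
theorem isIso_of_sec_ne_zero (hZ : ∀ c : Γ(X, ⊤), c ≠ 0 → IsUnit c) {L : X.Modules}
    (ε : L ≅ Coh.structureModule X) (ps : Coh.structureModule X ⟶ L) (hps : sec ps ⊤ ≠ 0) :
    IsIso ps := by
  suffices hsuff : IsIso (ps ≫ ε.hom) by
    have : ps = (ps ≫ ε.hom) ≫ ε.inv := by
      rw [Category.assoc, Iso.hom_inv_id, Category.comp_id]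
    rw [this]
    infer_instance
  rw [isIso_iff_isUnit_fn_top]
  apply hZ
  intro h0
  apply hps
  have h1 : fn (ps ≫ ε.hom) ⊤ = (ε.hom.val.app (op ⊤)).hom (sec ps ⊤) := rfl
  rw [h1] at h0
  have h2 : (ε.inv.val.app (op ⊤)).hom ((ε.hom.val.app (op ⊤)).hom (sec ps ⊤)) = sec ps ⊤ :=
    congrArg (fun φ : L ⟶ L => (φ.val.app (op ⊤)).hom (sec ps ⊤)) ε.hom_inv_id
  rw [← h2, h0]
  exact map_zero (ε.inv.val.app (op ⊤)).hom

end lemB

section lemA

variable {X S : Scheme.{u}} (f : X ⟶ S)

/-- if every point of `S` specializes to `s₀`, `f` is closed, and `σ` generates `L` along the fibre over `s₀`,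
then `σ` generates `L` -/
theorem isIso_of_isIso_pullSec_fiber (hcl : IsClosedMap f) (s₀ : S) (hs₀ : ∀ y : S, y ⤳ s₀)
    (L : X.Modules) (hL : PicF.IsInvertible L) (σ : Coh.structureModule X ⟶ L)
    (h : IsIso (pullSec (f.fiberι s₀) L σ)) : IsIso σ := by
  rw [← genLocus_eq_top_iff]
  by_contra hne
  have hZ : ((CohB1.genLocus L σ : Set X)ᶜ).Nonempty := by
    rw [Set.nonempty_compl]
    intro h1
    exact hne (Opens.ext h1)
  have hcl' : IsClosed (f '' (CohB1.genLocus L σ : Set X)ᶜ) :=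
    hcl _ (CohB1.genLocus L σ).isOpen.isClosed_compl
  obtain ⟨x, hx⟩ := hZ
  have hmem : s₀ ∈ f '' (CohB1.genLocus L σ : Set X)ᶜ :=
    (hs₀ (f x)).mem_closed hcl' ⟨x, hx, rfl⟩
  obtain ⟨x', hx', hfx'⟩ := hmem
  have hx'r : x' ∈ Set.range (f.fiberι s₀) := by
    rw [Scheme.Hom.range_fiberι]
    exact hfx'
  obtain ⟨z, rfl⟩ := hx'r
  have h1 := Groth.Agent.Lib.helper11.InvPullback.genLocus_pullback (f.fiberι s₀) L hL σ
    (pullbackUnitIso (f.fiberι s₀)).symm
  have h2 : CohB1.genLocus ((Scheme.Modules.pullback (f.fiberι s₀)).obj L)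
      (pullSec (f.fiberι s₀) L σ) = ⊤ := (genLocus_eq_top_iff _ _).mpr h
  have h3 : z ∈ (f.fiberι s₀) ⁻¹ᵁ CohB1.genLocus L σ := by
    rw [← h1]
    have : z ∈ (⊤ : (f.fiber s₀).Opens) := trivial
    rw [← h2] at this
    exact this
  exact hx' h3

end lemA

end Groth.Agent.Lib.Helper18.VRPic
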