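import Mathlib
import Groth.Agent.Lib.Helper18.VRPic2

/-!
# Invertible modules over a valuation ring trivial on the generic fibre (helper18)
-/

set_option autoImplicit false
universe u

open CategoryTheory CategoryTheory.Limits Opposite TopologicalSpace AlgebraicGeometry

namespace Groth.Agent.Lib.Helper18.VRPic

open Scheme.Modules
open Groth.Agent.Lib.helper11.InvMod Groth.Agent.Lib.helper11.IsoLocus
open Groth.Agent.Lib.helper11.GenLocus Groth.Agent.Lib.helper11.InvHom
open Groth.Agent.Lib.helper21.InvFibre Groth.Agent.Lib.Lead.ModTensor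
open Groth.Agent.Lib.Helper20.TensorEquiv
open Groth.Agent.Lib.helper21.FibreH0 Groth.Agent.Lib.helper12.PullTensor
open Groth.Agent.Lib.helper16.FLF Groth.Agent.Lib.helper21.PicClosed
open Groth.Agent.Lib.helper7 Groth.Agent.Lib.helper7.NNPicClosed
open Groth.Agent.Lib.helper8.PullbackUnit Groth.Agent.Lib.Helper18.NNPush

/-- **an invertible module on a proper flat finitely presented scheme over a valuation ring which is trivial on the
(nonempty) generic fibre is trivial, if the closed fibre is integral** -/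
theorem trivial_of_generic_trivial {A : Type u} [CommRing A] [IsDomain A] [ValuationRing A]
    {X : Scheme.{u}} (f : X ⟶ Spec (CommRingCat.of A)) [IsProper f] [Flat f]
    [LocallyOfFinitePresentation f] (L : X.Modules) (hL : PicF.IsInvertible L)
    (htriv : Nonempty ((Scheme.Modules.pullback
      (f.fiberι (genericPoint ↑(Spec (CommRingCat.of A))))).obj L ≅
      Coh.structureModule (f.fiber (genericPoint ↑(Spec (CommRingCat.of A))))))
    (hint : IsIntegral (f.fiber (IsLocalRing.closedPoint A)))
    (hnt : Nontrivial Γ(f.fiber (genericPoint ↑(Spec (CommRingCat.of A))), ⊤)) :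
    Nonempty (L ≅ Coh.structureModule X) := by
  classical
  obtain ⟨eL⟩ := htriv
  -- the inverse
  obtain ⟨M, hM, -, ⟨eML⟩⟩ := Groth.Agent.Lib.helper12.InvDual.exists_inverse hL
  have hLflf := isFinLocFree_of_isInvertible hL
  have hMflf := isFinLocFree_of_isInvertible hM
  haveI := isQuasicoherent_of_isFinLocFree _ hLflf
  haveI := isQuasicoherent_of_isFinLocFree _ hMflf
  have hLc := isFinitePresentation_of_isFinLocFree _ hLflf
  have hMc := isFinitePresentation_of_isFinLocFree _ hMflf
  have hLfl := isFlatOver_of_isFinLocFree f L hLflf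
  have hMfl := isFlatOver_of_isFinLocFree f M hMflf
  -- the ring of global functions of the base
  let e : Γ(Spec (CommRingCat.of A), ⊤) ≃+* A :=
    (Scheme.ΓSpecIso (CommRingCat.of A)).commRingCatIsoToRingEquiv
  haveI : IsDomain Γ(Spec (CommRingCat.of A), ⊤) := e.toMulEquiv.isDomain A
  haveI : ValuationRing Γ(Spec (CommRingCat.of A), ⊤) :=
    Function.Surjective.valuationRing (e.symm : A →+* Γ(Spec (CommRingCat.of A), ⊤))
      e.symm.surjective
  have hW : IsAffineOpen (⊤ : (Spec (CommRingCat.of A)).Opens) := isAffineOpen_top _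
  -- positivity at the generic point
  obtain ⟨hLη, hMη⟩ := fiberRank_pos_of_trivial f L M hL hM eML
    (genericPoint ↑(Spec (CommRingCat.of A))) eL
  -- positivity at the closed point
  have hpos : ∀ (N : X.Modules) [N.IsQuasicoherent] (hNc : CohB1.IsFP N)
      (hNfl : FlatMod.IsFlatOver f N),
      0 < CohIII.fiberRank f N 0 (genericPoint ↑(Spec (CommRingCat.of A))) →
      0 < CohIII.fiberRank f N 0 (IsLocalRing.closedPoint A) := by
    intro N _ hNc hNfl hη
    by_contra hcon
    have hlt : CohIII.fiberRank f N 0 (IsLocalRing.closedPoint A) < 1 := by omega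
    have hopen := (NNFibreH0.upperSemicontinuous_fiberRank f N hNc hNfl 0).isOpen_preimage 1
    have hmem := (genericPoint_specializes (IsLocalRing.closedPoint A :
      ↑(Spec (CommRingCat.of A)))).mem_open hopen hlt
    have : CohIII.fiberRank f N 0 (genericPoint ↑(Spec (CommRingCat.of A))) < 1 := hmem
    omega
  have hL0 := hpos L hLc hLfl hLη
  have hM0 := hpos M hMc hMfl hMη
  haveI := hint
  obtain ⟨ε⟩ := (fiber_trivial_iff f L M hL hM eML (IsLocalRing.closedPoint A)).mpr ⟨hL0, hM0⟩
  -- the section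
  let y₀ : ↑(Spec (CommRingCat.of Γ(Spec (CommRingCat.of A), ⊤))) := ⟨⊥, Ideal.isPrime_bot⟩
  have hy₀ : hW.fromSpec y₀ = genericPoint ↑(Spec (CommRingCat.of A)) :=
    fromSpec_bot_eq_genericPoint hW y₀ rfl
  have hposy : 0 < CohIII.fiberRank f L 0 (hW.fromSpec y₀) := by
    rw [hy₀]
    exact hLη
  let s₀ : ↑(Spec (CommRingCat.of A)) := IsLocalRing.closedPoint A
  haveI : Nontrivial Γ(Spec ((Spec (CommRingCat.of A)).residueField s₀), ⊤) := inferInstance
  obtain ⟨σ₀, hσ₀⟩ := exists_section_survives f L hLc hLfl hW y₀ rfl hposy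
    ((Spec (CommRingCat.of A)).fromSpecResidueField s₀) (f.fiberι s₀)
    (f.fiberToSpecResidueField s₀) (IsPullback.of_hasPullback _ _)
    (W' := ⊤) (isAffineOpen_top _) (fun _ _ => trivial)
  have hσ₁ := unit_ne_zero_of_ρ_ne_zero _ _ _ σ₀ hσ₀
  let σ : Coh.structureModule X ⟶ L := homOfSec L σ₀
  have hps : sec (pullSec (f.fiberι s₀) L σ) ⊤ ≠ 0 := by
    have h1 := pullSec_app_top (f.fiberι s₀) L σ
    rw [homOfSec_app] at h1
    intro h0
    apply hσ₁
    exact h1.symm.trans h0
  haveI := finite_globalSections_fiber f s₀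
  have hZ : ∀ c : Γ(f.fiber s₀, ⊤), c ≠ 0 → IsUnit c := by
    intro c hc
    obtain ⟨d, hd⟩ := FiniteDimensional.exists_mul_eq_one
      ((Spec (CommRingCat.of A)).residueField s₀) hc
    exact IsUnit.of_mul_eq_one d hd
  have hiso : IsIso (pullSec (f.fiberι s₀) L σ) := isIso_of_sec_ne_zero hZ ε _ hps
  have hσiso : IsIso σ := isIso_of_isIso_pullSec_fiber f f.isClosedMap s₀
    (fun y => IsLocalRing.specializes_closedPoint y) L hL σ hiso
  exact ⟨(asIso σ).symm⟩

end Groth.Agent.Lib.Helper18.VRPic
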