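import Mathlib
import Groth.Agent.Lib.Helper18.ZeroSchemeIdeal
import Groth.Agent.Lib.Helper18.MeroDivSec
import Groth.Agent.Lib.Helper26.KSections
import Groth.Agent.Lib.Helper28.LocalGen

set_option autoImplicit false
universe u
open CategoryTheory CategoryTheory.Limits AlgebraicGeometry TopologicalSpace Opposite

namespace Groth.Agent.Lib.Helper18.ZeroSchemeDiv

open Groth.Agent.Lib.Helper18.InvGen Groth.Agent.Lib.Helper18.MeroTwist
  Groth.Agent.Lib.Helper18.ZeroSchemeIdeal Groth.Agent.Lib.Helper18.MeroDivSec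
  Groth.Agent.Lib.helper26 Groth.Agent.Lib.helper16.FLF Mero

variable {X : Scheme.{u}}

/-- on an integral scheme nonzero sections are regular -/
theorem mem_regSub_of_ne_zero [IsIntegral X] {U : X.Opens} (h : Γ(X, U)) (hh : h ≠ 0) :
    h ∈ Mero.regSub X U := by
  intro y
  have h1 : X.presheaf.germ U y.1 y.2 h ≠ 0 := fun h0 =>
    hh (germ_injective_of_isIntegral X y.1 y.2 (h0.trans (map_zero _).symm))
  exact mem_nonZeroDivisors_of_ne_zero h1

theorem map_refl_apply (L : X.Modules) (U : X.Opens) (ℓ : Γ(L, U)) :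
    L.presheaf.map (homOfLE (le_refl U)).op ℓ = ℓ := by
  have : (homOfLE (le_refl U)).op = 𝟙 (op U) := rfl
  rw [this, L.presheaf.map_id]
  rfl

/-- the coefficient of a section with respect to a generator -/
theorem exists_coeff {L : X.Modules} {W : X.Opens} {ℓ : Γ(L, W)} (hℓ : IsGen L W ℓ)
    (s : Coh.structureModule X ⟶ L) : ∃ h : Γ(X, W), h • ℓ = sv L s W := by
  obtain ⟨g, hg⟩ := hℓ.exists_smul_eq le_rfl (sv L s W)
  rw [map_refl_apply] at hg
  exact ⟨g, hg⟩

/-- a morphism out of the structure sheaf vanishes if its global value does -/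
theorem eq_zero_of_sv_top (L : X.Modules) (s : Coh.structureModule X ⟶ L) (h : sv L s ⊤ = 0) :
    s = 0 := by
  apply Scheme.Modules.hom_ext
  intro N
  ext r
  have h1 := Groth.Agent.Lib.helper28.LocalGen.unit_hom_app L s N r
  have h2 : (s.app ⊤).hom (show Γ(Coh.structureModule X, ⊤) from (1 : Γ(X, ⊤))) = 0 := h
  rw [h2, map_zero, smul_zero] at h1
  exact h1.trans rfl

/-- on an integral scheme a nonzero section of an invertible module vanishes on no nonempty open -/
theorem sv_ne_zero [IsIntegral X] {L : X.Modules} (hL : PicF.IsInvertible L)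
    (s : Coh.structureModule X ⟶ L) (hs : s ≠ 0) (U : X.Opens) (hU : (U : Set X).Nonempty) :
    sv L s U ≠ 0 := by
  intro h0
  apply hs
  apply eq_zero_of_sv_top
  refine TopCat.Presheaf.section_ext ⟨L.presheaf, L.isSheaf⟩ ⊤ _ _ (fun x hx => ?_)
  obtain ⟨W, ℓ, -, hxW, -, hℓ⟩ := exists_isGen hL x ⊤ trivial
  obtain ⟨g, hg⟩ := exists_coeff hℓ s
  have hne : ((U ⊓ W : X.Opens) : Set X).Nonempty :=
    nonempty_preirreducible_inter U.2 W.2 hU ⟨x, hxW⟩
  have h1 := congrArg (L.presheaf.map (homOfLE (inf_le_right : U ⊓ W ≤ W)).op) hg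
  rw [Scheme.Modules.map_smul, map_sv] at h1
  have h2 : sv L s (U ⊓ W) = 0 := by
    rw [← map_sv L s (inf_le_left : U ⊓ W ≤ U), h0, map_zero]
  rw [h2] at h1
  have h3 : X.presheaf.map (homOfLE (inf_le_right : U ⊓ W ≤ W)).op g = 0 := by
    apply hℓ.smul_injective inf_le_right
    rw [h1, zero_smul]
  have h4 : g = 0 := @map_injective_of_isIntegral X _ _ _ (homOfLE (inf_le_right : U ⊓ W ≤ W))
    ⟨⟨hne.some, hne.some_mem⟩⟩ _ _ (h3.trans (map_zero _).symm)
  have h5 : sv L s W = 0 := by rw [← hg, h4, zero_smul]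
  have e : L.presheaf.germ ⊤ x hx (sv L s ⊤) = L.presheaf.germ W x hxW (sv L s W) := by
    rw [← map_sv L s (le_top : W ≤ ⊤)]
    exact (TopCat.Presheaf.germ_res_apply L.presheaf (homOfLE (le_top : W ≤ ⊤)) x hxW _).symm
  rw [e, h5, map_zero, map_zero]

/-- the meromorphic section attached to a global section -/
noncomputable def meroOf (L : X.Modules) (s : Coh.structureModule X ⟶ L) : Γ(Mero.merMod L, ⊤) :=
  Mero.toMerFun L ⊤ (sv L s ⊤)

theorem meroOf_apply_of_gen {L : X.Modules} (s : Coh.structureModule X ⟶ L) {W : X.Opens}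
    {ℓ : Γ(L, W)} (h : Γ(X, W)) (hh : h • ℓ = sv L s W) (y : X) (hy : y ∈ W) :
    (meroOf L s).1 ⟨y, Opens.mem_top y⟩ =
      (LocalizedModule.mk (X.presheaf.germ W y hy h) 1 : KStalk X y) • bas L ℓ y hy := by
  rw [mk_smul_bas]
  show LocalizedModule.mk (L.presheaf.germ ⊤ y _ (sv L s ⊤)) 1 = _
  refine mk_congr ?_ rfl
  have e : L.presheaf.germ ⊤ y (Opens.mem_top y) (sv L s ⊤) = L.presheaf.germ W y hy (sv L s W) := by
    rw [← map_sv L s (le_top : W ≤ ⊤)]
    exact (TopCat.Presheaf.germ_res_apply L.presheaf (homOfLE (le_top : W ≤ ⊤)) y hy _).symm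
  rw [e, ← hh, Mero.germ_smul]

theorem isUnit_mk_of_mem_regSub {W : X.Opens} (h : Γ(X, W)) (hreg : h ∈ Mero.regSub X W) (y : X)
    (hy : y ∈ W) : IsUnit (LocalizedModule.mk (X.presheaf.germ W y hy h) 1 : KStalk X y) := by
  have := IsLocalization.map_units (KStalk X y) (regGerm ⟨y, hy⟩ ⟨h, hreg⟩)
  rw [kstalk_algebraMap_eq_mk] at this
  exact this

/-- regularity of the meromorphic section attached to a nonzero section (integral schemes) -/
theorem isRegularMero_meroOf [IsIntegral X] {L : X.Modules} (hL : PicF.IsInvertible L)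
    (s : Coh.structureModule X ⟶ L) (hs : s ≠ 0) : Mero.IsRegularMero L (meroOf L s) := by
  intro y q hq
  obtain ⟨W, ℓ, -, hyW, -, hℓ⟩ := exists_isGen hL y ⊤ trivial
  obtain ⟨h, hh⟩ := exists_coeff hℓ s
  have hne : h ≠ 0 := by
    intro h0
    apply sv_ne_zero hL s hs W ⟨y, hyW⟩
    rw [← hh, h0, zero_smul]
  have hreg := mem_regSub_of_ne_zero h hne
  rw [meroOf_apply_of_gen s h hh y hyW, ← mul_smul] at hq
  have h1 := bas_injective hℓ y hyW _ hq
  exact (isUnit_mk_of_mem_regSub h hreg y hyW).mul_left_eq_zero.mp h1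

/-- the chart of the meromorphic section attached to a global section, from a generator and a
regular coefficient -/
noncomputable def chartOf {L : X.Modules} (s : Coh.structureModule X ⟶ L) {W : X.Opens}
    {ℓ : Γ(L, W)} (hℓ : IsGen L W ℓ) (h : Γ(X, W)) (hh : h • ℓ = sv L s W)
    (hreg : h ∈ Mero.regSub X W) : Chart L (meroOf L s) where
  W := W
  ℓ := ℓ
  hℓ := hℓ
  u := (isUnit_of_forall_nzd (Mero.toK X W h) (fun y q hq =>
    (isUnit_mk_of_mem_regSub h hreg y.1 y.2).mul_left_eq_zero.mp hq)).unit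
  hu := fun y => by
    rw [IsUnit.unit_spec]
    exact meroOf_apply_of_gen s h hh y.1 y.2

/-- **the divisor of a nonzero section of an invertible module on an integral scheme is the divisor
of its zero scheme** -/
theorem isDivOfIdeal_divOf [IsIntegral X] {L : X.Modules} (hL : PicF.IsInvertible L)
    (s : Coh.structureModule X ⟶ L) (hs : s ≠ 0) :
    Mero.IsDivOfIdeal (divOf hL (meroOf L s) (isRegularMero_meroOf hL s hs))
      (PicF2.zeroScheme L s) := by
  have hLF : FlatMod.IsFinLocFree L :=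
    isFinLocFree_of_isFinLocFreeOfRank ((isInvertible_iff_isFinLocFreeOfRank_one L).1 hL)
  intro x
  obtain ⟨W, ℓ, hW, hxW, -, hℓ⟩ := exists_isGen hL x ⊤ trivial
  obtain ⟨h, hh⟩ := exists_coeff hℓ s
  have hne : h ≠ 0 := by
    intro h0
    apply sv_ne_zero hL s hs W ⟨x, hxW⟩
    rw [← hh, h0, zero_smul]
  have hreg := mem_regSub_of_ne_zero h hne
  refine ⟨⟨W, hW⟩, hxW, h, hreg, ?_, fun y => ?_⟩
  · rw [zeroScheme_ideal L hLF s ⟨W, hW⟩]
    exact zeroIdealOn_eq_span s hℓ h hh
  · rw [divOf_apply hL (meroOf L s) (isRegularMero_meroOf hL s hs) (chartOf s hℓ h hh hreg) y.1 y.2]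
    show QuotientGroup.mk _ = QuotientGroup.mk _
    congr 1
    refine Units.ext ?_
    have e1 : ((chartOf s hℓ h hh hreg).u : Γ(Mero.kmod X, (chartOf s hℓ h hh hreg).W)) =
        Mero.toK X W h := IsUnit.unit_spec _
    show ((chartOf s hℓ h hh hreg).u : Γ(Mero.kmod X, (chartOf s hℓ h hh hreg).W)).1 y = _
    rw [e1, Mero.toK_apply]
    exact (kstalk_algebraMap_eq_mk y.1 _).symm

/-- under `L ≅ O_X(div s)` the section `s` goes to `1` -/
theorem toDiv_sv {L : X.Modules} (hL : PicF.IsInvertible L) (s : Coh.structureModule X ⟶ L)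
    (hσ : Mero.IsRegularMero L (meroOf L s)) :
    (Mero.divModι (divOf hL (meroOf L s) hσ)).app ⊤
      ((toDiv hL (meroOf L s) hσ).app ⊤ (sv L s ⊤)) = 1 := by
  refine Subtype.ext (funext fun y => ?_)
  show coef hL (meroOf L s) hσ y.1 (L.presheaf.germ ⊤ y.1 y.2 (sv L s ⊤)) = 1
  apply coef_eq
  rw [one_smul]
  rfl

end Groth.Agent.Lib.Helper18.ZeroSchemeDiv
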